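/-
helper89: project STEINBERG (helper35), module ST-[TF]: the table facts about the root system used by the abstract
theory, in terms of the datum only, for the seven tabulated data.
-/
import Cfsg.Agent.Lib.Helper35.StDefs
import Cfsg.Agent.Lib.Helper18.UFact2

set_option autoImplicit false

namespace Cfsg.Agent.Lib.Helper89.St

open Cfsg.Lie Cfsg.Agent.Lib.Helper35.St Cfsg.Agent.Lib.Helper18

variable {D : ChevalleyDatum}

theorem neg_eq_sub (hD : D ∈ [chevG2, chevB2, chevD4, chevF4, chevE6, chevE7, chevE8]) (r : ℕ)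
    (hr : r < D.nroots) : D.neg r = D.nroots - 1 - r := negIdx_eq_sub hD r hr

theorem isNegRoot_iff (hD : D ∈ [chevG2, chevB2, chevD4, chevF4, chevE6, chevE7, chevE8]) (r : ℕ) :
    D.IsNegRoot r ↔ r < D.nroots ∧ r < D.nroots / 2 := by
  constructor
  · intro h
    exact ⟨h.1, (negOK_spec (negOK_of_mem D hD) r h).1⟩
  · rintro ⟨h1, h2⟩
    exact isNegRoot_of_lt D (signOK_of_mem D hD) r h1 h2

theorem wRoot_eq (C : ChevData.{0} D) (ws : List ℕ) (hws : ∀ i ∈ ws, i < D.rank) (s : ℕ) (hs : s < D.nroots) :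
    wRoot D ws s = wordRootF C.tabs ws s ∧ wordRootF C.tabs ws s < D.nroots := by
  induction ws with
  | nil => exact ⟨rfl, hs⟩
  | cons i ws ih =>
    have hi : i < D.rank := hws i (List.mem_cons_self)
    obtain ⟨h1, h2⟩ := ih (fun j hj => hws j (List.mem_cons_of_mem _ hj))
    have e : wRoot D (i :: ws) s = D.reflectRoot i (wRoot D ws s) := rfl
    rw [e, h1, wordRootF_cons, C.hrefl i hi _ h2]
    exact ⟨rfl, C.w_lt i _ hi h2⟩

theorem tf_of_negSym (hD : D ∈ [chevG2, chevB2, chevD4, chevF4, chevE6, chevE7, chevE8]) (hns : NegSym D) :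
    TF D := by
  obtain ⟨C⟩ := nonempty_chevData.{0} D hD
  have hev : D.nroots % 2 = 0 := nroots_even hD
  have hn := C.nroots_eq
  have hrk := C.rank_eq
  have negsub := neg_eq_sub hD
  have posiff := isPosRoot_iff hD
  have negiff := isNegRoot_iff hD
  have hneg_lt : ∀ r, r < D.nroots → D.neg r < D.nroots := fun r hr => neg_lt_nroots D hD r hr
  have hneg_neg : ∀ r, r < D.nroots → D.neg (D.neg r) = r := by
    intro r hr
    rw [negsub _ (hneg_lt r hr), negsub r hr]
    omega
  have hneg_pos : ∀ r, D.IsPosRoot r → D.IsNegRoot (D.neg r) := by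
    intro r hr
    obtain ⟨h1, h2⟩ := (posiff r).mp hr
    rw [negiff, negsub r h1]
    omega
  have hneg_negR : ∀ r, D.IsNegRoot r → D.IsPosRoot (D.neg r) := by
    intro r hr
    obtain ⟨h1, h2⟩ := (negiff r).mp hr
    rw [posiff, negsub r h1]
    omega
  have hsimple_lt : ∀ i, i < D.rank → D.simple i < D.nroots := fun i hi => C.simple_lt i hi
  have hsimple_pos : ∀ i, i < D.rank → D.IsPosRoot (D.simple i) := fun i hi =>
    (posiff _).mpr ⟨C.simple_lt i hi, C.half_le_simple i hi⟩
  -- the commutator terms of `± p_i` with a positive root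
  have hcomm_pos : ∀ i, i < D.rank → ∀ e, (e = D.simple i ∨ e = D.neg (D.simple i)) → ∀ s, D.IsPosRoot s →
      s ≠ D.simple i → ∀ c ∈ D.commTerms e s, D.IsPosRoot c.1 ∧ c.1 ≠ D.simple i := by
    intro i hi e he s hs hsi c hc
    obtain ⟨hs1, hs2⟩ := (posiff s).mp hs
    have hsi' : s ≠ C.simples.getD i 0 := by rw [← C.hsimple i hi]; exact hsi
    rcases he with rfl | rfl
    · rw [← C.T.commTermsF_eq D C.hag C.hin _ _ (hsimple_lt i hi) hs1, C.hsimple i hi] at hc
      obtain ⟨h1, h2, h3⟩ := C.spec.comm_pos i (hrk ▸ hi) s (hn ▸ hs2) (hn ▸ hs1) hsi' c hc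
      rw [hn] at h1 h2
      exact ⟨(posiff _).mpr ⟨h2, h1⟩, by rw [C.hsimple i hi]; exact h3⟩
    · rw [← C.T.commTermsF_eq D C.hag C.hin _ _ (hneg_lt _ (hsimple_lt i hi)) hs1,
        C.neg_eq _ (hsimple_lt i hi), C.hsimple i hi] at hc
      obtain ⟨h1, h2, h3⟩ := C.spec.comm_neg i (hrk ▸ hi) s (hn ▸ hs2) (hn ▸ hs1) hsi' c hc
      rw [hn] at h1 h2
      exact ⟨(posiff _).mpr ⟨h2, h1⟩, by rw [C.hsimple i hi]; exact h3⟩
  refine
    { neg_lt := hneg_lt
      neg_neg := hneg_neg
      neg_ne := ?_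
      pos_lt := fun r hr => hr.1
      pos_or_neg := ?_
      not_pos_neg := ?_
      neg_pos := hneg_pos
      neg_negR := hneg_negR
      simple_pos := hsimple_pos
      refl_lt := ?_
      refl_refl := ?_
      refl_neg := ?_
      refl_simple := ?_
      refl_pos := ?_
      comm_pos := hcomm_pos
      comm_neg := ?_
      hword := ?_ }
  · intro r hr
    rw [negsub r hr]
    omega
  · intro r hr
    by_cases h : D.nroots / 2 ≤ r
    · exact Or.inl ((posiff r).mpr ⟨hr, h⟩)
    · exact Or.inr ((negiff r).mpr ⟨hr, by omega⟩)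
  · intro r hp hq
    have := ((posiff r).mp hp).2
    have := ((negiff r).mp hq).2
    omega
  · intro i hi s hs
    rw [C.w_eq_reflectRoot i s hi hs]
    exact C.w_lt i s hi hs
  · intro i hi s hs
    rw [C.w_eq_reflectRoot i s hi hs, C.w_eq_reflectRoot i _ hi (C.w_lt i s hi hs)]
    exact C.w_w i s hi hs
  · intro i hi s hs
    rw [C.w_eq_reflectRoot i s hi hs, C.w_eq_reflectRoot i _ hi (hneg_lt s hs), C.neg_eq s hs,
      C.neg_eq _ (C.w_lt i s hi hs)]
    exact C.spec.refl_neg i (hrk ▸ hi) s (hn ▸ hs)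
  · intro i hi
    rw [C.w_eq_reflectRoot i _ hi (hsimple_lt i hi), C.neg_eq _ (hsimple_lt i hi), C.hsimple i hi]
    exact C.spec.refl_simple i (hrk ▸ hi)
  · intro i hi s hs hsi
    obtain ⟨hs1, hs2⟩ := (posiff s).mp hs
    have hsi' : s ≠ C.simples.getD i 0 := by rw [← C.hsimple i hi]; exact hsi
    obtain ⟨h1, h2⟩ := C.spec.refl_pos i (hrk ▸ hi) s (hn ▸ hs2) (hn ▸ hs1) hsi'
    rw [C.w_eq_reflectRoot i s hi hs1]
    rw [hn] at h1
    exact ⟨(posiff _).mpr ⟨C.w_lt i s hi hs1, h1⟩, by rw [C.hsimple i hi]; exact h2⟩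
  · -- comm_neg
    intro i hi e he s hs hsi c hc
    have hs1 : s < D.nroots := hs.1
    have hp := hsimple_lt i hi
    have he1 : e < D.nroots := by
      rcases he with rfl | rfl
      · exact hp
      · exact hneg_lt _ hp
    have hne : D.neg e = D.simple i ∨ D.neg e = D.neg (D.simple i) := by
      rcases he with rfl | rfl
      · exact Or.inr rfl
      · exact Or.inl (hneg_neg _ hp)
    have hnsp : D.IsPosRoot (D.neg s) := hneg_negR s hs
    have hnsi : D.neg s ≠ D.simple i := by
      intro h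
      apply hsi
      rw [← h, hneg_neg s hs1]
    -- `s ≠ e`, `s ≠ - e`
    have hse : s ≠ e := by
      rcases he with rfl | rfl
      · intro h
        have h1 := ((posiff _).mp (hsimple_pos i hi)).2
        have h2 := ((negiff s).mp hs).2
        omega
      · exact hsi
    have hsne : s ≠ D.neg e := by
      rcases hne with h | h
      · rw [h]
        intro h'
        have h1 := ((posiff _).mp (hsimple_pos i hi)).2
        have h2 := ((negiff s).mp hs).2
        omega
      · rw [h]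
        exact hsi
    have hnse : D.neg s ≠ D.neg e := by
      intro h
      apply hse
      rw [← hneg_neg s hs1, h, hneg_neg e he1]
    have hnsne : D.neg s ≠ D.neg (D.neg e) := by
      rw [hneg_neg e he1]
      intro h
      apply hsne
      rw [← h, hneg_neg s hs1]
    have key := hns (D.neg e) (D.neg s) (hneg_lt e he1) (hneg_lt s hs1) hnse hnsne
    rw [hneg_neg e he1, hneg_neg s hs1] at key
    have hmem : c.1 ∈ (D.commTerms e s).map (fun c => c.1) := List.mem_map_of_mem hc
    rw [key, List.mem_map] at hmem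
    obtain ⟨c', hc', hcc'⟩ := hmem
    obtain ⟨h1, h2⟩ := hcomm_pos i hi (D.neg e) hne (D.neg s) hnsp hnsi c' hc'
    rw [← hcc']
    refine ⟨hneg_pos _ h1, ?_⟩
    intro h
    apply h2
    rw [← hneg_neg c'.1 h1.1, h, hneg_neg _ hp]
  · intro r hr
    obtain ⟨ws, j, hws, hj, h⟩ := C.hword r hr
    refine ⟨ws, j, hws, hj, ?_⟩
    rw [(wRoot_eq C ws hws _ (hsimple_lt j hj)).1, C.hsimple j hj]
    exact h

end Cfsg.Agent.Lib.Helper89.St
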