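/-
helper89: project STEINBERG (helper35), module ST-[GVUNIQ]: a list of the negative roots over which the coefficients of
an ordered product of root elements (matrix side) are unique: the image of the increasing list of the positive roots
under the longest element of the Weyl group.
-/
import Cfsg.Agent.Lib.Helper89.StTF
import Cfsg.Agent.Lib.Helper18.UFactTabs
import Cfsg.Agent.Lib.Helper18.LongestAll

set_option autoImplicit false

namespace Cfsg.Agent.Lib.Helper89.St

open Cfsg.Lie Cfsg.Agent.Lib.Helper35.St Cfsg.Agent.Lib.Helper18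

universe u

variable {D : ChevalleyDatum} {K : Type u} [Field K]

/-- Conjugation of an ordered product by an element permuting the root elements of the list. -/
theorem conj_prodL (hD : D ∈ [chevG2, chevB2, chevD4, chevF4, chevE6, chevE7, chevE8]) (n : GL D.Idx K)
    (ρ : ℕ → ℕ) (c : ℕ → K) (l : List ℕ)
    (h : ∀ r ∈ l, ∀ u : K, n * xG hD r u * n⁻¹ = xG hD (ρ r) (c r * u)) (f : ℕ → K) :
    n * prodL hD l f * n⁻¹ = wordG hD (l.map fun r => (ρ r, c r * f r)) := by
  induction l with
  | nil => simp [prodL_nil, wordG_nil]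
  | cons a l ih =>
    rw [prodL_cons, List.map_cons, wordG_cons, ← ih (fun r hr => h r (List.mem_cons_of_mem _ hr)),
      ← h a List.mem_cons_self]
    group

theorem posRoots_sorted (D : ChevalleyDatum) : D.posRoots.Pairwise (· < ·) := by
  unfold ChevalleyDatum.posRoots
  exact List.Pairwise.filter _ List.pairwise_lt_range

theorem mem_posRoots (D : ChevalleyDatum) (r : ℕ) : r ∈ D.posRoots ↔ D.IsPosRoot r := by
  unfold ChevalleyDatum.posRoots
  rw [List.mem_filter, List.mem_range, decide_eq_true_eq]
  exact ⟨fun h => h.2, fun h => ⟨h.1, h⟩⟩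

theorem exists_negList (hD : D ∈ [chevG2, chevB2, chevD4, chevF4, chevE6, chevE7, chevE8]) :
    ∃ l : List ℕ, l.Nodup ∧ (∀ r, r ∈ l ↔ D.IsNegRoot r) ∧ GUniq D K l := by
  obtain ⟨ws, hws, hw⟩ := exists_longestWord D hD
  obtain ⟨n, -, hn⟩ := exists_unit_nWordMat (F := K) D hD ws hws
  have posiff := isPosRoot_iff hD
  have negiff := isNegRoot_iff hD
  -- conjugation of a root element by n
  have hconj : ∀ s, ∃ η : K, η * η = 1 ∧ (s < D.nroots → ∀ t : K,
      n * xG hD s t * n⁻¹ = xG hD (wordRoot D ws s) (η * t)) := by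
    intro s
    by_cases hs : s < D.nroots
    · obtain ⟨η, hη, h⟩ := nWordMat_mul_x (F := K) D hD ws hws s hs
      refine ⟨(η : K), ?_, fun _ t => ?_⟩
      · rcases hη with h0 | h0 <;> rw [h0] <;> push_cast <;> ring
      · rw [mul_inv_eq_iff_eq_mul]
        apply Units.ext
        rw [Units.val_mul, Units.val_mul, coe_xG, coe_xG, hn]
        exact h t
    · exact ⟨1, one_mul 1, fun h => (hs h).elim⟩
  choose η hη hηc using hconj
  refine ⟨D.posRoots.map (wordRoot D ws), ?_, ?_, ?_⟩
  · -- Nodup
    apply List.Nodup.map_on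
    · intro a ha b hb hab
      have ha' := ((mem_posRoots D a).mp ha).1
      have hb' := ((mem_posRoots D b).mp hb).1
      rw [← (hw a ha').1, hab, (hw b hb').1]
    · exact (posRoots_sorted D).imp (fun h => Nat.ne_of_lt h)
  · -- the list of the negative roots
    intro r
    rw [List.mem_map]
    constructor
    · rintro ⟨p, hp, rfl⟩
      obtain ⟨hp1, hp2⟩ := (posiff p).mp ((mem_posRoots D p).mp hp)
      obtain ⟨-, h2, h3⟩ := hw p hp1
      exact (negiff _).mpr ⟨h2, h3.mp hp2⟩
    · intro hr
      obtain ⟨hr1, hr2⟩ := (negiff r).mp hr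
      obtain ⟨h1, h2, -⟩ := hw r hr1
      obtain ⟨-, -, h3'⟩ := hw (wordRoot D ws r) h2
      refine ⟨wordRoot D ws r, (mem_posRoots D _).mpr ((posiff _).mpr ⟨h2, h3'.mpr (by rw [h1]; exact hr2)⟩), h1⟩
  · -- uniqueness
    intro t t' heq r hr
    rw [List.mem_map] at hr
    obtain ⟨p, hp, rfl⟩ := hr
    set w₀ := wordRoot D ws with hw₀
    have hl : ∀ r ∈ D.posRoots, ∀ u : K, n * xG hD r u * n⁻¹ = xG hD (w₀ r) (η r * u) := fun r hr u =>
      hηc r ((mem_posRoots D r).mp hr).1 u
    have key : ∀ τ : ℕ → K, n * prodL hD D.posRoots (fun p => η p * τ (w₀ p)) * n⁻¹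
        = wordG hD ((D.posRoots.map w₀).map fun r => (r, τ r)) := by
      intro τ
      rw [conj_prodL hD n w₀ η D.posRoots hl, List.map_map]
      congr 1
      apply List.map_congr_left
      intro q _
      show (w₀ q, η q * (η q * τ (w₀ q))) = (w₀ q, τ (w₀ q))
      rw [← mul_assoc, hη q, one_mul]
    have e1 : wordG hD ((D.posRoots.map w₀).map fun r => (r, t r))
        = wordG hD ((D.posRoots.map w₀).map fun r => (r, t' r)) := by
      apply Units.ext
      rw [coe_wordG, coe_wordG]
      exact heq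
    rw [← key t, ← key t'] at e1
    have e2 : prodL hD D.posRoots (fun p => η p * t (w₀ p)) = prodL hD D.posRoots (fun p => η p * t' (w₀ p)) := by
      have := congrArg (fun g => n⁻¹ * g * n) e1
      simpa [mul_assoc] using this
    have e3 := prodL_injective hD (lexOK_of_mem D hD) (bezOK_of_mem D hD) D.posRoots
      (fun r hr => (mem_posRoots D r).mp hr) (posRoots_sorted D) _ _ e2 p hp
    have e4 : η p * (η p * t (w₀ p)) = η p * (η p * t' (w₀ p)) := by
      have e3' : η p * t (w₀ p) = η p * t' (w₀ p) := e3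
      rw [e3']
    rwa [← mul_assoc, ← mul_assoc, hη p, one_mul, one_mul] at e4

end Cfsg.Agent.Lib.Helper89.St
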