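/-
helper89: project STEINBERG (helper35), module ST-[L3TAB]: the certificate for Lemma 3 at every fundamental root of
the seven tabulated data (explicit witnesses, checked by evaluation).
-/
import Cfsg.Agent.Lib.Helper35.StDefs

set_option autoImplicit false

namespace Cfsg.Agent.Lib.Helper89.St

open Cfsg.Lie Cfsg.Agent.Lib.Helper35.St

/-- The decidable form of the certificate, with all witnesses explicit. -/
def L3OK (D : ChevalleyDatum) (i r' s' : ℕ) (C : ℤ) (j : ℕ) : Prop :=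
  r' < D.nroots ∧ s' < D.nroots ∧ s' ≠ r' ∧ s' ≠ D.neg r' ∧
    r' ≠ D.simple i ∧ r' ≠ D.neg (D.simple i) ∧ s' ≠ D.simple i ∧ s' ≠ D.neg (D.simple i) ∧
    (C = 1 ∨ C = -1) ∧
    (D.commTerms r' s').filter (fun c => decide (c.1 = D.simple i)) = [(D.simple i, C, 1, j)] ∧
    (∀ c ∈ D.commTerms r' s', c.1 ≠ D.simple i → D.IsPosRoot c.1) ∧
    (∀ c ∈ D.commTerms (D.reflectRoot i r') (D.reflectRoot i s'),
      c.1 = D.neg (D.simple i) ∨ (D.IsPosRoot c.1 ∧ c.1 ≠ D.simple i))

instance (D : ChevalleyDatum) (i r' s' : ℕ) (C : ℤ) (j : ℕ) : Decidable (L3OK D i r' s' C j) := by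
  unfold L3OK
  infer_instance

theorem l3Cert_of_ok {D : ChevalleyDatum} {i r' s' : ℕ} {C : ℤ} {j : ℕ} (h : L3OK D i r' s' C j) : L3Cert D i := by
  obtain ⟨h1, h2, h3, h4, h5, h6, h7, h8, h9, h10, h11, h12⟩ := h
  exact ⟨r', s', h1, h2, h3, h4, h5, h6, h7, h8, ⟨C, j, h9, h10⟩, h11, h12⟩

set_option maxRecDepth 1000000 in
theorem l3_G2_0 : L3OK chevG2 0 5 8 1 1 := by decide +kernel

set_option maxRecDepth 1000000 in
theorem l3_G2_1 : L3OK chevG2 1 1 11 (-1) 1 := by decide +kernel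

set_option maxRecDepth 1000000 in
theorem l3_B2_0 : L3OK chevB2 0 3 6 1 1 := by decide +kernel

set_option maxRecDepth 1000000 in
theorem l3_B2_1 : L3OK chevB2 1 7 2 (-1) 2 := by decide +kernel

set_option maxRecDepth 1000000 in
theorem l3_D4_0 : L3OK chevD4 0 6 22 1 1 := by decide +kernel

set_option maxRecDepth 1000000 in
theorem l3_D4_1 : L3OK chevD4 1 1 23 (-1) 1 := by decide +kernel

set_option maxRecDepth 1000000 in
theorem l3_D4_2 : L3OK chevD4 2 3 22 (-1) 1 := by decide +kernel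

set_option maxRecDepth 1000000 in
theorem l3_D4_3 : L3OK chevD4 3 2 22 (-1) 1 := by decide +kernel

set_option maxRecDepth 1000000 in
theorem l3_F4_0 : L3OK chevF4 0 7 44 (-1) 1 := by decide +kernel

set_option maxRecDepth 1000000 in
theorem l3_F4_1 : L3OK chevF4 1 4 44 (-1) 1 := by decide +kernel

set_option maxRecDepth 1000000 in
theorem l3_F4_2 : L3OK chevF4 2 2 46 (-1) 1 := by decide +kernel

set_option maxRecDepth 1000000 in
theorem l3_F4_3 : L3OK chevF4 3 1 47 (-1) 1 := by decide +kernel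

set_option maxRecDepth 1000000 in
theorem l3_E6_0 : L3OK chevE6 0 16 66 1 1 := by decide +kernel

set_option maxRecDepth 1000000 in
theorem l3_E6_1 : L3OK chevE6 1 1 71 (-1) 1 := by decide +kernel

set_option maxRecDepth 1000000 in
theorem l3_E6_2 : L3OK chevE6 2 5 69 (-1) 1 := by decide +kernel

set_option maxRecDepth 1000000 in
theorem l3_E6_3 : L3OK chevE6 3 2 70 (-1) 1 := by decide +kernel

set_option maxRecDepth 1000000 in
theorem l3_E6_4 : L3OK chevE6 4 3 69 (-1) 1 := by decide +kernel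

set_option maxRecDepth 1000000 in
theorem l3_E6_5 : L3OK chevE6 5 4 68 (-1) 1 := by decide +kernel

set_option maxRecDepth 1000000 in
theorem l3_E7_0 : L3OK chevE7 0 1 125 (-1) 1 := by decide +kernel

set_option maxRecDepth 1000000 in
theorem l3_E7_1 : L3OK chevE7 1 7 122 (-1) 1 := by decide +kernel

set_option maxRecDepth 1000000 in
theorem l3_E7_2 : L3OK chevE7 2 2 124 (-1) 1 := by decide +kernel

set_option maxRecDepth 1000000 in
theorem l3_E7_3 : L3OK chevE7 3 3 123 (-1) 1 := by decide +kernel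

set_option maxRecDepth 1000000 in
theorem l3_E7_4 : L3OK chevE7 4 4 122 (-1) 1 := by decide +kernel

set_option maxRecDepth 1000000 in
theorem l3_E7_5 : L3OK chevE7 5 5 121 (-1) 1 := by decide +kernel

set_option maxRecDepth 1000000 in
theorem l3_E7_6 : L3OK chevE7 6 6 120 (-1) 1 := by decide +kernel

set_option maxRecDepth 1000000 in
theorem l3_E8_0 : L3OK chevE8 0 14 233 (-1) 1 := by decide +kernel

set_option maxRecDepth 1000000 in
theorem l3_E8_1 : L3OK chevE8 1 7 234 (-1) 1 := by decide +kernel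

set_option maxRecDepth 1000000 in
theorem l3_E8_2 : L3OK chevE8 2 6 234 (-1) 1 := by decide +kernel

set_option maxRecDepth 1000000 in
theorem l3_E8_3 : L3OK chevE8 3 5 235 (-1) 1 := by decide +kernel

set_option maxRecDepth 1000000 in
theorem l3_E8_4 : L3OK chevE8 4 4 236 (-1) 1 := by decide +kernel

set_option maxRecDepth 1000000 in
theorem l3_E8_5 : L3OK chevE8 5 3 237 (-1) 1 := by decide +kernel

set_option maxRecDepth 1000000 in
theorem l3_E8_6 : L3OK chevE8 6 2 238 (-1) 1 := by decide +kernel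

set_option maxRecDepth 1000000 in
theorem l3_E8_7 : L3OK chevE8 7 1 239 (-1) 1 := by decide +kernel

theorem l3Cert_G2 (i : ℕ) (hi : i < chevG2.rank) : L3Cert chevG2 i := by
  have hi' : i < 2 := hi
  interval_cases i
  · exact l3Cert_of_ok l3_G2_0
  · exact l3Cert_of_ok l3_G2_1

theorem l3Cert_B2 (i : ℕ) (hi : i < chevB2.rank) : L3Cert chevB2 i := by
  have hi' : i < 2 := hi
  interval_cases i
  · exact l3Cert_of_ok l3_B2_0
  · exact l3Cert_of_ok l3_B2_1

theorem l3Cert_D4 (i : ℕ) (hi : i < chevD4.rank) : L3Cert chevD4 i := by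
  have hi' : i < 4 := hi
  interval_cases i
  · exact l3Cert_of_ok l3_D4_0
  · exact l3Cert_of_ok l3_D4_1
  · exact l3Cert_of_ok l3_D4_2
  · exact l3Cert_of_ok l3_D4_3

theorem l3Cert_F4 (i : ℕ) (hi : i < chevF4.rank) : L3Cert chevF4 i := by
  have hi' : i < 4 := hi
  interval_cases i
  · exact l3Cert_of_ok l3_F4_0
  · exact l3Cert_of_ok l3_F4_1
  · exact l3Cert_of_ok l3_F4_2
  · exact l3Cert_of_ok l3_F4_3

theorem l3Cert_E6 (i : ℕ) (hi : i < chevE6.rank) : L3Cert chevE6 i := by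
  have hi' : i < 6 := hi
  interval_cases i
  · exact l3Cert_of_ok l3_E6_0
  · exact l3Cert_of_ok l3_E6_1
  · exact l3Cert_of_ok l3_E6_2
  · exact l3Cert_of_ok l3_E6_3
  · exact l3Cert_of_ok l3_E6_4
  · exact l3Cert_of_ok l3_E6_5

theorem l3Cert_E7 (i : ℕ) (hi : i < chevE7.rank) : L3Cert chevE7 i := by
  have hi' : i < 7 := hi
  interval_cases i
  · exact l3Cert_of_ok l3_E7_0
  · exact l3Cert_of_ok l3_E7_1
  · exact l3Cert_of_ok l3_E7_2
  · exact l3Cert_of_ok l3_E7_3
  · exact l3Cert_of_ok l3_E7_4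
  · exact l3Cert_of_ok l3_E7_5
  · exact l3Cert_of_ok l3_E7_6

theorem l3Cert_E8 (i : ℕ) (hi : i < chevE8.rank) : L3Cert chevE8 i := by
  have hi' : i < 8 := hi
  interval_cases i
  · exact l3Cert_of_ok l3_E8_0
  · exact l3Cert_of_ok l3_E8_1
  · exact l3Cert_of_ok l3_E8_2
  · exact l3Cert_of_ok l3_E8_3
  · exact l3Cert_of_ok l3_E8_4
  · exact l3Cert_of_ok l3_E8_5
  · exact l3Cert_of_ok l3_E8_6
  · exact l3Cert_of_ok l3_E8_7

theorem l3Cert_of_mem {D : ChevalleyDatum} (hD : D ∈ [chevG2, chevB2, chevD4, chevF4, chevE6, chevE7, chevE8]) (i : ℕ)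
    (hi : i < D.rank) : L3Cert D i := by
  simp only [List.mem_cons, List.not_mem_nil, or_false] at hD
  rcases hD with rfl | rfl | rfl | rfl | rfl | rfl | rfl
  · exact l3Cert_G2 i hi
  · exact l3Cert_B2 i hi
  · exact l3Cert_D4 i hi
  · exact l3Cert_F4 i hi
  · exact l3Cert_E6 i hi
  · exact l3Cert_E7 i hi
  · exact l3Cert_E8 i hi

end Cfsg.Agent.Lib.Helper89.St
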