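/-
helper89: project STEINBERG (helper35), module ST-[LVL]: level functions on the positive roots and on the negative
roots of the seven tabulated data.
-/
import Cfsg.Agent.Lib.Helper89.StTF
import Cfsg.Agent.Lib.Helper18.UFactTabs

set_option autoImplicit false

namespace Cfsg.Agent.Lib.Helper89.St

open Cfsg.Lie Cfsg.Agent.Lib.Helper35.St Cfsg.Agent.Lib.Helper18

variable {D : ChevalleyDatum}

theorem nonempty_lvl_pos (hD : D ∈ [chevG2, chevB2, chevD4, chevF4, chevE6, chevE7, chevE8]) :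
    Nonempty (Lvl D D.IsPosRoot) := by
  obtain ⟨L⟩ := nonempty_levelData D hD
  have hev : D.nroots % 2 = 0 := nroots_even hD
  refine ⟨{ lvl := L.lvl, maxLvl := L.maxLvl, lt := fun r hr => hr.1, noneg := ?_, hmax := L.hmax,
            hcomm := L.hcomm }⟩
  intro r s hr hs
  obtain ⟨h1, h2⟩ := (isPosRoot_iff hD r).mp hr
  obtain ⟨h3, h4⟩ := (isPosRoot_iff hD s).mp hs
  rw [neg_eq_sub hD r h1]
  omega

theorem nonempty_lvl_neg (hD : D ∈ [chevG2, chevB2, chevD4, chevF4, chevE6, chevE7, chevE8]) (hns : NegSym D) :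
    Nonempty (Lvl D D.IsNegRoot) := by
  obtain ⟨L⟩ := nonempty_levelData D hD
  have tf := tf_of_negSym hD hns
  have hev : D.nroots % 2 = 0 := nroots_even hD
  refine ⟨{ lvl := fun r => L.lvl (D.neg r), maxLvl := L.maxLvl, lt := fun r hr => hr.1, noneg := ?_,
            hmax := fun r hr => L.hmax _ (tf.neg_negR r hr), hcomm := ?_ }⟩
  · intro r s hr hs
    obtain ⟨h1, h2⟩ := (isNegRoot_iff hD r).mp hr
    obtain ⟨h3, h4⟩ := (isNegRoot_iff hD s).mp hs
    rw [neg_eq_sub hD r h1]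
    omega
  · intro r s hr hs hsr c hc
    have hr1 : r < D.nroots := hr.1
    have hs1 : s < D.nroots := hs.1
    have hnr := tf.neg_negR r hr
    have hnsp := tf.neg_negR s hs
    have hne : D.neg s ≠ D.neg r := by
      intro h
      apply hsr
      rw [← tf.neg_neg s hs1, h, tf.neg_neg r hr1]
    have hne2 : D.neg s ≠ D.neg (D.neg r) := by
      rw [tf.neg_neg r hr1]
      intro h
      exact tf.not_pos_neg _ hnsp (h ▸ hr)
    have key := hns (D.neg r) (D.neg s) (tf.neg_lt r hr1) (tf.neg_lt s hs1) hne hne2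
    rw [tf.neg_neg r hr1, tf.neg_neg s hs1] at key
    have hmem : c.1 ∈ (D.commTerms r s).map (fun c => c.1) := List.mem_map_of_mem hc
    rw [key, List.mem_map] at hmem
    obtain ⟨c', hc', hcc'⟩ := hmem
    obtain ⟨h1, h2, h3⟩ := L.hcomm (D.neg r) (D.neg s) hnr hnsp hne c' hc'
    rw [← hcc']
    refine ⟨tf.neg_pos _ h1, ?_, ?_⟩
    · show L.lvl (D.neg r) < L.lvl (D.neg (D.neg c'.1))
      rw [tf.neg_neg _ h1.1]
      exact h2
    · show L.lvl (D.neg s) < L.lvl (D.neg (D.neg c'.1))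
      rw [tf.neg_neg _ h1.1]
      exact h3

end Cfsg.Agent.Lib.Helper89.St
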