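/-
helper89: project STEINBERG (helper35), module ST-[NEGSYM]: the roots of the commutator formula of `(-r, -s)` are the
negatives of those of `(r, s)`, in the same order, for the seven tabulated data (Boolean check on the packed tables).
-/
import Cfsg.Agent.Lib.Helper35.StDefs
import Cfsg.Agent.Lib.Helper18.ChevDataAll
import Cfsg.Agent.Lib.Helper18.BN1

set_option autoImplicit false

namespace Cfsg.Agent.Lib.Helper89.St

open Cfsg.Lie Cfsg.Agent.Lib.Helper35.St Cfsg.Agent.Lib.Helper18

/-- Table check: the roots of the commutator formula of `(-r, -s)` are the negatives of those of `(r, s)`. -/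
def negSymOK (T : FastDatum) : Bool :=
  (List.range T.nroots).all fun r => (List.range T.nroots).all fun s =>
    s == r || s == T.neg r ||
      (((T.commTermsFast r s).all fun c => decide (c.1 < T.nroots)) &&
        ((T.commTermsFast (T.neg r) (T.neg s)).map (fun c => c.1) ==
          (T.commTermsFast r s).map (fun c => T.neg c.1)))

theorem negSym_of_ok {D : ChevalleyDatum} (hD : D ∈ [chevG2, chevB2, chevD4, chevF4, chevE6, chevE7, chevE8])
    (C : ChevData.{0} D) (h : negSymOK C.T = true) : NegSym D := by
  intro r s hr hs hsr hsn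
  unfold negSymOK at h
  rw [List.all_eq_true] at h
  have hn := C.nroots_eq
  have h1 := h r (List.mem_range.2 (hn ▸ hr))
  rw [List.all_eq_true] at h1
  have h2 := h1 s (List.mem_range.2 (hn ▸ hs))
  rw [Bool.or_eq_true, Bool.or_eq_true, beq_iff_eq, beq_iff_eq] at h2
  rcases h2 with (h2 | h2) | h2
  · exact (hsr h2).elim
  · exact (hsn (by rw [C.neg_eq r hr]; exact h2)).elim
  · rw [Bool.and_eq_true, List.all_eq_true, beq_iff_eq, C.T.commTermsFast_eq, C.T.commTermsFast_eq,
      C.T.commTermsF_eq D C.hag C.hin r s hr hs] at h2
    obtain ⟨h3, h4⟩ := h2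
    have hnr : D.neg r < D.nroots := neg_lt_nroots D hD r hr
    have hns : D.neg s < D.nroots := neg_lt_nroots D hD s hs
    rw [← C.neg_eq r hr, ← C.neg_eq s hs, C.T.commTermsF_eq D C.hag C.hin _ _ hnr hns] at h4
    rw [h4]
    apply List.map_congr_left
    intro c hc
    have := h3 c hc
    rw [decide_eq_true_eq] at this
    exact (C.neg_eq c.1 (hn ▸ this)).symm

set_option maxRecDepth 1000000 in
theorem negSymOK_G2 : negSymOK fastG2 = true := by decide +kernel

set_option maxRecDepth 1000000 in
theorem negSymOK_B2 : negSymOK fastB2 = true := by decide +kernel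

set_option maxRecDepth 1000000 in
theorem negSymOK_D4 : negSymOK fastD4 = true := by decide +kernel

set_option maxRecDepth 1000000 in
theorem negSymOK_F4 : negSymOK fastF4 = true := by decide +kernel

set_option maxRecDepth 1000000 in
theorem negSymOK_E6 : negSymOK fastE6 = true := by decide +kernel

set_option maxRecDepth 1000000 in
theorem negSymOK_E7 : negSymOK fastE7 = true := by decide +kernel

set_option maxRecDepth 1000000 in
theorem negSymOK_E8 : negSymOK fastE8 = true := by decide +kernel

theorem negSym_of_mem {D : ChevalleyDatum} (hD : D ∈ [chevG2, chevB2, chevD4, chevF4, chevE6, chevE7, chevE8]) :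
    NegSym D := by
  have hD' := hD
  simp only [List.mem_cons, List.not_mem_nil, or_false] at hD'
  rcases hD' with rfl | rfl | rfl | rfl | rfl | rfl | rfl
  · exact negSym_of_ok hD chevData_G2.{0} negSymOK_G2
  · exact negSym_of_ok hD chevData_B2.{0} negSymOK_B2
  · exact negSym_of_ok hD chevData_D4.{0} negSymOK_D4
  · exact negSym_of_ok hD chevData_F4.{0} negSymOK_F4
  · exact negSym_of_ok hD chevData_E6.{0} negSymOK_E6
  · exact negSym_of_ok hD chevData_E7.{0} negSymOK_E7
  · exact negSym_of_ok hD chevData_E8.{0} negSymOK_E8

end Cfsg.Agent.Lib.Helper89.St
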