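import Mathlib

/-!
# Wielandt degree `2p` (S0720), module [DEG4] (helper89 for helper12)

A primitive permutation group of degree `4` is `2`-transitive.
-/

set_option autoImplicit false
set_option linter.style.haveILetI false
set_option linter.unusedSectionVars false

namespace Cfsg.Agent.Lib.Helper89.W2pDeg4

variable {α : Type*} [Fintype α] [DecidableEq α]

/-- Transitive group whose point stabilizer is transitive on the remaining points. -/
theorem two_trans_of_stab_trans (G : Subgroup (Equiv.Perm α)) (a₀ : α)
    (htr : ∀ x y : α, ∃ g : G, g • x = y)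
    (hstab : ∀ x y : α, x ≠ a₀ → y ≠ a₀ → ∃ s : G, s • a₀ = a₀ ∧ s • x = y) :
    MulAction.IsMultiplyPretransitive G α 2 := by
  rw [MulAction.is_two_pretransitive_iff]
  intro x y z w hxy hzw
  obtain ⟨g1, hg1⟩ := htr x a₀
  obtain ⟨g2, hg2⟩ := htr z a₀
  have h1 : g1 • y ≠ a₀ := by
    intro h
    apply hxy
    have : g1 • x = g1 • y := by rw [hg1, h]
    exact (MulAction.injective g1) this
  have h2 : g2 • w ≠ a₀ := by
    intro h
    apply hzw
    have : g2 • z = g2 • w := by rw [hg2, h]
    exact (MulAction.injective g2) this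
  obtain ⟨s, hs0, hs⟩ := hstab (g1 • y) (g2 • w) h1 h2
  refine ⟨g2⁻¹ * s * g1, ?_, ?_⟩
  · rw [mul_smul, mul_smul, hg1, hs0, inv_smul_eq_iff, hg2]
  · rw [mul_smul, mul_smul, hs, inv_smul_smul]

/-- A permutation of order `3` of a `4`-element set fixing `a` is transitive on the other
points. -/
theorem three_cycle_trans (hα : Fintype.card α = 4) (σ : Equiv.Perm α) (hσ : orderOf σ = 3)
    (a : α) (ha : σ a = a) (x y : α) (hx : x ≠ a) (hy : y ≠ a) :
    ∃ i : ℤ, (σ ^ i) x = y := by
  have hprime : (orderOf σ).Prime := by rw [hσ]; exact Nat.prime_three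
  obtain ⟨n, hn⟩ := Equiv.Perm.cycleType_prime_order hprime
  rw [hσ] at hn
  have hsupp_le : σ.support ⊆ Finset.univ.erase a := by
    intro z hz
    rw [Finset.mem_erase]
    refine ⟨?_, Finset.mem_univ _⟩
    rintro rfl
    exact (Equiv.Perm.mem_support.mp hz) ha
  have hcard_le : σ.support.card ≤ 3 := by
    have := Finset.card_le_card hsupp_le
    rw [Finset.card_erase_of_mem (Finset.mem_univ a), Finset.card_univ, hα] at this
    exact this
  have hsum : σ.cycleType.sum = σ.support.card := Equiv.Perm.sum_cycleType σ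
  rw [hn, Multiset.sum_replicate, smul_eq_mul] at hsum
  have hn0 : n = 0 := by omega
  subst hn0
  have hcyc : σ.IsCycle := by
    rw [← Equiv.Perm.card_cycleType_eq_one, hn]
    simp
  have hsupp : σ.support = Finset.univ.erase a := by
    apply Finset.eq_of_subset_of_card_le hsupp_le
    rw [Finset.card_erase_of_mem (Finset.mem_univ a), Finset.card_univ, hα]
    omega
  have hxs : σ x ≠ x := by
    rw [← Equiv.Perm.mem_support, hsupp]
    exact Finset.mem_erase.mpr ⟨hx, Finset.mem_univ _⟩
  have hys : σ y ≠ y := by
    rw [← Equiv.Perm.mem_support, hsupp]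
    exact Finset.mem_erase.mpr ⟨hy, Finset.mem_univ _⟩
  exact hcyc.exists_zpow_eq hxs hys

/-- [DEG4] -/
theorem deg_four (hα : Fintype.card α = 4) (G : Subgroup (Equiv.Perm α))
    (hG : MulAction.IsPreprimitive G α) : MulAction.IsMultiplyPretransitive G α 2 := by
  classical
  haveI : MulAction.IsPretransitive G α := hG.toIsPretransitive
  have hne : Nonempty α := by
    rw [← Fintype.card_pos_iff, hα]; norm_num
  obtain ⟨a₀⟩ := hne
  have htr : ∀ x y : α, ∃ g : G, g • x = y := fun x y => MulAction.exists_smul_eq G x y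
  have hidx : (MulAction.stabilizer G a₀).index = 4 := by
    rw [MulAction.index_stabilizer_of_transitive, Nat.card_eq_fintype_card, hα]
  have hcard : Nat.card (MulAction.stabilizer G a₀) * 4 = Nat.card G := by
    rw [← hidx]; exact Subgroup.card_mul_index _
  by_cases h3 : 3 ∣ Nat.card G
  · -- an element of order 3 in the stabilizer
    have h3' : 3 ∣ Nat.card (MulAction.stabilizer G a₀) := by
      rw [← hcard] at h3
      exact (Nat.Coprime.dvd_mul_right (by norm_num)).mp h3
    haveI : Fact (Nat.Prime 3) := ⟨Nat.prime_three⟩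
    obtain ⟨h, hh⟩ := exists_prime_orderOf_dvd_card' 3 h3'
    apply two_trans_of_stab_trans G a₀ htr
    intro x y hx hy
    have hσ : orderOf (((h : G) : Equiv.Perm α)) = 3 := by
      rw [Subgroup.orderOf_coe, Subgroup.orderOf_coe, hh]
    have hfix : ((h : G) : Equiv.Perm α) a₀ = a₀ := by
      have := h.2
      rw [MulAction.mem_stabilizer_iff] at this
      exact this
    obtain ⟨i, hi⟩ := three_cycle_trans hα _ hσ a₀ hfix x y hx hy
    refine ⟨(h : G) ^ i, ?_, ?_⟩
    · have : ((h ^ i : MulAction.stabilizer G a₀) : G) ∈ MulAction.stabilizer G a₀ := (h ^ i).2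
      rw [MulAction.mem_stabilizer_iff] at this
      simpa using this
    · show (((h : G) ^ i : G) : Equiv.Perm α) x = y
      rw [Subgroup.coe_zpow]
      exact hi
  · -- `G` is a 2-group: contradiction with primitivity
    exfalso
    have hdvd24 : Nat.card G ∣ 24 := by
      have := Subgroup.card_subgroup_dvd_card G
      rwa [Nat.card_eq_fintype_card (α := Equiv.Perm α), Fintype.card_perm, hα] at this
    have hdvd8 : Nat.card G ∣ 2 ^ 3 := by
      have h24 : (24 : ℕ) = 3 * 2 ^ 3 := by norm_num
      rw [h24] at hdvd24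
      have hcop : Nat.Coprime (Nat.card G) 3 := by
        rw [Nat.coprime_comm, Nat.Prime.coprime_iff_not_dvd Nat.prime_three]
        exact h3
      exact hcop.dvd_of_dvd_mul_left hdvd24
    obtain ⟨k, hk, hGk⟩ := (Nat.dvd_prime_pow Nat.prime_two).mp hdvd8
    haveI : Fact (Nat.Prime 2) := ⟨Nat.prime_two⟩
    have hpG : IsPGroup 2 G := IsPGroup.of_card hGk
    have h4 : 4 ∣ Nat.card G := ⟨_, by rw [← hcard, mul_comm]⟩
    haveI : Nontrivial G := by
      rw [← Finite.one_lt_card_iff_nontrivial]
      have : 0 < Nat.card G := Nat.card_pos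
      have := Nat.le_of_dvd this h4
      omega
    haveI : Nontrivial (Subgroup.center G) := hpG.center_nontrivial
    have h2Z : 2 ∣ Nat.card (Subgroup.center G) := by
      obtain ⟨m, hm⟩ := (hpG.to_subgroup (Subgroup.center G)).exists_card_eq
      have hm0 : m ≠ 0 := by
        rintro rfl
        rw [pow_zero] at hm
        have : 1 < Nat.card (Subgroup.center G) := Finite.one_lt_card
        omega
      rw [hm]
      exact dvd_pow_self 2 hm0
    obtain ⟨z, hz⟩ := exists_prime_orderOf_dvd_card' 2 h2Z
    let N : Subgroup G := Subgroup.zpowers (z : G)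
    haveI hNn : N.Normal := by
      constructor
      intro n hn g
      have hzc : ∀ g : G, g * (z : G) = (z : G) * g := fun g =>
        (Subgroup.mem_center_iff.mp z.2 g)
      obtain ⟨i, rfl⟩ := Subgroup.mem_zpowers_iff.mp hn
      have : g * (z : G) ^ i * g⁻¹ = (z : G) ^ i := by
        have hc : Commute g ((z : G) ^ i) := (Commute.zpow_right (hzc g) i)
        rw [hc.eq, mul_assoc, mul_inv_cancel, mul_one]
      rw [this]
      exact Subgroup.zpow_mem_zpowers _ _
    have hzo : orderOf (z : G) = 2 := by rw [Subgroup.orderOf_coe, hz]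
    have hNcard : Nat.card N = 2 := by
      rw [Nat.card_zpowers, hzo]
    -- `N` does not act trivially
    have hfp : MulAction.fixedPoints N α ≠ Set.univ := by
      intro hfp
      have hz1 : ((z : G) : Equiv.Perm α) = 1 := by
        ext x
        have hx : x ∈ MulAction.fixedPoints N α := by rw [hfp]; trivial
        have := hx ⟨(z : G), Subgroup.mem_zpowers _⟩
        exact this
      have : (z : G) = 1 := Subtype.ext hz1
      rw [this, orderOf_one] at hzo
      omega
    haveI : MulAction.IsPretransitive N α :=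
      MulAction.IsQuasiPreprimitive.isPretransitive_of_normal hfp
    have hidxN : (MulAction.stabilizer N a₀).index = 4 := by
      rw [MulAction.index_stabilizer_of_transitive, Nat.card_eq_fintype_card, hα]
    have := Subgroup.card_mul_index (MulAction.stabilizer N a₀)
    rw [hidxN, hNcard] at this
    omega

end Cfsg.Agent.Lib.Helper89.W2pDeg4
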