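import Mathlib
import Cfsg.Agent.Lib.Helper12.W2pDefs

/-!
# Wielandt degree `2p` (S0720), module [TRANS] (helper89 for helper12)

The conclusion of Wielandt's theorem passes from a primitive subgroup `K` to any overgroup `G`.
-/

set_option autoImplicit false
set_option linter.style.haveILetI false
set_option linter.unusedSectionVars false

namespace Cfsg.Agent.Lib.Helper89.W2pTrans

open Cfsg.Agent.Lib.Helper12.W2p

variable {α : Type*} [Fintype α] [DecidableEq α] {p : ℕ}

/-- The orbit relation of the point stabilizer of a subgroup is finer. -/
theorem orbitRel_stab_le (K G : Subgroup (Equiv.Perm α)) (hKG : K ≤ G) (a₀ : α) :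
    MulAction.orbitRel (MulAction.stabilizer K a₀) α ≤
      MulAction.orbitRel (MulAction.stabilizer G a₀) α := by
  intro x y hxy
  rw [MulAction.orbitRel_apply] at hxy ⊢
  obtain ⟨k, hk⟩ := hxy
  refine ⟨⟨⟨(k : K).1, hKG (k : K).2⟩, ?_⟩, ?_⟩
  · rw [MulAction.mem_stabilizer_iff]
    have := k.2
    rw [MulAction.mem_stabilizer_iff] at this
    exact this
  · exact hk

/-- [TRANS] -/
theorem concl_of_le (K G : Subgroup (Equiv.Perm α)) (hKG : K ≤ G)
    (hK : MulAction.IsPreprimitive K α) (a₀ : α) (h : Concl p K a₀) : Concl p G a₀ := by
  classical
  rcases h with h2 | ⟨h3, a, ha0, hpa, horb⟩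
  · -- `K` is 2-transitive, hence so is `G`
    left
    rw [MulAction.is_two_pretransitive_iff] at h2 ⊢
    intro x y z w hxy hzw
    obtain ⟨k, hk1, hk2⟩ := h2 hxy hzw
    exact ⟨⟨k.1, hKG k.2⟩, hk1, hk2⟩
  · -- rank 3 for `K`
    have hle := orbitRel_stab_le K G hKG a₀
    let q : MulAction.orbitRel.Quotient (MulAction.stabilizer K a₀) α →
        MulAction.orbitRel.Quotient (MulAction.stabilizer G a₀) α :=
      Quotient.map' id hle
    have hq_mk : ∀ x : α, q (Quotient.mk'' x) = Quotient.mk'' x := fun x => rfl
    have hqsurj : Function.Surjective q := by
      intro c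
      induction c using Quotient.inductionOn' with
      | h x => exact ⟨Quotient.mk'' x, rfl⟩
    have hcard_le : Nat.card (MulAction.orbitRel.Quotient (MulAction.stabilizer G a₀) α) ≤ 3 := by
      rw [← h3]
      exact Nat.card_le_card_of_surjective q hqsurj
    have hcard_pos : 0 < Nat.card (MulAction.orbitRel.Quotient (MulAction.stabilizer G a₀) α) :=
      Nat.card_pos_iff.mpr ⟨⟨Quotient.mk'' a₀⟩, inferInstance⟩
    -- the orbit of `a₀` under its stabilizer is `{a₀}`
    have hmk_a₀ : ∀ x : α, (Quotient.mk'' x :
        MulAction.orbitRel.Quotient (MulAction.stabilizer G a₀) α) = Quotient.mk'' a₀ →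
        x = a₀ := by
      intro x hx
      have := Quotient.exact' hx
      rw [MulAction.orbitRel_apply] at this
      obtain ⟨g, hg⟩ := this
      have hg2 := g.2
      rw [MulAction.mem_stabilizer_iff] at hg2
      rw [← hg]
      exact hg2
    have hKtrans : MulAction.IsPretransitive K α := hK.toIsPretransitive
    have hGtrans : ∀ x y : α, ∃ g : G, g • x = y := by
      intro x y
      obtain ⟨k, hk⟩ := hKtrans.exists_smul_eq x y
      exact ⟨⟨k.1, hKG k.2⟩, hk⟩
    by_cases hc3 : Nat.card (MulAction.orbitRel.Quotient (MulAction.stabilizer G a₀) α) = 3
    · -- same orbits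
      right
      refine ⟨hc3, a, ha0, hpa, fun b hb => ?_⟩
      have hqinj : Function.Injective q := by
        have hbij : Function.Bijective q := by
          rw [Nat.bijective_iff_surjective_and_card]
          exact ⟨hqsurj, by rw [h3, hc3]⟩
        exact hbij.1
      have hset : (MulAction.orbit (MulAction.stabilizer G a₀) b : Set α) =
          MulAction.orbit (MulAction.stabilizer K a₀) b := by
        ext x
        constructor
        · intro hx
          have h1 : (Quotient.mk'' x :
              MulAction.orbitRel.Quotient (MulAction.stabilizer G a₀) α) = Quotient.mk'' b :=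
            Quotient.sound' (by rw [MulAction.orbitRel_apply]; exact hx)
          have h2 : (Quotient.mk'' x :
              MulAction.orbitRel.Quotient (MulAction.stabilizer K a₀) α) = Quotient.mk'' b := by
            apply hqinj
            rw [hq_mk, hq_mk, h1]
          have := Quotient.exact' h2
          rw [MulAction.orbitRel_apply] at this
          exact this
        · intro hx
          have := hle (by rw [MulAction.orbitRel_apply]; exact hx : MulAction.orbitRel _ α x b)
          rw [MulAction.orbitRel_apply] at this
          exact this
      rw [hset]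
      exact horb b hb
    · -- fewer orbits: `G` is 2-transitive
      left
      have hc2 : Nat.card (MulAction.orbitRel.Quotient (MulAction.stabilizer G a₀) α) ≤ 2 := by
        omega
      -- the stabilizer is transitive on the other points
      have hstab : ∀ x y : α, x ≠ a₀ → y ≠ a₀ →
          ∃ s : G, s • a₀ = a₀ ∧ s • x = y := by
        intro x y hx hy
        by_contra hno
        have hne_xy : (Quotient.mk'' x :
            MulAction.orbitRel.Quotient (MulAction.stabilizer G a₀) α) ≠ Quotient.mk'' y := by
          intro hxy
          have := Quotient.exact' hxy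
          rw [MulAction.orbitRel_apply] at this
          obtain ⟨g, hg⟩ := this
          -- `g • y = x`; use the inverse
          apply hno
          refine ⟨(g : G)⁻¹, ?_, ?_⟩
          · have hg2 := g.2
            rw [MulAction.mem_stabilizer_iff] at hg2
            rw [inv_smul_eq_iff, hg2]
          · rw [inv_smul_eq_iff]
            exact hg.symm
        have hne_x : (Quotient.mk'' x :
            MulAction.orbitRel.Quotient (MulAction.stabilizer G a₀) α) ≠ Quotient.mk'' a₀ :=
          fun h => hx (hmk_a₀ x h)
        have hne_y : (Quotient.mk'' y :
            MulAction.orbitRel.Quotient (MulAction.stabilizer G a₀) α) ≠ Quotient.mk'' a₀ :=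
          fun h => hy (hmk_a₀ y h)
        -- three distinct classes
        have : 3 ≤ Nat.card (MulAction.orbitRel.Quotient (MulAction.stabilizer G a₀) α) := by
          haveI : Finite (MulAction.orbitRel.Quotient (MulAction.stabilizer G a₀) α) :=
            Finite.of_surjective q hqsurj
          let f : Fin 3 → MulAction.orbitRel.Quotient (MulAction.stabilizer G a₀) α :=
            ![Quotient.mk'' x, Quotient.mk'' y, Quotient.mk'' a₀]
          have hf : Function.Injective f := by
            intro i j hij
            fin_cases i <;> fin_cases j <;> simp [f] at hij ⊢ <;>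
              first
                | exact absurd hij hne_xy
                | exact absurd hij.symm hne_xy
                | exact absurd hij hne_x
                | exact absurd hij.symm hne_x
                | exact absurd hij hne_y
                | exact absurd hij.symm hne_y
          have := Nat.card_le_card_of_injective f hf
          simpa using this
        omega
      rw [MulAction.is_two_pretransitive_iff]
      intro x y z w hxy hzw
      obtain ⟨g1, hg1⟩ := hGtrans x a₀
      obtain ⟨g2, hg2⟩ := hGtrans z a₀
      have h1 : g1 • y ≠ a₀ := by
        intro h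
        apply hxy
        have : g1 • x = g1 • y := by rw [hg1, h]
        exact (MulAction.injective g1) this
      have h2 : g2 • w ≠ a₀ := by
        intro h
        apply hzw
        have : g2 • z = g2 • w := by rw [hg2, h]
        exact (MulAction.injective g2) this
      obtain ⟨s, hs0, hs⟩ := hstab (g1 • y) (g2 • w) h1 h2
      refine ⟨g2⁻¹ * s * g1, ?_, ?_⟩
      · rw [mul_smul, mul_smul, hg1, hs0, inv_smul_eq_iff, hg2]
      · rw [mul_smul, mul_smul, hs, inv_smul_smul]

end Cfsg.Agent.Lib.Helper89.W2pTrans
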