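import Mathlib

/-!
# Fixed points of a generating element of odd order on the cosets of a proper subgroup
(helper89, module [PERM] of helper2's S3818)

If the solvable group `G` is the normal closure of `x`, `x ^ p = 1` with `p` odd, and `H < G`,
then `x` fixes at most a third of the cosets of `H`.
-/

set_option autoImplicit false
set_option linter.unusedSectionVars false

namespace Cfsg.Agent.Lib.Helper89.Flavell

open scoped commutatorElement

section basic
variable {G : Type*} [Group G]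

/-- `x` fixes the coset `gH` iff `g⁻¹ x g ∈ H` -/
theorem smul_mk_eq_iff (H : Subgroup G) (x g : G) :
    x • (g : G ⧸ H) = (g : G ⧸ H) ↔ g⁻¹ * x * g ∈ H := by
  rw [MulAction.Quotient.smul_coe, smul_eq_mul, QuotientGroup.eq]
  have h1 : (x * g)⁻¹ * g = (g⁻¹ * x * g)⁻¹ := by group
  rw [h1, inv_mem_iff]

theorem mk_eq_one_iff (H : Subgroup G) (g : G) :
    (g : G ⧸ H) = ((1 : G) : G ⧸ H) ↔ g ∈ H := by
  rw [QuotientGroup.eq, mul_one, inv_mem_iff]

end basic


section core
variable {G : Type*} [Group G]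

/-- the core case: `x ∈ H`, and `U` normal with `U H = G`, `core(H) ≤ U`, `U / core(H)` abelian -/
theorem core_case [Finite G] {p : ℕ} (hp : Odd p) (x : G) (hx : x ^ p = 1)
    (hgen : Subgroup.normalClosure ({x} : Set G) = ⊤) (H : Subgroup G) (hH : H ≠ ⊤)
    (hxH : x ∈ H) (U : Subgroup G) [hUn : U.Normal] (hUH : U ⊔ H = ⊤)
    (hN0U : H.normalCore ≤ U) (hcomm : ⁅U, U⁆ ≤ H.normalCore) :
    3 * Nat.card {q : G ⧸ H // x • q = q} ≤ H.index := by
  classical
  obtain ⟨N0, hN0⟩ : ∃ N0 : Subgroup G, N0 = H.normalCore := ⟨_, rfl⟩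
  have hN0n : N0.Normal := by rw [hN0]; infer_instance
  rw [← hN0] at hN0U hcomm
  have hN0H : N0 ≤ H := by rw [hN0]; exact Subgroup.normalCore_le H
  have hsplit : ∀ g : G, ∃ u ∈ U, ∃ h ∈ H, u * h = g := by
    intro g
    have hg : g ∈ U ⊔ H := by rw [hUH]; trivial
    exact Subgroup.mem_sup_of_normal_left.mp hg
  -- the quotient by `N0`
  let π : G →* G ⧸ N0 := QuotientGroup.mk' N0
  have hπ1 : ∀ g : G, π g = 1 ↔ g ∈ N0 := fun g => QuotientGroup.eq_one_iff g
  have hπcomm : ∀ a ∈ U, ∀ b ∈ U, π a * π b = π b * π a := by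
    intro a ha b hb
    have h1 : ⁅a, b⁆ ∈ N0 := hcomm (Subgroup.commutator_mem_commutator ha hb)
    have h2 := (hπ1 _).mpr h1
    rw [commutatorElement_def, map_mul, map_mul, map_mul, map_inv, map_inv] at h2
    have h3 : π a * π b = (π a * π b * (π a)⁻¹ * (π b)⁻¹) * (π b * π a) := by group
    rw [h3, h2, one_mul]
  -- `U ⊓ H = N0`
  have hUHinf : U ⊓ H = N0 := by
    apply le_antisymm
    · have hnorm : (U ⊓ H).Normal := by
        constructor
        intro y hy g
        obtain ⟨u, hu, h, hh, rfl⟩ := hsplit g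
        have hy' : h * y * h⁻¹ ∈ U ⊓ H :=
          ⟨hUn.conj_mem y hy.1 h, H.mul_mem (H.mul_mem hh hy.2) (H.inv_mem hh)⟩
        have h4 : u * h * y * (u * h)⁻¹ = ⁅u, h * y * h⁻¹⁆ * (h * y * h⁻¹) := by
          rw [commutatorElement_def]; group
        rw [h4]
        have h5 : ⁅u, h * y * h⁻¹⁆ ∈ N0 :=
          hcomm (Subgroup.commutator_mem_commutator hu hy'.1)
        exact (U ⊓ H).mul_mem ⟨hN0U h5, hN0H h5⟩ hy'
      rw [hN0]
      exact Subgroup.normal_le_normalCore.mpr inf_le_right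
    · exact le_inf hN0U hN0H
  -- the subgroup `D`
  obtain ⟨D, hD⟩ : ∃ D : Subgroup G,
      D = U ⊓ (Subgroup.centralizer ({π x} : Set (G ⧸ N0))).comap π := ⟨_, rfl⟩
  have hDmem : ∀ g : G, g ∈ D ↔ g ∈ U ∧ π g * π x = π x * π g := by
    intro g
    rw [hD, Subgroup.mem_inf, Subgroup.mem_comap, Subgroup.mem_centralizer_singleton_iff]
  have hDU : D ≤ U := fun g hg => ((hDmem g).mp hg).1
  have hN0D : N0 ≤ D := by
    intro n hn
    rw [hDmem]
    refine ⟨hN0U hn, ?_⟩
    rw [(hπ1 n).mpr hn, one_mul, mul_one]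
  have hHD : H ⊓ D = N0 := by
    apply le_antisymm
    · rw [← hUHinf]
      exact fun g hg => ⟨hDU hg.2, hg.1⟩
    · exact le_inf hN0H hN0D
  have hxconjU : ∀ u ∈ U, x * u * x⁻¹ ∈ U := fun u hu => hUn.conj_mem u hu x
  -- membership in `D` through commutators
  have hDiff : ∀ u ∈ U, (u ∈ D ↔ u⁻¹ * x * u * x⁻¹ ∈ N0) := by
    intro u hu
    rw [hDmem, ← hπ1]
    constructor
    · rintro ⟨-, h1⟩
      rw [map_mul, map_mul, map_mul, map_inv, map_inv]
      have h2 : (π u)⁻¹ * π x * π u * (π x)⁻¹ = (π u)⁻¹ * (π x * π u) * (π x)⁻¹ := by group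
      rw [h2, ← h1]
      group
    · intro h1
      refine ⟨hu, ?_⟩
      rw [map_mul, map_mul, map_mul, map_inv, map_inv] at h1
      have h2 : π x * π u = π u * ((π u)⁻¹ * π x * π u * (π x)⁻¹) * π x := by group
      rw [h2, h1, mul_one]
  -- (1) `H.index = N0.relIndex U`
  have hidx : H.index = N0.relIndex U := by
    have h1 : Nat.card N0 * N0.relIndex U = Nat.card U := by
      have := Subgroup.relIndex_mul_relIndex ⊥ N0 U bot_le hN0U
      rwa [Subgroup.relIndex_bot_left, Subgroup.relIndex_bot_left] at this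
    have h2 : Nat.card N0 * N0.relIndex H = Nat.card H := by
      have := Subgroup.relIndex_mul_relIndex ⊥ N0 H bot_le hN0H
      rwa [Subgroup.relIndex_bot_left, Subgroup.relIndex_bot_left] at this
    have h3 : U.index = N0.relIndex H := by
      have h4 : U.relIndex (U ⊔ H) = U.relIndex H := Subgroup.relIndex_sup_left H U
      rw [hUH, Subgroup.relIndex_top_right] at h4
      rw [h4, ← hUHinf, Subgroup.inf_relIndex_right]
    have h5 := U.card_mul_index
    have h6 := H.card_mul_index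
    have hposH : 0 < Nat.card H := Nat.card_pos
    have hposN : 0 < Nat.card N0 := Nat.card_pos
    have h7 : Nat.card H * H.index = Nat.card H * N0.relIndex U := by
      rw [h6, ← h5, h3, ← h1, ← h2]
      ring
    exact Nat.eq_of_mul_eq_mul_left hposH h7
  -- (2) the fixed cosets form the `D`-orbit of the base point
  obtain ⟨o, ho⟩ : ∃ o : G ⧸ H, o = ((1 : G) : G ⧸ H) := ⟨_, rfl⟩
  have hsmulo : ∀ g : G, g • o = (g : G ⧸ H) := by
    intro g
    rw [ho, MulAction.Quotient.smul_coe, smul_eq_mul, mul_one]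
  have horbit : MulAction.orbit D o = {q : G ⧸ H | x • q = q} := by
    ext q
    constructor
    · rintro ⟨d, rfl⟩
      show x • ((d : G) • o) = (d : G) • o
      rw [hsmulo, smul_mk_eq_iff]
      have hdD := d.2
      have h1 := (hDiff (d : G) (hDU hdD)).mp hdD
      have h2 : (d : G)⁻¹ * x * (d : G) = ((d : G)⁻¹ * x * (d : G) * x⁻¹) * x := by group
      rw [h2]
      exact H.mul_mem (hN0H h1) hxH
    · intro hq
      have hq' : x • q = q := hq
      obtain ⟨g, rfl⟩ := QuotientGroup.mk_surjective q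
      obtain ⟨u, hu, h, hh, rfl⟩ := hsplit g
      have h1 : ((u * h : G) : G ⧸ H) = (u : G ⧸ H) := by
        rw [QuotientGroup.eq]
        have : (u * h)⁻¹ * u = h⁻¹ := by group
        rw [this]
        exact H.inv_mem hh
      rw [h1] at hq' ⊢
      rw [smul_mk_eq_iff] at hq'
      have h2 : u⁻¹ * x * u * x⁻¹ ∈ U ⊓ H := by
        refine ⟨?_, H.mul_mem hq' (H.inv_mem hxH)⟩
        have h3 : u⁻¹ * x * u * x⁻¹ = u⁻¹ * (x * u * x⁻¹) := by group
        rw [h3]
        exact U.mul_mem (U.inv_mem hu) (hxconjU u hu)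
      rw [hUHinf] at h2
      have huD : u ∈ D := (hDiff u hu).mpr h2
      refine ⟨⟨u, huD⟩, ?_⟩
      show (u : G) • o = (u : G ⧸ H)
      rw [hsmulo]
  have hstab : MulAction.stabilizer D o = H.subgroupOf D := by
    ext d
    rw [MulAction.mem_stabilizer_iff, Subgroup.mem_subgroupOf]
    show (d : G) • o = o ↔ _
    rw [hsmulo, ho, mk_eq_one_iff]
  have hfix : Nat.card {q : G ⧸ H // x • q = q} = N0.relIndex D := by
    have h1 := MulAction.index_stabilizer D o
    rw [hstab, horbit] at h1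
    have h2 : Nat.card {q : G ⧸ H // x • q = q} = ({q : G ⧸ H | x • q = q} : Set (G ⧸ H)).ncard :=
      Nat.card_coe_set_eq _
    rw [h2, ← h1, ← Subgroup.relIndex, ← hHD, Subgroup.inf_relIndex_right]
  -- (3) `|U : D| ≥ 3`
  have hrel : N0.relIndex D * D.relIndex U = N0.relIndex U :=
    Subgroup.relIndex_mul_relIndex N0 D U hN0D hDU
  have hnotle : ¬ U ≤ D := by
    intro hUD
    -- `x` centralizes `U / N0`, hence everything does
    have hUmapn : (U.map π).Normal :=
      hUn.map π (QuotientGroup.mk'_surjective N0)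
    have hCn : ((Subgroup.centralizer ((U.map π : Subgroup (G ⧸ N0)) : Set (G ⧸ N0))).comap
        π).Normal := Subgroup.Normal.comap inferInstance π
    have hxC : x ∈ (Subgroup.centralizer ((U.map π : Subgroup (G ⧸ N0)) : Set (G ⧸ N0))).comap
        π := by
      rw [Subgroup.mem_comap, Subgroup.mem_centralizer_iff]
      rintro _ ⟨u, hu, rfl⟩
      exact ((hDmem u).mp (hUD hu)).2
    have hCtop : (Subgroup.centralizer ((U.map π : Subgroup (G ⧸ N0)) : Set (G ⧸ N0))).comap
        π = ⊤ := by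
      rw [eq_top_iff, ← hgen]
      exact Subgroup.normalClosure_le_normal (Set.singleton_subset_iff.mpr hxC)
    have hall : ∀ g : G, ∀ u ∈ U, π u * π g = π g * π u := by
      intro g u hu
      have hg : g ∈ (Subgroup.centralizer
          ((U.map π : Subgroup (G ⧸ N0)) : Set (G ⧸ N0))).comap π := by
        rw [hCtop]; trivial
      rw [Subgroup.mem_comap, Subgroup.mem_centralizer_iff] at hg
      exact hg (π u) ⟨u, hu, rfl⟩
    have hconjH : ∀ u ∈ U, ∀ h ∈ H, u * h * u⁻¹ ∈ H := by
      intro u hu h hh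
      have h1 : u * h * u⁻¹ * h⁻¹ ∈ N0 := by
        rw [← hπ1, map_mul, map_mul, map_mul, map_inv, map_inv, hall h u hu]
        group
      have h2 : u * h * u⁻¹ = (u * h * u⁻¹ * h⁻¹) * h := by group
      rw [h2]
      exact H.mul_mem (hN0H h1) hh
    have hUnorm : U ≤ Subgroup.normalizer (H : Set G) := by
      intro u hu
      rw [Subgroup.mem_normalizer_iff]
      intro h
      constructor
      · exact hconjH u hu h
      · intro h1
        have h2 := hconjH u⁻¹ (U.inv_mem hu) _ h1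
        have h3 : u⁻¹ * (u * h * u⁻¹) * u⁻¹⁻¹ = h := by group
        rwa [h3] at h2
    have hnormtop : Subgroup.normalizer (H : Set G) = ⊤ := by
      rw [eq_top_iff, ← hUH]
      exact sup_le hUnorm Subgroup.le_normalizer
    have hHn : H.Normal := Subgroup.normalizer_eq_top_iff.mp hnormtop
    apply hH
    rw [eq_top_iff, ← hgen]
    exact Subgroup.normalClosure_le_normal (Set.singleton_subset_iff.mpr hxH)
  have hne1 : D.relIndex U ≠ 1 := fun h1 => hnotle (Subgroup.relIndex_eq_one.mp h1)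
  have hne0 : D.relIndex U ≠ 0 := by
    intro h0
    have : (D.subgroupOf U).index ≠ 0 := Subgroup.index_ne_zero_of_finite
    exact this h0
  have hne2 : D.relIndex U ≠ 2 := by
    intro h2
    have h2' : (D.subgroupOf U).index = 2 := h2
    obtain ⟨u, hu, huD⟩ : ∃ u ∈ U, u ∉ D := by
      by_contra hcon
      push Not at hcon
      exact hnotle hcon
    -- the conjugate `w = x u x⁻¹`
    have hwU : x * u * x⁻¹ ∈ U := hxconjU u hu
    have hwD : x * u * x⁻¹ ∉ D := by
      intro hw
      apply huD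
      rw [hDmem] at hw ⊢
      refine ⟨hu, ?_⟩
      have h3 := hw.2
      rw [map_mul, map_mul, map_inv] at h3
      have h4 : π u * π x = (π x)⁻¹ * (π x * π u * (π x)⁻¹ * π x) * π x := by group
      rw [h4, h3]
      group
    have hsq : u ^ 2 ∈ D := by
      have := Subgroup.sq_mem_of_index_two h2' (⟨u, hu⟩ : U)
      rwa [Subgroup.mem_subgroupOf] at this
    have hdD : u⁻¹ * (x * u * x⁻¹) ∈ D := by
      have h3 := Subgroup.mul_mem_iff_of_index_two h2' (a := (⟨u, hu⟩ : U)⁻¹)
        (b := (⟨x * u * x⁻¹, hwU⟩ : U))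
      have h4 : (⟨u, hu⟩ : U)⁻¹ * (⟨x * u * x⁻¹, hwU⟩ : U) ∈ D.subgroupOf U := by
        rw [h3]
        constructor
        · intro h5
          exfalso
          rw [inv_mem_iff, Subgroup.mem_subgroupOf] at h5
          exact huD h5
        · intro h5
          exfalso
          rw [Subgroup.mem_subgroupOf] at h5
          exact hwD h5
      rwa [Subgroup.mem_subgroupOf] at h4
    -- computation in the quotient
    obtain ⟨ub, hub⟩ : ∃ ub : G ⧸ N0, ub = π u := ⟨_, rfl⟩
    obtain ⟨xb, hxb⟩ : ∃ xb : G ⧸ N0, xb = π x := ⟨_, rfl⟩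
    obtain ⟨db, hdb⟩ : ∃ db : G ⧸ N0, db = ub⁻¹ * (xb * ub * xb⁻¹) := ⟨_, rfl⟩
    have hdbπ : db = π (u⁻¹ * (x * u * x⁻¹)) := by
      rw [hdb, hub, hxb, map_mul, map_mul, map_mul, map_inv, map_inv]
    have hdx : db * xb = xb * db := by
      rw [hdbπ, hxb]
      exact ((hDmem _).mp hdD).2
    have hud : ub * db = db * ub := by
      rw [hdbπ, hub]
      exact hπcomm u hu _ (hDU hdD)
    have hconj1 : xb * ub * xb⁻¹ = ub * db := by
      rw [hdb]; group
    have hdconj : ∀ j : ℕ, xb * db ^ j * xb⁻¹ = db ^ j := by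
      intro j
      have h3 : Commute xb (db ^ j) := (Commute.pow_right (show Commute xb db from hdx.symm) j)
      rw [h3.eq]
      group
    have hpow : ∀ j : ℕ, xb ^ j * ub * (xb ^ j)⁻¹ = ub * db ^ j := by
      intro j
      induction j with
      | zero => simp
      | succ j ih =>
        have h3 : xb ^ (j + 1) * ub * (xb ^ (j + 1))⁻¹ =
            xb * (xb ^ j * ub * (xb ^ j)⁻¹) * xb⁻¹ := by
          rw [pow_succ']; group
        rw [h3, ih]
        have h4 : xb * (ub * db ^ j) * xb⁻¹ = (xb * ub * xb⁻¹) * (xb * db ^ j * xb⁻¹) := by group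
        rw [h4, hconj1, hdconj, pow_succ']
        group
    have hxbp : xb ^ p = 1 := by
      rw [hxb, ← map_pow, hx, map_one]
    have hdp : db ^ p = 1 := by
      have h3 := hpow p
      rw [hxbp, one_mul, inv_one, mul_one] at h3
      exact (mul_eq_left.mp h3.symm)
    have hd2 : db ^ 2 = 1 := by
      have h3 : π (u ^ 2) * xb = xb * π (u ^ 2) := by
        rw [hxb]
        exact ((hDmem _).mp hsq).2
      rw [map_pow, ← hub] at h3
      have h4 : xb * ub ^ 2 * xb⁻¹ = ub ^ 2 := by
        rw [← h3]; group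
      have h5 : xb * ub ^ 2 * xb⁻¹ = (xb * ub * xb⁻¹) ^ 2 := by
        rw [pow_two, pow_two]; group
      rw [h5, hconj1, (show Commute ub db from hud).mul_pow] at h4
      exact mul_eq_left.mp h4
    have hd1 : db = 1 := by
      obtain ⟨m, rfl⟩ := hp
      rw [pow_succ, pow_mul, hd2, one_pow, one_mul] at hdp
      exact hdp
    apply huD
    rw [hDmem]
    refine ⟨hu, ?_⟩
    rw [← hub, ← hxb]
    rw [hd1, mul_one] at hconj1
    have h3 : xb * ub = (xb * ub * xb⁻¹) * xb := by group
    rw [h3, hconj1]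
  have hge3 : 3 ≤ D.relIndex U := by omega
  rw [hidx, ← hrel, hfix]
  calc 3 * N0.relIndex D = N0.relIndex D * 3 := by ring
    _ ≤ N0.relIndex D * D.relIndex U := Nat.mul_le_mul_left _ hge3

end core

section wrapper
variable {G : Type*} [Group G]

/-- the number of `g` with `g⁻¹ x g ∈ H` -/
theorem card_conj_mem (H : Subgroup G) (x : G) :
    Nat.card {g : G // g⁻¹ * x * g ∈ H} = Nat.card H * Nat.card {q : G ⧸ H // x • q = q} := by
  have e := QuotientGroup.preimageMkEquivSubgroupProdSet H {q : G ⧸ H | x • q = q}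
  have h1 := Nat.card_congr e
  rw [Nat.card_prod] at h1
  have h2 : Nat.card {q : G ⧸ H // x • q = q} = Nat.card ↥{q : G ⧸ H | x • q = q} := rfl
  rw [h2, ← h1]
  apply Nat.card_congr
  exact Equiv.subtypeEquivRight (fun g => by
    rw [Set.mem_preimage, Set.mem_ofPred_eq, smul_mk_eq_iff])

theorem mono_case [Finite G] (x : G) (H M : Subgroup G) (hHM : H ≤ M)
    (hM : 3 * Nat.card {q : G ⧸ M // x • q = q} ≤ M.index) :
    3 * Nat.card {q : G ⧸ H // x • q = q} ≤ H.index := by
  have h1 := card_conj_mem H x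
  have h2 := card_conj_mem M x
  have h3 : Nat.card {g : G // g⁻¹ * x * g ∈ H} ≤ Nat.card {g : G // g⁻¹ * x * g ∈ M} :=
    Nat.card_le_card_of_injective (fun g => ⟨g.1, hHM g.2⟩)
      (fun a b hab => Subtype.ext (by
        have h := congrArg Subtype.val hab
        exact h))
  have h4 := H.card_mul_index
  have h5 := M.card_mul_index
  have hposH : 0 < Nat.card H := Nat.card_pos
  apply Nat.le_of_mul_le_mul_left _ hposH
  calc Nat.card H * (3 * Nat.card {q : G ⧸ H // x • q = q})
      = 3 * (Nat.card H * Nat.card {q : G ⧸ H // x • q = q}) := by ring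
    _ = 3 * Nat.card {g : G // g⁻¹ * x * g ∈ H} := by rw [h1]
    _ ≤ 3 * Nat.card {g : G // g⁻¹ * x * g ∈ M} := Nat.mul_le_mul_left _ h3
    _ = Nat.card M * (3 * Nat.card {q : G ⧸ M // x • q = q}) := by rw [h2]; ring
    _ ≤ Nat.card M * M.index := Nat.mul_le_mul_left _ hM
    _ = Nat.card H * H.index := by rw [h4, h5]

theorem card_fixed_conj (H : Subgroup G) (x g : G) :
    Nat.card {q : G ⧸ H // (g⁻¹ * x * g) • q = q} = Nat.card {q : G ⧸ H // x • q = q} := by
  apply Nat.card_congr
  refine Equiv.subtypeEquiv (MulAction.toPerm g) ?_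
  intro q
  rw [MulAction.toPerm_apply]
  constructor
  · intro h
    have h1 : x • g • q = g • ((g⁻¹ * x * g) • q) := by
      rw [mul_smul, mul_smul, smul_inv_smul]
    rw [h1, h]
  · intro h
    rw [mul_smul, mul_smul, h, inv_smul_smul]

theorem normalClosure_conj_eq_top (x g : G)
    (hgen : Subgroup.normalClosure ({x} : Set G) = ⊤) :
    Subgroup.normalClosure ({g⁻¹ * x * g} : Set G) = ⊤ := by
  rw [eq_top_iff, ← hgen]
  apply Subgroup.normalClosure_le_normal
  rw [Set.singleton_subset_iff]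
  have h1 : g⁻¹ * x * g ∈ Subgroup.normalClosure ({g⁻¹ * x * g} : Set G) :=
    Subgroup.subset_normalClosure (Set.mem_singleton _)
  have h2 := (Subgroup.normalClosure_normal (s := ({g⁻¹ * x * g} : Set G))).conj_mem _ h1 g
  have h3 : g * (g⁻¹ * x * g) * g⁻¹ = x := by group
  rw [h3] at h2
  exact h2

theorem conj_pow_eq_one (x g : G) {p : ℕ} (hx : x ^ p = 1) : (g⁻¹ * x * g) ^ p = 1 := by
  have h1 : g⁻¹ * x * g = g⁻¹ * x * (g⁻¹)⁻¹ := by rw [inv_inv]
  rw [h1, conj_pow, hx]
  group

theorem exists_U [Group.IsSolvable G] (M : Subgroup G) (hM : IsCoatom M) :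
    ∃ U : Subgroup G, U.Normal ∧ U ⊔ M = ⊤ ∧ M.normalCore ≤ U ∧ ⁅U, U⁆ ≤ M.normalCore := by
  classical
  have hex : ∃ n, derivedSeries G n ≤ M.normalCore := by
    obtain ⟨n, hn⟩ := (Group.isSolvable_def G).mp inferInstance
    exact ⟨n, by rw [hn]; exact bot_le⟩
  have hn0 : Nat.find hex ≠ 0 := by
    intro h0
    have h1 := Nat.find_spec hex
    rw [h0, derivedSeries_zero] at h1
    exact hM.1 (eq_top_iff.mpr (h1.trans (Subgroup.normalCore_le M)))
  obtain ⟨i, hi⟩ := Nat.exists_eq_succ_of_ne_zero hn0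
  have hA : ¬ derivedSeries G i ≤ M.normalCore := Nat.find_min hex (by omega)
  have hA' : derivedSeries G (i + 1) ≤ M.normalCore := by
    have h1 := Nat.find_spec hex
    rw [hi] at h1
    exact h1
  rw [derivedSeries_succ] at hA'
  obtain ⟨A, hAdef⟩ : ∃ A : Subgroup G, A = derivedSeries G i := ⟨_, rfl⟩
  have hAn : A.Normal := by rw [hAdef]; infer_instance
  rw [← hAdef] at hA hA'
  obtain ⟨N0, hN0⟩ : ∃ N0 : Subgroup G, N0 = M.normalCore := ⟨_, rfl⟩
  have hN0n : N0.Normal := by rw [hN0]; infer_instance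
  have hN0M : N0 ≤ M := by rw [hN0]; exact Subgroup.normalCore_le M
  have hAM : ¬ A ≤ M := fun h => hA (Subgroup.normal_le_normalCore.mpr h)
  rw [← hN0] at hA hA' ⊢
  refine ⟨A ⊔ N0, inferInstance, ?_, le_sup_right, ?_⟩
  · have hlt : M < A ⊔ N0 ⊔ M := by
      apply lt_of_le_of_ne le_sup_right
      intro heq
      apply hAM
      have h1 : A ≤ A ⊔ N0 ⊔ M := le_sup_left.trans le_sup_left
      rw [← heq] at h1
      exact h1
    exact hM.lt_iff.mp hlt
  · rw [Subgroup.commutator_le]
    intro a ha b hb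
    obtain ⟨a1, ha1, n1, hn1, rfl⟩ := Subgroup.mem_sup_of_normal_right.mp ha
    obtain ⟨a2, ha2, n2, hn2, rfl⟩ := Subgroup.mem_sup_of_normal_right.mp hb
    have hπ1 : ∀ g : G, QuotientGroup.mk' N0 g = 1 ↔ g ∈ N0 := fun g => QuotientGroup.eq_one_iff g
    rw [← hπ1, map_commutatorElement, map_mul, map_mul, (hπ1 n1).mpr hn1, (hπ1 n2).mpr hn2,
      mul_one, mul_one, ← map_commutatorElement, hπ1]
    exact hA' (Subgroup.commutator_mem_commutator ha1 ha2)

theorem coatom_case_mem [Finite G] [Group.IsSolvable G] {p : ℕ} (hp : Odd p) (x : G)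
    (hx : x ^ p = 1) (hgen : Subgroup.normalClosure ({x} : Set G) = ⊤) (M : Subgroup G)
    (hM : IsCoatom M) (hxM : x ∈ M) :
    3 * Nat.card {q : G ⧸ M // x • q = q} ≤ M.index := by
  obtain ⟨U, hUn, hUM, hN0U, hcomm⟩ := exists_U M hM
  exact core_case hp x hx hgen M hM.1 hxM U hUM hN0U hcomm

theorem coatom_case [Finite G] [Group.IsSolvable G] {p : ℕ} (hp : Odd p) (x : G)
    (hx : x ^ p = 1) (hgen : Subgroup.normalClosure ({x} : Set G) = ⊤) (M : Subgroup G)
    (hM : IsCoatom M) :
    3 * Nat.card {q : G ⧸ M // x • q = q} ≤ M.index := by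
  by_cases hfix : ∃ q : G ⧸ M, x • q = q
  · obtain ⟨q, hq⟩ := hfix
    obtain ⟨g, rfl⟩ := QuotientGroup.mk_surjective q
    rw [smul_mk_eq_iff] at hq
    rw [← card_fixed_conj M x g]
    exact coatom_case_mem hp (g⁻¹ * x * g) (conj_pow_eq_one x g hx)
      (normalClosure_conj_eq_top x g hgen) M hM hq
  · push Not at hfix
    have hemp : IsEmpty {q : G ⧸ M // x • q = q} := ⟨fun q => hfix q.1 q.2⟩
    rw [Nat.card_of_isEmpty, mul_zero]
    exact Nat.zero_le _

/-- **Module [PERM]**: in a solvable group generated by the conjugates of `x`, `x` of odd order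
dividing `p`, the element `x` fixes at most a third of the cosets of a proper subgroup. -/
theorem three_mul_card_fixed_le_index {G : Type*} [Group G] [Finite G] [Group.IsSolvable G]
    {p : ℕ} (hp : Odd p) (x : G) (hx : x ^ p = 1)
    (hgen : Subgroup.normalClosure ({x} : Set G) = ⊤) (H : Subgroup G) (hH : H ≠ ⊤) :
    3 * Nat.card {q : G ⧸ H // x • q = q} ≤ H.index := by
  obtain ⟨M, hMco, hHM⟩ := (eq_top_or_exists_le_coatom H).resolve_left hH
  exact mono_case x H M hHM (coatom_case hp x hx hgen M hMco)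

end wrapper

end Cfsg.Agent.Lib.Helper89.Flavell
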