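/-
helper89, project C2F4 (= S2369, helper69's sheet): modules C2F4-[XA-c] `borel_le_MA` and C2F4-[XA-d] `borel_conj_mem`.
`B` normalises `X_A` when `A` is `UStable`, and conjugation by `B` maps `x_r(c)`, `r ∈ A`, into `x_r(c') X_{A'}`.
-/
import Cfsg.Agent.Lib.Helper69.C2F4.Defs
import Cfsg.Agent.Lib.Helper91.HighRoot
import Cfsg.Agent.S1036
import Cfsg.Agent.S1043

set_option autoImplicit false

namespace Cfsg.Agent.Lib.Helper69.C2F4

open Cfsg.Lie Cfsg.Agent.Lib.Helper18 Cfsg.Agent.Lib.Helper91.ReeF4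

universe u

variable {K : Type u} [Field K]

/-- The generators of `X_A`. -/
theorem xG_mem_XA (A : List ℕ) (r : ℕ) (hr : r ∈ A) (c : K) : xG hD4 r c ∈ XA K A :=
  Subgroup.subset_closure ⟨r, hr, c, rfl⟩

/-- The positive roots of `F₄` have index at least `24`. -/
theorem pos_ge (s : ℕ) (hs : chevF4.IsPosRoot s) : s < 48 ∧ ¬ s < 24 := by
  have h : ∀ s < 48, chevF4.IsPosRoot s → ¬ s < 24 := by decide
  exact ⟨hs.1, h s hs.1 hs⟩

/-- The commutator word of a positive root `s` and a root `r ∈ A` lies in `X_{A'}` (characteristic 2). -/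
theorem commWord_mem [CharP K 2] (A A' : List ℕ) (hst : UStable chevF4 A A' = true)
    (s : ℕ) (hs : chevF4.IsPosRoot s) (r : ℕ) (hr : r ∈ A) (hrs : r ≠ s) (d c : K) :
    s + r + 1 ≠ 48 ∧ wordG hD4 (chevF4.commWord K s r d c) ∈ XA K A' := by
  obtain ⟨hs48, hs24⟩ := pos_ge s hs
  unfold UStable at hst
  rw [List.all_eq_true] at hst
  have h1 := hst s (List.mem_range.mpr hs48)
  rw [Bool.or_eq_true, decide_eq_true_eq] at h1
  have h2 := h1.resolve_left (by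
    show ¬ s < chevF4.nroots / 2
    exact hs24)
  rw [List.all_eq_true] at h2
  have h3 := h2 r hr
  rw [Bool.or_eq_true, beq_iff_eq] at h3
  have h4 := h3.resolve_left hrs
  rw [Bool.and_eq_true, decide_eq_true_eq, List.all_eq_true] at h4
  refine ⟨h4.1, ?_⟩
  apply Cfsg.Agent.Lib.Helper91.HighRoot.wordG_mem
  intro a ha
  unfold ChevalleyDatum.commWord at ha
  rw [List.mem_map] at ha
  obtain ⟨t, ht, rfl⟩ := ha
  have h5 := h4.2 t ht
  rw [Bool.or_eq_true, decide_eq_true_eq, decide_eq_true_eq] at h5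
  rcases h5 with h5 | h5
  · exact xG_mem_XA A' _ h5 _
  · have h2K : ((2 : ℕ) : K) = 0 := CharP.cast_eq_zero K 2
    have h0 : ((t.2.1 : ℤ) : K) = 0 :=
      Cfsg.Agent.Lib.Helper91.HighRoot.cast_eq_zero_of_emod 2 h2K _ h5
    simp only
    rw [h0, zero_mul, zero_mul, xG_zero]
    exact one_mem _

/-- Conjugation of `x_r(c)`, `r ∈ A`, by a positive root element. -/
theorem conj_pos_gen [CharP K 2] (A A' : List ℕ) (hA : ∀ r ∈ A, r < 48) (hst : UStable chevF4 A A' = true)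
    (s : ℕ) (hs : chevF4.IsPosRoot s) (d : K) (r : ℕ) (hr : r ∈ A) (c : K) :
    ∃ a ∈ XA K A', (xG hD4 s d)⁻¹ * xG hD4 r c * xG hD4 s d = xG hD4 r c * a := by
  by_cases hrs : r = s
  · subst hrs
    refine ⟨1, one_mem _, ?_⟩
    rw [xG_inv, xG_mul, xG_mul, mul_one]
    congr 1
    ring
  · obtain ⟨hsum, hmem⟩ := commWord_mem (K := K) A A' hst s hs r hr hrs d c
    refine ⟨_, hmem, ?_⟩
    have hs48 : s < chevF4.nroots := hs.1
    have hr48 : r < chevF4.nroots := hA r hr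
    have hs48' : s < 48 := hs.1
    have hne : r ≠ chevData_F4.{u}.T.neg s := by
      unfold FastDatum.neg
      rw [chevData_F4.{u}.nroots_eq]
      show r ≠ 48 - 1 - s
      omega
    have h1 := chevData_F4.{u}.comm K s r hs48 hr48 hrs hne d c
    have h2 : xG hD4 r c * xG hD4 s d = xG hD4 s d * xG hD4 r c * wordG hD4 (chevF4.commWord K s r d c) := by
      apply Units.ext
      rw [Units.val_mul, Units.val_mul, Units.val_mul, coe_xG, coe_xG, coe_wordG, h1]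
    rw [mul_assoc, h2, mul_assoc, inv_mul_cancel_left]

/-- Conjugation by the inverse of a positive root element maps `X_A` into itself. -/
theorem conj_pos_mem [CharP K 2] (A : List ℕ) (hA : ∀ r ∈ A, r < 48) (hst : UStable chevF4 A A = true)
    (s : ℕ) (hs : chevF4.IsPosRoot s) (d : K) (y : GL chevF4.Idx K) (hy : y ∈ XA K A) :
    (xG hD4 s d)⁻¹ * y * xG hD4 s d ∈ XA K A := by
  unfold XA at hy
  induction hy using Subgroup.closure_induction with
  | mem y hy =>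
    obtain ⟨r, hr, c, rfl⟩ := hy
    obtain ⟨a, ha, he⟩ := conj_pos_gen (K := K) A A hA hst s hs d r hr c
    rw [he]
    exact mul_mem (xG_mem_XA A r hr c) ha
  | one =>
    rw [mul_one, inv_mul_cancel]
    exact one_mem _
  | mul x y _ _ hx hy =>
    have e : (xG hD4 s d)⁻¹ * (x * y) * xG hD4 s d
        = ((xG hD4 s d)⁻¹ * x * xG hD4 s d) * ((xG hD4 s d)⁻¹ * y * xG hD4 s d) := by group
    rw [e]
    exact mul_mem hx hy
  | inv x _ hx =>
    have e : (xG hD4 s d)⁻¹ * x⁻¹ * xG hD4 s d = ((xG hD4 s d)⁻¹ * x * xG hD4 s d)⁻¹ := by group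
    rw [e]
    exact inv_mem hx

/-- Conjugation by an element of `H` maps `x_r(c)` to `x_r(c')`, and `c' ≠ 0` when `c ≠ 0`. -/
theorem conj_diag_gen (h : GL chevF4.Idx K) (hh : h ∈ chevF4.diagonalSubgroup K) (r : ℕ) (hr : r < 48) (c : K) :
    ∃ c' : K, (c ≠ 0 → c' ≠ 0) ∧ h * xG hD4 r c * h⁻¹ = xG hD4 r c' := by
  obtain ⟨c', hc'⟩ := Cfsg.Agent.S1036.conj_root_elem chevF4 hD4 h hh (xG hD4 r c) r hr c (coe_xG hD4 r c)
  have he : h * xG hD4 r c * h⁻¹ = xG hD4 r c' := Units.ext (by rw [hc', coe_xG])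
  refine ⟨c', ?_, he⟩
  intro hc hc0
  apply hc
  rw [hc0, xG_zero] at he
  have h1 : xG hD4 r c = 1 := by
    have : xG hD4 r c = h⁻¹ * (h * xG hD4 r c * h⁻¹) * h := by group
    rw [this, he]
    group
  rw [← xG_zero (F := K) hD4 r] at h1
  exact Cfsg.Agent.Lib.Helper91.HighRoot.xG_inj_param hD4 r hr c 0 h1

/-- Conjugation by an element of `H` maps `X_A` into itself. -/
theorem conj_diag_mem (A : List ℕ) (hA : ∀ r ∈ A, r < 48) (h : GL chevF4.Idx K)
    (hh : h ∈ chevF4.diagonalSubgroup K) (y : GL chevF4.Idx K) (hy : y ∈ XA K A) : h * y * h⁻¹ ∈ XA K A := by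
  unfold XA at hy
  induction hy using Subgroup.closure_induction with
  | mem y hy =>
    obtain ⟨r, hr, c, rfl⟩ := hy
    obtain ⟨c', -, he⟩ := conj_diag_gen (K := K) h hh r (hA r hr) c
    rw [he]
    exact xG_mem_XA A r hr c'
  | one =>
    rw [mul_one, mul_inv_cancel]
    exact one_mem _
  | mul x y _ _ hx hy =>
    have e : h * (x * y) * h⁻¹ = (h * x * h⁻¹) * (h * y * h⁻¹) := by group
    rw [e]
    exact mul_mem hx hy
  | inv x _ hx =>
    have e : h * x⁻¹ * h⁻¹ = (h * x * h⁻¹)⁻¹ := by group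
    rw [e]
    exact inv_mem hx

/-- `U` normalises `X_A`. -/
theorem posUnipotent_le_normalizer_XA [CharP K 2] (A : List ℕ) (hA : ∀ r ∈ A, r < 48)
    (hst : UStable chevF4 A A = true) :
    chevF4.posUnipotent K ≤ Subgroup.normalizer (XA K A : Set (GL chevF4.Idx K)) := by
  unfold ChevalleyDatum.posUnipotent
  rw [Subgroup.closure_le]
  rintro g ⟨s, d, hs, hg⟩
  have hg' : g = xG hD4 s d := Units.ext hg
  subst hg'
  apply Cfsg.Agent.Lib.Helper91.HighRoot.mem_normalizer_of_conj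
  · intro y hy
    have := conj_pos_mem (K := K) A hA hst s hs (-d) y hy
    rwa [← xG_inv, inv_inv] at this
  · intro y hy
    exact conj_pos_mem (K := K) A hA hst s hs d y hy

/-- `H` normalises `X_A`. -/
theorem diagonal_le_normalizer_XA (A : List ℕ) (hA : ∀ r ∈ A, r < 48) :
    chevF4.diagonalSubgroup K ≤ Subgroup.normalizer (XA K A : Set (GL chevF4.Idx K)) := by
  intro h hh
  apply Cfsg.Agent.Lib.Helper91.HighRoot.mem_normalizer_of_conj
  · intro y hy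
    exact conj_diag_mem A hA h hh y hy
  · intro y hy
    have := conj_diag_mem A hA h⁻¹ (inv_mem hh) y hy
    rwa [inv_inv] at this

/-- C2F4-[XA] (c).  `B` normalises `X_A`. -/
theorem borel_le_MA [CharP K 2] (A : List ℕ) (hA : ∀ r ∈ A, r < 48) (hst : UStable chevF4 A A = true) :
    chevF4.borelSubgroup K ≤ MA K A := by
  unfold MA
  refine le_inf ?_ (Cfsg.Agent.S1043.result chevF4 hD4).1
  unfold ChevalleyDatum.borelSubgroup
  exact sup_le (posUnipotent_le_normalizer_XA A hA hst) (diagonal_le_normalizer_XA A hA)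

/-- The two-sided conjugation property of an element of `B` on the root elements `x_r(c)`, `c ≠ 0`. -/
def ConjProp (K : Type u) [Field K] (A' : List ℕ) (r : ℕ) (b : GL chevF4.Idx K) : Prop :=
  ∀ c : K, c ≠ 0 → (∃ c' : K, c' ≠ 0 ∧ ∃ a ∈ XA K A', b * xG hD4 r c * b⁻¹ = xG hD4 r c' * a) ∧
    (∃ c' : K, c' ≠ 0 ∧ ∃ a ∈ XA K A', b⁻¹ * xG hD4 r c * b = xG hD4 r c' * a)

theorem conjProp_one (A' : List ℕ) (r : ℕ) : ConjProp K A' r 1 := by
  intro c hc
  exact ⟨⟨c, hc, 1, one_mem _, by group⟩, ⟨c, hc, 1, one_mem _, by group⟩⟩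

theorem conjProp_inv (A' : List ℕ) (r : ℕ) (b : GL chevF4.Idx K) (hb : ConjProp K A' r b) :
    ConjProp K A' r b⁻¹ := by
  intro c hc
  obtain ⟨h1, h2⟩ := hb c hc
  refine ⟨?_, ?_⟩
  · rw [inv_inv]; exact h2
  · rw [inv_inv]; exact h1

theorem conjProp_mul (A' : List ℕ) (r : ℕ) (b₁ b₂ : GL chevF4.Idx K)
    (hn₁ : b₁ ∈ Subgroup.normalizer (XA K A' : Set (GL chevF4.Idx K)))
    (hn₂ : b₂ ∈ Subgroup.normalizer (XA K A' : Set (GL chevF4.Idx K)))
    (hb₁ : ConjProp K A' r b₁) (hb₂ : ConjProp K A' r b₂) : ConjProp K A' r (b₁ * b₂) := by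
  intro c hc
  refine ⟨?_, ?_⟩
  · obtain ⟨c₂, hc₂, a₂, ha₂, he₂⟩ := (hb₂ c hc).1
    obtain ⟨c₁, hc₁, a₁, ha₁, he₁⟩ := (hb₁ c₂ hc₂).1
    refine ⟨c₁, hc₁, a₁ * (b₁ * a₂ * b₁⁻¹), mul_mem ha₁ ((Subgroup.mem_normalizer_iff.mp hn₁ a₂).mp ha₂), ?_⟩
    have e : b₁ * b₂ * xG hD4 r c * (b₁ * b₂)⁻¹ = b₁ * (b₂ * xG hD4 r c * b₂⁻¹) * b₁⁻¹ := by group
    rw [e, he₂]
    have e' : b₁ * (xG hD4 r c₂ * a₂) * b₁⁻¹ = (b₁ * xG hD4 r c₂ * b₁⁻¹) * (b₁ * a₂ * b₁⁻¹) := by group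
    rw [e', he₁, mul_assoc]
  · obtain ⟨c₁, hc₁, a₁, ha₁, he₁⟩ := (hb₁ c hc).2
    obtain ⟨c₂, hc₂, a₂, ha₂, he₂⟩ := (hb₂ c₁ hc₁).2
    have hn₂' := inv_mem hn₂
    have hmem : b₂⁻¹ * a₁ * b₂ ∈ XA K A' := by
      have := (Subgroup.mem_normalizer_iff.mp hn₂' a₁).mp ha₁
      rwa [inv_inv] at this
    refine ⟨c₂, hc₂, a₂ * (b₂⁻¹ * a₁ * b₂), mul_mem ha₂ hmem, ?_⟩
    have e : (b₁ * b₂)⁻¹ * xG hD4 r c * (b₁ * b₂) = b₂⁻¹ * (b₁⁻¹ * xG hD4 r c * b₁) * b₂ := by group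
    rw [e, he₁]
    have e' : b₂⁻¹ * (xG hD4 r c₁ * a₁) * b₂ = (b₂⁻¹ * xG hD4 r c₁ * b₂) * (b₂⁻¹ * a₁ * b₂) := by group
    rw [e', he₂, mul_assoc]

/-- C2F4-[XA] (d).  Conjugation by `B` on `x_r(c) X_{A'}`. -/
theorem borel_conj_mem [CharP K 2] (A A' : List ℕ) (hA : ∀ r ∈ A, r < 48) (hA' : ∀ r ∈ A', r < 48)
    (hst : UStable chevF4 A A' = true) (hst' : UStable chevF4 A' A' = true) (b : GL chevF4.Idx K)
    (hb : b ∈ chevF4.borelSubgroup K) (r : ℕ) (hr : r ∈ A) (c : K) (hc : c ≠ 0) :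
    ∃ c' : K, c' ≠ 0 ∧ ∃ a ∈ XA K A', b * xG hD4 r c * b⁻¹ = xG hD4 r c' * a := by
  have hBN : chevF4.borelSubgroup K ≤ Subgroup.normalizer (XA K A' : Set (GL chevF4.Idx K)) :=
    le_trans (borel_le_MA A' hA' hst') inf_le_left
  have hU : ∀ (s : ℕ) (d : K), chevF4.IsPosRoot s → ConjProp K A' r (xG hD4 s d) := by
    intro s d hs c hc
    refine ⟨?_, ?_⟩
    · obtain ⟨a, ha, he⟩ := conj_pos_gen (K := K) A A' hA hst s hs (-d) r hr c
      rw [← xG_inv, inv_inv] at he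
      exact ⟨c, hc, a, ha, he⟩
    · obtain ⟨a, ha, he⟩ := conj_pos_gen (K := K) A A' hA hst s hs d r hr c
      exact ⟨c, hc, a, ha, he⟩
  have hH : ∀ h ∈ chevF4.diagonalSubgroup K, ConjProp K A' r h := by
    intro h hh c hc
    refine ⟨?_, ?_⟩
    · obtain ⟨c', hc', he⟩ := conj_diag_gen (K := K) h hh r (hA r hr) c
      exact ⟨c', hc' hc, 1, one_mem _, by rw [he, mul_one]⟩
    · obtain ⟨c', hc', he⟩ := conj_diag_gen (K := K) h⁻¹ (inv_mem hh) r (hA r hr) c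
      rw [inv_inv] at he
      exact ⟨c', hc' hc, 1, one_mem _, by rw [he, mul_one]⟩
  have key : ConjProp K A' r b := by
    have hb' : b ∈ Subgroup.closure
        ({g : GL chevF4.Idx K | ∃ (r : ℕ) (t : K), chevF4.IsPosRoot r ∧ (g : Matrix chevF4.Idx chevF4.Idx K) = chevF4.x K r t} ∪
          (chevF4.diagonalSubgroup K : Set (GL chevF4.Idx K))) := by
      rw [Subgroup.closure_union, Subgroup.closure_eq]
      exact hb
    have hle : Subgroup.closure
        ({g : GL chevF4.Idx K | ∃ (r : ℕ) (t : K), chevF4.IsPosRoot r ∧ (g : Matrix chevF4.Idx chevF4.Idx K) = chevF4.x K r t} ∪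
          (chevF4.diagonalSubgroup K : Set (GL chevF4.Idx K))) ≤ chevF4.borelSubgroup K := by
      rw [Subgroup.closure_union, Subgroup.closure_eq]
      exact le_refl _
    induction hb' using Subgroup.closure_induction with
    | mem g hg =>
      rcases hg with ⟨s, d, hs, hg⟩ | hg
      · have hg' : g = xG hD4 s d := Units.ext hg
        rw [hg']
        exact hU s d hs
      · exact hH g hg
    | one => exact conjProp_one A' r
    | mul x y hx hy ihx ihy =>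
      exact conjProp_mul A' r x y (hBN (hle hx)) (hBN (hle hy)) (ihx (hle hx)) (ihy (hle hy))
    | inv x hx ihx => exact conjProp_inv A' r x (ihx (hle hx))
  exact (key c hc).1

end Cfsg.Agent.Lib.Helper69.C2F4
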