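/-
helper89, project C2F4 (= S2369, helper69's sheet): module C2F4-[CENTGEN] `exists_bruhat_of_conj`, in `_of` form
(the statement of C2F4-[SUPP] `supp_of_conj` is a hypothesis).
-/
import Cfsg.Agent.Lib.Helper69.C2F4.Defs
import Cfsg.Agent.Lib.Helper18.Bruhat1

set_option autoImplicit false

namespace Cfsg.Agent.Lib.Helper89.C2F4

open Cfsg.Lie Cfsg.Agent.Lib.Helper18 Cfsg.Agent.Lib.Helper91.ReeF4 Cfsg.Agent.Lib.Helper69.C2F4
  Cfsg.Agent.Lib.Helper18.F4T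

universe u

variable {K : Type u} [Field K]

/-- C2F4-[CENTGEN] with the statement of C2F4-[SUPP] (for the given `A`) as a hypothesis. -/
theorem exists_bruhat_of_conj_of (A : List ℕ)
    (hsupp : ∀ (ws : List ℕ), (∀ i ∈ ws, i < 4) → ∀ (t t' : ℕ → K),
      nW hD4 chevData_F4.{u} ws * prodL hD4 A t * (nW hD4 chevData_F4.{u} ws)⁻¹ = prodL hD4 A t' →
      ∀ r ∈ A, t r ≠ 0 → wordRootF f4tabs ws r ∈ A)
    (R : List ℕ) (hR : ∀ r ∈ R, r ∈ A) (T : Set (GL chevF4.Idx K))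
    (hT : ∀ y ∈ T, ∃ t : ℕ → K, y = prodL hD4 A t ∧ ∀ r ∈ R, t r ≠ 0)
    (hTB : ∀ y ∈ T, ∀ b ∈ chevF4.borelSubgroup K, b * y * b⁻¹ ∈ T)
    (g : GL chevF4.Idx K) (hg : g ∈ chevF4.group K) (y : GL chevF4.Idx K) (hy : y ∈ T) (hgy : g * y * g⁻¹ ∈ T) :
    ∃ b ∈ chevF4.borelSubgroup K, ∃ b' ∈ chevF4.borelSubgroup K, ∃ ws : List ℕ, (∀ i ∈ ws, i < 4) ∧
      g = b * nW hD4 chevData_F4.{u} ws * b' ∧ ∀ r ∈ R, wordRootF f4tabs ws r ∈ A := by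
  obtain ⟨L⟩ := nonempty_levelData chevF4 hD4
  obtain ⟨b, hb, n, hn, u, hu, hgbnu⟩ := exists_bruhat_form hD4 chevData_F4.{u} L g hg
  obtain ⟨ws, h, hws, hh, hnw⟩ := isWordH_of_mem_monomial hD4 chevData_F4.{u} n hn
  have huB : u ∈ chevF4.borelSubgroup K :=
    (le_sup_left : chevF4.posUnipotent K ≤ chevF4.borelSubgroup K) (closure_UnegSet_le chevF4 n hu)
  have hhB : h ∈ chevF4.borelSubgroup K :=
    (le_sup_right : chevF4.diagonalSubgroup K ≤ chevF4.borelSubgroup K) hh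
  have hb'B : h * u ∈ chevF4.borelSubgroup K := mul_mem hhB huB
  have hge : g = b * nW hD4 chevData_F4.{u} ws * (h * u) := by
    rw [hgbnu, hnw]; group
  have hy₁ : (h * u) * y * (h * u)⁻¹ ∈ T := hTB y hy _ hb'B
  have hy₂ : b⁻¹ * (g * y * g⁻¹) * b⁻¹⁻¹ ∈ T := hTB _ hgy _ (inv_mem hb)
  obtain ⟨t, ht, htR⟩ := hT _ hy₁
  obtain ⟨t', ht', -⟩ := hT _ hy₂
  have hconj : nW hD4 chevData_F4.{u} ws * prodL hD4 A t * (nW hD4 chevData_F4.{u} ws)⁻¹ = prodL hD4 A t' := by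
    rw [← ht, ← ht']
    conv_rhs => rw [hge]
    group
  refine ⟨b, hb, h * u, hb'B, ws, hws, hge, ?_⟩
  intro r hr
  exact hsupp ws hws t t' hconj r (hR r hr) (htR r hr)

end Cfsg.Agent.Lib.Helper89.C2F4
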