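/-
helper89, project C2F4 (= S2369, helper69's sheet): module C2F4-[CENTGEN] `exists_bruhat_of_conj`, exact sheet statement
(from `exists_bruhat_of_conj_of` and helper69's [SUPP]).
-/
import Cfsg.Agent.Lib.Helper89.C2F4CentGenOf
import Cfsg.Agent.Lib.Helper69.C2F4.Supp

set_option autoImplicit false

namespace Cfsg.Agent.Lib.Helper69.C2F4

open Cfsg.Lie Cfsg.Agent.Lib.Helper18 Cfsg.Agent.Lib.Helper91.ReeF4 Cfsg.Agent.Lib.Helper18.F4T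

universe u

variable {K : Type u} [Field K]

/-- C2F4-[CENTGEN]. -/
theorem exists_bruhat_of_conj [CharP K 2] (A : List ℕ) (hA : ∀ r ∈ A, r < 48) (hnd : A.Nodup)
    (hsp : Spread chevF4 A = true) (R : List ℕ) (hR : ∀ r ∈ R, r ∈ A) (T : Set (GL chevF4.Idx K))
    (hT : ∀ y ∈ T, ∃ t : ℕ → K, y = prodL hD4 A t ∧ ∀ r ∈ R, t r ≠ 0)
    (hTB : ∀ y ∈ T, ∀ b ∈ chevF4.borelSubgroup K, b * y * b⁻¹ ∈ T)
    (g : GL chevF4.Idx K) (hg : g ∈ chevF4.group K) (y : GL chevF4.Idx K) (hy : y ∈ T) (hgy : g * y * g⁻¹ ∈ T) :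
    ∃ b ∈ chevF4.borelSubgroup K, ∃ b' ∈ chevF4.borelSubgroup K, ∃ ws : List ℕ, (∀ i ∈ ws, i < 4) ∧
      g = b * nW hD4 chevData_F4.{u} ws * b' ∧ ∀ r ∈ R, wordRootF f4tabs ws r ∈ A :=
  Cfsg.Agent.Lib.Helper89.C2F4.exists_bruhat_of_conj_of A
    (fun ws hws t t' h => supp_of_conj A hA hnd hsp ws hws t t' h) R hR T hT hTB g hg y hy hgy

end Cfsg.Agent.Lib.Helper69.C2F4
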