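import Mathlib
import Cfsg.Agent.Lib.Helper7.M24OctStab

/-!
# No element of `M24` induces a transposition on an octad

Module [NOTRANSP] for S2136 (helper8): an element of `M24` fixing six points of the octad
`setOf octO` cannot interchange the remaining two.
-/

set_option autoImplicit false

namespace Cfsg.Agent.Lib.Helper89
open Cfsg Cfsg.Agent.Lib.Helper7
open scoped Pointwise

/-- The five points of `octO` (other than `none`, `some 0`) moved to the base. -/
def ntFive (j : ℕ) : GolayPt := ([some 1, some 2, some 3, some 5, some 14] : List GolayPt).getD j none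

theorem ntFive_inj : ∀ a < 5, ∀ b < 5, ntFive a = ntFive b → a = b := by decide

theorem ntFive_mem : ∀ j < 5, ntFive j ∈ setOf octO ∧ ntFive j ≠ none ∧ ntFive j ≠ some 0 := by
  decide

theorem none_mem_octO : (none : GolayPt) ∈ setOf octO := by decide

theorem zero_mem_octO : (some 0 : GolayPt) ∈ setOf octO := by decide

/-- The finset of the five points. -/
def ntFiveSet : Finset GolayPt := {some 1, some 2, some 3, some 5, some 14}

theorem ntFiveSet_sub : ntFiveSet ⊆ setOf octO := by decide

theorem ntFiveSet_card : 5 ≤ ntFiveSet.card := by decide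

theorem ntFiveSet_mem : ∀ p ∈ ntFiveSet, ∃ j < 5, p = ntFive j := by decide

/-- An element of `M24` fixing the first five base points cannot interchange two points of
`octO`. -/
theorem no_swap_of_fixes_base5 (ρ : Equiv.Perm GolayPt) (hρ : ρ ∈ M24)
    (hfix : ∀ j < 5, ρ (bp j) = bp j) (a b : GolayPt) (ha : a ∈ setOf octO)
    (hb : b ∈ setOf octO) (hab : a ≠ b) (h1 : ρ a = b) (h2 : ρ b = a) : False := by
  have hok := orbitOK_of_fixes hρ (i := 5) (by decide) hfix
  obtain ⟨hmem, hmap, _⟩ := octStabElem_spec (idx_lt (ρ (bp 5))) hok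
  rw [pt_idx] at hmap
  set u := octStabElem (idx (ρ (bp 5))) with hu
  have huO : ∀ p ∈ setOf octO, u p = p := (mem_fixM24.mp hmem).2
  have huM : u ∈ M24 := (mem_fixM24.mp hmem).1
  have hg : u * ρ ∈ Gst 6 := by
    rw [mem_Gst]
    refine ⟨M24.mul_mem huM hρ, fun j hj => ?_⟩
    rw [Equiv.Perm.mul_apply]
    by_cases hj5 : j < 5
    · rw [hfix j hj5]
      exact huO _ (bp_mem_setOf_octO (by omega) (by omega))
    · have : j = 5 := by omega
      subst this
      rw [hmap]; rfl
  have h3 : (u * ρ) ^ 3 = 1 := by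
    have := pow_card_eq_one' (G := Gst 6) (x := ⟨u * ρ, hg⟩)
    rw [card_Gst_6] at this
    have h := congrArg (Subtype.val) this
    simpa using h
  have hga : (u * ρ) a = b := by
    rw [Equiv.Perm.mul_apply, h1]; exact huO b hb
  have hgb : (u * ρ) b = a := by
    rw [Equiv.Perm.mul_apply, h2]; exact huO a ha
  have : ((u * ρ) ^ 3) a = b := by
    rw [pow_succ, pow_succ, pow_one, Equiv.Perm.mul_apply, Equiv.Perm.mul_apply, hga, hgb, hga]
  rw [h3] at this
  exact hab this

/-- No element of `M24` induces a transposition on the octad `setOf octO`. -/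
theorem no_transposition_on_octO (σ : Equiv.Perm GolayPt) (hσ : σ ∈ M24)
    (hfix : ∀ p ∈ setOf octO, p ≠ none → p ≠ some 0 → σ p = p) (h1 : σ none = some 0) :
    False := by
  have hO : setOf octO ∈ octads := setOf_mem_octads isOctadMask_octO
  -- `σ` fixes the five points
  have hfix5 : ∀ j < 5, σ (ntFive j) = ntFive j := fun j hj =>
    hfix _ (ntFive_mem j hj).1 (ntFive_mem j hj).2.1 (ntFive_mem j hj).2.2
  -- `σ` preserves the octad
  have hσO : σ • setOf octO = setOf octO := by
    refine smul_octad_eq_of_fixes hσ hO ntFiveSet_sub ntFiveSet_card ?_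
    intro p hp
    obtain ⟨j, hj, rfl⟩ := ntFiveSet_mem p hp
    exact hfix5 j hj
  -- hence `σ (some 0) = none`
  have h0mem : σ (some 0) ∈ setOf octO := by
    rw [← hσO, apply_mem_perm_smul_finset]; exact zero_mem_octO
  have h2 : σ (some 0) = none := by
    by_contra hne
    by_cases h0 : σ (some 0) = some 0
    · have := σ.injective (h0.trans h1.symm)
      exact absurd this (by decide)
    · have := hfix _ h0mem hne h0
      exact h0 (σ.injective this)
  -- move the five points to the base
  obtain ⟨τ, hτ, hτx⟩ := exists_map_to_base 5 (le_refl 5) ntFive ntFive_inj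
  have hτO : τ • setOf octO = setOf octO := by
    refine smul_octad_eq_of_maps hτ hO hO ntFiveSet_sub ntFiveSet_card ?_
    intro p hp
    obtain ⟨j, hj, rfl⟩ := ntFiveSet_mem p hp
    rw [hτx j hj]
    exact bp_mem_setOf_octO (by omega) (by omega)
  have hτmem : ∀ p ∈ setOf octO, τ p ∈ setOf octO := by
    intro p hp
    rw [← hτO, apply_mem_perm_smul_finset]; exact hp
  refine no_swap_of_fixes_base5 (τ * σ * τ⁻¹) (M24.mul_mem (M24.mul_mem hτ hσ) (M24.inv_mem hτ))
    ?_ (τ none) (τ (some 0)) (hτmem _ none_mem_octO) (hτmem _ zero_mem_octO) ?_ ?_ ?_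
  · intro j hj
    have : τ⁻¹ (bp j) = ntFive j := by
      rw [← hτx j hj]; simp
    rw [Equiv.Perm.mul_apply, Equiv.Perm.mul_apply, this, hfix5 j hj, hτx j hj]
  · intro h
    exact absurd (τ.injective h) (by decide)
  · rw [Equiv.Perm.mul_apply, Equiv.Perm.mul_apply]
    simp [h1]
  · rw [Equiv.Perm.mul_apply, Equiv.Perm.mul_apply]
    simp [h2]

end Cfsg.Agent.Lib.Helper89
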