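import Mathlib
import Cfsg.Agent.Lib.Helper30.BSW.Defs
import Cfsg.Agent.Lib.Helper84.BSWReal

/-!
# Abstract Brauer–Suzuki–Wall, case `δ = -1`: `q = 2k - 1` is a prime power (core of module [F2d])
(helper89, for helper30's S3282).  The core takes the conclusions of [F2a] and [F2c] as hypotheses.
-/

set_option autoImplicit false
set_option linter.unusedSectionVars false

namespace Cfsg.Agent.Lib.Helper89.BSW

open Cfsg Cfsg.Agent.Lib.Helper30.BSW

variable {G : Type*} [Group G] {t s : G} {K : Subgroup G}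

theorem orderOf_conj_eq (g z : G) : orderOf (g * z * g⁻¹) = orderOf z := by
  rw [← MulAut.conj_apply]
  exact MulEquiv.orderOf_eq (MulAut.conj g) z

theorem orderOf_eq_of_isConj {z y : G} (hc : IsConj z y) : orderOf z = orderOf y := by
  obtain ⟨g, hg⟩ := isConj_iff.mp hc
  rw [← hg, orderOf_conj_eq]

theorem neg_prime_core [Finite G] (h : Hyp t s K) (b : Basic t s K) (hk : 4 ≤ Nat.card K)
    {Χ : G → ℂ} (p : PartI K (-1) Χ)
    (hA : (∀ x : G, IsOuter K x → Χ x = 0 ∨ Χ x = 1) ∧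
      Nat.card {x : G // IsOuter K x ∧ Χ x = 0} = (2 * Nat.card K - 1) ^ 2 - 1 ∧
      Nat.card {x : G // IsOuter K x ∧ Χ x = 1} =
        (2 * Nat.card K - 1) * Nat.card K * (Nat.card K - 2))
    (hC : (∀ x : G, IsOuter K x → Χ x = 0 → ∀ y ∈ Subgroup.centralizer ({x} : Set G), y ≠ 1 →
        IsOuter K y ∧ Χ y = 0) ∧
      (∀ x : G, IsOuter K x → Χ x = 0 →
        Nat.card (Subgroup.centralizer ({x} : Set G)) = 2 * Nat.card K - 1) ∧
      (∀ x y : G, IsOuter K x → Χ x = 0 → IsOuter K y → Χ y = 0 → IsConj y x ∨ IsConj y x⁻¹)) :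
    ∃ r a : ℕ, r.Prime ∧ 2 * Nat.card K - 1 = r ^ a ∧
      (∀ x : G, IsOuter K x → Χ x = 0 → orderOf x = r) ∧
      (∀ z : G, z ≠ 1 → (∃ j : ℕ, orderOf z = r ^ j) → IsOuter K z ∧ Χ z = 0) := by
  classical
  obtain ⟨hA1, hA2, -⟩ := hA
  obtain ⟨hC1, hC2, hC3⟩ := hC
  obtain ⟨k, hkdef⟩ : ∃ k, k = Nat.card K := ⟨_, rfl⟩
  rw [← hkdef] at hk hA2 hC2 ⊢
  -- `O_n` is nonempty
  have hpos : 0 < Nat.card {x : G // IsOuter K x ∧ Χ x = 0} := by
    rw [hA2]
    have h7 : 7 ≤ 2 * k - 1 := by omega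
    have h49 : 7 ^ 2 ≤ (2 * k - 1) ^ 2 := Nat.pow_le_pow_left h7 2
    omega
  obtain ⟨⟨x, hxo, hxΧ⟩⟩ : Nonempty {x : G // IsOuter K x ∧ Χ x = 0} :=
    (Nat.card_pos_iff.mp hpos).1
  have hx1 : x ≠ 1 := by
    intro h1
    apply hxo 1
    rw [h1]
    simp
  have hox1 : orderOf x ≠ 1 := fun h1 => hx1 (orderOf_eq_one_iff.mp h1)
  obtain ⟨r, hr⟩ : ∃ r, r = (orderOf x).minFac := ⟨_, rfl⟩
  have hrp : r.Prime := by rw [hr]; exact Nat.minFac_prime hox1
  have hrdvd : r ∣ orderOf x := by rw [hr]; exact Nat.minFac_dvd _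
  obtain ⟨y, hy⟩ : ∃ y, y = x ^ (orderOf x / r) := ⟨_, rfl⟩
  have hyord : orderOf y = r := by
    rw [hy]
    exact orderOf_pow_orderOf_div (orderOf_pos x).ne' hrdvd
  have hy1 : y ≠ 1 := by
    intro h1
    rw [h1, orderOf_one] at hyord
    exact hrp.one_lt.ne hyord
  have hyC : y ∈ Subgroup.centralizer ({x} : Set G) := by
    rw [Subgroup.mem_centralizer_singleton_iff, hy]
    exact (Commute.pow_left (Commute.refl x) _).eq
  obtain ⟨hyo, hyΧ⟩ := hC1 x hxo hxΧ y hyC hy1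
  -- all elements of `O_n` have order `r`
  have hord : ∀ z : G, IsOuter K z → Χ z = 0 → orderOf z = r := by
    intro z hzo hzΧ
    rcases hC3 y z hyo hyΧ hzo hzΧ with hc | hc
    · rw [← hyord]
      exact orderOf_eq_of_isConj hc
    · rw [← hyord, ← orderOf_inv y]
      exact orderOf_eq_of_isConj hc
  -- `C(x)` is an `r`-group of order `q`
  have hCcard : Nat.card (Subgroup.centralizer ({x} : Set G)) = 2 * k - 1 := hC2 x hxo hxΧ
  have : Fact r.Prime := ⟨hrp⟩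
  have hPG : IsPGroup r (Subgroup.centralizer ({x} : Set G)) := by
    intro g
    by_cases hg1 : (g : G) = 1
    · refine ⟨0, ?_⟩
      rw [pow_zero, pow_one]
      exact Subtype.ext hg1
    · refine ⟨1, ?_⟩
      obtain ⟨hgo, hgΧ⟩ := hC1 x hxo hxΧ (g : G) g.2 hg1
      have h3 := hord (g : G) hgo hgΧ
      apply Subtype.ext
      rw [pow_one, Subgroup.coe_pow, Subgroup.coe_one, ← h3]
      exact pow_orderOf_eq_one _
  obtain ⟨a, ha⟩ := hPG.exists_card_eq
  rw [hCcard] at ha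
  have ha0 : a ≠ 0 := by
    intro h0
    rw [h0, pow_zero] at ha
    omega
  have hrq : r ∣ 2 * k - 1 := by
    rw [ha]
    exact dvd_pow_self r ha0
  refine ⟨r, a, hrp, ha, hord, ?_⟩
  rintro z hz1 ⟨j, hj⟩
  have hj0 : j ≠ 0 := by
    intro h0
    rw [h0, pow_zero] at hj
    exact hz1 (orderOf_eq_one_iff.mp hj)
  have hrz : r ∣ orderOf z := by
    rw [hj]
    exact dvd_pow_self r hj0
  have hzo : IsOuter K z := by
    intro g hg
    have h1 : orderOf (g * z * g⁻¹) = orderOf z := orderOf_conj_eq g z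
    have h2 := Subgroup.orderOf_dvd_natCard K hg
    rw [h1, ← hkdef] at h2
    have h3 : r ∣ k := hrz.trans h2
    have h4 : r ∣ 2 * k := Dvd.dvd.mul_left h3 2
    have h5 : r ∣ 1 := by
      have h6 : 2 * k = (2 * k - 1) + 1 := by omega
      rw [h6] at h4
      exact (Nat.dvd_add_right hrq).mp h4
    exact hrp.one_lt.ne' (Nat.dvd_one.mp h5)
  refine ⟨hzo, ?_⟩
  rcases hA1 z hzo with h0 | h1
  · exact h0
  · exfalso
    -- `rinv z = k - 1 ≠ 0`
    have hout := p.hout z hzo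
    rw [if_neg (by norm_num : ¬ ((-1 : ℤ) = 1)), h1, mul_one, ← hkdef] at hout
    have hrinv : rinv z = k - 1 := by
      have h2 : ((rinv z : ℕ) : ℂ) = ((k - 1 : ℕ) : ℂ) := by
        rw [hout, Nat.cast_sub (by omega), Nat.cast_one]
      exact_mod_cast h2
    have hne : Nonempty {u : G // orderOf u = 2 ∧ u * z * u⁻¹ = z⁻¹} := by
      have h3 : 0 < Nat.card {u : G // orderOf u = 2 ∧ u * z * u⁻¹ = z⁻¹} := by
        show 0 < rinv z
        rw [hrinv]
        omega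
      exact (Nat.card_pos_iff.mp h3).1
    obtain ⟨⟨u, hu2, huz⟩⟩ := hne
    obtain ⟨-, -, hcard⟩ := Cfsg.Agent.Lib.Helper84.BSWReal.real_outer h b hzo hu2 huz
    have hzC : z ∈ Subgroup.centralizer ({z} : Set G) := by
      rw [Subgroup.mem_centralizer_singleton_iff]
    have h4 := Subgroup.orderOf_dvd_natCard _ hzC
    rw [← hcard, hrinv] at h4
    have h5 : r ∣ k - 1 := hrz.trans h4
    have h6 : r ∣ 2 * (k - 1) := Dvd.dvd.mul_left h5 2
    have h7 : r ∣ 1 := by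
      have h8 : 2 * k - 1 = 2 * (k - 1) + 1 := by omega
      rw [h8] at hrq
      exact (Nat.dvd_add_right h6).mp hrq
    exact hrp.one_lt.ne' (Nat.dvd_one.mp h7)

end Cfsg.Agent.Lib.Helper89.BSW
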