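/-
helper89: project STEINBERG phase 3 (helper60), module ST3-[SEP]: torus separation of two roots `s ≠ ± r` by a coweight,
for the seven tabulated data (Boolean check on the packed Cartan and coroot tables).
-/
import Cfsg.Agent.Lib.Helper60.St3Defs
import Cfsg.Agent.Lib.Helper18.ChevDataAll
import Cfsg.Agent.Lib.Helper18.BN1

set_option autoImplicit false

namespace Cfsg.Agent.Lib.Helper89.St3

open Cfsg.Lie Cfsg.Agent.Lib.Helper35.St Cfsg.Agent.Lib.Helper60.St3 Cfsg.Agent.Lib.Helper18

variable {D : ChevalleyDatum}

/-- The pairing is linear in the coweight. -/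
theorem pair_lin (D : ChevalleyDatum) (a b : ℤ) (m₁ m₂ : ℕ → ℤ) (x : ℕ) :
    pair D (fun i => a * m₁ i - b * m₂ i) x = a * pair D m₁ x - b * pair D m₂ x := by
  unfold pair
  induction (List.range D.rank) with
  | nil => simp
  | cons i l ih =>
    simp only [List.map_cons, List.sum_cons]
    rw [ih]
    ring

theorem pair_add (D : ChevalleyDatum) (m₁ m₂ : ℕ → ℤ) (x : ℕ) :
    pair D (fun i => m₁ i + m₂ i) x = pair D m₁ x + pair D m₂ x := by
  unfold pair
  induction (List.range D.rank) with
  | nil => simp
  | cons i l ih =>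
    simp only [List.map_cons, List.sum_cons]
    rw [ih]
    ring

theorem sum_range_single (f : ℕ → ℤ) (i : ℕ) (c : ℤ) (n : ℕ) :
    ((List.range n).map fun k => (if k = i then c else 0) * f k).sum = if i < n then c * f i else 0 := by
  induction n with
  | zero => simp
  | succ n ih =>
    rw [List.range_succ, List.map_append, List.sum_append, ih]
    simp only [List.map_cons, List.map_nil, List.sum_cons, List.sum_nil, add_zero]
    by_cases h1 : i < n
    · have h2 : ¬ n = i := by omega
      have h3 : i < n + 1 := by omega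
      simp [h1, h2, h3]
    · by_cases h2 : n = i
      · subst h2
        simp
      · have h3 : ¬ i < n + 1 := by omega
        simp [h1, h2, h3]

theorem pair_single (D : ChevalleyDatum) (i : ℕ) (hi : i < D.rank) (c : ℤ) (s : ℕ) :
    pair D (fun k => if k = i then c else 0) s = c * D.cartan i s := by
  unfold pair
  rw [sum_range_single (fun k => D.cartan k s) i c D.rank, if_pos hi]

/-- The pairing `⟨x, r∨⟩` read off the packed tables. -/
def nF (T : FastDatum) (x r : ℕ) : ℤ := ((List.range T.rank).map fun i => T.coroot r i * T.cartan i x).sum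

theorem pair_eq_nF (C : ChevData.{0} D) (r x : ℕ) (hx : x < D.nroots) :
    pair D (fun i => C.T.coroot r i) x = nF C.T x r := by
  unfold pair nF
  rw [C.rank_eq]
  congr 1
  apply List.map_congr_left
  intro i hi
  rw [C.T.cartan_eq D C.hag i (List.mem_range.1 hi) x hx]

/-- Table check for the torus separation. -/
def sepOK (T : FastDatum) : Bool :=
  (List.range T.nroots).all fun r =>
    decide (nF T r r = 2) &&
    (List.range T.nroots).all fun s =>
      s == r || s == T.neg r || decide (nF T r s = 0) ||
        (decide (nF T r s * nF T s r = 1) || decide (nF T r s * nF T s r = 2) ||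
          decide (nF T r s * nF T s r = 3))

theorem sep_of_ok (C : ChevData.{0} D) (h : sepOK C.T = true) : Sep D := by
  intro r s hr hs hsr hsn
  unfold sepOK at h
  rw [List.all_eq_true] at h
  have hn := C.nroots_eq
  have hr' := h r (List.mem_range.2 (hn ▸ hr))
  have hs' := h s (List.mem_range.2 (hn ▸ hs))
  rw [Bool.and_eq_true, decide_eq_true_eq, List.all_eq_true] at hr' hs'
  have hss : nF C.T s s = 2 := hs'.1
  have hrr : nF C.T r r = 2 := hr'.1
  have h2 := hr'.2 s (List.mem_range.2 (hn ▸ hs))
  simp only [Bool.or_eq_true, beq_iff_eq, decide_eq_true_eq] at h2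
  rcases h2 with ((h2 | h2) | h2) | h2
  · exact (hsr h2).elim
  · exact (hsn (by rw [C.neg_eq r hr]; exact h2)).elim
  · refine ⟨fun i => C.T.coroot s i, ?_, Or.inr (Or.inl ?_)⟩
    · rw [pair_eq_nF C s r hr]
      exact h2
    · rw [pair_eq_nF C s s hs]
      exact hss
  · refine ⟨fun i => 2 * C.T.coroot s i - nF C.T r s * C.T.coroot r i, ?_, ?_⟩
    · rw [pair_lin, pair_eq_nF C s r hr, pair_eq_nF C r r hr, hrr]
      ring
    · rw [pair_lin, pair_eq_nF C s s hs, pair_eq_nF C r s hs, hss]
      rcases h2 with (h2 | h2) | h2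
      · right; right; rw [h2]; norm_num
      · right; left; rw [h2]; norm_num
      · left; rw [h2]; norm_num

set_option maxRecDepth 1000000 in
theorem sepOK_G2 : sepOK fastG2 = true := by decide +kernel

set_option maxRecDepth 1000000 in
theorem sepOK_B2 : sepOK fastB2 = true := by decide +kernel

set_option maxRecDepth 1000000 in
theorem sepOK_D4 : sepOK fastD4 = true := by decide +kernel

set_option maxRecDepth 1000000 in
theorem sepOK_F4 : sepOK fastF4 = true := by decide +kernel

set_option maxRecDepth 1000000 in
theorem sepOK_E6 : sepOK fastE6 = true := by decide +kernel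

set_option maxRecDepth 1000000 in
theorem sepOK_E7 : sepOK fastE7 = true := by decide +kernel

set_option maxRecDepth 1000000 in
theorem sepOK_E8 : sepOK fastE8 = true := by decide +kernel

/-- **ST3-[SEP]**. -/
theorem sep_of_mem (hD : D ∈ [chevG2, chevB2, chevD4, chevF4, chevE6, chevE7, chevE8]) : Sep D := by
  simp only [List.mem_cons, List.not_mem_nil, or_false] at hD
  rcases hD with rfl | rfl | rfl | rfl | rfl | rfl | rfl
  · exact sep_of_ok chevData_G2.{0} sepOK_G2
  · exact sep_of_ok chevData_B2.{0} sepOK_B2
  · exact sep_of_ok chevData_D4.{0} sepOK_D4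
  · exact sep_of_ok chevData_F4.{0} sepOK_F4
  · exact sep_of_ok chevData_E6.{0} sepOK_E6
  · exact sep_of_ok chevData_E7.{0} sepOK_E7
  · exact sep_of_ok chevData_E8.{0} sepOK_E8

end Cfsg.Agent.Lib.Helper89.St3
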