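/-
helper89: project SMALL (helper35, S2400), module SMALL-[T-D4HW]: every commuting pair of roots of `D₄` is separated
mod 2 one way or the other, or has a Hall–Witt cycle (explicit certificates for the 144 orthogonal pairs, found by
search and checked by `decide +kernel`).
-/
import Cfsg.Agent.Lib.Helper90.SmallTab
import Cfsg.Agent.Lib.Helper35.SmallHW

set_option autoImplicit false

namespace Cfsg.Agent.Lib.Helper89.Small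

open Cfsg.Lie Cfsg.Agent.Lib.Helper35.St Cfsg.Agent.Lib.Helper60.St3 Cfsg.Agent.Lib.Helper35.Small
  Cfsg.Agent.Lib.Helper18 Cfsg.Agent.Lib.Helper90.Small

variable {D : ChevalleyDatum}

/-- explicit-witness check of one Hall–Witt link -/
def hwStepW (T : FastDatum) (r s q r₂ : ℕ) (ε : ℤ) (r₁ : ℕ) (N12 N1s : ℤ) : Bool :=
  decide (r < T.nroots) && decide (s < T.nroots) && decide (q < T.nroots) && decide (r₁ < T.nroots) &&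
  decide (r₂ < T.nroots) && r₂ != r₁ && r₂ != T.neg r₁ && (T.commTermsFast r₁ r₂ == [(r, N12, 1, 1)]) &&
  (N12 == 1 || N12 == -1) && s != r₁ && s != T.neg r₁ && (T.commTermsFast r₁ s == [(q, N1s, 1, 1)]) &&
  (N1s == 1 || N1s == -1) && (N12 * N1s == ε) && comB T r s && comB T s r₂ && comB T q r₂ && comB T q r &&
  (sepB T 2 q r || sepB T 2 r q)

theorem hwStep_of_W (C : ChevData.{0} D) {r s q r₂ : ℕ} {ε : ℤ} {r₁ : ℕ} {N12 N1s : ℤ}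
    (h : hwStepW C.T r s q r₂ ε r₁ N12 N1s = true) : HWStep D r s q r₂ ε := by
  unfold hwStepW at h
  simp only [Bool.and_eq_true, Bool.or_eq_true, decide_eq_true_eq, bne_iff_ne, ne_eq, beq_iff_eq] at h
  obtain ⟨⟨⟨⟨⟨⟨⟨⟨⟨⟨⟨⟨⟨⟨⟨⟨⟨⟨hr, hs⟩, hq⟩, hr₁⟩, hr₂⟩, h21⟩, h2n⟩, hct12⟩, hN12⟩, hs1⟩, hsn⟩, hct1s⟩, hN1s⟩, hε⟩,
    hrs⟩, hsr2⟩, hqr2⟩, hqr⟩, hsep⟩ := h
  rw [C.nroots_eq] at hr hs hq hr₁ hr₂
  refine ⟨r₁, N12, N1s, hr, hs, hq, hr₁, hr₂, h21, ?_, ?_, hN12, hs1, ?_, ?_, hN1s, hε,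
    comPair_of_B C hr hs hrs, comPair_of_B C hs hr₂ hsr2, comPair_of_B C hq hr₂ hqr2, comPair_of_B C hq hr hqr, ?_⟩
  · rw [C.neg_eq r₁ hr₁]
    exact h2n
  · rw [← ct_eq' C hr₁ hr₂]
    exact hct12
  · rw [C.neg_eq r₁ hr₁]
    exact hsn
  · rw [← ct_eq' C hr₁ hs]
    exact hct1s
  · rcases hsep with h1 | h1
    · exact Or.inl (sepAt_of_B C hq hr h1)
    · exact Or.inr (sepAt_of_B C hr hq h1)

/-- A certificate `(a, b, a', b', ε, r₁, N₁₂, N₁ₛ, r₁', N₁₂', N₁ₛ')` of a Hall–Witt cycle. -/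
abbrev Cert : Type := ℕ × ℕ × ℕ × ℕ × ℤ × ℕ × ℤ × ℤ × ℕ × ℤ × ℤ

def certOK (T : FastDatum) (c : Cert) : Bool :=
  hwStepW T c.1 c.2.1 c.2.2.1 c.2.2.2.1 c.2.2.2.2.1 c.2.2.2.2.2.1 c.2.2.2.2.2.2.1 c.2.2.2.2.2.2.2.1 &&
  hwStepW T c.2.2.1 c.2.2.2.1 c.2.1 c.1 c.2.2.2.2.1 c.2.2.2.2.2.2.2.2.1 c.2.2.2.2.2.2.2.2.2.1 c.2.2.2.2.2.2.2.2.2.2

theorem hwCycle_of_cert (C : ChevData.{0} D) {c : Cert} (h : certOK C.T c = true) : HWCycle D c.1 c.2.1 := by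
  unfold certOK at h
  rw [Bool.and_eq_true] at h
  exact ⟨c.2.2.1, c.2.2.2.1, c.2.2.2.2.1, hwStep_of_W C h.1, hwStep_of_W C h.2⟩

def comSepHWOK (T : FastDatum) (certs : List Cert) : Bool :=
  (List.range T.nroots).all fun a => (List.range T.nroots).all fun b =>
    !(comB T a b) || sepB T 2 a b || sepB T 2 b a ||
      certs.any fun c => c.1 == a && c.2.1 == b && certOK T c

theorem comSepHW_of_ok (C : ChevData.{0} D) (certs : List Cert) (h : comSepHWOK C.T certs = true) :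
    ComSepHW D := by
  intro a b ha hab
  have hb := hab.1
  unfold comSepHWOK at h
  rw [List.all_eq_true] at h
  have h1 := h a (mem_T C ha)
  rw [List.all_eq_true] at h1
  have h2 := h1 b (mem_T C hb)
  rw [comB_of_comPair C ha hab] at h2
  simp only [Bool.not_true, Bool.false_or, Bool.or_eq_true] at h2
  rcases h2 with (h2 | h2) | h2
  · exact Or.inl (sepAt_of_B C ha hb h2)
  · exact Or.inr (Or.inl (sepAt_of_B C hb ha h2))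
  · rw [List.any_eq_true] at h2
    obtain ⟨c, -, hc⟩ := h2
    simp only [Bool.and_eq_true, beq_iff_eq] at hc
    obtain ⟨⟨hca, hcb⟩, hok⟩ := hc
    have := hwCycle_of_cert C hok
    rw [hca, hcb] at this
    exact Or.inr (Or.inr this)

/-- The certificates for the 144 orthogonal commuting pairs of `D₄`. -/
def certsD4 : List Cert := [
  (0, 5, 1, 4, 1, 6, -1, -1, 14, -1, -1), (0, 10, 1, 7, -1, 3, -1, 1, 14, -1, 1), (0, 11, 1, 8, -1, 2, -1, 1, 14, -1, 1),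
  (0, 12, 2, 9, 1, 1, 1, 1, 15, 1, 1), (0, 13, 3, 9, 1, 1, 1, 1, 16, 1, 1), (0, 18, 6, 9, -1, 1, 1, -1, 19, 1, -1),
  (1, 4, 0, 5, 1, 6, -1, -1, 9, -1, -1), (1, 7, 0, 10, -1, 3, 1, -1, 9, -1, 1), (1, 8, 0, 11, -1, 2, 1, -1, 9, -1, 1),
  (1, 15, 2, 14, -1, 0, 1, -1, 12, -1, 1), (1, 16, 3, 14, -1, 0, 1, -1, 13, -1, 1), (1, 19, 6, 14, -1, 0, 1, -1, 18, 1, -1),
  (2, 3, 0, 5, -1, 7, -1, 1, 8, 1, -1), (2, 6, 0, 10, 1, 4, 1, 1, 8, 1, 1), (2, 9, 0, 12, 1, 1, 1, 1, 8, 1, 1),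
  (2, 14, 1, 15, -1, 0, -1, 1, 11, -1, 1), (2, 17, 4, 15, -1, 0, -1, 1, 13, -1, 1), (2, 20, 7, 15, -1, 0, -1, 1, 18, 1, -1),
  (3, 2, 0, 5, -1, 8, -1, 1, 7, 1, -1), (3, 6, 0, 11, 1, 4, 1, 1, 7, 1, 1), (3, 9, 0, 13, 1, 1, 1, 1, 7, 1, 1),
  (3, 14, 1, 16, -1, 0, -1, 1, 10, -1, 1), (3, 17, 4, 16, -1, 0, -1, 1, 12, -1, 1), (3, 21, 8, 16, -1, 0, -1, 1, 18, 1, -1),
  (4, 1, 0, 5, 1, 9, -1, -1, 6, -1, -1), (4, 7, 0, 12, -1, 3, 1, -1, 6, -1, 1), (4, 8, 0, 13, -1, 2, 1, -1, 6, -1, 1),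
  (4, 15, 2, 17, -1, 0, 1, -1, 10, -1, 1), (4, 16, 3, 17, -1, 0, 1, -1, 11, -1, 1), (4, 22, 9, 17, -1, 0, 1, -1, 18, 1, -1),
  (5, 0, 1, 4, 1, 14, -1, -1, 6, -1, -1), (5, 10, 1, 15, 1, 3, 1, 1, 6, -1, -1), (5, 11, 1, 16, 1, 2, 1, 1, 6, -1, -1),
  (5, 12, 2, 17, 1, 1, 1, 1, 7, -1, -1), (5, 13, 3, 17, 1, 1, 1, 1, 8, -1, -1), (5, 23, 14, 17, -1, 1, 1, -1, 19, 1, -1),
  (6, 2, 0, 10, 1, 8, 1, 1, 4, 1, 1), (6, 3, 0, 11, 1, 7, 1, 1, 4, 1, 1), (6, 9, 0, 18, -1, 1, -1, 1, 4, 1, -1),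
  (6, 14, 1, 19, -1, 0, -1, 1, 5, 1, -1), (6, 20, 7, 19, -1, 0, -1, 1, 12, -1, 1), (6, 21, 8, 19, -1, 0, -1, 1, 13, -1, 1),
  (7, 1, 0, 10, -1, 9, 1, -1, 3, -1, 1), (7, 4, 0, 12, -1, 6, 1, -1, 3, -1, 1), (7, 8, 0, 18, 1, 2, -1, -1, 3, -1, -1),
  (7, 15, 2, 20, -1, 0, 1, -1, 5, 1, -1), (7, 19, 6, 20, -1, 0, 1, -1, 11, -1, 1), (7, 22, 9, 20, -1, 0, 1, -1, 13, -1, 1),
  (8, 1, 0, 11, -1, 9, 1, -1, 2, -1, 1), (8, 4, 0, 13, -1, 6, 1, -1, 2, -1, 1), (8, 7, 0, 18, 1, 3, -1, -1, 2, -1, -1),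
  (8, 16, 3, 21, -1, 0, 1, -1, 5, 1, -1), (8, 19, 6, 21, -1, 0, 1, -1, 10, -1, 1), (8, 22, 9, 21, -1, 0, 1, -1, 12, -1, 1),
  (9, 2, 0, 12, 1, 8, 1, 1, 1, 1, 1), (9, 3, 0, 13, 1, 7, 1, 1, 1, 1, 1), (9, 6, 0, 18, -1, 4, -1, 1, 1, 1, -1),
  (9, 17, 4, 22, -1, 0, -1, 1, 5, 1, -1), (9, 20, 7, 22, -1, 0, -1, 1, 10, -1, 1), (9, 21, 8, 22, -1, 0, -1, 1, 11, -1, 1),
  (10, 0, 1, 7, -1, 14, 1, -1, 3, 1, -1), (10, 5, 1, 15, 1, 6, -1, -1, 3, 1, 1), (10, 11, 1, 19, -1, 2, -1, 1, 3, 1, -1),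
  (10, 12, 2, 20, -1, 1, -1, 1, 4, 1, -1), (10, 18, 6, 20, 1, 1, -1, -1, 8, 1, 1), (10, 23, 14, 20, 1, 1, -1, -1, 16, -1, -1),
  (11, 0, 1, 8, -1, 14, 1, -1, 2, 1, -1), (11, 5, 1, 16, 1, 6, -1, -1, 2, 1, 1), (11, 10, 1, 19, -1, 3, -1, 1, 2, 1, -1),
  (11, 13, 3, 21, -1, 1, -1, 1, 4, 1, -1), (11, 18, 6, 21, 1, 1, -1, -1, 7, 1, 1), (11, 23, 14, 21, 1, 1, -1, -1, 15, -1, -1),
  (12, 0, 2, 9, 1, 15, 1, 1, 1, 1, 1), (12, 5, 2, 17, 1, 7, -1, -1, 1, 1, 1), (12, 10, 2, 20, -1, 4, -1, 1, 1, 1, -1),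
  (12, 13, 4, 22, -1, 2, -1, 1, 3, 1, -1), (12, 18, 7, 22, 1, 2, -1, -1, 6, 1, 1), (12, 23, 15, 22, -1, 2, -1, 1, 14, -1, 1),
  (13, 0, 3, 9, 1, 16, 1, 1, 1, 1, 1), (13, 5, 3, 17, 1, 8, -1, -1, 1, 1, 1), (13, 11, 3, 21, -1, 4, -1, 1, 1, 1, -1),
  (13, 12, 4, 22, -1, 3, -1, 1, 2, 1, -1), (13, 18, 8, 22, 1, 3, -1, -1, 6, 1, 1), (13, 23, 16, 22, -1, 3, -1, 1, 14, -1, 1),
  (14, 2, 1, 15, -1, 11, 1, -1, 0, 1, -1), (14, 3, 1, 16, -1, 10, 1, -1, 0, 1, -1), (14, 6, 1, 19, -1, 5, -1, 1, 0, 1, -1),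
  (14, 17, 5, 23, -1, 1, -1, 1, 4, 1, -1), (14, 20, 10, 23, 1, 1, -1, -1, 7, -1, -1), (14, 21, 11, 23, 1, 1, -1, -1, 8, -1, -1),
  (15, 1, 2, 14, -1, 12, 1, -1, 0, -1, 1), (15, 4, 2, 17, -1, 10, 1, -1, 0, -1, 1), (15, 7, 2, 20, -1, 5, -1, 1, 0, -1, 1),
  (15, 16, 5, 23, 1, 2, 1, 1, 3, 1, 1), (15, 19, 10, 23, -1, 2, 1, -1, 6, -1, 1), (15, 22, 12, 23, -1, 2, 1, -1, 9, -1, 1),
  (16, 1, 3, 14, -1, 13, 1, -1, 0, -1, 1), (16, 4, 3, 17, -1, 11, 1, -1, 0, -1, 1), (16, 8, 3, 21, -1, 5, -1, 1, 0, -1, 1),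
  (16, 15, 5, 23, 1, 3, 1, 1, 2, 1, 1), (16, 19, 11, 23, -1, 3, 1, -1, 6, -1, 1), (16, 22, 13, 23, -1, 3, 1, -1, 9, -1, 1),
  (17, 2, 4, 15, -1, 13, 1, -1, 0, 1, -1), (17, 3, 4, 16, -1, 12, 1, -1, 0, 1, -1), (17, 9, 4, 22, -1, 5, -1, 1, 0, 1, -1),
  (17, 14, 5, 23, -1, 4, -1, 1, 1, 1, -1), (17, 20, 12, 23, 1, 4, -1, -1, 7, -1, -1), (17, 21, 13, 23, 1, 4, -1, -1, 8, -1, -1),
  (18, 0, 6, 9, -1, 19, -1, 1, 1, -1, 1), (18, 10, 6, 20, 1, 8, 1, 1, 1, -1, -1), (18, 11, 6, 21, 1, 7, 1, 1, 1, -1, -1),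
  (18, 12, 7, 22, 1, 6, 1, 1, 2, -1, -1), (18, 13, 8, 22, 1, 6, 1, 1, 3, -1, -1), (18, 23, 19, 22, 1, 6, 1, 1, 14, 1, 1),
  (19, 1, 6, 14, -1, 18, -1, 1, 0, -1, 1), (19, 7, 6, 20, -1, 11, 1, -1, 0, -1, 1), (19, 8, 6, 21, -1, 10, 1, -1, 0, -1, 1),
  (19, 15, 10, 23, -1, 6, 1, -1, 2, -1, 1), (19, 16, 11, 23, -1, 6, 1, -1, 3, -1, 1), (19, 22, 18, 23, 1, 6, 1, 1, 9, 1, 1),
  (20, 2, 7, 15, -1, 18, -1, 1, 0, 1, -1), (20, 6, 7, 19, -1, 12, 1, -1, 0, 1, -1), (20, 9, 7, 22, -1, 10, 1, -1, 0, 1, -1),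
  (20, 14, 10, 23, 1, 7, -1, -1, 1, -1, -1), (20, 17, 12, 23, 1, 7, -1, -1, 4, -1, -1), (20, 21, 18, 23, -1, 7, -1, 1, 8, 1, -1),
  (21, 3, 8, 16, -1, 18, -1, 1, 0, 1, -1), (21, 6, 8, 19, -1, 13, 1, -1, 0, 1, -1), (21, 9, 8, 22, -1, 11, 1, -1, 0, 1, -1),
  (21, 14, 11, 23, 1, 8, -1, -1, 1, -1, -1), (21, 17, 13, 23, 1, 8, -1, -1, 4, -1, -1), (21, 20, 18, 23, -1, 8, -1, 1, 7, 1, -1),
  (22, 4, 9, 17, -1, 18, -1, 1, 0, -1, 1), (22, 7, 9, 20, -1, 13, 1, -1, 0, -1, 1), (22, 8, 9, 21, -1, 12, 1, -1, 0, -1, 1),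
  (22, 15, 12, 23, -1, 9, 1, -1, 2, -1, 1), (22, 16, 13, 23, -1, 9, 1, -1, 3, -1, 1), (22, 19, 18, 23, 1, 9, 1, 1, 6, 1, 1),
  (23, 5, 14, 17, -1, 19, -1, 1, 1, -1, 1), (23, 10, 14, 20, 1, 16, -1, -1, 1, -1, -1), (23, 11, 14, 21, 1, 15, -1, -1, 1, -1, -1),
  (23, 12, 15, 22, -1, 14, 1, -1, 2, 1, -1), (23, 13, 16, 22, -1, 14, 1, -1, 3, 1, -1), (23, 18, 19, 22, 1, 14, 1, 1, 6, 1, 1)]

set_option maxRecDepth 1000000 in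
theorem comSepHWOK_D4 : comSepHWOK fastD4 certsD4 = true := by decide +kernel

/-- SMALL-[T-D4HW] -/
theorem comSepHW_D4 : ComSepHW chevD4 := comSepHW_of_ok chevData_D4.{0} certsD4 comSepHWOK_D4

end Cfsg.Agent.Lib.Helper89.Small
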