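import Mathlib

/-!
# S4811 module [DG-SEP] (helper89 for helper80)

Linear characters of a finite group with abelian quotient `N ⧸ K` separate the elements
outside `K` from `K`.
-/

set_option autoImplicit false
set_option linter.style.haveILetI false

namespace Cfsg.Agent.Lib.Helper89.DG

/-- [DG-SEP] -/
theorem exists_hom_ne_one_of_not_mem {N : Type*} [Group N] [Finite N] (K : Subgroup N) [K.Normal]
    (hab : ∀ a b : N, a * b * a⁻¹ * b⁻¹ ∈ K) (n : N) (hn : n ∉ K) :
    ∃ lam : N →* ℂˣ, (∀ k ∈ K, lam k = 1) ∧ lam n ≠ 1 := by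
  classical
  letI : CommGroup (N ⧸ K) :=
    { (inferInstance : Group (N ⧸ K)) with
      mul_comm := by
        intro x y
        induction x using QuotientGroup.induction_on with
        | H a =>
          induction y using QuotientGroup.induction_on with
          | H b =>
            rw [← QuotientGroup.mk_mul, ← QuotientGroup.mk_mul, QuotientGroup.eq]
            have h := hab b⁻¹ a⁻¹
            have : (a * b)⁻¹ * (b * a) = b⁻¹ * a⁻¹ * b⁻¹⁻¹ * a⁻¹⁻¹ := by group
            rw [this]
            exact h }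
  have hne : (QuotientGroup.mk n : N ⧸ K) ≠ 1 := by
    intro h
    exact hn ((QuotientGroup.eq_one_iff n).mp h)
  haveI : NeZero (Monoid.exponent (N ⧸ K) : ℂ) :=
    ⟨by exact_mod_cast Monoid.exponent_ne_zero_of_finite⟩
  obtain ⟨φ, hφ⟩ := CommGroup.exists_apply_ne_one_of_hasEnoughRootsOfUnity (N ⧸ K) ℂ hne
  refine ⟨φ.comp (QuotientGroup.mk' K), ?_, ?_⟩
  · intro k hk
    have : (QuotientGroup.mk' K) k = 1 := (QuotientGroup.eq_one_iff k).mpr hk
    rw [MonoidHom.comp_apply, this, map_one]
  · exact hφ

end Cfsg.Agent.Lib.Helper89.DG
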