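import Mathlib
import Cfsg.Agent.Lib.Helper36.OrthSumMatrix

/-!
# Centraliser of `diag(-1, 1)` in `O(Q₁ ⊕ Q₂)` (helper89, module [G-A2] of helper37's S2733)
-/

set_option autoImplicit false
set_option linter.unusedSectionVars false

namespace Cfsg.Agent.Lib.Helper89.OrthInvBlock

open Matrix Cfsg.Agent.Lib.Helper36

theorem isometry_commute_block_iff {ι₁ ι₂ : Type} [Fintype ι₁] [DecidableEq ι₁] [Fintype ι₂]
    [DecidableEq ι₂] {F : Type*} [Field F] (h2 : (2 : F) ≠ 0)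
    (Q₁ : QuadraticForm F (ι₁ → F)) (Q₂ : QuadraticForm F (ι₂ → F))
    (S : Matrix (ι₁ ⊕ ι₂) (ι₁ ⊕ ι₂) F) :
    ((∀ w, Cfsg.Agent.Lib.Helper36.sumQF Q₁ Q₂ (S *ᵥ w) = Cfsg.Agent.Lib.Helper36.sumQF Q₁ Q₂ w) ∧
      S * Matrix.fromBlocks (-1 : Matrix ι₁ ι₁ F) 0 0 (1 : Matrix ι₂ ι₂ F) =
        Matrix.fromBlocks (-1 : Matrix ι₁ ι₁ F) 0 0 (1 : Matrix ι₂ ι₂ F) * S) ↔
    ∃ (S₁ : Matrix ι₁ ι₁ F) (S₂ : Matrix ι₂ ι₂ F), S = Matrix.fromBlocks S₁ 0 0 S₂ ∧
      (∀ u, Q₁ (S₁ *ᵥ u) = Q₁ u) ∧ (∀ u, Q₂ (S₂ *ᵥ u) = Q₂ u) := by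
  constructor
  · rintro ⟨hiso, hcomm⟩
    obtain ⟨A, B, C, D, rfl⟩ : ∃ (A : Matrix ι₁ ι₁ F) (B : Matrix ι₁ ι₂ F) (C : Matrix ι₂ ι₁ F)
        (D : Matrix ι₂ ι₂ F), S = Matrix.fromBlocks A B C D :=
      ⟨S.toBlocks₁₁, S.toBlocks₁₂, S.toBlocks₂₁, S.toBlocks₂₂, (Matrix.fromBlocks_toBlocks S).symm⟩
    rw [Matrix.fromBlocks_multiply, Matrix.fromBlocks_multiply, Matrix.fromBlocks_inj] at hcomm
    obtain ⟨-, hB, hC, -⟩ := hcomm
    have hB0 : B = 0 := by
      simp only [Matrix.mul_zero, Matrix.mul_one, zero_add, Matrix.neg_mul, Matrix.one_mul,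
        Matrix.zero_mul, add_zero] at hB
      ext i j
      have h := congrFun (congrFun hB i) j
      simp only [Matrix.neg_apply, Matrix.zero_apply] at h ⊢
      have h3 : (2 : F) * B i j = 0 := by linear_combination h
      rcases mul_eq_zero.mp h3 with h4 | h4
      · exact absurd h4 h2
      · exact h4
    have hC0 : C = 0 := by
      simp only [Matrix.mul_zero, Matrix.mul_one, zero_add, Matrix.mul_neg, Matrix.one_mul,
        Matrix.zero_mul, add_zero] at hC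
      ext i j
      have h := congrFun (congrFun hC i) j
      simp only [Matrix.neg_apply, Matrix.zero_apply] at h ⊢
      have h3 : (2 : F) * C i j = 0 := by linear_combination -h
      rcases mul_eq_zero.mp h3 with h4 | h4
      · exact absurd h4 h2
      · exact h4
    subst hB0 hC0
    refine ⟨A, D, rfl, ?_, ?_⟩
    · intro u
      have h := hiso (Sum.elim u 0)
      rw [fromBlocks_diag_mulVec, sumQF_apply, sumQF_apply] at h
      simp only [Sum.elim_comp_inl, Sum.elim_comp_inr, Matrix.mulVec_zero, map_zero,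
        add_zero] at h
      exact h
    · intro u
      have h := hiso (Sum.elim 0 u)
      rw [fromBlocks_diag_mulVec, sumQF_apply, sumQF_apply] at h
      simp only [Sum.elim_comp_inl, Sum.elim_comp_inr, Matrix.mulVec_zero, map_zero,
        zero_add] at h
      exact h
  · rintro ⟨S₁, S₂, rfl, h₁, h₂⟩
    refine ⟨?_, ?_⟩
    · intro w
      rw [fromBlocks_diag_mulVec, sumQF_apply, sumQF_apply]
      simp only [Sum.elim_comp_inl, Sum.elim_comp_inr]
      rw [h₁, h₂]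
    · rw [Matrix.fromBlocks_multiply, Matrix.fromBlocks_multiply]
      simp

end Cfsg.Agent.Lib.Helper89.OrthInvBlock
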