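import Mathlib
import Cfsg.Agent.Lib.Helper36.OrthSumMatrix

/-!
# Decomposition along an involutory isometry (helper89, module [G-A1] of helper37's S2733)

`V = V₋ ⊕ V₊` (eigenspaces of `t`, `t² = 1`, char ≠ 2), the sum is orthogonal, and in an adapted
basis `t = diag(-1, 1)`.
-/

set_option autoImplicit false
set_option linter.unusedSectionVars false

namespace Cfsg.Agent.Lib.Helper89.OrthInvDecomp

open Matrix Module Cfsg.Agent.Lib.Helper36

/-- restriction of a nondegenerate quadratic form to an orthogonal summand, in coordinates -/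
theorem nondeg_comp_of_orth {F : Type*} [Field F] {V : Type*} [AddCommGroup V] [Module F V]
    (Q : QuadraticForm F V) (hQ : (QuadraticMap.polarBilin Q).Nondegenerate)
    (M N : Submodule F V) (hMN : ∀ y : V, ∃ ym ∈ M, ∃ yn ∈ N, y = ym + yn)
    (horth : ∀ x ∈ M, ∀ y ∈ N, QuadraticMap.polar Q x y = 0) {k : ℕ}
    (L : (Fin k → F) →ₗ[F] V) (hL : ∀ u, L u = 0 → u = 0) (hLM : ∀ u, L u ∈ M)
    (hLsurj : ∀ x ∈ M, ∃ u, L u = x) :
    (QuadraticMap.polarBilin (Q.comp L)).Nondegenerate := by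
  have hpol : ∀ u u', QuadraticMap.polarBilin (Q.comp L) u u' =
      QuadraticMap.polar Q (L u) (L u') := by
    intro u u'
    rw [QuadraticMap.polarBilin_apply_apply]
    unfold QuadraticMap.polar
    rw [QuadraticMap.comp_apply, QuadraticMap.comp_apply, QuadraticMap.comp_apply, map_add]
  have hleft : ∀ u, (∀ u', QuadraticMap.polar Q (L u) (L u') = 0) → u = 0 := by
    intro u hu
    apply hL
    apply hQ.1
    intro y
    obtain ⟨ym, hym, yn, hyn, rfl⟩ := hMN y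
    obtain ⟨u', rfl⟩ := hLsurj ym hym
    rw [QuadraticMap.polarBilin_apply_apply, QuadraticMap.polar_add_right, hu u',
      horth _ (hLM u) _ hyn, add_zero]
  refine ⟨fun u hu => hleft u (fun u' => ?_), fun u hu => hleft u (fun u' => ?_)⟩
  · rw [← hpol]
    exact hu u'
  · rw [QuadraticMap.polar_comm, ← hpol]
    exact hu u'

theorem involution_decomp {ι : Type} [Fintype ι] [DecidableEq ι] {F : Type*} [Field F]
    (h2 : (2 : F) ≠ 0) (Q : QuadraticForm F (ι → F))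
    (hQ : (QuadraticMap.polarBilin Q).Nondegenerate) (t : GL ι F)
    (ht : t ∈ Cfsg.isometryGroup F (⇑Q)) (htt : t * t = 1) :
    ∃ (k l : ℕ) (E : Matrix ι (Fin k ⊕ Fin l) F) (E' : Matrix (Fin k ⊕ Fin l) ι F)
      (Q₁ : QuadraticForm F (Fin k → F)) (Q₂ : QuadraticForm F (Fin l → F)),
      E * E' = 1 ∧ E' * E = 1 ∧ (QuadraticMap.polarBilin Q₁).Nondegenerate ∧
      (QuadraticMap.polarBilin Q₂).Nondegenerate ∧
      (∀ w : Fin k ⊕ Fin l → F, Q (E *ᵥ w) = Cfsg.Agent.Lib.Helper36.sumQF Q₁ Q₂ w) ∧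
      (t : Matrix ι ι F) * E =
        E * Matrix.fromBlocks (-1 : Matrix (Fin k) (Fin k) F) 0 0 (1 : Matrix (Fin l) (Fin l) F) ∧
      (t : Matrix ι ι F).det = (-1) ^ k := by
  classical
  obtain ⟨T, hTdef⟩ : ∃ T : (ι → F) →ₗ[F] (ι → F), T = Matrix.toLin' (t : Matrix ι ι F) :=
    ⟨_, rfl⟩
  have hTapp : ∀ v, T v = (t : Matrix ι ι F) *ᵥ v := by
    intro v
    rw [hTdef, Matrix.toLin'_apply]
  have httM : (t : Matrix ι ι F) * (t : Matrix ι ι F) = 1 := by
    have := congrArg (fun g : GL ι F => (g : Matrix ι ι F)) htt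
    simpa using this
  have hTT : ∀ v, T (T v) = v := by
    intro v
    rw [hTapp, hTapp, Matrix.mulVec_mulVec, httM, Matrix.one_mulVec]
  have hQT : ∀ v, Q (T v) = Q v := by
    intro v
    rw [hTapp]
    exact ht v v
  have h2inv : (2 : F) * 2⁻¹ = 1 := mul_inv_cancel₀ h2
  -- eigenspaces
  obtain ⟨Vm, hVm⟩ : ∃ Vm : Submodule F (ι → F), Vm = LinearMap.ker (T + LinearMap.id) :=
    ⟨_, rfl⟩
  obtain ⟨Vp, hVp⟩ : ∃ Vp : Submodule F (ι → F), Vp = LinearMap.ker (T - LinearMap.id) :=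
    ⟨_, rfl⟩
  have hm : ∀ v, v ∈ Vm ↔ T v = -v := by
    intro v
    rw [hVm, LinearMap.mem_ker, LinearMap.add_apply, LinearMap.id_apply, add_eq_zero_iff_eq_neg]
  have hp : ∀ v, v ∈ Vp ↔ T v = v := by
    intro v
    rw [hVp, LinearMap.mem_ker, LinearMap.sub_apply, LinearMap.id_apply, sub_eq_zero]
  have hdec : ∀ y : ι → F, ∃ ym ∈ Vm, ∃ yp ∈ Vp, y = ym + yp := by
    intro y
    refine ⟨(2 : F)⁻¹ • (y - T y), ?_, (2 : F)⁻¹ • (y + T y), ?_, ?_⟩
    · rw [hm, map_smul, map_sub, hTT, ← smul_neg, neg_sub]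
    · rw [hp, map_smul, map_add, hTT, add_comm]
    · rw [← smul_add]
      have : y - T y + (y + T y) = (2 : F) • y := by
        rw [two_smul]
        abel
      rw [this, smul_smul, mul_comm, h2inv, one_smul]
  have hdec' : ∀ y : ι → F, ∃ yp ∈ Vp, ∃ ym ∈ Vm, y = yp + ym := by
    intro y
    obtain ⟨ym, hym, yp, hyp, h⟩ := hdec y
    exact ⟨yp, hyp, ym, hym, by rw [h, add_comm]⟩
  have hcompl : IsCompl Vm Vp := by
    constructor
    · rw [Submodule.disjoint_def]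
      intro v hvm hvp
      rw [hm] at hvm
      rw [hp] at hvp
      have h3 : (2 : F) • v = 0 := by
        rw [two_smul]
        nth_rewrite 1 [← hvp]
        rw [hvm, neg_add_cancel]
      rcases smul_eq_zero.mp h3 with h4 | h4
      · exact absurd h4 h2
      · exact h4
    · rw [codisjoint_iff, eq_top_iff]
      intro y _
      obtain ⟨ym, hym, yp, hyp, rfl⟩ := hdec y
      exact Submodule.add_mem_sup hym hyp
  have horth : ∀ x ∈ Vm, ∀ y ∈ Vp, QuadraticMap.polar Q x y = 0 := by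
    intro x hx y hy
    rw [hm] at hx
    rw [hp] at hy
    have h3 : QuadraticMap.polar Q (T x) (T y) = QuadraticMap.polar Q x y := by
      unfold QuadraticMap.polar
      rw [← map_add, hQT, hQT, hQT]
    rw [hx, hy, QuadraticMap.polar_neg_left] at h3
    have h4 : (2 : F) * QuadraticMap.polar Q x y = 0 := by linear_combination -h3
    rcases mul_eq_zero.mp h4 with h5 | h5
    · exact absurd h5 h2
    · exact h5
  have horth' : ∀ x ∈ Vp, ∀ y ∈ Vm, QuadraticMap.polar Q x y = 0 := by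
    intro x hx y hy
    rw [QuadraticMap.polar_comm]
    exact horth y hy x hx
  -- bases
  obtain ⟨k, hk⟩ : ∃ k : ℕ, k = finrank F Vm := ⟨_, rfl⟩
  obtain ⟨l, hl⟩ : ∃ l : ℕ, l = finrank F Vp := ⟨_, rfl⟩
  let b₁ : Basis (Fin k) F Vm := Module.finBasisOfFinrankEq F Vm hk.symm
  let b₂ : Basis (Fin l) F Vp := Module.finBasisOfFinrankEq F Vp hl.symm
  let bb : Basis (Fin k ⊕ Fin l) F (ι → F) :=
    (b₁.prod b₂).map (Submodule.prodEquivOfIsCompl Vm Vp hcompl)
  have hbbl : ∀ a : Fin k, bb (Sum.inl a) = (b₁ a : ι → F) := by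
    intro a
    simp [bb]
  have hbbr : ∀ c : Fin l, bb (Sum.inr c) = (b₂ c : ι → F) := by
    intro c
    simp [bb]
  obtain ⟨E, hE⟩ : ∃ E : Matrix ι (Fin k ⊕ Fin l) F, E = (Pi.basisFun F ι).toMatrix bb :=
    ⟨_, rfl⟩
  obtain ⟨E', hE'⟩ : ∃ E' : Matrix (Fin k ⊕ Fin l) ι F, E' = bb.toMatrix (Pi.basisFun F ι) :=
    ⟨_, rfl⟩
  have hEE' : E * E' = 1 := by
    rw [hE, hE']
    exact Basis.toMatrix_mul_toMatrix_flip _ _
  have hE'E : E' * E = 1 := by
    rw [hE, hE']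
    exact Basis.toMatrix_mul_toMatrix_flip _ _
  have hEapp : ∀ i j, E i j = bb j i := by
    intro i j
    rw [hE, Basis.toMatrix_apply, Pi.basisFun_repr]
  let L₁ : (Fin k → F) →ₗ[F] (ι → F) := Vm.subtype.comp b₁.equivFun.symm.toLinearMap
  let L₂ : (Fin l → F) →ₗ[F] (ι → F) := Vp.subtype.comp b₂.equivFun.symm.toLinearMap
  have hL₁app : ∀ u, L₁ u = ∑ a, u a • (b₁ a : ι → F) := by
    intro u
    show ((b₁.equivFun.symm u : Vm) : ι → F) = _
    rw [Basis.equivFun_symm_apply, Submodule.coe_sum]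
    simp
  have hL₂app : ∀ u, L₂ u = ∑ c, u c • (b₂ c : ι → F) := by
    intro u
    show ((b₂.equivFun.symm u : Vp) : ι → F) = _
    rw [Basis.equivFun_symm_apply, Submodule.coe_sum]
    simp
  have hEw : ∀ w : Fin k ⊕ Fin l → F, E *ᵥ w = L₁ (w ∘ Sum.inl) + L₂ (w ∘ Sum.inr) := by
    intro w
    rw [hL₁app, hL₂app]
    funext i
    rw [Matrix.mulVec, dotProduct, Fintype.sum_sum_type]
    simp only [hEapp, hbbl, hbbr, Pi.add_apply, Finset.sum_apply, Pi.smul_apply, smul_eq_mul,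
      Function.comp_apply]
    congr 1 <;> exact Finset.sum_congr rfl (fun _ _ => mul_comm _ _)
  have hL₁mem : ∀ u, L₁ u ∈ Vm := fun u => (b₁.equivFun.symm u).2
  have hL₂mem : ∀ u, L₂ u ∈ Vp := fun u => (b₂.equivFun.symm u).2
  have hL₁inj : ∀ u, L₁ u = 0 → u = 0 := by
    intro u hu
    have h3 : (b₁.equivFun.symm u : Vm) = 0 := Subtype.ext hu
    exact (LinearEquiv.map_eq_zero_iff _).mp h3
  have hL₂inj : ∀ u, L₂ u = 0 → u = 0 := by
    intro u hu
    have h3 : (b₂.equivFun.symm u : Vp) = 0 := Subtype.ext hu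
    exact (LinearEquiv.map_eq_zero_iff _).mp h3
  have hL₁surj : ∀ x ∈ Vm, ∃ u, L₁ u = x := by
    intro x hx
    refine ⟨b₁.equivFun ⟨x, hx⟩, ?_⟩
    show ((b₁.equivFun.symm (b₁.equivFun ⟨x, hx⟩) : Vm) : ι → F) = x
    rw [LinearEquiv.symm_apply_apply]
  have hL₂surj : ∀ x ∈ Vp, ∃ u, L₂ u = x := by
    intro x hx
    refine ⟨b₂.equivFun ⟨x, hx⟩, ?_⟩
    show ((b₂.equivFun.symm (b₂.equivFun ⟨x, hx⟩) : Vp) : ι → F) = x
    rw [LinearEquiv.symm_apply_apply]
  have hconj : (t : Matrix ι ι F) * E =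
      E * Matrix.fromBlocks (-1 : Matrix (Fin k) (Fin k) F) 0 0 (1 : Matrix (Fin l) (Fin l) F) := by
    ext i j
    have h3 : ((t : Matrix ι ι F) * E) i j = (T (bb j)) i := by
      rw [hTapp, Matrix.mul_apply, Matrix.mulVec, dotProduct]
      exact Finset.sum_congr rfl (fun x _ => by rw [hEapp])
    rw [h3]
    rcases j with a | c
    · have h4 : T (bb (Sum.inl a)) = -bb (Sum.inl a) := by
        rw [hbbl]
        exact (hm _).mp (b₁ a).2
      rw [h4, Matrix.mul_apply, Fintype.sum_sum_type]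
      simp [Matrix.one_apply, hEapp]
    · have h4 : T (bb (Sum.inr c)) = bb (Sum.inr c) := by
        rw [hbbr]
        exact (hp _).mp (b₂ c).2
      rw [h4, Matrix.mul_apply, Fintype.sum_sum_type]
      simp [Matrix.one_apply, hEapp]
  refine ⟨k, l, E, E', Q.comp L₁, Q.comp L₂, hEE', hE'E, ?_, ?_, ?_, hconj, ?_⟩
  · exact nondeg_comp_of_orth Q hQ Vm Vp hdec horth L₁ hL₁inj hL₁mem hL₁surj
  · exact nondeg_comp_of_orth Q hQ Vp Vm hdec' horth' L₂ hL₂inj hL₂mem hL₂surj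
  · intro w
    rw [hEw, sumQF_apply, QuadraticMap.comp_apply, QuadraticMap.comp_apply]
    have h3 := horth _ (hL₁mem (w ∘ Sum.inl)) _ (hL₂mem (w ∘ Sum.inr))
    unfold QuadraticMap.polar at h3
    linear_combination h3
  · have h3 : (t : Matrix ι ι F) = E * Matrix.fromBlocks (-1 : Matrix (Fin k) (Fin k) F) 0 0
        (1 : Matrix (Fin l) (Fin l) F) * E' := by
      rw [← hconj, Matrix.mul_assoc, hEE', Matrix.mul_one]
    rw [h3, Matrix.det_conj_of_mul_eq_one hEE' hE'E, Matrix.det_fromBlocks_zero₂₁, Matrix.det_neg,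
      Matrix.det_one, Matrix.det_one, Fintype.card_fin, mul_one, mul_one]

end Cfsg.Agent.Lib.Helper89.OrthInvDecomp
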