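import Mathlib
import Cfsg.Agent.Lib.Helper74.PF127Defs
import Cfsg.Agent.Lib.Helper75.Clifford
import Cfsg.Agent.Lib.Helper78.CharOrtho

/-!
# Peterfalvi (12.7), module [FOUR] (helper89 for helper74)

If two class functions `Ψ`, `ψ` of `N` have the same inner products with every integer
combination, vanishing at `1`, of the characters induced from the non-principal irreducible
characters of a normal subgroup `F`, then `Ψ - ψ` is constant on `F ∖ {1}`.
-/

set_option autoImplicit false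
set_option linter.style.haveILetI false

namespace Cfsg.Agent.Lib.Helper89.PF127Four

open Cfsg
open scoped ComplexConjugate
open Cfsg.Agent.Lib.Helper78

universe u

section

variable {N : Type u} [Group N] [Fintype N]

theorem classInner_sub_right' (f ψ₁ ψ₂ : N → ℂ) :
    classInner f (ψ₁ - ψ₂) = classInner f ψ₁ - classInner f ψ₂ := by
  have h : ψ₁ - ψ₂ = ψ₁ + (-1 : ℂ) • ψ₂ := by
    funext x; simp [sub_eq_add_neg]
  rw [h, classInner_add_right, classInner_smul_right]
  simp [sub_eq_add_neg]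

/-- Value at `1` of an induced function. -/
theorem indFun_one (F : Subgroup N) (θ : F → ℂ) :
    indFun F θ 1 = (Nat.card F : ℂ)⁻¹ * ((Nat.card N : ℂ) * θ 1) := by
  unfold indFun
  congr 1
  have : ∀ x : N, extendByZero F θ (x⁻¹ * 1 * x) = θ 1 := by
    intro x
    have h1 : x⁻¹ * 1 * x = ((1 : F) : N) := by simp
    rw [h1]
    unfold extendByZero
    exact Subtype.val_injective.extend_apply θ 0 1
  simp only [this, Finset.sum_const, Finset.card_univ, nsmul_eq_mul, Nat.card_eq_fintype_card]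

end

/-- MODULE [FOUR] -/
theorem exists_const_of_orthogonal {N : Type*} [Group N] [Fintype N] (F : Subgroup N) [F.Normal]
    (Ψ ψ : N → ℂ) (hΨ : IsClassFunction N Ψ) (hψ : IsClassFunction N ψ)
    (horth : ∀ α ∈ zspanOn (inducedIrrAbove F ⊥) {1}ᶜ, classInner α Ψ = classInner α ψ) :
    ∃ n₀ : ℂ, ∀ a : N, a ∈ F → a ≠ 1 → Ψ a = ψ a + n₀ := by
  classical
  letI : Fintype F := Fintype.ofFinite F
  -- the difference
  set b : N → ℂ := Ψ - ψ with hb
  have hbc : IsClassFunction N b := isClassFunction_sub hΨ hψ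
  set bF : F → ℂ := fun h => b h with hbF
  have hbFc : IsClassFunction F bF := by
    intro g h
    show b ((h * g * h⁻¹ : F) : N) = b (g : N)
    have := hbc (g : N) (h : N)
    simpa using this
  -- induced characters lie in the set
  have hmemS : ∀ θ : IrrCharacter F, (θ : F → ℂ) ≠ (fun _ => 1) →
      indFun F (θ : F → ℂ) ∈ inducedIrrAbove F ⊥ := by
    intro θ hθ
    refine ⟨θ, θ.2, hθ, ?_, rfl⟩
    intro a ha
    have : a = 1 := by
      apply Subtype.ext
      simpa using ha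
    rw [this]
  -- degrees
  have hdeg : ∀ θ : IrrCharacter F, ∃ n : ℕ, (θ : F → ℂ) 1 = n := fun θ =>
    IsCharacter.exists_apply_one (IsIrrCharacter.isCharacter θ.2)
  -- the key relation
  have hkey : ∀ θ θ' : IrrCharacter F, (θ : F → ℂ) ≠ (fun _ => 1) → (θ' : F → ℂ) ≠ (fun _ => 1) →
      (θ' : F → ℂ) 1 * classInner (θ : F → ℂ) bF = (θ : F → ℂ) 1 * classInner (θ' : F → ℂ) bF := by
    intro θ θ' hθ hθ'
    obtain ⟨n, hn⟩ := hdeg θ
    obtain ⟨n', hn'⟩ := hdeg θ'
    set α : N → ℂ := (n' : ℤ) • indFun F (θ : F → ℂ) - (n : ℤ) • indFun F (θ' : F → ℂ) with hα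
    have hαmem : α ∈ zspanOn (inducedIrrAbove F ⊥) {1}ᶜ := by
      refine ⟨?_, ?_⟩
      · show α ∈ (Submodule.span ℤ (inducedIrrAbove F ⊥) : Submodule ℤ (N → ℂ))
        exact Submodule.sub_mem _
          (Submodule.smul_mem _ _ (Submodule.subset_span (hmemS θ hθ)))
          (Submodule.smul_mem _ _ (Submodule.subset_span (hmemS θ' hθ')))
      · intro x hx
        have hx1 : x = 1 := by
          by_contra h
          exact hx h
        rw [hx1, hα]
        show (n' : ℤ) • (indFun F (θ : F → ℂ) 1) - (n : ℤ) • (indFun F (θ' : F → ℂ) 1) = 0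
        rw [indFun_one, indFun_one, hn, hn', zsmul_eq_mul, zsmul_eq_mul]
        simp only [Int.cast_natCast]
        ring
    have h0 : classInner α b = 0 := by
      rw [hb, classInner_sub_right', horth α hαmem, sub_self]
    have hα' : α = (n' : ℂ) • indFun F (θ : F → ℂ) + (-(n : ℂ)) • indFun F (θ' : F → ℂ) := by
      funext x
      show (n' : ℤ) • (indFun F (θ : F → ℂ) x) - (n : ℤ) • (indFun F (θ' : F → ℂ) x) =
        (n' : ℂ) * (indFun F (θ : F → ℂ) x) + (-(n : ℂ)) * (indFun F (θ' : F → ℂ) x)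
      rw [zsmul_eq_mul, zsmul_eq_mul]
      simp only [Int.cast_natCast]
      ring
    rw [hα', classInner_add_left, classInner_smul_left, classInner_smul_left,
      Cfsg.Agent.Lib.Helper75.frobenius_reciprocity F _ hbc,
      Cfsg.Agent.Lib.Helper75.frobenius_reciprocity F _ hbc] at h0
    rw [hn, hn']
    have : (n' : ℂ) * classInner (θ : F → ℂ) bF + -(n : ℂ) * classInner (θ' : F → ℂ) bF = 0 := h0
    linear_combination this
  -- coefficients
  set c : IrrCharacter F → ℂ := fun χ => classInner bF (χ : F → ℂ) with hc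
  have hckey : ∀ θ θ' : IrrCharacter F, (θ : F → ℂ) ≠ (fun _ => 1) →
      (θ' : F → ℂ) ≠ (fun _ => 1) →
      (θ' : F → ℂ) 1 * c θ = (θ : F → ℂ) 1 * c θ' := by
    intro θ θ' hθ hθ'
    obtain ⟨n, hn⟩ := hdeg θ
    obtain ⟨n', hn'⟩ := hdeg θ'
    have h := congrArg conj (hkey θ θ' hθ hθ')
    rw [map_mul, map_mul, classInner_conj_symm, classInner_conj_symm, hn, hn'] at h
    simp only [Complex.conj_natCast] at h
    rw [hn, hn']
    exact h
  -- the constant `k`
  obtain ⟨k, hk⟩ : ∃ k : ℂ, ∀ χ : IrrCharacter F, (χ : F → ℂ) ≠ (fun _ => 1) →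
      c χ = k * (χ : F → ℂ) 1 := by
    by_cases hex : ∃ θ₀ : IrrCharacter F, (θ₀ : F → ℂ) ≠ (fun _ => 1)
    · obtain ⟨θ₀, hθ₀⟩ := hex
      refine ⟨c θ₀ / (θ₀ : F → ℂ) 1, fun χ hχ => ?_⟩
      have hne : (θ₀ : F → ℂ) 1 ≠ 0 := IsIrrCharacter.apply_one_ne_zero θ₀.2
      have := hckey χ θ₀ hχ hθ₀
      field_simp
      linear_combination this
    · refine ⟨0, fun χ hχ => absurd ⟨χ, hχ⟩ hex⟩
  -- the answer
  refine ⟨∑ χ : IrrCharacter F,
    (if (χ : F → ℂ) = (fun _ => 1) then c χ - k * (χ : F → ℂ) 1 else 0), ?_⟩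
  intro a haF ha1
  have hexp := congrFun (classFunction_eq_sum_irr hbFc) ⟨a, haF⟩
  simp only [Finset.sum_apply, Pi.smul_apply, smul_eq_mul] at hexp
  have ha1' : (⟨a, haF⟩ : F) ≠ 1 := by
    intro h
    exact ha1 (congrArg Subtype.val h)
  have hso : ∑ χ : IrrCharacter F, (χ : F → ℂ) ⟨a, haF⟩ * conj ((χ : F → ℂ) 1) = 0 := by
    apply second_orthogonality_of_not_isConj
    intro hconj
    exact ha1' (isConj_one_left.mp hconj)
  have hterm : ∀ χ : IrrCharacter F, c χ * (χ : F → ℂ) ⟨a, haF⟩ =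
      k * ((χ : F → ℂ) ⟨a, haF⟩ * conj ((χ : F → ℂ) 1)) +
      (if (χ : F → ℂ) = (fun _ => 1) then c χ - k * (χ : F → ℂ) 1 else 0) := by
    intro χ
    obtain ⟨n, hn⟩ := hdeg χ
    by_cases hχ : (χ : F → ℂ) = (fun _ => 1)
    · rw [if_pos hχ]
      have h1 : (χ : F → ℂ) ⟨a, haF⟩ = 1 := by rw [hχ]
      have h2 : (χ : F → ℂ) 1 = 1 := by rw [hχ]
      rw [h1, h2]
      simp
    · rw [if_neg hχ, hk χ hχ, hn]
      simp only [Complex.conj_natCast]
      ring
  have hbval : bF ⟨a, haF⟩ = ∑ χ : IrrCharacter F,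
      (if (χ : F → ℂ) = (fun _ => 1) then c χ - k * (χ : F → ℂ) 1 else 0) := by
    rw [hexp]
    simp only [hc] at hterm ⊢
    rw [Finset.sum_congr rfl (fun χ _ => hterm χ), Finset.sum_add_distrib, ← Finset.mul_sum, hso,
      mul_zero, zero_add]
  have : Ψ a - ψ a = bF ⟨a, haF⟩ := rfl
  rw [← hbval, ← this]
  ring

end Cfsg.Agent.Lib.Helper89.PF127Four
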