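import Mathlib
import Cfsg.Agent.Lib.Helper40.OrthModel
import Cfsg.Agent.Lib.Helper40.SpTorus

/-!
# Non-split torus model of order dividing `q ^ d + 1` in `O^-_{2d}(q)` (helper89, for helper40's S2474)

`orthModel_torus_minus`: multiplication by an element of norm one of `K = F_{q^{2d}}`
preserves the symmetric nondegenerate form `Tr_{K/F}(x * y^{q^d})`.
-/

set_option autoImplicit false
set_option linter.unusedSectionVars false

namespace Cfsg.Agent.Lib.Helper89.OrthTorusMinus

open Matrix Module Cfsg.Agent.Lib.Helper40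

/-- the trace of a finite field extension is invariant under `w ↦ w ^ (q ^ i)` -/
theorem trace_pow_card_pow {F : Type*} [Field F] [Fintype F] {K : Type*} [Field K] [Finite K]
    [Algebra F K] (w : K) (i : ℕ) :
    Algebra.trace F K (w ^ (Fintype.card F ^ i)) = Algebra.trace F K w := by
  induction i with
  | zero => rw [pow_zero, pow_one]
  | succ i ih =>
    have h1 : w ^ (Fintype.card F ^ (i + 1)) =
        (FiniteField.frobeniusAlgEquivOfAlgebraic F K) (w ^ (Fintype.card F ^ i)) := by
      rw [FiniteField.coe_frobeniusAlgEquivOfAlgebraic]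
      show _ = (w ^ (Fintype.card F ^ i)) ^ Fintype.card F
      rw [← pow_mul, pow_succ]
    rw [h1, Algebra.trace_eq_of_algEquiv, ih]

theorem orthModel_torus_minus {F : Type*} [Field F] [Fintype F] (d : ℕ) (hd : 1 ≤ d) (t : ℕ)
    (ht : t ∣ Fintype.card F ^ d + 1) : OrthModel F (2 * d) t := by
  classical
  obtain ⟨p, hchar⟩ := CharP.exists F
  have hpp : p.Prime := CharP.char_is_prime F p
  have : Fact p.Prime := ⟨hpp⟩
  have : NeZero (2 * d) := ⟨by omega⟩
  obtain ⟨e, hep, heq⟩ := FiniteField.card F p
  have hq2 : 2 ≤ Fintype.card F := Fintype.one_lt_card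
  have hfr : finrank F (FiniteField.Extension F p (2 * d)) = 2 * d :=
    FiniteField.finrank_extension F p (2 * d)
  have : CharP (FiniteField.Extension F p (2 * d)) p :=
    charP_of_injective_algebraMap (algebraMap F (FiniteField.Extension F p (2 * d))).injective p
  have hcardE : Nat.card (FiniteField.Extension F p (2 * d)) = Fintype.card F ^ (2 * d) := by
    rw [FiniteField.natCard_extension, Nat.card_eq_fintype_card]
  obtain ⟨Q, hQ⟩ : ∃ Q : ℕ, Q = Fintype.card F ^ d := ⟨_, rfl⟩
  have hQp : Q = p ^ ((e : ℕ) * d) := by rw [hQ, heq, pow_mul]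
  have hQ1 : 1 ≤ Q := by rw [hQ]; exact Nat.one_le_pow _ _ (by omega)
  have hQsq : Fintype.card F ^ (2 * d) = Q * Q := by rw [hQ, ← pow_add, two_mul]
  have hQQ : ∀ x : FiniteField.Extension F p (2 * d), (x ^ Q) ^ Q = x := by
    intro x
    rw [← pow_mul, ← hQsq, ← hcardE]
    exact pow_natCard_eq x
  have hQadd : ∀ x y : FiniteField.Extension F p (2 * d), (x + y) ^ Q = x ^ Q + y ^ Q := by
    intro x y
    rw [hQp, add_pow_char_pow]
  have hQF : ∀ a : F, (algebraMap F (FiniteField.Extension F p (2 * d)) a) ^ Q =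
      algebraMap F (FiniteField.Extension F p (2 * d)) a := by
    intro a
    rw [← map_pow, hQ, FiniteField.pow_card_pow]
  have htrQ : ∀ w : FiniteField.Extension F p (2 * d),
      Algebra.trace F (FiniteField.Extension F p (2 * d)) (w ^ Q) =
        Algebra.trace F (FiniteField.Extension F p (2 * d)) w := by
    intro w
    rw [hQ]
    exact trace_pow_card_pow w d
  -- the form
  let β : LinearMap.BilinForm F (FiniteField.Extension F p (2 * d)) :=
    LinearMap.mk₂ F (fun x y => Algebra.trace F (FiniteField.Extension F p (2 * d)) (x * y ^ Q))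
      (by intro x x' y; rw [add_mul, map_add])
      (by intro a x y; rw [smul_mul_assoc, map_smul])
      (by intro x y y'; rw [hQadd, mul_add, map_add])
      (by intro a x y; rw [Algebra.smul_def, mul_pow, hQF, ← Algebra.smul_def, mul_smul_comm,
        map_smul])
  have hβdef : ∀ x y, β x y =
      Algebra.trace F (FiniteField.Extension F p (2 * d)) (x * y ^ Q) := fun x y => rfl
  have hβsymm : ∀ x y, β x y = β y x := by
    intro x y
    rw [hβdef, hβdef, ← htrQ (x * y ^ Q), mul_pow, hQQ, mul_comm (x ^ Q) y]
  have hnd : ∀ x, (∀ y, β x y = 0) → x = 0 := by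
    intro x hx
    exact (traceForm_nondegenerate F (FiniteField.Extension F p (2 * d))).1 x
      (fun z => by
        rw [Algebra.traceForm_apply]
        have := hx (z ^ Q)
        rw [hβdef, hQQ] at this
        exact this)
  -- the element
  have ht' : t ∣ Fintype.card F ^ (2 * d) - 1 := by
    rw [hQsq, sq_sub_one_eq Q hQ1]
    rw [← hQ] at ht
    exact Dvd.dvd.mul_left ht _
  obtain ⟨c, hc⟩ := exists_orderOf_units_extension (F := F) p (2 * d) t ht'
  have hcQ : (c : FiniteField.Extension F p (2 * d)) *
      (c : FiniteField.Extension F p (2 * d)) ^ Q = 1 := by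
    have h1 : c ^ (Q + 1) = 1 := by
      apply orderOf_dvd_iff_pow_eq_one.mp
      rw [hc, hQ]
      exact ht
    have h2 := congrArg Units.val h1
    rw [Units.val_pow_eq_pow_val, Units.val_one, pow_succ'] at h2
    exact h2
  have : Module.Finite F (FiniteField.Extension F p (2 * d)) := Module.finite_of_finrank_pos
    (by rw [hfr]; omega)
  let b : Basis (Fin (2 * d)) F (FiniteField.Extension F p (2 * d)) :=
    Module.finBasisOfFinrankEq F _ hfr
  obtain ⟨B, hBdef⟩ : ∃ B : Matrix (Fin (2 * d)) (Fin (2 * d)) F,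
      B = LinearMap.BilinForm.toMatrix b β := ⟨_, rfl⟩
  obtain ⟨M, hMdef⟩ : ∃ M : Matrix (Fin (2 * d)) (Fin (2 * d)) F,
      M = Algebra.leftMulMatrix b (c : FiniteField.Extension F p (2 * d)) := ⟨_, rfl⟩
  have hBapp : ∀ i j, B i j = β (b i) (b j) := by
    intro i j
    rw [hBdef, LinearMap.BilinForm.toMatrix_apply]
  have hMapp : ∀ i j, M i j = b.repr ((c : FiniteField.Extension F p (2 * d)) * b j) i := by
    intro i j
    rw [hMdef, Algebra.leftMulMatrix_eq_repr_mul]
  refine ⟨B, M, ?_, ?_, ?_, ?_⟩
  · ext i j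
    rw [Matrix.transpose_apply, hBapp, hBapp]
    exact hβsymm _ _
  · have hnd' : β.Nondegenerate := by
      refine ⟨fun x hx => hnd x hx, fun y hy => hnd y (fun x => ?_)⟩
      rw [hβsymm]
      exact hy x
    rw [hBdef]
    exact (LinearMap.BilinForm.nondegenerate_iff_det_ne_zero b).mp hnd'
  · ext i j
    rw [Matrix.mul_apply]
    simp only [Matrix.mul_apply, Matrix.transpose_apply]
    have hexp : ∀ k : Fin (2 * d), (c : FiniteField.Extension F p (2 * d)) * b k =
        ∑ l, M l k • b l := by
      intro k
      conv_lhs => rw [← b.sum_repr ((c : FiniteField.Extension F p (2 * d)) * b k)]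
      refine Finset.sum_congr rfl (fun l _ => ?_)
      rw [hMapp]
    have h1 : β ((c : FiniteField.Extension F p (2 * d)) * b i)
        ((c : FiniteField.Extension F p (2 * d)) * b j) = β (b i) (b j) := by
      rw [hβdef, hβdef]
      congr 1
      rw [mul_pow]
      linear_combination (b i * (b j) ^ Q) * hcQ
    rw [hBapp, ← h1, hexp i, hexp j]
    simp only [map_sum, map_smul, LinearMap.sum_apply, LinearMap.smul_apply, smul_eq_mul]
    refine Finset.sum_congr rfl (fun l _ => ?_)
    rw [mul_comm]
    congr 1
    refine Finset.sum_congr rfl (fun k _ => ?_)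
    rw [hBapp]
  · have h2 := orderOf_injective (Algebra.leftMulMatrix b).toRingHom.toMonoidHom
      (Algebra.leftMulMatrix_injective b) (c : FiniteField.Extension F p (2 * d))
    rw [hMdef]
    rw [orderOf_units, hc] at h2
    exact h2

end Cfsg.Agent.Lib.Helper89.OrthTorusMinus
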