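import Mathlib
import Cfsg.Prelude.Def_Local
import Cfsg.Prelude.Def_Transfer
import Cfsg.Agent.Lib.Helper41.PGV.Defs
import Cfsg.Agent.Lib.Helper41.PGV.Defs2

/-!
# Project PGV (S3086), sub-project RED, sheet part 2 (helper41): leaves `[RED-3]` and `[RED-3-COR]`, in `_of` form

`red_3_of`: the `A`-orbit of `K1` is `{K1, K1^a}`, from `loc`, `delta_basic` (2nd part), `delta_conj` (2nd part), `delta_comp`
taken as hypotheses (exact statements of the sheet).  `red_3_cor_of`: `A = B ∪ aB`, `|A| = 2 |B|`, from `red_3`.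
-/

set_option autoImplicit false
set_option linter.unusedSectionVars false

universe v

namespace Cfsg.Agent.Lib.Helper89.PgvRed3

open Cfsg Cfsg.Agent.Lib.Helper41.PGV

variable {p : ℕ} [Fact p.Prime] {G V : Type v} [Group G] [Finite G] [AddCommGroup V] [Finite V] [Module (ZMod p) V]
  {ρ : Representation (ZMod p) G V} {A K1 : Subgroup G} {a : G}

/-- `a ≠ 1` in a counterexample. -/
theorem a_ne_one (h : CE ρ A K1 a) : a ≠ 1 := by
  rintro rfl
  apply h.move
  ext y
  constructor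
  · rintro ⟨x, hx, rfl⟩
    simpa using hx
  · intro hy
    exact ⟨y, hy, by simp⟩

/-- elements of `A` commute. -/
theorem comm_of_mem (h : CE ρ A K1 a) {x y : G} (hx : x ∈ A) (hy : y ∈ A) : x * y = y * x := by
  have hc := h.el.1
  have := hc.is_comm.comm (⟨x, hx⟩ : A) ⟨y, hy⟩
  exact congrArg Subtype.val this

/-- **[RED-3]** in `_of` form. -/
theorem red_3_of (h : CE ρ A K1 a)
    (hloc : ∀ (D H L : Subgroup G), D ≤ A → D ≠ ⊥ → H ≤ Subgroup.centralizer (D : Set G) → A ≤ H → L ≤ H →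
      IsComponent (L.subgroupOf H) → ∀ b ∈ A,
      (∀ x ∈ L, ∀ y ∈ L, (b * x * b⁻¹) * y = y * (b * x * b⁻¹)) → False)
    (hbasic : ∀ u ∈ Delta K1 a, a * u = u * a)
    (hconj : ∀ b ∈ A, ¬ (cj K1 b = K1 ∨ cj K1 b = cj K1 a) →
      ∀ u ∈ Delta K1 a, ∀ w ∈ Delta K1 a, (b * u * b⁻¹) * w = w * (b * u * b⁻¹))
    (hcomp : IsComponent ((Delta K1 a).subgroupOf (Delta K1 a ⊔ A)))
    (b : G) (hb : b ∈ A) : cj K1 b = K1 ∨ cj K1 b = cj K1 a := by
  by_contra hnot
  refine hloc (Subgroup.zpowers a) (Delta K1 a ⊔ A) (Delta K1 a) ?_ ?_ ?_ le_sup_right le_sup_left hcomp b hb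
    (hconj b hb hnot)
  · rw [Subgroup.zpowers_le]
    exact h.mem
  · intro hbot
    exact a_ne_one h (Subgroup.zpowers_eq_bot.mp hbot)
  · -- `Δ ⊔ A ≤ C(⟨a⟩)`
    rw [Subgroup.zpowers_eq_closure, Subgroup.centralizer_closure]
    refine sup_le ?_ ?_
    · intro u hu
      rw [Subgroup.mem_centralizer_iff]
      intro g hg
      rw [Set.mem_singleton_iff] at hg
      subst hg
      exact hbasic u hu
    · intro u hu
      rw [Subgroup.mem_centralizer_iff]
      intro g hg
      rw [Set.mem_singleton_iff] at hg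
      subst hg
      exact comm_of_mem h h.mem hu

/-- `K1^1 = K1`. -/
theorem cj_one (K : Subgroup G) : cj K 1 = K := by
  ext y
  rw [mem_cj]
  constructor
  · rintro ⟨x, hx, rfl⟩
    simpa using hx
  · intro hy
    exact ⟨y, hy, by simp⟩

/-- `(K^b)^c = K^(cb)`. -/
theorem cj_cj (K : Subgroup G) (b c : G) : cj (cj K b) c = cj K (c * b) := by
  ext y
  simp only [mem_cj]
  constructor
  · rintro ⟨x, ⟨z, hz, rfl⟩, rfl⟩
    exact ⟨z, hz, by group⟩
  · rintro ⟨z, hz, rfl⟩
    exact ⟨b * z * b⁻¹, ⟨z, hz, rfl⟩, by group⟩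

/-- `K^b = K` puts `b` in the normalizer. -/
theorem mem_normalizer_of_cj_eq {K : Subgroup G} {b : G} (hb : cj K b = K) : b ∈ Subgroup.normalizer (K : Set G) := by
  rw [Subgroup.mem_normalizer_iff]
  intro x
  constructor
  · intro hx
    rw [← hb]
    exact mem_cj.mpr ⟨x, hx, rfl⟩
  · intro hx
    rw [← hb] at hx
    obtain ⟨z, hz, hzx⟩ := mem_cj.mp hx
    have : x = z := by
      have := congrArg (fun t => b⁻¹ * t * b) hzx
      simpa [mul_assoc] using this
    rw [this]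
    exact hz

/-- **[RED-3-COR]** in `_of` form. -/
theorem red_3_cor_of (hp : p = 2) (h : CE ρ A K1 a)
    (hred3 : ∀ b ∈ A, cj K1 b = K1 ∨ cj K1 b = cj K1 a) :
    (∀ b ∈ A, b ∈ NA A K1 ∨ a * b ∈ NA A K1) ∧ Nat.card A = 2 * Nat.card (NA A K1) := by
  have haa : a * a = 1 := by
    have := h.el.2 a h.mem
    rw [hp, pow_two] at this
    exact this
  have hmain : ∀ b ∈ A, b ∈ NA A K1 ∨ a * b ∈ NA A K1 := by
    intro b hb
    rcases hred3 b hb with h1 | h1
    · exact Or.inl ⟨hb, mem_normalizer_of_cj_eq h1⟩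
    · refine Or.inr ⟨A.mul_mem h.mem hb, mem_normalizer_of_cj_eq ?_⟩
      rw [← cj_cj, h1, cj_cj, haa, cj_one]
  have hanot : a ∉ NA A K1 := by
    intro ha
    apply h.move
    have h2 : a ∈ Subgroup.normalizer (K1 : Set G) := ha.2
    rw [Subgroup.mem_normalizer_iff] at h2
    ext y
    constructor
    · rintro ⟨x, hx, rfl⟩
      exact (h2 x).mp hx
    · intro hy
      refine ⟨a⁻¹ * y * a, ?_, ?_⟩
      · show a⁻¹ * y * a ∈ K1
        rw [h2]
        simpa [mul_assoc] using hy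
      · simp [mul_assoc]
  refine ⟨hmain, ?_⟩
  have hidx : ((NA A K1).subgroupOf A).index = 2 := by
    rw [Subgroup.index_eq_two_iff]
    refine ⟨⟨a, h.mem⟩, ?_⟩
    intro b
    by_cases hbB : b ∈ (NA A K1).subgroupOf A
    · refine Or.inr ⟨hbB, ?_⟩
      intro hba
      apply hanot
      have := Subgroup.mul_mem _ (Subgroup.inv_mem _ hbB) hba
      rw [Subgroup.mem_subgroupOf] at this
      simpa using this
    · refine Or.inl ⟨?_, hbB⟩
      rw [Subgroup.mem_subgroupOf] at hbB ⊢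
      rcases hmain b.1 b.2 with h1 | h1
      · exact absurd h1 hbB
      · have hc : (b * ⟨a, h.mem⟩ : A).1 = a * b.1 := comm_of_mem h b.2 h.mem
        rw [hc]
        exact h1
  have hcard : Nat.card ((NA A K1).subgroupOf A) = Nat.card (NA A K1) :=
    Nat.card_congr (Subgroup.subgroupOfEquivOfLe (inf_le_left : NA A K1 ≤ A)).toEquiv
  have := Subgroup.card_mul_index ((NA A K1).subgroupOf A)
  rw [hidx, hcard] at this
  omega

end Cfsg.Agent.Lib.Helper89.PgvRed3
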