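import Mathlib
import Cfsg.Prelude.Def_Solvable

set_option autoImplicit false

namespace Cfsg.Agent.Lib.Helper89.S3999

/-- Computation: `SL(2,5)` has exactly 24 nontrivial elements killed by the fifth power. -/
theorem sl25_card_pow_five :
    Fintype.card {g : Matrix.SpecialLinearGroup (Fin 2) (ZMod 5) // g ^ 5 = 1 ∧ g ≠ 1} = 24 := by
  decide +kernel

/-- [SL25] `SL(2,5)` has exactly 24 elements of order 5. -/
theorem sl25_card_order_five :
    Nat.card {g : Matrix.SpecialLinearGroup (Fin 2) (ZMod 5) // orderOf g = 5} = 24 := by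
  have : Fact (Nat.Prime 5) := ⟨by norm_num⟩
  have e : {g : Matrix.SpecialLinearGroup (Fin 2) (ZMod 5) // orderOf g = 5} ≃
      {g : Matrix.SpecialLinearGroup (Fin 2) (ZMod 5) // g ^ 5 = 1 ∧ g ≠ 1} :=
    Equiv.subtypeEquivRight (fun g => orderOf_eq_prime_iff)
  rw [Nat.card_congr e, Nat.card_eq_fintype_card]
  exact sl25_card_pow_five

end Cfsg.Agent.Lib.Helper89.S3999
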