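import Mathlib
import Cfsg.Prelude.Def_ChevStructure
import Cfsg.Prelude.Def_LieTypes
import Cfsg.Prelude.Def_ChevB2
import Cfsg.Agent.Lib.Helper18.BN6
import Cfsg.Agent.Lib.Helper18.ChevDataAll
import Cfsg.Agent.S1038

/-!
# The rank one index `[B : B ∩ n_p⁻¹ B n_p] = q` in the Chevalley groups
(helper89, module [RANK1] of helper5's S2319)
-/

set_option autoImplicit false

namespace Cfsg.Agent.Lib.Helper89.ChevRankOne

open Cfsg Cfsg.Lie Cfsg.Agent.Lib.Helper18

universe u

theorem card_borel_conj {F : Type u} [Field F] [Fintype F] (D : ChevalleyDatum)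
    (hD : D ∈ [chevG2, chevB2, chevD4, chevF4, chevE6, chevE7, chevE8]) (i : ℕ) (hi : i < D.rank)
    (s : GL D.Idx F) (hs : (s : Matrix D.Idx D.Idx F) = D.nMat F (D.simple i) 1) :
    Fintype.card F * Nat.card {b : GL D.Idx F // b ∈ D.borelSubgroup F ∧
      s * b * s⁻¹ ∈ D.borelSubgroup F} = Nat.card ↥(D.borelSubgroup F) := by
  classical
  obtain ⟨C⟩ := nonempty_chevData.{u} D hD
  have hp : D.simple i < D.nroots := C.simple_lt i hi
  have hhalf : D.nroots / 2 ≤ D.simple i := C.half_le_simple i hi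
  have hsn : s = nG hD (D.simple i) hp := Units.ext (by rw [hs, coe_nG])
  have hsG : s = sG hD C i := by rw [sG_of_lt hD C i hi]; exact hsn
  have hppos : D.IsPosRoot (D.simple i) := (isPosRoot_iff hD _).mpr ⟨hp, hhalf⟩
  -- the negative of `p`
  have hnegp_lt : C.T.neg (D.simple i) < D.nroots := by
    have h1 := C.nroots_eq
    unfold FastDatum.neg
    omega
  have hnegp_half : C.T.neg (D.simple i) < D.nroots / 2 := by
    have h1 := C.nroots_eq
    have h2 := C.heven
    unfold FastDatum.neg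
    omega
  -- conjugating `x_p(c)` by `s`
  have hconj : ∀ c : F, s * xG hD (D.simple i) c * s⁻¹ =
      xG hD (C.T.neg (D.simple i)) ((C.eta i (D.simple i) : F) * c) := by
    intro c
    rw [hsn, nG_conj_xG hD C i _ hi hp, w_simple C i hi]
  -- the map
  have hmem : ∀ (t : F) (b : GL D.Idx F), b ∈ D.borelSubgroup F →
      xG hD (D.simple i) t * b ∈ D.borelSubgroup F := fun t b hb =>
    mul_mem (borel_of_posUnipotent _ (xG_mem_posUnipotent hD _ t hppos)) hb
  let φ : F × {b : GL D.Idx F // b ∈ D.borelSubgroup F ∧ s * b * s⁻¹ ∈ D.borelSubgroup F} →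
      ↥(D.borelSubgroup F) := fun x => ⟨xG hD (D.simple i) x.1 * x.2.1, hmem x.1 x.2.1 x.2.2.1⟩
  have hinj : Function.Injective φ := by
    rintro ⟨t, b, hb, hbs⟩ ⟨t', b', hb', hbs'⟩ h
    have h1 : xG hD (D.simple i) t * b = xG hD (D.simple i) t' * b' := congrArg Subtype.val h
    -- `x_p(t - t') = b' b⁻¹`
    have h2 : xG hD (D.simple i) (-t' + t) = b' * b⁻¹ := by
      rw [← xG_mul, ← xG_inv]
      calc (xG hD (D.simple i) t')⁻¹ * xG hD (D.simple i) t
          = (xG hD (D.simple i) t')⁻¹ * (xG hD (D.simple i) t * b) * b⁻¹ := by group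
        _ = b' * b⁻¹ := by rw [h1]; group
    have h3 : s * xG hD (D.simple i) (-t' + t) * s⁻¹ ∈ D.borelSubgroup F := by
      rw [h2]
      have e : s * (b' * b⁻¹) * s⁻¹ = (s * b' * s⁻¹) * (s * b * s⁻¹)⁻¹ := by group
      rw [e]
      exact mul_mem hbs' (inv_mem hbs)
    rw [hconj] at h3
    have h4 : (C.eta i (D.simple i) : F) * (-t' + t) = 0 := by
      by_contra hne
      exact xG_neg_not_mem_borel hD _ hnegp_lt hnegp_half _ hne h3
    have h5 : -t' + t = 0 := by
      rcases mul_eq_zero.mp h4 with h | h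
      · exact absurd h (C.eta_ne_zero i (D.simple i))
      · exact h
    have htt : t = t' := by
      have : t = t' + (-t' + t) := by ring
      rw [this, h5, add_zero]
    subst htt
    have hbb : b = b' := mul_left_cancel h1
    subst hbb
    rfl
  have hsurj : Function.Surjective φ := by
    rintro ⟨b₀, hb₀⟩
    obtain ⟨u, hu, h, hh, rfl⟩ := (mem_borel_iff D hD b₀).mp hb₀
    obtain ⟨u', hu', t, rfl⟩ := exists_Up_mul_xG hD C i hi u hu
    -- move `x_p(t)` to the left
    have hnorm := rootSubgroup_le_normalizer_Up (F := F) hD C i hi (D.simple i) (Or.inl rfl)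
    have hxinv : (xG hD (D.simple i) t)⁻¹ ∈ D.rootSubgroup F (D.simple i) := by
      rw [xG_inv]
      exact (mem_rootSubgroup_iff hD _ _).mpr ⟨-t, rfl⟩
    have hu'' : (xG hD (D.simple i) t)⁻¹ * u' * xG hD (D.simple i) t ∈ Up D F i := by
      have h1 := (Subgroup.mem_normalizer_iff.mp (hnorm hxinv) u').mp hu'
      rw [inv_inv] at h1
      exact h1
    have hbB : (xG hD (D.simple i) t)⁻¹ * u' * xG hD (D.simple i) t * h ∈ D.borelSubgroup F :=
      mul_mem (borel_of_posUnipotent _ (Up_le_posUnipotent D i hu'')) (borel_of_diagonal _ hh)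
    have hbs : s * ((xG hD (D.simple i) t)⁻¹ * u' * xG hD (D.simple i) t * h) * s⁻¹ ∈
        D.borelSubgroup F := by
      have e : s * ((xG hD (D.simple i) t)⁻¹ * u' * xG hD (D.simple i) t * h) * s⁻¹ =
          (s * ((xG hD (D.simple i) t)⁻¹ * u' * xG hD (D.simple i) t) * s⁻¹) * (s * h * s⁻¹) := by
        group
      rw [e]
      apply mul_mem
      · apply borel_of_posUnipotent
        apply Up_le_posUnipotent D i
        rw [hsG]
        exact (sG_conj_mem_Up hD C i hi _ hu'').1
      · apply borel_of_diagonal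
        exact Cfsg.Agent.S1038.conj_mem D hD _ hp s hs h hh
    refine ⟨(t, ⟨_, hbB, hbs⟩), ?_⟩
    apply Subtype.ext
    show xG hD (D.simple i) t * ((xG hD (D.simple i) t)⁻¹ * u' * xG hD (D.simple i) t * h) = _
    group
  rw [← Nat.card_eq_fintype_card, ← Nat.card_prod]
  exact Nat.card_eq_of_bijective φ ⟨hinj, hsurj⟩

end Cfsg.Agent.Lib.Helper89.ChevRankOne
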