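import Mathlib

/-!
# The rank of a polynomial matrix is lower semicontinuous
(helper89, module [RS] of helper5's S2319)

For a matrix `M` over `ℂ[X]` and a point `a`, the set of points `c` where the rank of the
specialisation `M(c)` drops below the rank of `M(a)` is finite.
-/

set_option autoImplicit false

namespace Cfsg.Agent.Lib.Helper89.RankSemicont

open Polynomial
open scoped ComplexOrder

theorem finite_rank_lt {m n : Type*} [Fintype m] [Fintype n] [DecidableEq m] [DecidableEq n]
    (M : Matrix m n ℂ[X]) (a : ℂ) :
    {c : ℂ | (M.map (Polynomial.eval c)).rank < (M.map (Polynomial.eval a)).rank}.Finite := by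
  classical
  obtain ⟨A, hA⟩ : ∃ A : Matrix m n ℂ, A = M.map (Polynomial.eval a) := ⟨_, rfl⟩
  rw [← hA]
  -- independent columns of `A`
  obtain ⟨f, hf, -, hli⟩ := Submodule.exists_fun_fin_finrank_span_eq ℂ (Set.range A.col)
  have hr : A.rank = Module.finrank ℂ ↥(Submodule.span ℂ (Set.range A.col)) :=
    A.rank_eq_finrank_span_cols
  choose j hj using hf
  -- the column submatrices
  obtain ⟨C, hC⟩ : ∃ C : ℂ → Matrix m (Fin (Module.finrank ℂ ↥(Submodule.span ℂ (Set.range A.col)))) ℂ,
      C = fun c => (M.map (Polynomial.eval c)).submatrix id j := ⟨_, rfl⟩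
  have hCa_col : (C a).col = f := by
    funext i
    rw [← hj i, hC]
    funext k
    exact (congrFun (congrFun hA k) (j i)).symm
  have hCa_rank : (C a).rank = Module.finrank ℂ ↥(Submodule.span ℂ (Set.range A.col)) := by
    rw [Matrix.rank_eq_finrank_span_cols, hCa_col, finrank_span_eq_card hli, Fintype.card_fin]
  have hCle : ∀ c, (C c).rank ≤ (M.map (Polynomial.eval c)).rank := by
    intro c
    rw [hC]
    exact Matrix.rank_submatrix_le _ id j
  -- the polynomial
  obtain ⟨P, hP⟩ : ∃ P : ℂ[X],
      P = (((C a).conjTranspose.map Polynomial.C) * M.submatrix id j).det := ⟨_, rfl⟩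
  have heval : ∀ c, P.eval c = ((C a).conjTranspose * C c).det := by
    intro c
    have h1 := RingHom.map_det (Polynomial.evalRingHom c)
      (((C a).conjTranspose.map Polynomial.C) * M.submatrix id j)
    rw [Polynomial.coe_evalRingHom] at h1
    rw [hP, h1, RingHom.mapMatrix_apply, Matrix.map_mul]
    congr 2
    · ext i k
      simp
    · rw [hC]
      rfl
  -- full rank square matrices have nonzero determinant
  have hdet_of_rank : ∀ N : Matrix (Fin (Module.finrank ℂ ↥(Submodule.span ℂ (Set.range A.col))))
      (Fin (Module.finrank ℂ ↥(Submodule.span ℂ (Set.range A.col)))) ℂ,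
      N.rank = Module.finrank ℂ ↥(Submodule.span ℂ (Set.range A.col)) → N.det ≠ 0 := by
    intro N hN
    have hsurj : Function.Surjective N.mulVec := by
      have h1 : LinearMap.range N.mulVecLin = ⊤ := by
        apply Submodule.eq_top_of_finrank_eq
        rw [Module.finrank_fintype_fun_eq_card, Fintype.card_fin]
        exact hN
      intro v
      have hv : v ∈ LinearMap.range N.mulVecLin := by rw [h1]; trivial
      obtain ⟨w, hw⟩ := hv
      exact ⟨w, hw⟩
    have hunit := Matrix.mulVec_surjective_iff_isUnit.mp hsurj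
    exact ((Matrix.isUnit_iff_isUnit_det N).mp hunit).ne_zero
  have hPa : P.eval a ≠ 0 := by
    rw [heval]
    apply hdet_of_rank
    rw [Matrix.rank_conjTranspose_mul_self, hCa_rank]
  have hP0 : P ≠ 0 := by
    intro h0
    rw [h0, Polynomial.eval_zero] at hPa
    exact hPa rfl
  -- the bad set is contained in the roots of `P`
  apply Set.Finite.subset (P.roots.toFinset.finite_toSet)
  intro c hc
  rw [Set.mem_ofPred_eq] at hc
  rw [Finset.mem_coe, Multiset.mem_toFinset, Polynomial.mem_roots hP0, Polynomial.IsRoot.def]
  by_contra hne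
  rw [heval] at hne
  have hunit : IsUnit ((C a).conjTranspose * C c) :=
    (Matrix.isUnit_iff_isUnit_det _).mpr (isUnit_iff_ne_zero.mpr hne)
  have h2 := Matrix.rank_of_isUnit _ hunit
  rw [Fintype.card_fin] at h2
  have h3 := Matrix.rank_mul_le_right (C a).conjTranspose (C c)
  have h4 := hCle c
  rw [hr] at hc
  omega

end Cfsg.Agent.Lib.Helper89.RankSemicont
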