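import Mathlib

/-!
# Livingstone–Wagner: swaps from involutions (helper89, module [PARITY] of helper59's S0745/S0746)
-/

set_option autoImplicit false
set_option linter.unusedSectionVars false

namespace Cfsg.Agent.Lib.Helper89.LW

open Equiv MulAction

theorem swap_of_involutions {α : Type*} [Fintype α] [DecidableEq α] (G : Subgroup (Equiv.Perm α))
    (E : Finset α)
    (hsharp : ∀ g ∈ G, ∀ a b : α, a ∉ E → b ∉ E → a ≠ b → (∀ e ∈ E, g e = e) → g a = a →
      g b = b → g = 1)
    (hinv : ∀ z : α, z ∉ E → ∃ w ∈ G, w ≠ 1 ∧ w * w = 1 ∧ (∀ e ∈ E, w e = e) ∧ w z = z)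
    (a b : α) (ha : a ∉ E) (hb : b ∉ E) (hab : a ≠ b) :
    ∃ w ∈ G, (∀ e ∈ E, w e = e) ∧ w a = b ∧ w b = a := by
  classical
  choose! w hwG hw1 hww hwE hwz using hinv
  have hinvol : ∀ z, z ∉ E → ∀ x, w z (w z x) = x := by
    intro z hz x
    have := congrArg (fun f : Perm α => f x) (hww z hz)
    simpa using this
  have hnotE : ∀ z, z ∉ E → ∀ x, x ∉ E → w z x ∉ E := by
    intro z hz x hx hmem
    apply hx
    have h1 := hwE z hz _ hmem
    rw [hinvol z hz x] at h1
    rw [h1]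
    exact hmem
  have hne : ∀ z, z ∉ E → z ≠ a → w z a ≠ a := by
    intro z hz hza h
    exact hw1 z hz (hsharp (w z) (hwG z hz) z a hz ha hza (hwE z hz) (hwz z hz) h)
  let φ : {z : α // z ∉ E ∧ z ≠ a} → {z : α // z ∉ E ∧ z ≠ a} :=
    fun z => ⟨w z.1 a, hnotE z.1 z.2.1 a ha, hne z.1 z.2.1 z.2.2⟩
  have hφinj : Function.Injective φ := by
    rintro ⟨z, hzE, hza⟩ ⟨z', hz'E, hz'a⟩ h
    have hc : w z a = w z' a := congrArg Subtype.val h
    apply Subtype.ext
    show z = z'
    by_contra hzz'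
    have hca : w z a ≠ a := hne z hzE hza
    have hcE : w z a ∉ E := hnotE z hzE a ha
    -- `g = w z' * w z` fixes `E`, `a` and `c = w z a`
    have hg1 : w z' * w z = 1 := by
      apply hsharp (w z' * w z) (G.mul_mem (hwG z' hz'E) (hwG z hzE)) a (w z a) ha hcE
        (Ne.symm hca)
      · intro e he
        rw [Perm.mul_apply, hwE z hzE e he, hwE z' hz'E e he]
      · rw [Perm.mul_apply, hc, hinvol z' hz'E]
      · rw [Perm.mul_apply, hinvol z hzE, hc]
    have heq : w z' = w z := by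
      have h2 : w z' * w z = w z * w z := by rw [hg1, hww z hzE]
      exact mul_right_cancel h2
    have hfix : w z z' = z' := by
      rw [← heq]
      exact hwz z' hz'E
    exact hw1 z hzE (hsharp (w z) (hwG z hzE) z z' hzE hz'E hzz' (hwE z hzE) (hwz z hzE) hfix)
  have hφsurj : Function.Surjective φ := Finite.injective_iff_surjective.mp hφinj
  obtain ⟨⟨z, hzE, hza⟩, hz⟩ := hφsurj ⟨b, hb, Ne.symm hab⟩
  have hzb : w z a = b := congrArg Subtype.val hz
  refine ⟨w z, hwG z hzE, hwE z hzE, hzb, ?_⟩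
  rw [← hzb, hinvol z hzE]

end Cfsg.Agent.Lib.Helper89.LW
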