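import Mathlib
import Cfsg.Agent.Lib.Helper17.OrderCount

/-!
# Livingstone–Wagner: the Frobenius–Sylow kill (helper89, module [FK] of helper59's S0745/S0746)

Note: the statement needs `X` nonempty (for `X` empty, `K = 1`, `s = 3`, `p = 2` satisfies all
other hypotheses).
-/

set_option autoImplicit false
set_option linter.unusedSectionVars false

namespace Cfsg.Agent.Lib.Helper89.LW

open Equiv MulAction

theorem frobenius_sylow_kill {K X : Type*} [Group K] [Finite K] [MulAction K X] [Fintype X]
    [MulAction.IsPretransitive K X] [Nonempty X] (s p : ℕ) (hp : p.Prime)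
    (hstab : ∀ x : X, Nat.card (MulAction.stabilizer K x) = s) (hs : 2 ≤ s)
    (hfrob : ∀ k : K, ∀ x y : X, x ≠ y → k • x = x → k • y = y → k = 1)
    (hpN : p ∣ Fintype.card X) (hpp : Fintype.card X < p * p) (hps : ¬ p ∣ s)
    (hcop : Nat.Coprime s (p - 1)) : False := by
  classical
  have : Fact p.Prime := ⟨hp⟩
  obtain ⟨N, hN⟩ : ∃ N, N = Fintype.card X := ⟨_, rfl⟩
  rw [← hN] at hpN hpp
  obtain ⟨c, hc⟩ := hpN
  have hNpos : 0 < N := by rw [hN]; exact Fintype.card_pos
  have hcpos : 0 < c := by
    rcases Nat.eq_zero_or_pos c with h0 | h0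
    · rw [h0, mul_zero] at hc; omega
    · exact h0
  have hcp : c < p := by
    by_contra h
    push Not at h
    have : p * p ≤ p * c := Nat.mul_le_mul_left p h
    omega
  obtain ⟨x0⟩ : Nonempty X := inferInstance
  -- the order of `K`
  have hK : Nat.card K = s * N := by
    have h1 := (stabilizer K x0).card_mul_index
    rw [MulAction.index_stabilizer_of_transitive, hstab, Nat.card_eq_fintype_card, ← hN] at h1
    exact h1.symm
  -- Sylow `p`-subgroups have order `p`
  have hfac : (Nat.card K).factorization p = 1 := by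
    rw [hK, hc]
    have hs0 : s ≠ 0 := by omega
    have hpc0 : p * c ≠ 0 := (Nat.mul_pos hp.pos hcpos).ne'
    rw [Nat.factorization_mul hs0 hpc0, Nat.factorization_mul hp.ne_zero hcpos.ne',
      Finsupp.add_apply, Finsupp.add_apply, hp.factorization_self,
      Nat.factorization_eq_zero_of_not_dvd hps,
      Nat.factorization_eq_zero_of_not_dvd (Nat.not_dvd_of_pos_of_lt hcpos hcp)]
    rfl
  have hPcard : ∀ P : Sylow p K, Nat.card (P : Subgroup K) = p := by
    intro P
    rw [Sylow.card_eq_multiplicity, hfac, pow_one]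
  -- elements of order `p` are fixed-point-free
  have hfpf : ∀ g : K, orderOf g = p → ∀ x : X, g • x ≠ x := by
    intro g hg x hx
    have hmem : g ∈ stabilizer K x := hx
    have h1 := Subgroup.orderOf_dvd_natCard (stabilizer K x) hmem
    rw [hg, hstab] at h1
    exact hps h1
  -- counting
  have hcount : N * (s - 1) + Nat.card (Sylow p K) * (p - 1) + 1 ≤ s * N := by
    let f : ((Σ x : X, {k : K // k ∈ stabilizer K x ∧ k ≠ 1}) ⊕ {g : K // orderOf g = p}) ⊕ Unit →
        K := fun t => match t with
      | Sum.inl (Sum.inl a) => a.2.1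
      | Sum.inl (Sum.inr b) => b.1
      | Sum.inr _ => 1
    have hf : Function.Injective f := by
      rintro ((⟨x, k, hk, hk1⟩ | ⟨g, hg⟩) | u) ((⟨x', k', hk', hk1'⟩ | ⟨g', hg'⟩) | u') h
      · have hkk : k = k' := h
        subst hkk
        have hxx : x = x' := by
          by_contra hne
          exact hk1 (hfrob k x x' hne hk hk')
        subst hxx
        rfl
      · exfalso
        have hkk : k = g' := h
        subst hkk
        exact hfpf k hg' x hk
      · exfalso
        exact hk1 h
      · exfalso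
        have hkk : g = k' := h
        subst hkk
        exact hfpf g hg x' hk'
      · have hgg : g = g' := h
        subst hgg
        rfl
      · exfalso
        have hg1 : g = 1 := h
        rw [hg1, orderOf_one] at hg
        exact hp.one_lt.ne hg
      · exfalso
        exact hk1' h.symm
      · exfalso
        have hg1 : g' = 1 := h.symm
        rw [hg1, orderOf_one] at hg'
        exact hp.one_lt.ne hg'
      · rfl
    have h1 := Nat.card_le_card_of_injective f hf
    have h2 : Nat.card (((Σ x : X, {k : K // k ∈ stabilizer K x ∧ k ≠ 1}) ⊕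
        {g : K // orderOf g = p}) ⊕ Unit) =
        N * (s - 1) + Nat.card (Sylow p K) * (p - 1) + 1 := by
      have hU : Nat.card Unit = 1 := by simp
      rw [Nat.card_sum, Nat.card_sum, hU, Nat.card_sigma,
        Cfsg.Agent.Lib.Helper17.card_orderOf_eq_prime hPcard]
      congr 2
      have h3 : ∀ x : X, Nat.card {k : K // k ∈ stabilizer K x ∧ k ≠ 1} = s - 1 := by
        intro x
        rw [Cfsg.Agent.Lib.Helper17.card_subgroup_ne_one, hstab]
      simp only [h3, Finset.sum_const, Finset.card_univ, smul_eq_mul, ← hN]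
    rw [h2, hK] at h1
    exact h1
  -- `n_p = 1`
  have hnp1 : Nat.card (Sylow p K) = 1 := by
    have hmod := card_sylow_modEq_one p K
    have hle : Nat.card (Sylow p K) * (p - 1) + 1 ≤ N := by
      have h4 : s * N = N * (s - 1) + N := by
        obtain ⟨s', rfl⟩ : ∃ s', s = s' + 1 := ⟨s - 1, by omega⟩
        rw [Nat.add_sub_cancel]
        ring
      omega
    by_contra hne
    have hge : p + 1 ≤ Nat.card (Sylow p K) := by
      have hpos : 0 < Nat.card (Sylow p K) := Nat.card_pos
      have h5 : Nat.card (Sylow p K) % p = 1 % p := hmod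
      rw [Nat.mod_eq_of_lt hp.one_lt] at h5
      have h6 := Nat.div_add_mod (Nat.card (Sylow p K)) p
      rw [h5] at h6
      have h7 : Nat.card (Sylow p K) / p ≠ 0 := by
        intro h0
        rw [h0, mul_zero, zero_add] at h6
        exact hne h6.symm
      have h8 : 1 ≤ Nat.card (Sylow p K) / p := Nat.one_le_iff_ne_zero.mpr h7
      have h9 : p * 1 ≤ p * (Nat.card (Sylow p K) / p) := Nat.mul_le_mul_left p h8
      omega
    have h10 : (p + 1) * (p - 1) ≤ Nat.card (Sylow p K) * (p - 1) :=
      Nat.mul_le_mul_right _ hge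
    have h11 : (p + 1) * (p - 1) + 1 = p * p := by
      obtain ⟨p', rfl⟩ : ∃ p', p = p' + 1 := ⟨p - 1, by have := hp.pos; omega⟩
      rw [Nat.add_sub_cancel]
      ring
    omega
  -- the normal Sylow subgroup
  have hsub : Subsingleton (Sylow p K) := by
    rw [← Finite.card_le_one_iff_subsingleton, hnp1]
  obtain ⟨P⟩ : Nonempty (Sylow p K) := inferInstance
  have hPn : (P : Subgroup K).Normal := Sylow.normal_of_subsingleton P
  have hPcyc : IsCyclic (P : Subgroup K) := isCyclic_of_prime_card (hPcard P)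
  obtain ⟨g, hg⟩ := IsCyclic.exists_generator (α := (P : Subgroup K))
  have hgord : orderOf (g : K) = p := by
    rw [Subgroup.orderOf_coe, orderOf_eq_card_of_forall_mem_zpowers hg, hPcard]
  -- a nontrivial element of the stabilizer
  have hstab0 : Nat.card (stabilizer K x0) = s := hstab x0
  obtain ⟨h, hh1⟩ : ∃ h : stabilizer K x0, h ≠ 1 := by
    have : Nontrivial (stabilizer K x0) := by
      rw [← Finite.one_lt_card_iff_nontrivial, hstab0]
      omega
    exact exists_ne 1
  have hhfix : (h : K) • x0 = x0 := h.2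
  have hhne : (h : K) ≠ 1 := fun h0 => hh1 (Subtype.ext h0)
  -- conjugation by `h` is trivial on `P`
  have hconj : MulAut.conjNormal (H := (P : Subgroup K)) (h : K) = 1 := by
    have h1 : orderOf (MulAut.conjNormal (H := (P : Subgroup K)) (h : K)) ∣ s := by
      have h2 := orderOf_map_dvd (MulAut.conjNormal (H := (P : Subgroup K))) (h : K)
      have h3 := Subgroup.orderOf_dvd_natCard (stabilizer K x0) h.2
      rw [hstab0] at h3
      exact h2.trans h3
    have h4 : orderOf (MulAut.conjNormal (H := (P : Subgroup K)) (h : K)) ∣ p - 1 := by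
      have h5 := orderOf_dvd_natCard (MulAut.conjNormal (H := (P : Subgroup K)) (h : K))
      rwa [IsCyclic.card_mulAut, hPcard, Nat.totient_prime hp] at h5
    have h6 := Nat.dvd_gcd h1 h4
    rw [hcop.gcd_eq_one, Nat.dvd_one] at h6
    exact orderOf_eq_one_iff.mp h6
  have hcomm : (h : K) * (g : K) * (h : K)⁻¹ = (g : K) := by
    have h1 := MulAut.conjNormal_apply (H := (P : Subgroup K)) (h : K) g
    rw [hconj] at h1
    exact h1.symm
  have hfix2 : (h : K) • ((g : K) • x0) = (g : K) • x0 := by
    have h1 : (h : K) * (g : K) = (g : K) * (h : K) := by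
      have := congrArg (fun t => t * (h : K)) hcomm
      simpa [mul_assoc] using this
    rw [smul_smul, h1, ← smul_smul, hhfix]
  have hgx : (g : K) • x0 ≠ x0 := hfpf (g : K) hgord x0
  exact hhne (hfrob (h : K) x0 ((g : K) • x0) (Ne.symm hgx) hhfix hfix2)


section apply
variable {α : Type*} [Fintype α] [DecidableEq α]

/-- the pointwise stabilizer of a finite set `E` in `G` -/
def fixE (G : Subgroup (Equiv.Perm α)) (E : Finset α) : Subgroup (Equiv.Perm α) where
  carrier := {g | g ∈ G ∧ ∀ a ∈ E, g a = a}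
  mul_mem' := by
    rintro g h ⟨hg, hgE⟩ ⟨hh, hhE⟩
    refine ⟨G.mul_mem hg hh, fun a ha => ?_⟩
    rw [Perm.mul_apply, hhE a ha, hgE a ha]
  one_mem' := ⟨G.one_mem, fun _ _ => rfl⟩
  inv_mem' := by
    rintro g ⟨hg, hgE⟩
    refine ⟨G.inv_mem hg, fun a ha => ?_⟩
    rw [Perm.inv_eq_iff_eq, hgE a ha]

theorem mem_fixE (G : Subgroup (Equiv.Perm α)) (E : Finset α) (g : Equiv.Perm α) :
    g ∈ fixE G E ↔ g ∈ G ∧ ∀ a ∈ E, g a = a := Iff.rfl

theorem fixE_not_mem (G : Subgroup (Equiv.Perm α)) (E : Finset α) (k : fixE G E) (z : α)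
    (hz : z ∉ E) : (k : Equiv.Perm α) z ∉ E := by
  intro h
  apply hz
  have h1 := k.2.2 _ h
  have h2 := (k : Equiv.Perm α).injective h1
  rw [← h2]
  exact h

instance fixEAction (G : Subgroup (Equiv.Perm α)) (E : Finset α) :
    MulAction (fixE G E) {z : α // z ∉ E} where
  smul k z := ⟨(k : Equiv.Perm α) z.1, fixE_not_mem G E k z.1 z.2⟩
  one_smul _ := Subtype.ext rfl
  mul_smul _ _ _ := Subtype.ext rfl

theorem fixE_smul_val (G : Subgroup (Equiv.Perm α)) (E : Finset α) (k : fixE G E)
    (z : {z : α // z ∉ E}) : ((k • z : {z : α // z ∉ E}) : α) = (k : Equiv.Perm α) z.1 := rfl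

theorem fk_apply (G : Subgroup (Equiv.Perm α)) (e : ℕ)
    (hT : MulAction.IsMultiplyPretransitive G α (e + 1)) (hn : e + 2 ≤ Fintype.card α) (s p : ℕ)
    (hp : p.Prime)
    (hstab : ∀ x : Fin (e + 1) ↪ α, Nat.card (MulAction.stabilizer G x) = s) (hs : 2 ≤ s)
    (hsharp : ∀ g ∈ G, ∀ Γ : Finset α, Γ.card = e + 2 → (∀ a ∈ Γ, g a = a) → g = 1)
    (hpN : p ∣ Fintype.card α - e) (hpp : Fintype.card α - e < p * p) (hps : ¬ p ∣ s)
    (hcop : Nat.Coprime s (p - 1)) : False := by
  classical
  -- an enumeration of an `e`-subset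
  have hle : Fintype.card (Fin e) ≤ Fintype.card α := by rw [Fintype.card_fin]; omega
  obtain ⟨x₀⟩ := Function.Embedding.nonempty_of_card_le hle
  obtain ⟨E, hE⟩ : ∃ E : Finset α, E = Finset.univ.map x₀ := ⟨_, rfl⟩
  have hEmem : ∀ a, a ∈ E ↔ ∃ j, x₀ j = a := by
    intro a
    rw [hE, Finset.mem_map]
    constructor
    · rintro ⟨j, _, rfl⟩; exact ⟨j, rfl⟩
    · rintro ⟨j, rfl⟩; exact ⟨j, Finset.mem_univ _, rfl⟩
  have hEcard : E.card = e := by
    rw [hE, Finset.card_map, Finset.card_univ, Fintype.card_fin]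
  have hXcard : Fintype.card {z : α // z ∉ E} = Fintype.card α - e := by
    rw [Fintype.card_subtype_compl, Fintype.card_coe, hEcard]
  -- the tuples
  have hnr : ∀ z : α, z ∉ E → z ∉ Set.range x₀ := by
    rintro z hz ⟨j, rfl⟩
    exact hz ((hEmem _).mpr ⟨j, rfl⟩)
  let t : {z : α // z ∉ E} → (Fin (e + 1) ↪ α) := fun z =>
    ⟨Fin.cons z.1 x₀, Fin.cons_injective_iff.mpr ⟨hnr z.1 z.2, x₀.injective⟩⟩
  have ht0 : ∀ z, t z 0 = z.1 := fun z => rfl
  have htsucc : ∀ z (j : Fin e), t z j.succ = x₀ j := fun z j =>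
    Fin.cons_succ (α := fun _ : Fin (e + 1) => α) z.1 (⇑x₀) j
  have hfixiff : ∀ (g : G) (z z' : {z : α // z ∉ E}), g • t z = t z' ↔
      ((g : Equiv.Perm α) z.1 = z'.1 ∧ ∀ a ∈ E, (g : Equiv.Perm α) a = a) := by
    intro g z z'
    constructor
    · intro h
      refine ⟨?_, ?_⟩
      · have := congrArg (fun f : Fin (e + 1) ↪ α => f 0) h
        exact this
      · intro a ha
        obtain ⟨j, rfl⟩ := (hEmem a).mp ha
        have := congrArg (fun f : Fin (e + 1) ↪ α => f j.succ) h
        simp only [Function.Embedding.smul_apply, htsucc] at this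
        exact this
    · rintro ⟨h0, hE'⟩
      ext i
      rw [Function.Embedding.smul_apply]
      refine Fin.cases ?_ (fun j => ?_) i
      · exact h0
      · rw [htsucc, htsucc]
        exact hE' _ ((hEmem _).mpr ⟨j, rfl⟩)
  have hXne : Nonempty {z : α // z ∉ E} := by
    rw [← Fintype.card_pos_iff, hXcard]
    omega
  have htrans : MulAction.IsPretransitive (fixE G E) {z : α // z ∉ E} := by
    constructor
    intro z z'
    obtain ⟨g, hg⟩ := hT.exists_smul_eq (t z) (t z')
    rw [hfixiff] at hg
    exact ⟨⟨(g : Equiv.Perm α), g.2, hg.2⟩, Subtype.ext hg.1⟩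
  refine frobenius_sylow_kill (K := fixE G E) (X := {z : α // z ∉ E}) s p hp ?_ hs ?_ ?_ ?_ hps hcop
  · intro z
    rw [← hstab (t z)]
    let f : MulAction.stabilizer (fixE G E) z → MulAction.stabilizer G (t z) := fun k =>
      ⟨⟨((k : fixE G E) : Equiv.Perm α), (k : fixE G E).2.1⟩, by
        rw [MulAction.mem_stabilizer_iff]
        exact (hfixiff ⟨((k : fixE G E) : Equiv.Perm α), (k : fixE G E).2.1⟩ z z).mpr
          ⟨congrArg Subtype.val (k.2 : (k : fixE G E) • z = z), (k : fixE G E).2.2⟩⟩
    have hf : Function.Bijective f := by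
      constructor
      · intro k k' h
        apply Subtype.ext
        apply Subtype.ext
        exact congrArg (fun u : MulAction.stabilizer G (t z) => ((u : G) : Equiv.Perm α)) h
      · intro g
        have hg := (hfixiff (g : G) z z).mp g.2
        refine ⟨⟨⟨((g : G) : Equiv.Perm α), (g : G).2, hg.2⟩, Subtype.ext hg.1⟩, ?_⟩
        apply Subtype.ext
        apply Subtype.ext
        rfl
    exact Nat.card_eq_of_bijective f hf
  · intro k x y hxy hx hy
    have hkx : (k : Equiv.Perm α) x.1 = x.1 := congrArg Subtype.val hx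
    have hky : (k : Equiv.Perm α) y.1 = y.1 := congrArg Subtype.val hy
    have h1 : (k : Equiv.Perm α) = 1 := by
      apply hsharp _ k.2.1 (insert x.1 (insert y.1 E))
      · rw [Finset.card_insert_of_notMem, Finset.card_insert_of_notMem y.2, hEcard]
        rw [Finset.mem_insert]
        rintro (h | h)
        · exact hxy (Subtype.ext h)
        · exact x.2 h
      · intro a ha
        rcases Finset.mem_insert.mp ha with rfl | ha
        · exact hkx
        · rcases Finset.mem_insert.mp ha with rfl | ha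
          · exact hky
          · exact k.2.2 a ha
    exact Subtype.ext h1
  · rw [hXcard]
    exact hpN
  · rw [hXcard]
    exact hpp

end apply

end Cfsg.Agent.Lib.Helper89.LW
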