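/-
helper89: module [TORUS] of helper69's S2156 (automorphisms of the exceptional Chevalley groups):
an automorphism carrying `x_{±α_i}` to `x_{±α_{i'}}` and `x_{α_j}` to `x_{α_{j'}}` intertwines the torus
actions `h_i(t)` and `h_{i'}(f_i t)`.
-/
import Cfsg.Agent.Lib.Helper69.Aut.Defs
import Cfsg.Agent.S1032
import Cfsg.Agent.Lib.Helper18.TorusHom

set_option autoImplicit false

namespace Cfsg.Agent.Lib.Helper89.Aut

open Cfsg Cfsg.Lie Cfsg.Agent.Lib.Helper18 Cfsg.Agent.Lib.Helper91.ChevGen Cfsg.Agent.Lib.Helper69.Aut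

universe u

variable {F : Type u} [Field F] {D : ChevalleyDatum}

/-- The element `h_r(t)` as an element of the group (a product of six root elements). -/
noncomputable def hS (hD : D ∈ [chevG2, chevB2, chevD4, chevF4, chevE6, chevE7, chevE8]) (r : ℕ) (t : F) :
    ↥(D.group F) :=
  xS hD r t * (xS hD (D.neg r) (-t⁻¹) * (xS hD r t *
    (xS hD r (-1) * (xS hD (D.neg r) (-(-1 : F)⁻¹) * xS hD r (-1)))))

theorem coe_hS (hD : D ∈ [chevG2, chevB2, chevD4, chevF4, chevE6, chevE7, chevE8]) (r : ℕ) (t : F) :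
    (((hS hD r t : ↥(D.group F)) : GL D.Idx F) : Matrix D.Idx D.Idx F) = D.hMat F r t := by
  unfold hS ChevalleyDatum.hMat ChevalleyDatum.hWord ChevalleyDatum.nWord ChevalleyDatum.wordMat
  simp only [List.cons_append, List.nil_append, List.map_cons, List.map_nil, List.prod_cons,
    List.prod_nil, mul_one, Subgroup.coe_mul, Units.val_mul, coe_xS, coe_xG]

theorem torus_rel (hD : D ∈ [chevG2, chevB2, chevD4, chevF4, chevE6, chevE7, chevE8])
    (θ : ↥(D.group F) ≃* ↥(D.group F)) (i j i' j' : ℕ) (hi : i < D.rank) (hj : j < D.rank)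
    (hi' : i' < D.rank) (hj' : j' < D.rank) (fi gi fj : F → F)
    (hfi : ∀ t, θ (xS hD (D.simple i) t) = xS hD (D.simple i') (fi t))
    (hgi : ∀ t, θ (xS hD (D.neg (D.simple i)) t) = xS hD (D.neg (D.simple i')) (gi t))
    (hfj : ∀ t, θ (xS hD (D.simple j) t) = xS hD (D.simple j') (fj t))
    (hrk : ∀ t : F, t ≠ 0 → gi (-t⁻¹) = -(fi t)⁻¹) (h1 : fi 1 = 1) :
    ∀ t u : F, t ≠ 0 →
      fj (t ^ (D.cartan i (D.simple j)) * u) = (fi t) ^ (D.cartan i' (D.simple j')) * fj u := by
  intro t u ht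
  have hsi : D.simple i < D.nroots := simple_lt' D hD i hi
  have hsi' : D.simple i' < D.nroots := simple_lt' D hD i' hi'
  have hsj' : D.simple j' < D.nroots := simple_lt' D hD j' hj'
  have hsj : D.simple j < D.nroots := simple_lt' D hD j hj
  -- `fi` is additive
  have hadd : ∀ a b, fi (a + b) = fi a + fi b := by
    intro a b
    apply xS_injective hD (D.simple i') hsi'
    rw [← xS_mul, ← hfi, ← hfi, ← hfi, ← map_mul, xS_mul]
  have hf0 : fi 0 = 0 := by
    have h := hadd 0 0
    rw [add_zero] at h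
    exact left_eq_add.mp h
  have hfneg : fi (-1) = -1 := by
    have h := hadd 1 (-1)
    rw [add_neg_cancel, hf0, h1] at h
    exact (neg_eq_of_add_eq_zero_right h.symm).symm
  have hfne : fi t ≠ 0 := by
    intro h0
    apply ht
    apply xS_injective hD (D.simple i) hsi
    apply θ.injective
    rw [hfi, hfi, h0, hf0]
  have hg1 : gi (-(-1 : F)⁻¹) = -(-1 : F)⁻¹ := by
    have h := hrk (-1) (neg_ne_zero.mpr one_ne_zero)
    rw [hfneg] at h
    exact h
  -- `θ h_i(t) = h_{i'}(fi t)`
  have hθh : θ (hS hD (D.simple i) t) = hS hD (D.simple i') (fi t) := by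
    unfold hS
    simp only [map_mul, hfi, hgi]
    rw [hrk t ht, hfneg, hg1]
  -- the torus relation inside the group
  have hrelS : ∀ (k l : ℕ) (_ : k < D.rank) (_ : D.simple l < D.nroots) (c : F) (_ : c ≠ 0)
      (v : F), hS hD (D.simple k) c * xS hD (D.simple l) v =
        xS hD (D.simple l) (c ^ (D.cartan k (D.simple l)) * v) * hS hD (D.simple k) c := by
    intro k l hk hl c hc v
    apply Subtype.ext
    apply Units.ext
    rw [Subgroup.coe_mul, Subgroup.coe_mul, Units.val_mul, Units.val_mul, coe_hS, coe_xS, coe_xS,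
      coe_xG, coe_xG]
    exact Cfsg.Agent.S1032.result D hD k (D.simple l) hk hl c hc v
  have h2 := congrArg θ (hrelS i j hi hsj t ht u)
  rw [map_mul, map_mul, hθh, hfj, hfj, hrelS i' j' hi' hsj' (fi t) hfne (fj u)] at h2
  have h3 := mul_right_cancel h2
  exact (xS_injective hD (D.simple j') hsj' h3).symm

end Cfsg.Agent.Lib.Helper89.Aut
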