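import Cfsg.Agent.Lib.Helper69.Aut.StrDefs

/-!
# project STR (helper69's S2159), module [DCOMM]: diagonal automorphisms commute
(helper89, hedge for helper69)
-/

set_option autoImplicit false

namespace Cfsg.Agent.Lib.Helper89.Aut

open Cfsg Cfsg.Lie Cfsg.Agent.Lib.Helper18 Cfsg.Agent.Lib.Helper91.ChevGen Cfsg.Agent.Lib.Helper69.Aut

universe u

variable {F : Type u} [Field F] {D : ChevalleyDatum}

theorem charDiag_comm (χ χ' : ℕ → Fˣ) :
    D.charDiag F χ * D.charDiag F χ' = D.charDiag F χ' * D.charDiag F χ := by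
  unfold ChevalleyDatum.charDiag
  rw [Matrix.diagonal_mul_diagonal, Matrix.diagonal_mul_diagonal]
  congr 1
  funext j
  exact mul_comm _ _

theorem diag_comm (d d' : MulAut ↥(D.group F)) (hd : D.IsDiagonalAut d) (hd' : D.IsDiagonalAut d') :
    d * d' = d' * d := by
  obtain ⟨χ, -, hχ⟩ := hd
  obtain ⟨χ', -, hχ'⟩ := hd'
  apply MulEquiv.ext
  intro g
  apply Subtype.ext
  apply Units.ext
  show ((d (d' g) : GL D.Idx F) : Matrix D.Idx D.Idx F) = ((d' (d g) : GL D.Idx F) : Matrix D.Idx D.Idx F)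
  rw [hχ, hχ', hχ', hχ]
  have e1 := charDiag_comm (D := D) χ χ'
  have e2 := charDiag_comm (D := D) (F := F) (fun r => (χ' r)⁻¹) (fun r => (χ r)⁻¹)
  generalize D.charDiag F χ = A at e1 ⊢
  generalize D.charDiag F χ' = A' at e1 ⊢
  generalize D.charDiag F (fun r => (χ r)⁻¹) = B at e2 ⊢
  generalize D.charDiag F (fun r => (χ' r)⁻¹) = B' at e2 ⊢
  generalize ((g : GL D.Idx F) : Matrix D.Idx D.Idx F) = M
  calc A * (A' * M * B') * B = (A * A') * M * (B' * B) := by simp only [Matrix.mul_assoc]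
    _ = (A' * A) * M * (B * B') := by rw [e1, e2]
    _ = A' * (A * M * B) * B' := by simp only [Matrix.mul_assoc]

end Cfsg.Agent.Lib.Helper89.Aut
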