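import Cfsg.Agent.Lib.Helper69.Aut.StrDefs
import Cfsg.Agent.Lib.Helper69.Aut.Diag
import Cfsg.Agent.Lib.Helper87.AutComb2
import Cfsg.Agent.Lib.Helper18.NConj
import Cfsg.Agent.S1080
import Cfsg.Agent.S2157

/-!
# project STR (helper69's S2159), modules [DNF] [FNF] [DEC]: normal forms of diagonal and field
automorphisms, and the decomposition of an automorphism with trivial node permutation
(helper89, hedge for helper69)
-/

set_option autoImplicit false

namespace Cfsg.Agent.Lib.Helper89.Aut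

open Cfsg Cfsg.Lie Cfsg.Agent.Lib.Helper18 Cfsg.Agent.Lib.Helper91.ChevGen Cfsg.Agent.Lib.Helper69.Aut

universe u

variable {F : Type u} [Field F] {D : ChevalleyDatum}

/-- a diagonal automorphism scales the root elements -/
theorem diagonalAut_xS' (hD : D ∈ [chevG2, chevB2, chevD4, chevF4, chevE6, chevE7, chevE8])
    (d : ↥(D.group F) ≃* ↥(D.group F)) (χ : ℕ → Fˣ) (hχ : D.IsRootCharacter χ)
    (h : ∀ g : ↥(D.group F), ((d g : GL D.Idx F) : Matrix D.Idx D.Idx F) =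
      D.charDiag F χ * ((g : GL D.Idx F) : Matrix D.Idx D.Idx F) * D.charDiag F (fun r => (χ r)⁻¹))
    (r : ℕ) (hr : r < D.nroots) (t : F) :
    d (xS hD r t) = xS hD r ((χ r : F) * t) := by
  apply eq_xS hD
  rw [h]
  show D.charDiag F χ * D.x F r t * D.charDiag F (fun r => (χ r)⁻¹) = _
  exact Cfsg.Agent.S2157.result D hD χ hχ r hr t

theorem diag_nf (hD : D ∈ [chevG2, chevB2, chevD4, chevF4, chevE6, chevE7, chevE8])
    (d : ↥(D.group F) ≃* ↥(D.group F)) (hd : D.IsDiagonalAut d) :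
    ∃ c : Fin D.rank → Fˣ, NF hD d 1 c (RingEquiv.refl F) := by
  obtain ⟨χ, hχ, hdχ⟩ := hd
  have hsl : ∀ i : Fin D.rank, D.simple i < D.nroots := fun i => simple_lt' D hD i i.2
  have hnl : ∀ i : Fin D.rank, D.neg (D.simple i) < D.nroots :=
    fun i => neg_lt_nroots D hD _ (hsl i)
  refine ⟨fun i => χ (D.simple i), ?_⟩
  intro i t
  simp only [Equiv.Perm.coe_one, id_eq, RingEquiv.refl_apply,
    Cfsg.Agent.Lib.Helper87.Aut.graphExp_self, pow_one]
  refine ⟨diagonalAut_xS' hD d χ hχ hdχ _ (hsl i) t, ?_⟩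
  rw [diagonalAut_xS' hD d χ hχ hdχ _ (hnl i) t, hχ.1 _ (hsl i)]

theorem field_nf (hD : D ∈ [chevG2, chevB2, chevD4, chevF4, chevE6, chevE7, chevE8])
    (φ : ↥(D.group F) ≃* ↥(D.group F)) (hφ : D.IsFieldAut φ) :
    ∃ τ : F ≃+* F, NF hD φ 1 (fun _ => 1) τ := by
  obtain ⟨σ, hσ⟩ := hφ
  have hsl : ∀ i : Fin D.rank, D.simple i < D.nroots := fun i => simple_lt' D hD i i.2
  have hnl : ∀ i : Fin D.rank, D.neg (D.simple i) < D.nroots :=
    fun i => neg_lt_nroots D hD _ (hsl i)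
  refine ⟨σ, ?_⟩
  intro i t
  simp only [Equiv.Perm.coe_one, id_eq, Cfsg.Agent.Lib.Helper87.Aut.graphExp_self, pow_one,
    inv_one, Units.val_one, one_mul]
  constructor
  · apply eq_xS hD
    exact hσ _ _ t (hsl i) rfl
  · apply eq_xS hD
    exact hσ _ _ t (hnl i) rfl

theorem nf_one_decomp (hD : D ∈ [chevG2, chevB2, chevD4, chevF4, chevE6, chevE7, chevE8])
    (θ : MulAut ↥(D.group F)) (c : Fin D.rank → Fˣ) (τ : F ≃+* F) (h : NF hD θ 1 c τ) :
    ∃ d φ : MulAut ↥(D.group F), D.IsDiagonalAut d ∧ D.IsFieldAut φ ∧ θ = d * φ := by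
  have hsl : ∀ i : Fin D.rank, D.simple i < D.nroots := fun i => simple_lt' D hD i i.2
  have hnl : ∀ i : Fin D.rank, D.neg (D.simple i) < D.nroots :=
    fun i => neg_lt_nroots D hD _ (hsl i)
  obtain ⟨d, hddiag, hd⟩ := exists_diagonalAut (F := F) hD c
  obtain ⟨φ, hφ⟩ := Cfsg.Agent.S1080.result D hD τ
  refine ⟨d, φ, hddiag, ⟨τ, hφ⟩, ?_⟩
  have hφx : ∀ (r : ℕ) (t : F), r < D.nroots → φ (xS hD r t) = xS hD r (τ t) := by
    intro r t hr
    apply eq_xS hD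
    exact hφ _ r t hr rfl
  have key : (θ : ↥(D.group F) ≃* ↥(D.group F)).toMonoidHom =
      ((d * φ : MulAut ↥(D.group F)) : ↥(D.group F) ≃* ↥(D.group F)).toMonoidHom := by
    apply hom_ext_fund hD
    intro y i t hi hy
    show θ y = d (φ y)
    have h1 := h ⟨i, hi⟩
    simp only [Equiv.Perm.coe_one, id_eq, Cfsg.Agent.Lib.Helper87.Aut.graphExp_self, pow_one] at h1
    rcases hy with hy | hy
    · have hy' : y = xS hD (D.simple (⟨i, hi⟩ : Fin D.rank)) t := eq_xS hD y _ t hy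
      rw [hy', (h1 t).1, hφx _ _ (hsl ⟨i, hi⟩), (hd ⟨i, hi⟩ _).1]
    · have hy' : y = xS hD (D.neg (D.simple (⟨i, hi⟩ : Fin D.rank))) t := eq_xS hD y _ t hy
      rw [hy', (h1 t).2, hφx _ _ (hnl ⟨i, hi⟩), (hd ⟨i, hi⟩ _).2]
  apply MulEquiv.ext
  intro y
  exact congrArg (fun ψ : ↥(D.group F) →* ↥(D.group F) => ψ y) key

end Cfsg.Agent.Lib.Helper89.Aut
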