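import Cfsg.Agent.Lib.Helper69.Aut.StrDefs
import Cfsg.Agent.Lib.Helper93.OutNF

/-!
# project STR (helper69's S2159), module [RPU]: the node permutation of an automorphism is unique
(helper89, hedge for helper69)
-/

set_option autoImplicit false

namespace Cfsg.Agent.Lib.Helper89.Aut

open Cfsg Cfsg.Lie Cfsg.Agent.Lib.Helper18 Cfsg.Agent.Lib.Helper91.ChevGen Cfsg.Agent.Lib.Helper69.Aut

universe u

variable {F : Type u} [Field F] {D : ChevalleyDatum}

theorem rootPerm_unique (hD : D ∈ [chevG2, chevB2, chevD4, chevF4, chevE6, chevE7, chevE8])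
    (θ : ↥(D.group F) ≃* ↥(D.group F)) (π π' : Equiv.Perm (Fin D.rank))
    (h : RootPerm hD θ π) (h' : RootPerm hD θ π') : π = π' := by
  obtain ⟨f, g, hf, -⟩ := h
  obtain ⟨f', g', hf', -⟩ := h'
  have hlt : ∀ j : Fin D.rank, D.simple j < D.nroots := fun j => simple_lt' D hD j j.2
  apply Equiv.ext
  intro i
  have hne : f i 1 ≠ 0 := by
    intro h0
    have h1 := hf i 1
    rw [h0, xS_zero] at h1
    have h2 : xS hD (D.simple i) (1 : F) = 1 := by
      apply θ.injective
      rw [h1, map_one]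
    rw [← xS_zero hD (D.simple i)] at h2
    exact one_ne_zero (xS_injective hD _ (hlt i) h2)
  have h3 : xS hD (D.simple (π i)) (f i 1) = xS hD (D.simple (π' i)) (f' i 1) :=
    (hf i 1).symm.trans (hf' i 1)
  have h4 : xG hD (D.simple (π i)) (f i 1) = xG hD (D.simple (π' i)) (f' i 1) :=
    congrArg Subtype.val h3
  have h5 := xG_inj_root hD _ _ (hlt (π i)) (hlt (π' i)) _ _ hne h4
  exact Fin.ext (Cfsg.Agent.Lib.Helper93.Aut.simple_inj' D hD _ _ (π i).2 (π' i).2 h5.symm)

end Cfsg.Agent.Lib.Helper89.Aut
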