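import Mathlib

/-!
# A block of size four for an imprimitive transitive group of degree eight
(helper89, module [BLK8] of helper71's S2538)
-/

set_option autoImplicit false
set_option linter.unusedSectionVars false

namespace Cfsg.Agent.Lib.Helper89.HallAlt

open Equiv
open scoped Pointwise

variable {β : Type} [Fintype β] [DecidableEq β]

theorem exists_block_eight (M : Subgroup (Perm β)) (hcard : Fintype.card β = 8)
    (htr : ∀ a b : β, ∃ h ∈ M, h a = b) (hnp : ¬ MulAction.IsPreprimitive M β) (x : β)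
    (hfix : ∀ z : β, z ≠ x → ∃ h ∈ M, h x = x ∧ h z ≠ z) :
    ∃ B : Finset β, B.card = 4 ∧
      ∀ h ∈ M, B.map h.toEmbedding = B ∨ B.map h.toEmbedding = Bᶜ := by
  classical
  have htrans : MulAction.IsPretransitive M β := ⟨fun a b => by
    obtain ⟨h, hh, hab⟩ := htr a b
    exact ⟨⟨h, hh⟩, hab⟩⟩
  have hsmul : ∀ (h : Perm β) (hh : h ∈ M) (a : β), (⟨h, hh⟩ : M) • a = h a := fun _ _ _ => rfl
  -- a nontrivial block
  obtain ⟨B₀, hB₀, hB₀nt⟩ : ∃ B₀ : Set β, MulAction.IsBlock M B₀ ∧
      ¬ MulAction.IsTrivialBlock B₀ := by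
    by_contra hcon
    push Not at hcon
    exact hnp { toIsPretransitive := htrans
                isTrivialBlock_of_isBlock := fun {B} hB => hcon B hB }
  have hB₀ne : B₀.Nonempty := by
    rw [Set.nonempty_iff_ne_empty]
    intro h
    apply hB₀nt
    left
    rw [h]
    exact Set.subsingleton_empty
  obtain ⟨y, hy⟩ := hB₀ne
  obtain ⟨g, hg, hgy⟩ := htr y x
  obtain ⟨B, hBdef⟩ : ∃ B : Set β, B = (⟨g, hg⟩ : M) • B₀ := ⟨_, rfl⟩
  have hB : MulAction.IsBlock M B := by
    rw [hBdef]
    exact hB₀.translate _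
  have hBnt : ¬ MulAction.IsTrivialBlock B := by
    rw [hBdef, MulAction.IsTrivialBlock.smul_iff]
    exact hB₀nt
  have hxB : x ∈ B := by
    rw [hBdef]
    exact ⟨y, hy, hgy⟩
  have hdvd : B.ncard ∣ 8 := by
    have := hB.ncard_dvd_card ⟨x, hxB⟩
    rwa [Nat.card_eq_fintype_card, hcard] at this
  have hnsub : ¬ B.Subsingleton := fun h => hBnt (Or.inl h)
  have hnuniv : B ≠ Set.univ := fun h => hBnt (Or.inr h)
  obtain ⟨BF, hBF⟩ : ∃ BF : Finset β, BF = B.toFinset := ⟨_, rfl⟩
  have hmem : ∀ a, a ∈ BF ↔ a ∈ B := by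
    intro a
    rw [hBF, Set.mem_toFinset]
  have hBFcard : BF.card = B.ncard := by
    rw [hBF, Set.ncard_eq_toFinset_card']
  rw [← hBFcard] at hdvd
  have hxBF : x ∈ BF := (hmem x).mpr hxB
  have hge2 : 2 ≤ BF.card := by
    by_contra hlt
    push Not at hlt
    apply hnsub
    intro a ha b hb
    have h1 : BF.card ≤ 1 := by omega
    exact Finset.card_le_one.mp h1 a ((hmem a).mpr ha) b ((hmem b).mpr hb)
  have hlt8 : BF.card < 8 := by
    by_contra hge
    push Not at hge
    apply hnuniv
    have h1 : BF = Finset.univ := by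
      apply Finset.eq_univ_of_card
      have := Finset.card_le_univ BF
      omega
    ext a
    rw [← hmem, h1]
    simp
  -- image of the block under an element of `M`
  have hmap : ∀ (h : Perm β) (hh : h ∈ M), ∀ a, a ∈ BF.map h.toEmbedding ↔
      a ∈ (⟨h, hh⟩ : M) • B := by
    intro h hh a
    rw [Finset.mem_map, Set.mem_smul_set]
    constructor
    · rintro ⟨b, hb, rfl⟩
      exact ⟨b, (hmem b).mp hb, rfl⟩
    · rintro ⟨b, hb, rfl⟩
      exact ⟨b, (hmem b).mpr hb, rfl⟩
  have hstab : ∀ (h : Perm β), h ∈ M → h x = x → BF.map h.toEmbedding = BF := by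
    intro h hh hhx
    have h1 : (⟨h, hh⟩ : M) • B = B := by
      apply hB.smul_eq_of_mem hxB
      rw [hsmul, hhx]
      exact hxB
    ext a
    rw [hmap h hh, h1, hmem]
  have hcases : BF.card = 2 ∨ BF.card = 4 := by
    obtain ⟨c, hc⟩ : ∃ c, c = BF.card := ⟨_, rfl⟩
    rw [← hc] at hdvd hge2 hlt8 ⊢
    clear hc hBFcard
    interval_cases c <;> first | (left; rfl) | (right; rfl) | (exfalso; revert hdvd; decide)
  rcases hcases with hc2 | hc4
  · exfalso
    obtain ⟨a, b, hab, hBab⟩ := Finset.card_eq_two.mp hc2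
    have hzex : ∃ z, z ≠ x ∧ z ∈ BF ∧ ∀ w ∈ BF, w = x ∨ w = z := by
      rw [hBab] at hxBF
      rcases Finset.mem_insert.mp hxBF with h | h
      · refine ⟨b, ?_, ?_, ?_⟩
        · rw [h]; exact hab.symm
        · rw [hBab]; simp
        · intro w hw
          rw [hBab] at hw
          rcases Finset.mem_insert.mp hw with h' | h'
          · left; rw [h', h]
          · right; exact Finset.mem_singleton.mp h'
      · rw [Finset.mem_singleton] at h
        refine ⟨a, ?_, ?_, ?_⟩
        · rw [h]; exact hab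
        · rw [hBab]; simp
        · intro w hw
          rw [hBab] at hw
          rcases Finset.mem_insert.mp hw with h' | h'
          · right; exact h'
          · left; rw [Finset.mem_singleton.mp h', h]
    obtain ⟨z, hzx, hzB, hall⟩ := hzex
    obtain ⟨h, hh, hhx, hhz⟩ := hfix z hzx
    have h1 := hstab h hh hhx
    have h2 : h z ∈ BF := by
      rw [← h1]
      exact Finset.mem_map_of_mem _ hzB
    rcases hall _ h2 with h3 | h3
    · apply hzx
      apply h.injective
      rw [h3, hhx]
    · exact hhz h3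
  · refine ⟨BF, hc4, ?_⟩
    intro h hh
    rcases hB.smul_eq_or_disjoint (⟨h, hh⟩ : M) with h1 | h1
    · left
      ext a
      rw [hmap h hh, h1, hmem]
    · right
      apply Finset.eq_of_subset_of_card_le
      · intro a ha
        rw [Finset.mem_compl]
        intro haB
        rw [hmap h hh] at ha
        exact Set.disjoint_left.mp h1 ha ((hmem a).mp haB)
      · rw [Finset.card_compl, Finset.card_map, hcard, hc4]

end Cfsg.Agent.Lib.Helper89.HallAlt
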