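import Mathlib
import Cfsg.Agent.S0144
import Cfsg.Agent.Lib.Helper12.PrimeDegree4

/-!
# No transitive `{p,2}`-Hall subgroup of prime degree `p ≥ 5` in `A_p`
(helper89, module [PD-A] of helper71's S2538)
-/

set_option autoImplicit false
set_option linter.unusedSectionVars false

namespace Cfsg.Agent.Lib.Helper89.HallAlt

open Equiv

/-- a nontrivial solvable group has a nontrivial abelian normal subgroup -/
theorem exists_abelian_normal {G : Type*} [Group G] [Nontrivial G] (hG : Group.IsSolvable G) :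
    ∃ D : Subgroup G, D.Normal ∧ D ≠ ⊥ ∧ ∀ x ∈ D, ∀ y ∈ D, x * y = y * x := by
  obtain ⟨n, hn⟩ := (Group.isSolvable_def G).mp hG
  induction n with
  | zero =>
    rw [derivedSeries_zero] at hn
    exact absurd hn top_ne_bot
  | succ n ih =>
    by_cases h : derivedSeries G n = ⊥
    · exact ih h
    · refine ⟨derivedSeries G n, inferInstance, h, ?_⟩
      rw [derivedSeries_succ, Subgroup.commutator_eq_bot_iff_le_centralizer] at hn
      intro x hx y hy
      exact (Subgroup.mem_centralizer_iff.mp (hn hx) y hy).symm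

/-- in a solvable group of order `p * m` with `p ∤ m`, acting so that nontrivial normal subgroups
have order divisible by `p`, there is a normal subgroup of order `p` -/
theorem exists_normal_card_prime {G : Type*} [Group G] [Finite G] (p : ℕ) [Fact p.Prime]
    (hG : Group.IsSolvable G) (hp : p ∣ Nat.card G) (hp2 : ¬ p ^ 2 ∣ Nat.card G)
    (hN : ∀ K : Subgroup G, K.Normal → K = ⊥ ∨ p ∣ Nat.card K) :
    ∃ X : Subgroup G, X.Normal ∧ Nat.card X = p := by
  have hpp : p.Prime := Fact.out
  have : Nontrivial G := by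
    rw [← Finite.one_lt_card_iff_nontrivial]
    exact lt_of_lt_of_le hpp.one_lt (Nat.le_of_dvd Nat.card_pos hp)
  obtain ⟨D, hDn, hD1, hDab⟩ := exists_abelian_normal hG
  have hpD : p ∣ Nat.card D := (hN D hDn).resolve_left hD1
  obtain ⟨c, hc⟩ := exists_prime_orderOf_dvd_card' (G := D) p hpD
  let X : Subgroup G :=
    { carrier := {g | g ∈ D ∧ g ^ p = 1}
      mul_mem' := by
        rintro a b ⟨ha, ha'⟩ ⟨hb, hb'⟩
        refine ⟨D.mul_mem ha hb, ?_⟩
        have hcomm : Commute a b := hDab a ha b hb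
        rw [hcomm.mul_pow, ha', hb', one_mul]
      one_mem' := ⟨D.one_mem, one_pow _⟩
      inv_mem' := by
        rintro a ⟨ha, ha'⟩
        exact ⟨D.inv_mem ha, by rw [inv_pow, ha', inv_one]⟩ }
  have hXmem : ∀ g, g ∈ X ↔ g ∈ D ∧ g ^ p = 1 := fun g => Iff.rfl
  have hXn : X.Normal := by
    constructor
    intro g hg a
    rw [hXmem] at hg ⊢
    refine ⟨hDn.conj_mem g hg.1 a, ?_⟩
    rw [conj_pow, hg.2, mul_one, mul_inv_cancel]
  have hXp : IsPGroup p X := by
    intro g
    refine ⟨1, ?_⟩
    apply Subtype.ext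
    rw [pow_one, Subgroup.coe_pow, Subgroup.coe_one]
    exact ((hXmem _).mp g.2).2
  have hcX : (c : G) ∈ X := by
    rw [hXmem]
    refine ⟨c.2, ?_⟩
    have := pow_orderOf_eq_one c
    rw [hc] at this
    have h3 := congrArg Subtype.val this
    rwa [Subgroup.coe_pow, Subgroup.coe_one] at h3
  have hc1 : (c : G) ≠ 1 := by
    intro h
    have : c = 1 := Subtype.ext h
    rw [this, orderOf_one] at hc
    exact hpp.one_lt.ne hc
  obtain ⟨j, hj⟩ := hXp.exists_card_eq
  have hXdvd : Nat.card X ∣ Nat.card G := Subgroup.card_subgroup_dvd_card X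
  refine ⟨X, hXn, ?_⟩
  rw [hj]
  have hj1 : j ≤ 1 := by
    by_contra hcon
    push Not at hcon
    apply hp2
    exact (pow_dvd_pow p hcon).trans (hj ▸ hXdvd)
  have hj0 : j ≠ 0 := by
    intro h0
    rw [h0, pow_zero] at hj
    have hbot : X = ⊥ := Subgroup.card_eq_one.mp hj
    rw [hbot, Subgroup.mem_bot] at hcX
    exact hc1 hcX
  have : j = 1 := by omega
  rw [this, pow_one]

variable {β : Type} [Fintype β] [DecidableEq β]

theorem alt_prime_degree_false (M : Subgroup (Perm β)) (hMA : M ≤ alternatingGroup β)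
    (hp : (Fintype.card β).Prime) (h5 : 5 ≤ Fintype.card β) (htr : ∀ a b : β, ∃ h ∈ M, h a = b)
    (hcard : ∃ k : ℕ, Nat.card M = Fintype.card β * 2 ^ k)
    (h2 : ¬ 2 ∣ M.relIndex (alternatingGroup β)) : False := by
  classical
  obtain ⟨k, hk⟩ := hcard
  obtain ⟨p, hpdef⟩ : ∃ p, p = Fintype.card β := ⟨_, rfl⟩
  rw [← hpdef] at hp h5 hk
  have : Fact p.Prime := ⟨hp⟩
  have hα : Fintype.card β = p := hpdef.symm
  have : Nontrivial β := by
    rw [← Fintype.one_lt_card_iff_nontrivial, hα]
    omega
  have : MulAction.IsPretransitive M β := ⟨fun a b => by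
    obtain ⟨h, hh, hab⟩ := htr a b
    exact ⟨⟨h, hh⟩, hab⟩⟩
  have hp2 : p ≠ 2 := by omega
  have hcop : Nat.Coprime p (2 ^ k) :=
    Nat.Coprime.pow_right k ((Nat.coprime_primes hp Nat.prime_two).mpr hp2)
  -- solvable
  have hsolv : Group.IsSolvable M :=
    Cfsg.Agent.S0144.result (G := M) 2 p k 1 Nat.prime_two hp (by rw [hk, pow_one, mul_comm])
  have hpM : p ∣ Nat.card M := by rw [hk]; exact dvd_mul_right _ _
  have hp2M : ¬ p ^ 2 ∣ Nat.card M := by
    rw [hk, pow_two]
    intro h
    have h3 := (Nat.mul_dvd_mul_iff_left hp.pos).mp h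
    have h4 : p ∣ 1 := by
      have h5 := Nat.dvd_gcd (dvd_refl p) h3
      rwa [hcop.gcd_eq_one] at h5
    exact hp.one_lt.ne' (Nat.dvd_one.mp h4)
  obtain ⟨X, hXn, hXcard⟩ := exists_normal_card_prime p hsolv hpM hp2M
    (fun K hK => by
      have := hK
      exact Cfsg.Agent.Lib.Helper12.normal_eq_bot_or_dvd_card hα M K)
  -- `X` is the Sylow `p`-subgroup
  have hXp : IsPGroup p X := IsPGroup.of_card (n := 1) (by rw [hXcard, pow_one])
  obtain ⟨P, hXP⟩ := hXp.exists_le_sylow
  have hPcard := Cfsg.Agent.Lib.Helper12.card_sylow_eq hα M P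
  have hPX : (P : Subgroup M) = X := by
    symm
    apply Subgroup.eq_of_le_of_card_ge hXP
    rw [hXcard]
    exact hPcard.le
  have hnorm : Subgroup.normalizer ((P : Subgroup M) : Set M) = ⊤ := by
    rw [hPX]
    exact Subgroup.normalizer_eq_top_iff.mpr hXn
  have hdvd := Cfsg.Agent.Lib.Helper12.card_normalizer_dvd hα M P
  rw [hnorm, Subgroup.card_top, hk] at hdvd
  have h2k : 2 ^ k ∣ p - 1 := (Nat.mul_dvd_mul_iff_left hp.pos).mp hdvd
  -- orders
  obtain ⟨r, hr⟩ : ∃ r, r = M.relIndex (alternatingGroup β) := ⟨_, rfl⟩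
  rw [← hr] at h2
  have hMr : Nat.card M * r = Nat.card (alternatingGroup β) := by
    have h3 := (M.subgroupOf (alternatingGroup β)).card_mul_index
    have h4 : Nat.card (M.subgroupOf (alternatingGroup β)) = Nat.card M :=
      Nat.card_congr (Subgroup.subgroupOfEquivOfLe hMA).toEquiv
    rw [h4] at h3
    rw [hr]
    exact h3
  have hA : 2 * Nat.card (alternatingGroup β) = p.factorial := by
    rw [two_mul_nat_card_alternatingGroup, Nat.card_perm, Nat.card_eq_fintype_card, hα]
  obtain ⟨q, rfl⟩ : ∃ q, p = q + 2 := ⟨p - 2, by omega⟩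
  obtain ⟨m, hm⟩ := h2k
  have hm' : q + 1 = 2 ^ k * m := by
    rw [← hm]
    omega
  have hfac : (q + 2).factorial = (q + 2) * ((q + 1) * q.factorial) := by
    rw [Nat.factorial_succ, Nat.factorial_succ]
  have hmain : 2 * r = m * q.factorial := by
    rw [← hMr, hk, hfac, hm'] at hA
    have hpos : 0 < (q + 2) * 2 ^ k := Nat.mul_pos (by omega) (Nat.pos_of_ne_zero (by positivity))
    apply Nat.eq_of_mul_eq_mul_left hpos
    linear_combination hA
  by_cases hq : 4 ≤ q
  · have h8 : 8 ∣ q.factorial := by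
      have h24 : (4 : ℕ).factorial ∣ q.factorial := Nat.factorial_dvd_factorial hq
      exact (by decide : 8 ∣ (4 : ℕ).factorial).trans h24
    have h8' : 8 ∣ 2 * r := by
      rw [hmain]
      exact Dvd.dvd.mul_left h8 m
    apply h2
    omega
  · have hq3 : q = 3 := by omega
    subst hq3
    -- `p = 5`: a subgroup of index `3` in the simple group `A_5`
    have hr3 : r = 3 := by
      have h6 : (3 : ℕ).factorial = 6 := by decide
      rw [h6] at hmain
      have hm4 : 2 ^ k * m = 4 := by omega
      have hmle : m ∣ 4 := ⟨2 ^ k, by rw [← hm4, mul_comm]⟩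
      have hmle' : m ≤ 4 := Nat.le_of_dvd (by norm_num) hmle
      interval_cases m
      · omega
      · omega
      · exfalso; apply h2; omega
      · omega
      · exfalso; apply h2; omega
    have hsimple : IsSimpleGroup (alternatingGroup β) :=
      alternatingGroup.isSimpleGroup (by rw [Nat.card_eq_fintype_card, hα])
    have hAcard : Nat.card (alternatingGroup β) = 60 := by
      have h120 : (3 + 2 : ℕ).factorial = 120 := by decide
      rw [h120] at hA
      omega
    obtain ⟨H, hH⟩ : ∃ H : Subgroup (alternatingGroup β),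
        H = M.subgroupOf (alternatingGroup β) := ⟨_, rfl⟩
    have hHidx : H.index = 3 := by
      rw [hH, ← Subgroup.relIndex, ← hr, hr3]
    have hcore : H.normalCore.index ∣ (H.index).factorial := by
      rw [Subgroup.normalCore_eq_ker, Subgroup.index_ker, Subgroup.index_eq_card,
        ← Nat.card_perm]
      exact Subgroup.card_subgroup_dvd_card
        (MulAction.toPermHom (alternatingGroup β) (alternatingGroup β ⧸ H)).range
    rcases (Subgroup.normalCore_normal H).eq_bot_or_eq_top with hbot | htop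
    · rw [hbot, Subgroup.index_bot, hAcard, hHidx] at hcore
      revert hcore
      decide
    · have hHtop : H = ⊤ := by
        rw [eq_top_iff, ← htop]
        exact Subgroup.normalCore_le H
      rw [hHtop, Subgroup.index_top] at hHidx
      omega

end Cfsg.Agent.Lib.Helper89.HallAlt
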