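import Mathlib
import Cfsg.Prelude.Def_SporadicB
import Cfsg.Prelude.Def_Solvable

/-!
# Generic lemmas for the `d`-invariant Sylow 3-subgroup theorem (S5356), seat helper89

Pure group theory: involutions and normalizers, index of a supplement of a normal `2`-subgroup,
a central element of order `3` in a normal `3`-subgroup that is centralized or inverted by an
involution, images of sets of `3`-transpositions in quotients.
-/

set_option autoImplicit false
set_option linter.style.haveILetI false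

namespace Cfsg.Agent.Lib.Helper89.TTSylowGen

open Cfsg

section generic

variable {G : Type*} [Group G]

/-- an involution normalizes `K` as soon as it maps `K` into `K` -/
theorem invol_mem_normalizer {d : G} (hdd : d * d = 1) (K : Subgroup G)
    (h : ∀ k ∈ K, d * k * d⁻¹ ∈ K) : d ∈ Subgroup.normalizer (K : Set G) := by
  rw [Subgroup.mem_normalizer_iff]
  intro k
  refine ⟨h k, fun hk => ?_⟩
  have hinv : d⁻¹ = d := inv_eq_of_mul_eq_one_right hdd
  have h2 := h _ hk
  have e : d * (d * k * d⁻¹) * d⁻¹ = k := by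
    rw [hinv]
    calc d * (d * k * d) * d = (d * d) * k * (d * d) := by simp only [mul_assoc]
      _ = k := by rw [hdd, one_mul, mul_one]
  rwa [e] at h2

theorem index_dvd_card_of_sup_eq_top [Finite G] (X Q : Subgroup G) [Q.Normal] (h : X ⊔ Q = ⊤) :
    X.index ∣ Nat.card Q := by
  have h1 : Q.relIndex X = Q.index := by
    rw [← Subgroup.relIndex_sup_right X Q, h, Subgroup.relIndex_top_right]
  have h2 : Nat.card (Q.subgroupOf X) * Q.relIndex X = Nat.card X := by
    rw [Subgroup.relIndex]; exact Subgroup.card_mul_index (Q.subgroupOf X)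
  have h3 : Nat.card Q * Q.index = Nat.card G := Subgroup.card_mul_index Q
  have h4 : Nat.card X * X.index = Nat.card G := Subgroup.card_mul_index X
  have hr : 0 < Q.index := Nat.pos_of_ne_zero Subgroup.index_ne_zero_of_finite
  refine ⟨Nat.card (Q.subgroupOf X), ?_⟩
  apply Nat.eq_of_mul_eq_mul_right hr
  calc Nat.card Q * Q.index = Nat.card G := h3
    _ = Nat.card X * X.index := h4.symm
    _ = Nat.card (Q.subgroupOf X) * Q.index * X.index := by rw [← h2, h1]
    _ = X.index * Nat.card (Q.subgroupOf X) * Q.index := by ring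

theorem not_three_dvd_index_of_sup [Finite G] (X Q : Subgroup G) [Q.Normal] (hQ : IsPGroup 2 Q)
    (h : X ⊔ Q = ⊤) : ¬ 3 ∣ X.index := by
  intro h3
  obtain ⟨k, hk⟩ := IsPGroup.iff_card.mp hQ
  have h4 := h3.trans (index_dvd_card_of_sup_eq_top X Q h)
  rw [hk] at h4
  have := Nat.Prime.dvd_of_dvd_pow Nat.prime_three h4
  omega

/-- an element of a `2`-group whose cube is trivial is trivial -/
theorem eq_one_of_cube_of_mem_two_group {Q : Subgroup G} (hQ : IsPGroup 2 Q) {x : G} (hx : x ∈ Q)
    (h3 : x ^ 3 = 1) : x = 1 := by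
  obtain ⟨k, hk⟩ := hQ ⟨x, hx⟩
  have hk' : x ^ 2 ^ k = 1 := by
    have := congrArg Subtype.val hk
    simpa using this
  have d1 : orderOf x ∣ 2 ^ k := orderOf_dvd_of_pow_eq_one hk'
  have d2 : orderOf x ∣ 3 := orderOf_dvd_of_pow_eq_one h3
  have hcop : Nat.Coprime (2 ^ k) 3 := Nat.Coprime.pow_left _ (by norm_num)
  have d3 : orderOf x ∣ 1 := by
    have := Nat.dvd_gcd d1 d2
    rwa [hcop] at this
  exact orderOf_eq_one_iff.mp (Nat.dvd_one.mp d3)

/-- In a finite group, a nontrivial normal `3`-subgroup `P` contains an element of order `3`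
which is central in `P` and is centralized or inverted by a given involution `t`. -/
theorem exists_central_elt {K : Type*} [Group K] [Finite K] (P : Subgroup K) [hPn : P.Normal]
    (hP : IsPGroup 3 P) (hne : P ≠ ⊥) (t : K) (ht : t * t = 1) :
    ∃ z ∈ P, (∀ p ∈ P, p * z = z * p) ∧ orderOf z = 3 ∧
      (t * z * t⁻¹ = z ∨ t * z * t⁻¹ = z⁻¹) := by
  haveI : Fact (Nat.Prime 3) := ⟨Nat.prime_three⟩
  haveI : Nontrivial P := (Subgroup.nontrivial_iff_ne_bot P).mpr hne
  haveI : Nontrivial (Subgroup.center P) := hP.center_nontrivial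
  have hcP : IsPGroup 3 (Subgroup.center P) := hP.to_subgroup _
  have h3 : 3 ∣ Nat.card (Subgroup.center P) := by
    rcases hcP.card_eq_or_dvd with h | h
    · exfalso
      have := Finite.one_lt_card (α := Subgroup.center P)
      omega
    · exact h
  obtain ⟨w, hw⟩ := exists_prime_orderOf_dvd_card' 3 h3
  set w' : K := ((w : P) : K) with hw'
  have hwo : orderOf w' = 3 := by rw [hw', Subgroup.orderOf_coe, Subgroup.orderOf_coe, hw]
  have hwP : w' ∈ P := (w : P).2
  have hwc : ∀ p ∈ P, p * w' = w' * p := by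
    intro p hp
    have := Subgroup.mem_center_iff.mp w.2 ⟨p, hp⟩
    exact congrArg Subtype.val this
  have htinv : t⁻¹ = t := inv_eq_of_mul_eq_one_right ht
  set v : K := t * w' * t⁻¹ with hv
  have hvP : v ∈ P := hPn.conj_mem w' hwP t
  have hvc : ∀ p ∈ P, p * v = v * p := by
    intro p hp
    have hp' : t⁻¹ * p * t ∈ P := by
      have := hPn.conj_mem p hp t⁻¹
      simpa using this
    have h1 := hwc _ hp'
    calc p * v = t * ((t⁻¹ * p * t) * w') * t⁻¹ := by rw [hv]; group
      _ = t * (w' * (t⁻¹ * p * t)) * t⁻¹ := by rw [h1]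
      _ = v * p := by rw [hv]; group
  have hw3 : w' ^ 3 = 1 := by rw [← hwo]; exact pow_orderOf_eq_one w'
  have hv3 : v ^ 3 = 1 := by rw [hv, conj_pow, hw3, mul_one, mul_inv_cancel]
  by_cases h1 : w' * v = 1
  · refine ⟨w', hwP, hwc, hwo, Or.inr ?_⟩
    exact eq_inv_of_mul_eq_one_right h1
  · refine ⟨w' * v, P.mul_mem hwP hvP, ?_, ?_, Or.inl ?_⟩
    · intro p hp
      calc p * (w' * v) = (p * w') * v := (mul_assoc _ _ _).symm
        _ = (w' * p) * v := by rw [hwc p hp]
        _ = w' * (p * v) := mul_assoc _ _ _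
        _ = w' * (v * p) := by rw [hvc p hp]
        _ = w' * v * p := (mul_assoc _ _ _).symm
    · have hcomm : Commute w' v := (hwc v hvP).symm
      have : (w' * v) ^ 3 = 1 := by rw [hcomm.mul_pow, hw3, hv3, one_mul]
      exact orderOf_eq_prime this h1
    · have e1 : t * v * t⁻¹ = w' := by
        rw [hv, htinv]
        calc t * (t * w' * t) * t = (t * t) * w' * (t * t) := by simp only [mul_assoc]
          _ = w' := by rw [ht, one_mul, mul_one]
      calc t * (w' * v) * t⁻¹ = (t * w' * t⁻¹) * (t * v * t⁻¹) := by group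
        _ = v * w' := by rw [e1]
        _ = w' * v := hwc v hvP

end generic


section tt

variable {G : Type*} [Group G] {D : Set G}

theorem tt_sq (hT : IsThreeTranspositionSet D) {x : G} (hx : x ∈ D) : x * x = 1 := by
  rw [← pow_two, ← hT.1 x hx, pow_orderOf_eq_one]

theorem tt_inv (hT : IsThreeTranspositionSet D) {x : G} (hx : x ∈ D) : x⁻¹ = x :=
  inv_eq_of_mul_eq_one_right (tt_sq hT hx)

theorem tt_ne_one (hT : IsThreeTranspositionSet D) {x : G} (hx : x ∈ D) : x ≠ 1 := by
  intro h
  have := hT.1 x hx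
  rw [h, orderOf_one] at this
  omega

theorem comm_of_sq {x y : G} (hx : x * x = 1) (hy : y * y = 1) (h : (x * y) ^ 2 = 1) :
    Commute x y := by
  have hxi : x⁻¹ = x := inv_eq_of_mul_eq_one_right hx
  have hyi : y⁻¹ = y := inv_eq_of_mul_eq_one_right hy
  have h1 : x * y = (x * y)⁻¹ := by
    rw [pow_two] at h
    exact (inv_eq_of_mul_eq_one_right h).symm
  rw [mul_inv_rev, hxi, hyi] at h1
  exact h1

theorem tt_cube (hT : IsThreeTranspositionSet D) {x y : G} (hx : x ∈ D) (hy : y ∈ D)
    (hnc : ¬ Commute x y) : (x * y) ^ 3 = 1 := by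
  rcases hT.2 x hx y hy with h | h
  · exact absurd (comm_of_sq (tt_sq hT hx) (tt_sq hT hy) h) hnc
  · exact h

theorem mk'_eq_one_iff (N : Subgroup G) [N.Normal] (x : G) :
    QuotientGroup.mk' N x = 1 ↔ x ∈ N := by
  rw [← MonoidHom.mem_ker, QuotientGroup.ker_mk']

theorem mk'_eq_iff (N : Subgroup G) [N.Normal] (x y : G) :
    QuotientGroup.mk' N x = QuotientGroup.mk' N y ↔ x⁻¹ * y ∈ N := by
  rw [← mk'_eq_one_iff, map_mul, map_inv, inv_mul_eq_one]

/-- if the images of two involutions commute modulo `N`, the square of their product is in `N` -/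
theorem quot_sq_mem (N : Subgroup G) [N.Normal] {a c : G} (ha : a * a = 1) (hc : c * c = 1)
    (h : Commute (QuotientGroup.mk' N a) (QuotientGroup.mk' N c)) : (a * c) ^ 2 ∈ N := by
  rw [← mk'_eq_one_iff, map_pow, map_mul, h.mul_pow, ← map_pow, ← map_pow, pow_two, pow_two, ha, hc,
    map_one, one_mul]

/-- if the images of two `3`-transpositions commute modulo `N` then they commute or they are
congruent modulo `N` -/
theorem quot_commute_cases (hT : IsThreeTranspositionSet D) (N : Subgroup G) [N.Normal] {a c : G}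
    (ha : a ∈ D) (hc : c ∈ D)
    (h : Commute (QuotientGroup.mk' N a) (QuotientGroup.mk' N c)) :
    QuotientGroup.mk' N a = QuotientGroup.mk' N c ∨ Commute a c := by
  by_cases hac : Commute a c
  · exact Or.inr hac
  · left
    have h3 := tt_cube hT ha hc hac
    have h2 := quot_sq_mem N (tt_sq hT ha) (tt_sq hT hc) h
    have h4 : a * c = ((a * c) ^ 2)⁻¹ := by
      have : (a * c) ^ 3 = (a * c) * (a * c) ^ 2 := pow_succ' _ _
      rw [h3] at this
      exact eq_inv_of_mul_eq_one_left this.symm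
    have h5 : a * c ∈ N := by rw [h4]; exact N.inv_mem h2
    have h6 : QuotientGroup.mk' N (a * c) = 1 := (mk'_eq_one_iff N _).mpr h5
    rw [map_mul] at h6
    have h7 := eq_inv_of_mul_eq_one_left h6
    rw [← map_inv, tt_inv hT hc] at h7
    exact h7

theorem quot_tt (hT : IsThreeTranspositionSet D) (N : Subgroup G) [N.Normal]
    (hDN : ∀ a ∈ D, a ∉ N) : IsThreeTranspositionSet (QuotientGroup.mk' N '' D) := by
  constructor
  · rintro _ ⟨a, ha, rfl⟩
    have h2 : (QuotientGroup.mk' N a) ^ 2 = 1 := by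
      rw [← map_pow, pow_two, tt_sq hT ha, map_one]
    have hne : QuotientGroup.mk' N a ≠ 1 := fun h => hDN a ha ((mk'_eq_one_iff N a).mp h)
    exact orderOf_eq_prime h2 hne
  · rintro _ ⟨a, ha, rfl⟩ _ ⟨b, hb, rfl⟩
    rcases hT.2 a ha b hb with h | h
    · left; rw [← map_mul, ← map_pow, h, map_one]
    · right; rw [← map_mul, ← map_pow, h, map_one]

theorem conjugatesOf_eq_of_mem {d₀ d : G} (h : d ∈ conjugatesOf d₀) :
    conjugatesOf d₀ = conjugatesOf d :=
  IsConj.conjugatesOf_eq h

theorem class_eq_conjugatesOf (hD : IsThreeTranspositionClass D) {d : G} (hd : d ∈ D) :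
    D = conjugatesOf d := by
  obtain ⟨d₀, -, h0⟩ := hD.2.1
  rw [h0] at hd ⊢
  exact conjugatesOf_eq_of_mem hd

theorem class_conj_mem (hD : IsThreeTranspositionClass D) (g : G) {a : G} (ha : a ∈ D) :
    g * a * g⁻¹ ∈ D := by
  have h := class_eq_conjugatesOf hD ha
  rw [h]
  exact isConj_iff.mpr ⟨g, rfl⟩

theorem exists_conj_of_mem (hD : IsThreeTranspositionClass D) {d a : G} (hd : d ∈ D) (ha : a ∈ D) :
    ∃ g : G, g * d * g⁻¹ = a := by
  rw [class_eq_conjugatesOf hD hd] at ha
  exact isConj_iff.mp ha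

theorem quot_class (hD : IsThreeTranspositionClass D) (N : Subgroup G) [N.Normal]
    (hDN : ∀ a ∈ D, a ∉ N) : IsThreeTranspositionClass (QuotientGroup.mk' N '' D) := by
  refine ⟨quot_tt hD.1 N hDN, ?_, ?_⟩
  · obtain ⟨d, hd, -⟩ := hD.2.1
    refine ⟨QuotientGroup.mk' N d, ⟨d, hd, rfl⟩, ?_⟩
    ext x
    constructor
    · rintro ⟨a, ha, rfl⟩
      obtain ⟨g, hg⟩ := exists_conj_of_mem hD hd ha
      refine isConj_iff.mpr ⟨QuotientGroup.mk' N g, ?_⟩
      rw [← hg, map_mul, map_mul, map_inv]
    · intro hx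
      obtain ⟨c, hc⟩ := isConj_iff.mp hx
      obtain ⟨g, rfl⟩ := QuotientGroup.mk'_surjective N c
      refine ⟨g * d * g⁻¹, class_conj_mem hD g hd, ?_⟩
      rw [← hc, map_mul, map_mul, map_inv]
  · rw [← MonoidHom.map_closure, hD.2.2]
    exact Subgroup.map_top_of_surjective _ (QuotientGroup.mk'_surjective N)

end tt

end Cfsg.Agent.Lib.Helper89.TTSylowGen
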