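import Mathlib
import Cfsg.Agent.Lib.Helper30.BSW.Defs
import Cfsg.Agent.Lib.Helper78.CharOrtho
import Cfsg.Agent.Lib.Helper51.BSWValues
import Cfsg.Agent.Lib.Helper26.BSWF2c
import Cfsg.Agent.Lib.Helper89.BSWF2dCore

/-!
# Abstract Brauer–Suzuki–Wall, case `δ = -1`: `q = 2k - 1` is a prime power (module [F2d])
(helper89, for helper30's S3282).  Exact statement of module S3282-[F2d], assembled from the core
`neg_prime_core` and the modules [F2a] (helper51) and [F2c] (helper26).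
-/

set_option autoImplicit false
set_option linter.unusedSectionVars false

namespace Cfsg.Agent.Lib.Helper89.BSW

open Cfsg Cfsg.Agent.Lib.Helper30.BSW

variable {G : Type*} [Group G] {t s : G} {K : Subgroup G}

theorem neg_prime [Finite G] (h : Hyp t s K) (b : Basic t s K) (hk : 4 ≤ Nat.card K)
    {Χ : G → ℂ} (p : PartI K (-1) Χ) :
    ∃ r a : ℕ, r.Prime ∧ 2 * Nat.card K - 1 = r ^ a ∧
      (∀ x : G, IsOuter K x → Χ x = 0 → orderOf x = r) ∧
      (∀ z : G, z ≠ 1 → (∃ j : ℕ, orderOf z = r ^ j) → IsOuter K z ∧ Χ z = 0) :=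
  neg_prime_core h b hk p (Cfsg.Agent.Lib.Helper51.BSW.neg_values h b hk p)
    (Cfsg.Agent.Lib.Helper26.BSWF2c.neg_nonreal h b hk p)

end Cfsg.Agent.Lib.Helper89.BSW
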