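/-
helper89, project C2F4 (= S2369, helper69's sheet): module C2F4-[WRELT] `wrel_T`.
A Weyl element of `F₄` mapping the roots `39` and `45` into `AT` maps `AT` into `AT`.
Proof: the relation "`r + s` is a root", the length of a root and the negation are invariant under the fundamental
reflections (tables, `decide`), hence under every word; a finite check finishes.
-/
import Cfsg.Agent.Lib.Helper69.C2F4.Defs

set_option autoImplicit false

namespace Cfsg.Agent.Lib.Helper69.C2F4

open Cfsg.Lie Cfsg.Agent.Lib.Helper18 Cfsg.Agent.Lib.Helper18.F4T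

/-- `r + s` is a root (chain table of `F₄`). -/
def adjT (r s : ℕ) : Bool := (chevF4.chain.getD r #[]).toList.any fun e => decide (e.1 = s)

/-- The root `r` is long (its chain row has 14 entries; the short roots have 20). -/
def lgT (r : ℕ) : Bool := (chevF4.chain.getD r #[]).size == 14

/-- The `i`-th fundamental reflection on the root indices. -/
def sgT (i r : ℕ) : ℕ := tabRoot (f4tabs.getD i 0) r

set_option maxRecDepth 100000 in
theorem sgT_lt : ∀ i < 4, ∀ r < 48, sgT i r < 48 := by decide +kernel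

set_option maxRecDepth 100000 in
theorem sgT_neg : ∀ i < 4, ∀ r < 48, sgT i (47 - r) = 47 - sgT i r := by decide +kernel

set_option maxRecDepth 100000 in
theorem sgT_adj : ∀ i < 4, ∀ r < 48, ∀ s < 48, adjT (sgT i r) (sgT i s) = adjT r s := by decide +kernel

set_option maxRecDepth 100000 in
theorem sgT_lg : ∀ i < 4, ∀ r < 48, lgT (sgT i r) = lgT r := by decide +kernel

/-- The invariants of a word. -/
theorem word_invariants (ws : List ℕ) (hws : ∀ i ∈ ws, i < 4) :
    (∀ r < 48, wordRootF f4tabs ws r < 48) ∧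
    (∀ r < 48, wordRootF f4tabs ws (47 - r) = 47 - wordRootF f4tabs ws r) ∧
    (∀ r < 48, ∀ s < 48, adjT (wordRootF f4tabs ws r) (wordRootF f4tabs ws s) = adjT r s) ∧
    (∀ r < 48, lgT (wordRootF f4tabs ws r) = lgT r) := by
  induction ws with
  | nil =>
    refine ⟨fun r hr => hr, fun r _ => rfl, fun r _ s _ => rfl, fun r _ => rfl⟩
  | cons i ws ih =>
    obtain ⟨h1, h2, h3, h4⟩ := ih fun j hj => hws j (List.mem_cons_of_mem _ hj)
    have hi : i < 4 := hws i List.mem_cons_self
    refine ⟨?_, ?_, ?_, ?_⟩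
    · intro r hr
      rw [wordRootF_cons]
      exact sgT_lt i hi _ (h1 r hr)
    · intro r hr
      rw [wordRootF_cons, wordRootF_cons, h2 r hr]
      exact sgT_neg i hi _ (h1 r hr)
    · intro r hr s hs
      rw [wordRootF_cons, wordRootF_cons]
      exact (sgT_adj i hi _ (h1 r hr) _ (h1 s hs)).trans (h3 r hr s hs)
    · intro r hr
      rw [wordRootF_cons]
      exact (sgT_lg i hi _ (h1 r hr)).trans (h4 r hr)

set_option maxRecDepth 100000 in
/-- The finite check. -/
theorem wrel_T_check : ∀ a ∈ AT, ∀ b ∈ AT, ∀ r ∈ AT1, ∀ c < 48,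
    lgT a = lgT 39 → lgT b = lgT 45 → adjT (47 - a) b = adjT 8 45 → lgT c = lgT r →
    adjT a c = adjT 39 r → adjT (47 - a) c = adjT 8 r → adjT b c = adjT 45 r → adjT (47 - b) c = adjT 2 r →
    c ∈ AT := by decide +kernel

/-- C2F4-[WRELT].  A Weyl element mapping `39` and `45` into `AT` maps `AT` into `AT`. -/
theorem wrel_T (ws : List ℕ) (hws : ∀ i ∈ ws, i < 4) (h : ∀ r ∈ [39, 45], wordRootF f4tabs ws r ∈ AT) :
    ∀ r ∈ AT, wordRootF f4tabs ws r ∈ AT := by
  obtain ⟨h1, h2, h3, h4⟩ := word_invariants ws hws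
  have ha := h 39 (by simp)
  have hb := h 45 (by simp)
  intro r hr
  have hr' : r = 39 ∨ r = 45 ∨ r ∈ AT1 := by
    unfold AT at hr
    unfold AT1
    simp only [List.mem_cons, List.not_mem_nil, or_false] at hr ⊢
    tauto
  rcases hr' with rfl | rfl | hr1
  · exact ha
  · exact hb
  · have hr48 : r < 48 := by
      unfold AT1 at hr1
      simp only [List.mem_cons, List.not_mem_nil, or_false] at hr1
      omega
    have e8 : wordRootF f4tabs ws 8 = 47 - wordRootF f4tabs ws 39 := h2 39 (by norm_num)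
    have e2 : wordRootF f4tabs ws 2 = 47 - wordRootF f4tabs ws 45 := h2 45 (by norm_num)
    refine wrel_T_check _ ha _ hb r hr1 _ (h1 r hr48) (h4 39 (by norm_num)) (h4 45 (by norm_num)) ?_ (h4 r hr48)
      (h3 39 (by norm_num) r hr48) ?_ (h3 45 (by norm_num) r hr48) ?_
    · rw [← e8]; exact h3 8 (by norm_num) 45 (by norm_num)
    · rw [← e8]; exact h3 8 (by norm_num) r hr48
    · rw [← e2]; exact h3 2 (by norm_num) r hr48

end Cfsg.Agent.Lib.Helper69.C2F4
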