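/-
helper89 (hedge), project C2F4 (= S2369, helper69's sheet): module C2F4-[T] `cent_t_le`.
The centraliser in `F₄(K)` (characteristic 2) of `x39(c) x45(c')`, `c c' ≠ 0`, lies in `M_T = N(X_AT)`.
-/
import Cfsg.Agent.Lib.Helper89.C2F4XAcd
import Cfsg.Agent.Lib.Helper89.C2F4WRelT
import Cfsg.Agent.Lib.Helper89.C2F4CentGen
import Cfsg.Agent.Lib.Helper69.C2F4.XAa
import Cfsg.Agent.Lib.Helper69.C2F4.XAb

set_option autoImplicit false

namespace Cfsg.Agent.Lib.Helper89.C2F4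

open Cfsg.Lie Cfsg.Agent.Lib.Helper18 Cfsg.Agent.Lib.Helper91.ReeF4 Cfsg.Agent.Lib.Helper18.F4T
  Cfsg.Agent.Lib.Helper69.C2F4

universe u

variable {K : Type u} [Field K]

set_option maxRecDepth 100000 in
theorem commFree_AT1 : CommFree chevF4 AT1 = true := by decide +kernel

theorem AT_lt : ∀ r ∈ AT, r < 48 := by decide

theorem AT1_lt : ∀ r ∈ AT1, r < 48 := by decide

theorem AT_nodup : AT.Nodup := by decide

theorem AT1_nodup : AT1.Nodup := by decide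

theorem AT1_sub : ∀ r ∈ AT1, r ∈ AT := by decide

theorem XA_mono (A A' : List ℕ) (h : ∀ r ∈ A, r ∈ A') : XA K A ≤ XA K A' := by
  unfold XA
  apply Subgroup.closure_mono
  rintro g ⟨r, hr, c, rfl⟩
  exact ⟨r, h r hr, c, rfl⟩

/-- The root elements of the roots of a `CommFree` list commute with `X_A`. -/
theorem commute_xG_XA [CharP K 2] (A : List ℕ) (hA : ∀ r ∈ A, r < 48) (hcm : CommFree chevF4 A = true)
    (r : ℕ) (hr : r ∈ A) (a : K) (z : GL chevF4.Idx K) (hz : z ∈ XA K A) : Commute (xG hD4 r a) z := by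
  unfold XA at hz
  induction hz using Subgroup.closure_induction with
  | mem y hy =>
    obtain ⟨s, hs, b, rfl⟩ := hy
    exact xG_commute_of_commFree A hA hcm r s hr hs a b
  | one => exact Commute.one_right _
  | mul x y _ _ hx hy => exact hx.mul_right hy
  | inv x _ hx => exact hx.inv_right

/-- The `B`-stable set of the elements `x39(a) x45(b) z`, `a b ≠ 0`, `z ∈ X_{AT1}`. -/
def TT (K : Type u) [Field K] : Set (GL chevF4.Idx K) :=
  {y | ∃ a b : K, a ≠ 0 ∧ b ≠ 0 ∧ ∃ z ∈ XA K AT1, y = xG hD4 39 a * xG hD4 45 b * z}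

theorem TT_prodL [CharP K 2] (y : GL chevF4.Idx K) (hy : y ∈ TT K) :
    ∃ t : ℕ → K, y = prodL hD4 AT t ∧ ∀ r ∈ [39, 45], t r ≠ 0 := by
  obtain ⟨a, b, ha, hb, z, hz, rfl⟩ := hy
  obtain ⟨t₁, rfl⟩ := exists_prodL_of_mem_XA AT1 AT1_lt AT1_nodup commFree_AT1 z hz
  refine ⟨fun r => if r = 39 then a else if r = 45 then b else t₁ r, ?_, ?_⟩
  · show _ = prodL hD4 (39 :: 45 :: AT1) _
    rw [prodL_cons, prodL_cons, mul_assoc]
    have e : prodL hD4 AT1 (fun r => if r = 39 then a else if r = 45 then b else t₁ r) = prodL hD4 AT1 t₁ := by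
      apply prodL_congr
      intro r hr
      have h39 : r ≠ 39 := by
        rintro rfl
        revert hr
        decide
      have h45 : r ≠ 45 := by
        rintro rfl
        revert hr
        decide
      simp only [h39, h45, if_false]
    rw [e]
    simp
  · intro r hr
    simp only [List.mem_cons, List.not_mem_nil, or_false] at hr
    rcases hr with rfl | rfl
    · simpa using ha
    · simpa using hb

theorem TT_borel [CharP K 2] (y : GL chevF4.Idx K) (hy : y ∈ TT K) (b₀ : GL chevF4.Idx K)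
    (hb₀ : b₀ ∈ chevF4.borelSubgroup K) : b₀ * y * b₀⁻¹ ∈ TT K := by
  obtain ⟨a, b, ha, hb, z, hz, rfl⟩ := hy
  obtain ⟨a', ha', z₁, hz₁, e₁⟩ := borel_conj_mem AT AT1 AT_lt AT1_lt uStable_AT uStable_AT1 b₀ hb₀ 39
    (by decide) a ha
  obtain ⟨b', hb', z₂, hz₂, e₂⟩ := borel_conj_mem AT AT1 AT_lt AT1_lt uStable_AT uStable_AT1 b₀ hb₀ 45
    (by decide) b hb
  have hN : b₀ ∈ Subgroup.normalizer (XA K AT1 : Set (GL chevF4.Idx K)) :=
    (borel_le_MA AT1 AT1_lt uStable_AT1 hb₀).1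
  have hz₃ : b₀ * z * b₀⁻¹ ∈ XA K AT1 := (Subgroup.mem_normalizer_iff.mp hN z).mp hz
  have hcomm : Commute (xG hD4 45 b') z₁ :=
    commute_xG_XA AT AT_lt commFree_AT 45 (by decide) b' z₁ (XA_mono AT1 AT AT1_sub hz₁)
  refine ⟨a', b', ha', hb', z₁ * z₂ * (b₀ * z * b₀⁻¹), mul_mem (mul_mem hz₁ hz₂) hz₃, ?_⟩
  have e : b₀ * (xG hD4 39 a * xG hD4 45 b * z) * b₀⁻¹
      = (b₀ * xG hD4 39 a * b₀⁻¹) * (b₀ * xG hD4 45 b * b₀⁻¹) * (b₀ * z * b₀⁻¹) := by group
  rw [e, e₁, e₂]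
  have e' : xG hD4 39 a' * z₁ * (xG hD4 45 b' * z₂) = xG hD4 39 a' * (z₁ * xG hD4 45 b') * z₂ := by group
  rw [e', ← hcomm.eq]
  group

/-- C2F4-[T]. -/
theorem cent_t_le_h89 [CharP K 2] (c c' : K) (hc : c ≠ 0) (hc' : c' ≠ 0) (g : GL chevF4.Idx K)
    (hg : g ∈ chevF4.group K)
    (hcomm : g * (xG hD4 39 c * xG hD4 45 c') = (xG hD4 39 c * xG hD4 45 c') * g) : g ∈ MA K AT := by
  have hy : xG hD4 39 c * xG hD4 45 c' ∈ TT K := ⟨c, c', hc, hc', 1, one_mem _, by rw [mul_one]⟩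
  have hgy : g * (xG hD4 39 c * xG hD4 45 c') * g⁻¹ ∈ TT K := by
    rw [hcomm, mul_inv_cancel_right]
    exact hy
  obtain ⟨b, hb, b', hb', ws, hws, hge, hw⟩ := exists_bruhat_of_conj AT AT_lt AT_nodup spread_AT [39, 45]
    (by decide) (TT K) TT_prodL TT_borel g hg _ hy hgy
  have hwAT := wrel_T ws hws hw
  have hn : nW hD4 chevData_F4.{u} ws ∈ Subgroup.normalizer (XA K AT : Set (GL chevF4.Idx K)) :=
    (nW_mem_normalizer_XA_iff AT AT_lt AT_nodup spread_AT commFree_AT ws hws).mpr hwAT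
  have hB : chevF4.borelSubgroup K ≤ Subgroup.normalizer (XA K AT : Set (GL chevF4.Idx K)) :=
    fun x hx => (borel_le_MA AT AT_lt uStable_AT_AT hx).1
  refine ⟨?_, hg⟩
  rw [hge]
  exact mul_mem (mul_mem (hB hb) hn) (hB hb')

end Cfsg.Agent.Lib.Helper89.C2F4
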