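/-
helper89 (hedge), project C2F4 (= S2369, helper69's sheet): module C2F4-[Z] `cent_z_le`.
The centraliser in `F₄(K)` (characteristic 2) of `x44(c) x47(c')`, `c c' ≠ 0`, lies in `M_Z = N(X_AZ)`.
-/
import Cfsg.Agent.Lib.Helper89.C2F4XAcd
import Cfsg.Agent.Lib.Helper89.C2F4CentGen
import Cfsg.Agent.Lib.Helper69.C2F4.XAa
import Cfsg.Agent.Lib.Helper69.C2F4.XAb

set_option autoImplicit false

namespace Cfsg.Agent.Lib.Helper89.C2F4

open Cfsg.Lie Cfsg.Agent.Lib.Helper18 Cfsg.Agent.Lib.Helper91.ReeF4 Cfsg.Agent.Lib.Helper18.F4T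
  Cfsg.Agent.Lib.Helper69.C2F4

universe u

variable {K : Type u} [Field K]

set_option maxRecDepth 100000 in
theorem uStable_nil : UStable chevF4 [] [] = true := by decide +kernel

theorem AZ_lt : ∀ r ∈ AZ, r < 48 := by decide

theorem AZ_nodup : AZ.Nodup := by decide

theorem XA_nil_eq_one (a : GL chevF4.Idx K) (ha : a ∈ XA K []) : a = 1 := by
  have h : XA K [] = ⊥ := by
    unfold XA
    rw [Subgroup.closure_eq_bot_iff]
    rintro g ⟨r, hr, -⟩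
    exact absurd hr (List.not_mem_nil)
  rw [h] at ha
  exact Subgroup.mem_bot.mp ha

/-- The `B`-stable set of the elements `x44(a) x47(b)`, `a b ≠ 0`. -/
def TZ (K : Type u) [Field K] : Set (GL chevF4.Idx K) :=
  {y | ∃ a b : K, a ≠ 0 ∧ b ≠ 0 ∧ y = xG hD4 44 a * xG hD4 47 b}

theorem TZ_prodL (y : GL chevF4.Idx K) (hy : y ∈ TZ K) :
    ∃ t : ℕ → K, y = prodL hD4 AZ t ∧ ∀ r ∈ AZ, t r ≠ 0 := by
  obtain ⟨a, b, ha, hb, rfl⟩ := hy
  refine ⟨fun r => if r = 44 then a else b, ?_, ?_⟩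
  · show _ = prodL hD4 (44 :: 47 :: []) _
    rw [prodL_cons, prodL_cons, prodL_nil, mul_one]
    simp
  · intro r hr
    unfold AZ at hr
    simp only [List.mem_cons, List.not_mem_nil, or_false] at hr
    rcases hr with rfl | rfl
    · simpa using ha
    · simpa using hb

theorem TZ_borel [CharP K 2] (y : GL chevF4.Idx K) (hy : y ∈ TZ K) (b₀ : GL chevF4.Idx K)
    (hb₀ : b₀ ∈ chevF4.borelSubgroup K) : b₀ * y * b₀⁻¹ ∈ TZ K := by
  obtain ⟨a, b, ha, hb, rfl⟩ := hy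
  obtain ⟨a', ha', z₁, hz₁, e₁⟩ := borel_conj_mem AZ [] AZ_lt (by simp) uStable_AZ uStable_nil b₀ hb₀ 44
    (by decide) a ha
  obtain ⟨b', hb', z₂, hz₂, e₂⟩ := borel_conj_mem AZ [] AZ_lt (by simp) uStable_AZ uStable_nil b₀ hb₀ 47
    (by decide) b hb
  rw [XA_nil_eq_one z₁ hz₁, mul_one] at e₁
  rw [XA_nil_eq_one z₂ hz₂, mul_one] at e₂
  refine ⟨a', b', ha', hb', ?_⟩
  have e : b₀ * (xG hD4 44 a * xG hD4 47 b) * b₀⁻¹
      = (b₀ * xG hD4 44 a * b₀⁻¹) * (b₀ * xG hD4 47 b * b₀⁻¹) := by group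
  rw [e, e₁, e₂]

/-- C2F4-[Z]. -/
theorem cent_z_le_h89 [CharP K 2] (c c' : K) (hc : c ≠ 0) (hc' : c' ≠ 0) (g : GL chevF4.Idx K)
    (hg : g ∈ chevF4.group K)
    (hcomm : g * (xG hD4 44 c * xG hD4 47 c') = (xG hD4 44 c * xG hD4 47 c') * g) : g ∈ MA K AZ := by
  have hy : xG hD4 44 c * xG hD4 47 c' ∈ TZ K := ⟨c, c', hc, hc', rfl⟩
  have hgy : g * (xG hD4 44 c * xG hD4 47 c') * g⁻¹ ∈ TZ K := by
    rw [hcomm, mul_inv_cancel_right]
    exact hy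
  obtain ⟨b, hb, b', hb', ws, hws, hge, hw⟩ := exists_bruhat_of_conj AZ AZ_lt AZ_nodup spread_AZ AZ
    (fun r hr => hr) (TZ K) TZ_prodL TZ_borel g hg _ hy hgy
  have hn : nW hD4 chevData_F4.{u} ws ∈ Subgroup.normalizer (XA K AZ : Set (GL chevF4.Idx K)) :=
    (nW_mem_normalizer_XA_iff AZ AZ_lt AZ_nodup spread_AZ commFree_AZ ws hws).mpr hw
  have hB : chevF4.borelSubgroup K ≤ Subgroup.normalizer (XA K AZ : Set (GL chevF4.Idx K)) :=
    fun x hx => (borel_le_MA AZ AZ_lt uStable_AZ_AZ hx).1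
  refine ⟨?_, hg⟩
  rw [hge]
  exact mul_mem (mul_mem (hB hb) hn) (hB hb')

end Cfsg.Agent.Lib.Helper89.C2F4
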