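/-
helper89 (hedge), project C2F4 (= S2369, helper69's sheet): module C2F4-[CARD] `card_MZ`, `card_MT`.
`|M_Z| = q^24 (q-1)^4 (1+q)^2 (1+q^2)`, `|M_T| = q^24 (q-1)^4 (1+q)^2`
(from [PARCARD], [WSUM] (helper43), [XA-b] (helper69), [XA-c] (helper89), [SMEM] (helper24)).
-/
import Cfsg.Agent.Lib.Helper89.C2F4T
import Cfsg.Agent.Lib.Helper89.C2F4Z
import Cfsg.Agent.Lib.Helper24.C2F4SMem
import Cfsg.Agent.Lib.Helper43.C2F4ParCard
import Cfsg.Agent.Lib.Helper43.C2F4Wsum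

set_option autoImplicit false

namespace Cfsg.Agent.Lib.Helper89.C2F4

open Cfsg.Lie Cfsg.Agent.Lib.Helper18 Cfsg.Agent.Lib.Helper91.ReeF4 Cfsg.Agent.Lib.Helper18.F4T
  Cfsg.Agent.Lib.Helper69.C2F4

universe u

variable {K : Type u} [Field K]

/-- C2F4-[CARD] (a). -/
theorem card_MZ_h89 [CharP K 2] [Fintype K] : Nat.card (MA K AZ)
    = Fintype.card K ^ 24 * (Fintype.card K - 1) ^ 4 * ((1 + Fintype.card K) ^ 2 * (1 + Fintype.card K ^ 2)) := by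
  have hsm : ∀ j < chevF4.rank, (j ∈ [1, 2] ↔ sG hD4 chevData_F4.{u} j ∈ MA K AZ) := fun j hj =>
    (Cfsg.Agent.Lib.Helper24.C2F4.sG_mem_MZ_iff_of (K := K)
      (fun ws hws => nW_mem_normalizer_XA_iff AZ AZ_lt AZ_nodup spread_AZ commFree_AZ ws hws) j hj).symm
  rw [card_of_borel_le hD4 chevData_F4.{u} (MA K AZ) (borel_le_MA AZ AZ_lt uStable_AZ_AZ) inf_le_right [1, 2] hsm,
    card_borel_F4, wsum_12]

/-- C2F4-[CARD] (b). -/
theorem card_MT_h89 [CharP K 2] [Fintype K] : Nat.card (MA K AT)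
    = Fintype.card K ^ 24 * (Fintype.card K - 1) ^ 4 * (1 + Fintype.card K) ^ 2 := by
  have hsm : ∀ j < chevF4.rank, (j ∈ [0, 3] ↔ sG hD4 chevData_F4.{u} j ∈ MA K AT) := fun j hj =>
    (Cfsg.Agent.Lib.Helper24.C2F4.sG_mem_MT_iff_of (K := K)
      (fun ws hws => nW_mem_normalizer_XA_iff AT AT_lt AT_nodup spread_AT commFree_AT ws hws) j hj).symm
  rw [card_of_borel_le hD4 chevData_F4.{u} (MA K AT) (borel_le_MA AT AT_lt uStable_AT_AT) inf_le_right [0, 3] hsm,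
    card_borel_F4, wsum_03]

end Cfsg.Agent.Lib.Helper89.C2F4
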