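/-
helper89 (hedge), project C2F4 (= S2369, helper69's sheet): module C2F4-[CONJ] `conj_z0`, `conj_t0`.
Elements of `N` moving `z0 = x28(1) x30(1)` to `x44(1) x47(1)` and `t0 = x33(1) x24(1)` to `x39(1) x45(1)` (characteristic 2).
-/
import Cfsg.Agent.Lib.Helper69.C2F4.XAb

set_option autoImplicit false

namespace Cfsg.Agent.Lib.Helper89.C2F4

open Cfsg.Lie Cfsg.Agent.Lib.Helper18 Cfsg.Agent.Lib.Helper91.ReeF4 Cfsg.Agent.Lib.Helper18.F4T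
  Cfsg.Agent.Lib.Helper69.C2F4

universe u

variable {K : Type u} [Field K]

set_option maxRecDepth 100000 in
theorem conj_roots : wordRootF f4tabs [3, 2, 0, 1, 2, 3, 1, 0] 28 = 44 ∧ wordRootF f4tabs [3, 2, 0, 1, 2, 3, 1, 0] 30 = 47 ∧
    wordRootF f4tabs [2, 1, 2, 3, 1, 2, 0, 1, 2, 1] 33 = 39 ∧ wordRootF f4tabs [2, 1, 2, 3, 1, 2, 0, 1, 2, 1] 24 = 45 := by
  decide +kernel

/-- Conjugation of a product of two root elements by `n_w` in characteristic 2. -/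
theorem nW_conj_two [CharP K 2] (ws : List ℕ) (hws : ∀ i ∈ ws, i < 4) (r s : ℕ) (hr : r < 48) (hs : s < 48) (a b : K) :
    nW hD4 chevData_F4.{u} ws * (xG hD4 r a * xG hD4 s b) * (nW hD4 chevData_F4.{u} ws)⁻¹
      = xG hD4 (wordRootF f4tabs ws r) a * xG hD4 (wordRootF f4tabs ws s) b := by
  rw [← nW_conj_xG_two ws hws r hr a, ← nW_conj_xG_two ws hws s hs b]
  group

/-- C2F4-[CONJ] (a). -/
theorem conj_z0_h89 [CharP K 2] : nW hD4 chevData_F4.{u} [3, 2, 0, 1, 2, 3, 1, 0] * (xG hD4 28 (1 : K) * xG hD4 30 1)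
    * (nW hD4 chevData_F4.{u} [3, 2, 0, 1, 2, 3, 1, 0])⁻¹ = xG hD4 44 1 * xG hD4 47 1 := by
  rw [nW_conj_two _ (by decide) 28 30 (by norm_num) (by norm_num), conj_roots.1, conj_roots.2.1]

/-- C2F4-[CONJ] (b). -/
theorem conj_t0_h89 [CharP K 2] : nW hD4 chevData_F4.{u} [2, 1, 2, 3, 1, 2, 0, 1, 2, 1] * (xG hD4 33 (1 : K) * xG hD4 24 1)
    * (nW hD4 chevData_F4.{u} [2, 1, 2, 3, 1, 2, 0, 1, 2, 1])⁻¹ = xG hD4 39 1 * xG hD4 45 1 := by
  rw [nW_conj_two _ (by decide) 33 24 (by norm_num) (by norm_num), conj_roots.2.2.1, conj_roots.2.2.2]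

end Cfsg.Agent.Lib.Helper89.C2F4
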