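/-
helper89, project C2F4 (= S2369, helper69's sheet): the exact sheet names of C2F4-[CONJ] (`conj_z0`, `conj_t0`) and
C2F4-[CARD] (`card_MZ`, `card_MT`), as one-term wrappers of the `_h89` theorems.
-/
import Cfsg.Agent.Lib.Helper89.C2F4Conj
import Cfsg.Agent.Lib.Helper89.C2F4Card

set_option autoImplicit false

namespace Cfsg.Agent.Lib.Helper69.C2F4

open Cfsg.Lie Cfsg.Agent.Lib.Helper18 Cfsg.Agent.Lib.Helper91.ReeF4 Cfsg.Agent.Lib.Helper18.F4T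

universe u

variable {K : Type u} [Field K]

/-- C2F4-[CARD]. -/
theorem card_MZ [CharP K 2] [Fintype K] : Nat.card (MA K AZ)
    = Fintype.card K ^ 24 * (Fintype.card K - 1) ^ 4 * ((1 + Fintype.card K) ^ 2 * (1 + Fintype.card K ^ 2)) :=
  Cfsg.Agent.Lib.Helper89.C2F4.card_MZ_h89

theorem card_MT [CharP K 2] [Fintype K] : Nat.card (MA K AT)
    = Fintype.card K ^ 24 * (Fintype.card K - 1) ^ 4 * (1 + Fintype.card K) ^ 2 :=
  Cfsg.Agent.Lib.Helper89.C2F4.card_MT_h89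

/-- C2F4-[CONJ]. -/
theorem conj_z0 [CharP K 2] : nW hD4 chevData_F4.{u} [3, 2, 0, 1, 2, 3, 1, 0] * (xG hD4 28 (1 : K) * xG hD4 30 1)
    * (nW hD4 chevData_F4.{u} [3, 2, 0, 1, 2, 3, 1, 0])⁻¹ = xG hD4 44 1 * xG hD4 47 1 :=
  Cfsg.Agent.Lib.Helper89.C2F4.conj_z0_h89

theorem conj_t0 [CharP K 2] : nW hD4 chevData_F4.{u} [2, 1, 2, 3, 1, 2, 0, 1, 2, 1] * (xG hD4 33 (1 : K) * xG hD4 24 1)
    * (nW hD4 chevData_F4.{u} [2, 1, 2, 3, 1, 2, 0, 1, 2, 1])⁻¹ = xG hD4 39 1 * xG hD4 45 1 :=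
  Cfsg.Agent.Lib.Helper89.C2F4.conj_t0_h89

end Cfsg.Agent.Lib.Helper69.C2F4
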