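import Mathlib
import Cfsg.Agent.Lib.Helper8.CoTwoCentKerDefs

/-!
# S2136 module [KER-CONN] (helper89 for helper8)

If `g ∈ CSub` maps every root of `L` orthogonal to `v` to itself or its negative, then `g` acts
on `L` as the identity or as `swapNeg`.
-/

set_option autoImplicit false
set_option linter.unusedVariables false

namespace Cfsg.Agent.Lib.Helper89.CoTwoKer
open Cfsg Cfsg.Spor Cfsg.Agent.Lib.Helper7 Cfsg.Agent.Lib.Helper8 Cfsg.Agent.Lib.Helper8.CoTwoCent

/-- the eight roots, as lists (position 23 is `∞`) -/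
def rootList : List (List ℤ) :=
  [[0, 4, -4, 0, 0, 0, 0, 0, 0, 0, 0, 0, 0, 0, 0, 0, 0, 0, 0, 0, 0, 0, 0, 0],
   [0, 0, 4, -4, 0, 0, 0, 0, 0, 0, 0, 0, 0, 0, 0, 0, 0, 0, 0, 0, 0, 0, 0, 0],
   [0, 0, 0, 4, 0, -4, 0, 0, 0, 0, 0, 0, 0, 0, 0, 0, 0, 0, 0, 0, 0, 0, 0, 0],
   [0, 0, 0, 0, 0, 4, 0, 0, 0, 0, 0, 0, 0, 0, -4, 0, 0, 0, 0, 0, 0, 0, 0, 0],
   [0, 0, 0, 0, 0, 0, 0, 0, 0, 0, 0, 0, 0, 0, 4, 0, 0, -4, 0, 0, 0, 0, 0, 0],
   [0, 0, 0, 0, 0, 0, 0, 0, 0, 0, 0, 0, 0, 0, 4, 0, 0, 4, 0, 0, 0, 0, 0, 0],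
   [-2, -2, -2, -2, 0, 2, 0, 0, 0, 0, 0, 0, 0, 0, 2, 0, 0, 2, 0, 0, 0, 0, 0, 2],
   [-4, 0, 0, 0, 0, 0, 0, 0, 0, 0, 0, 0, 0, 0, 0, 0, 0, 0, 0, 0, 0, 0, 0, 4]]

/-- the root vectors -/
def rootV (k : ℕ) : GolayPt → ℤ := vecL (rootList.getD k [])

theorem lsh_rootV : ∀ k < 8, LSh (rootV k) := by
  intro k hk
  interval_cases k <;> exact ⟨by decide, by decide, by decide⟩

theorem rootV_eq (k : ℕ) : rootV k = vecL (rootList.getD k []) := rfl

theorem sqNorm_rootV : ∀ k < 8, sqNorm (rootV k) = 32 := by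
  intro k hk
  rw [sqNorm_suppO (lsh_rootV k hk).supp]
  interval_cases k <;> decide

theorem dotU_rootV : ∀ k < 8, dotU (rootV k) = 0 := by
  intro k hk
  interval_cases k <;> decide

/-- the roots as elements of `Lsub` -/
def rootL (k : ℕ) (hk : k < 8) : Lsub := ⟨rootV k, lsh_rootV k hk⟩

theorem dot_neg_r (x y : GolayPt → ℤ) : dotInt x (-y) = -dotInt x y := by
  unfold dotInt
  rw [← Finset.sum_neg_distrib]
  exact Finset.sum_congr rfl fun i _ => by simp

theorem dot_neg_l (x y : GolayPt → ℤ) : dotInt (-x) y = -dotInt x y := by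
  unfold dotInt
  rw [← Finset.sum_neg_distrib]
  exact Finset.sum_congr rfl fun i _ => by simp

section

variable (g : Co0) (hg : g ∈ CSub)

theorem dot_actL (x y : Lsub) :
    dotInt (actL g hg x).1 (actL g hg y).1 = dotInt x.1 y.1 := by
  rw [actL_val, actL_val]
  exact co0_dotInt g (toLeech x) (toLeech y)

theorem sign_pos (r s : Lsub) (hrs : dotInt r.1 s.1 ≠ 0) (hr : actL g hg r = r)
    (hs : actL g hg s = s ∨ actL g hg s = -s) : actL g hg s = s := by
  rcases hs with hs | hs
  · exact hs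
  · exfalso
    have h := dot_actL g hg r s
    rw [hr, hs, AddSubgroup.coe_neg, dot_neg_r] at h
    omega

theorem sign_neg (r s : Lsub) (hrs : dotInt r.1 s.1 ≠ 0) (hr : actL g hg r = -r)
    (hs : actL g hg s = s ∨ actL g hg s = -s) : actL g hg s = -s := by
  rcases hs with hs | hs
  · exfalso
    have h := dot_actL g hg r s
    rw [hr, hs, AddSubgroup.coe_neg, dot_neg_l] at h
    omega
  · exact hs

end

theorem dot_root (a b : ℕ) (ha : a < 8) (_hb : b < 8) :
    dotInt (rootV a) (rootV b) =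
      rootV a none * (rootList.getD b []).getD 23 0 +
      rootV a (some 0) * (rootList.getD b []).getD 0 0 +
      rootV a (some 1) * (rootList.getD b []).getD 1 0 +
      rootV a (some 2) * (rootList.getD b []).getD 2 0 +
      rootV a (some 3) * (rootList.getD b []).getD 3 0 +
      rootV a (some 5) * (rootList.getD b []).getD 5 0 +
      rootV a (some 14) * (rootList.getD b []).getD 14 0 +
      rootV a (some 17) * (rootList.getD b []).getD 17 0 := by
  rw [rootV_eq b, dotInt_suppO_vecL (lsh_rootV a ha).supp]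

/-- adjacent roots of the chain have nonzero dot product -/
theorem dot_ne : ∀ p ∈ ([(0, 1), (1, 2), (2, 3), (3, 4), (3, 5), (2, 6), (6, 7)] : List (ℕ × ℕ)),
    ∀ (ha : p.1 < 8) (_hb : p.2 < 8), dotInt (rootV p.1) (rootV p.2) ≠ 0 := by
  intro p hp ha hb
  rw [dot_root p.1 p.2 ha hb]
  simp only [List.mem_cons, List.mem_nil_iff, or_false] at hp
  rcases hp with rfl | rfl | rfl | rfl | rfl | rfl | rfl <;> decide

/-- [KER-CONN] -/
theorem act_id_or_swapNeg (g : Co0) (hg : g ∈ CSub)
    (h : ∀ α : Lsub, sqNorm α.1 = 32 → dotU α.1 = 0 → actL g hg α = α ∨ actL g hg α = -α) :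
    (∀ x : Lsub, actL g hg x = x) ∨ (∀ x : Lsub, (actL g hg x).1 = swapNeg x.1) := by
  have hroot : ∀ k (hk : k < 8), actL g hg (rootL k hk) = rootL k hk ∨
      actL g hg (rootL k hk) = -rootL k hk := fun k hk =>
    h (rootL k hk) (sqNorm_rootV k hk) (dotU_rootV k hk)
  have hne : ∀ a b (ha : a < 8) (hb : b < 8),
      (a, b) ∈ ([(0, 1), (1, 2), (2, 3), (3, 4), (3, 5), (2, 6), (6, 7)] : List (ℕ × ℕ)) →
      dotInt (rootL a ha).1 (rootL b hb).1 ≠ 0 := fun a b ha hb hab => dot_ne (a, b) hab ha hb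
  have hne' : ∀ a b (ha : a < 8) (hb : b < 8),
      (a, b) ∈ ([(0, 1), (1, 2), (2, 3), (3, 4), (3, 5), (2, 6), (6, 7)] : List (ℕ × ℕ)) →
      dotInt (rootL b hb).1 (rootL a ha).1 ≠ 0 := fun a b ha hb hab => by
    rw [dotInt_comm]; exact hne a b ha hb hab
  -- coordinates of the dot products with the roots
  have hdot : ∀ (x : Lsub) (k : ℕ) (hk : k < 8), dotInt x.1 (rootL k hk).1 =
      x.1 none * (rootList.getD k []).getD 23 0 + x.1 (some 0) * (rootList.getD k []).getD 0 0 +
      x.1 (some 1) * (rootList.getD k []).getD 1 0 + x.1 (some 2) * (rootList.getD k []).getD 2 0 +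
      x.1 (some 3) * (rootList.getD k []).getD 3 0 + x.1 (some 5) * (rootList.getD k []).getD 5 0 +
      x.1 (some 14) * (rootList.getD k []).getD 14 0 +
      x.1 (some 17) * (rootList.getD k []).getD 17 0 := fun x k hk =>
    dotInt_suppO_vecL x.2.supp _
  rcases hroot 2 (by norm_num) with h2 | h2
  · -- all roots fixed
    left
    have h1 := sign_pos g hg _ _ (hne' 1 2 (by norm_num) (by norm_num) (by decide)) h2
      (hroot 1 (by norm_num))
    have h0 := sign_pos g hg _ _ (hne' 0 1 (by norm_num) (by norm_num) (by decide)) h1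
      (hroot 0 (by norm_num))
    have h3 := sign_pos g hg _ _ (hne 2 3 (by norm_num) (by norm_num) (by decide)) h2
      (hroot 3 (by norm_num))
    have h4 := sign_pos g hg _ _ (hne 3 4 (by norm_num) (by norm_num) (by decide)) h3
      (hroot 4 (by norm_num))
    have h5 := sign_pos g hg _ _ (hne 3 5 (by norm_num) (by norm_num) (by decide)) h3
      (hroot 5 (by norm_num))
    have h6 := sign_pos g hg _ _ (hne 2 6 (by norm_num) (by norm_num) (by decide)) h2
      (hroot 6 (by norm_num))
    have h7 := sign_pos g hg _ _ (hne 6 7 (by norm_num) (by norm_num) (by decide)) h6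
      (hroot 7 (by norm_num))
    intro x
    have e : ∀ k (hk : k < 8), actL g hg (rootL k hk) = rootL k hk →
        dotInt (actL g hg x).1 (rootL k hk).1 = dotInt x.1 (rootL k hk).1 := by
      intro k hk hfix
      have := dot_actL g hg x (rootL k hk)
      rwa [hfix] at this
    have e0 := e 0 (by norm_num) h0
    have e1 := e 1 (by norm_num) h1
    have e2 := e 2 (by norm_num) h2
    have e3 := e 3 (by norm_num) h3
    have e4 := e 4 (by norm_num) h4
    have e5 := e 5 (by norm_num) h5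
    have e7 := e 7 (by norm_num) h7
    have eU := dotU_actL g hg x
    rw [hdot, hdot] at e0 e1 e2 e3 e4 e5 e7
    simp only [rootList, List.getD_cons_zero, List.getD_cons_succ] at e0 e1 e2 e3 e4 e5 e7
    have eU' : 4 * (actL g hg x).1 none + 4 * (actL g hg x).1 (some 0) =
        4 * x.1 none + 4 * x.1 (some 0) := eU
    apply Subtype.ext
    funext i
    by_cases hi : i ∈ oct
    · rcases mem_oct_cases hi with rfl | rfl | rfl | rfl | rfl | rfl | rfl | rfl <;> omega
    · rw [(actL g hg x).2.supp i hi, x.2.supp i hi]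
  · -- all roots negated
    right
    have h1 := sign_neg g hg _ _ (hne' 1 2 (by norm_num) (by norm_num) (by decide)) h2
      (hroot 1 (by norm_num))
    have h0 := sign_neg g hg _ _ (hne' 0 1 (by norm_num) (by norm_num) (by decide)) h1
      (hroot 0 (by norm_num))
    have h3 := sign_neg g hg _ _ (hne 2 3 (by norm_num) (by norm_num) (by decide)) h2
      (hroot 3 (by norm_num))
    have h4 := sign_neg g hg _ _ (hne 3 4 (by norm_num) (by norm_num) (by decide)) h3
      (hroot 4 (by norm_num))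
    have h5 := sign_neg g hg _ _ (hne 3 5 (by norm_num) (by norm_num) (by decide)) h3
      (hroot 5 (by norm_num))
    have h6 := sign_neg g hg _ _ (hne 2 6 (by norm_num) (by norm_num) (by decide)) h2
      (hroot 6 (by norm_num))
    have h7 := sign_neg g hg _ _ (hne 6 7 (by norm_num) (by norm_num) (by decide)) h6
      (hroot 7 (by norm_num))
    intro x
    have e : ∀ k (hk : k < 8), actL g hg (rootL k hk) = -rootL k hk →
        dotInt (actL g hg x).1 (rootL k hk).1 = -dotInt x.1 (rootL k hk).1 := by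
      intro k hk hfix
      have := dot_actL g hg x (rootL k hk)
      rw [hfix, AddSubgroup.coe_neg, dot_neg_r] at this
      omega
    have e0 := e 0 (by norm_num) h0
    have e1 := e 1 (by norm_num) h1
    have e2 := e 2 (by norm_num) h2
    have e3 := e 3 (by norm_num) h3
    have e4 := e 4 (by norm_num) h4
    have e5 := e 5 (by norm_num) h5
    have e7 := e 7 (by norm_num) h7
    have eU := dotU_actL g hg x
    rw [hdot, hdot] at e0 e1 e2 e3 e4 e5 e7
    simp only [rootList, List.getD_cons_zero, List.getD_cons_succ] at e0 e1 e2 e3 e4 e5 e7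
    have eU' : 4 * (actL g hg x).1 none + 4 * (actL g hg x).1 (some 0) =
        4 * x.1 none + 4 * x.1 (some 0) := eU
    funext i
    unfold swapNeg
    by_cases hi : i ∈ oct
    · rcases mem_oct_cases hi with rfl | rfl | rfl | rfl | rfl | rfl | rfl | rfl
      · rw [if_pos rfl]; omega
      · rw [if_neg (by decide), if_pos rfl]; omega
      all_goals
        rw [if_neg (by decide), if_neg (by decide)]
        omega
    · have hn : i ≠ none := fun hc => hi (hc ▸ none_mem_oct)
      have h0' : i ≠ some 0 := fun hc => hi (hc ▸ zero_mem_oct)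
      rw [if_neg hn, if_neg h0', (actL g hg x).2.supp i hi, x.2.supp i hi]
      rfl

end Cfsg.Agent.Lib.Helper89.CoTwoKer
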