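import Mathlib
import Cfsg.Agent.Lib.Helper8.CoTwoCentKerDefs

/-!
# S2136 module [KER-ROOT] (helper89 for helper8)

An element of `CSub` in the kernel of `phi` maps every root of `L` orthogonal to `v` to itself
or its negative.
-/

set_option autoImplicit false

namespace Cfsg.Agent.Lib.Helper89.CoTwoKer
open Cfsg Cfsg.Spor Cfsg.Agent.Lib.Helper7 Cfsg.Agent.Lib.Helper8 Cfsg.Agent.Lib.Helper8.CoTwoCent

/-- [KER-ROOT] -/
theorem root_fixed_or_neg (g : Co0) (hg : g ∈ CSub) (h1 : phiMat g = 1) (α : Lsub)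
    (hn : sqNorm α.1 = 32) (hv : dotU α.1 = 0) : actL g hg α = α ∨ actL g hg α = -α := by
  set β : Lsub := actL g hg α with hβ
  -- norms
  have hβn : sqNorm β.1 = 32 := by
    rw [hβ, actL_val, co0_sqNorm]
    exact hn
  have hαL : α.1 ∈ leechLattice := mem_of_lsh α.2
  have hβL : β.1 ∈ leechLattice := mem_of_lsh β.2
  -- the difference
  have hc : cvecHom (β - α) = 0 := by
    rw [map_sub, hβ, cvec_act g hg α (by rw [hv]; rfl), h1, Matrix.one_mulVec, sub_self]
  have hd : dotU (β - α).1 = 0 := by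
    rw [AddSubgroup.coe_sub, map_sub, hβ, dotU_actL, sub_self]
  obtain ⟨l, hl, n, hy⟩ := exists_expansion (β - α).2
    (by rw [← dotU_eq, hd]; rfl)
    (fun k => by
      have := congrFun hc k
      rw [cvecHom_apply] at this
      exact this)
  have hlL : l ∈ leechLattice := mem_of_lsh hl
  have hUL : vecU ∈ leechLattice := leechU.2
  rw [AddSubgroup.coe_sub] at hy
  by_contra hcon
  push Not at hcon
  obtain ⟨hne1, hne2⟩ := hcon
  have hne1' : α.1 ≠ β.1 := fun h => hne1 (Subtype.ext h.symm)
  have hne2' : α.1 ≠ -β.1 := by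
    intro h
    apply hne2
    apply Subtype.ext
    show β.1 = -α.1
    rw [h, neg_neg]
  rcases Int.even_or_odd' n with ⟨m, hm | hm⟩
  · -- even case
    have hcong : β.1 - α.1 ∈ L2 := by
      rw [mem_L2]
      refine ⟨l + m • vecU, leechLattice.add_mem hlL (leechLattice.zsmul_mem hUL m), ?_⟩
      rw [hy, hm]
      funext i
      simp only [Pi.add_apply, Pi.smul_apply, smul_eq_mul, nsmul_eq_mul, Nat.cast_ofNat]
      ring
    have := pair_lemma hβL hαL hcong (by omega) (by omega) hne1' hne2'
    omega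
  · -- odd case
    have hαU : α.1 + vecU ∈ leechLattice := leechLattice.add_mem hαL hUL
    have hnU : sqNorm (α.1 + vecU) = 64 := by
      rw [sqNorm_add', hn, Cfsg.Agent.Lib.Helper8.sqNorm_vecU, ← dotU_eq, hv]
      rfl
    have hcong : β.1 - (α.1 + vecU) ∈ L2 := by
      rw [mem_L2]
      refine ⟨l + m • vecU, leechLattice.add_mem hlL (leechLattice.zsmul_mem hUL m), ?_⟩
      have : β.1 - (α.1 + vecU) = (β.1 - α.1) - vecU := by abel
      rw [this, hy, hm]
      funext i
      simp only [Pi.add_apply, Pi.sub_apply, Pi.smul_apply, smul_eq_mul, nsmul_eq_mul,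
        Nat.cast_ofNat]
      ring
    have hneA : α.1 + vecU ≠ β.1 := by
      intro h
      rw [h] at hnU
      omega
    have hneB : α.1 + vecU ≠ -β.1 := by
      intro h
      rw [h, sqNorm_neg'] at hnU
      omega
    have := pair_lemma hβL hαU hcong (by omega) (by omega) hneA hneB
    omega

end Cfsg.Agent.Lib.Helper89.CoTwoKer
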