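import Mathlib
import Cfsg.Agent.Lib.Helper95.D4Iso.Defs

/-!
# Project D4ISO (S1082), module [R-NAT]: base change for the tensor model
(helper89, for helper95)
-/

set_option autoImplicit false

namespace Cfsg.Agent.Lib.Helper89.D4Iso

open Matrix Cfsg.Lie Cfsg.Agent.Lib.Helper95.D4Iso

section ring
variable {R : Type*} [CommRing R]

variable {R' : Type*} [CommRing R'] (φ : R →+* R')

theorem single_map (a b : I8) (c : R) :
    (Matrix.single a b c : Matrix I8 I8 R).map φ = Matrix.single a b (φ c) := by
  ext i j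
  simp only [Matrix.map_apply, Matrix.single_apply]
  split_ifs <;> simp

theorem eM_map (a b : I8) : (eM a b : Matrix I8 I8 R).map φ = eM a b := by
  unfold eM
  rw [Matrix.map_sub φ (map_sub φ), single_map, single_map, map_one]

theorem NM_map : (NM : Matrix I8 I8 R).map φ = NM := by
  ext a b
  rcases a with a | a <;> rcases b with b | b <;> simp [NM]

theorem etaT_map (i : Fin 4) : (etaT i : Matrix I8 I8 R).map φ = etaT i := by
  unfold etaT
  rw [single_map, map_one]

theorem bT_map (j : chevD4.Idx) : mapP φ (bT j) = bT j := by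
  rcases j with k | r
  · simp only [bT]
    split_ifs <;>
      simp [mapP, Matrix.map_add φ (map_add φ), Matrix.map_sub φ (map_sub φ),
        Matrix.map_neg φ (map_neg φ), etaT_map]
  · simp only [bT, mapP]
    refine Prod.ext ?_ (map_zero φ)
    ext i j
    simp [Matrix.map_apply, Matrix.single_apply]
    split_ifs <;> simp

theorem coordT_map (p : Matrix I8 I8 R × R) (i : chevD4.Idx) :
    coordT (mapP φ p) i = φ (coordT p i) := by
  rcases i with k | r
  · simp only [coordT, mapP, Matrix.map_apply]
    split_ifs <;> simp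
  · simp [coordT, mapP]

theorem trace_map (A : Matrix I8 I8 R) : Matrix.trace (A.map φ) = φ (Matrix.trace A) := by
  simp [Matrix.trace, map_sum]

theorem D1_map (e : Matrix I8 I8 R) (p : Matrix I8 I8 R × R) :
    D1 (e.map φ) (mapP φ p) = mapP φ (D1 e p) := by
  unfold D1 mapP
  refine Prod.ext ?_ ?_
  · simp only [Matrix.map_add φ (map_add φ), Matrix.map_mul, Matrix.transpose_map]
  · simp only [map_neg, ← trace_map, Matrix.map_add φ (map_add φ), Matrix.map_mul,
      Matrix.transpose_map, NM_map]

theorem D2_map (e : Matrix I8 I8 R) (p : Matrix I8 I8 R × R) :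
    D2 (e.map φ) (mapP φ p) = mapP φ (D2 e p) := by
  unfold D2 mapP
  refine Prod.ext ?_ ?_
  · simp only [Matrix.map_mul, Matrix.transpose_map]
  · simp only [map_neg, ← trace_map, Matrix.map_mul, Matrix.transpose_map, NM_map]

/-- the coefficients of `ρ(x_{a,b}(τ))` are the integers `c1Z`, `c2Z` -/
theorem coord_D1_eq (a b : I8) (i j : chevD4.Idx) :
    coordT (D1 (eM a b : Matrix I8 I8 R) (bT j)) i = ((c1Z a b i j : ℤ) : R) := by
  unfold c1Z
  rw [← eM_map (Int.castRingHom R) a b, ← bT_map (Int.castRingHom R) j, D1_map, coordT_map]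
  rfl

theorem coord_D2_eq (a b : I8) (i j : chevD4.Idx) :
    coordT (D2 (eM a b : Matrix I8 I8 R) (bT j)) i = ((c2Z a b i j : ℤ) : R) := by
  unfold c2Z
  rw [← eM_map (Int.castRingHom R) a b, ← bT_map (Int.castRingHom R) j, D2_map, coordT_map]
  rfl

end ring

end Cfsg.Agent.Lib.Helper89.D4Iso
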