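import Mathlib
import Cfsg.Agent.Lib.Helper95.D4Iso.Defs
import Cfsg.Agent.Lib.Helper89.D4IsoRNat

/-!
# Project D4ISO (S1082), module [R-ROOT]: the action of `1 + τ e` on the tensor model
(helper89, for helper95)
-/

set_option autoImplicit false

namespace Cfsg.Agent.Lib.Helper89.D4Iso

open Matrix Cfsg.Lie Cfsg.Agent.Lib.Helper95.D4Iso

/-- over `ℤ` the coordinates of the basis are the unit vectors (a finite check) -/
theorem coordT_bT_int : ∀ i j : chevD4.Idx,
    coordT (bT j : Matrix I8 I8 ℤ × ℤ) i = if i = j then 1 else 0 := by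
  decide +kernel

section ring
variable {R : Type*} [CommRing R]

theorem coordT_bT' (i j : chevD4.Idx) :
    coordT (bT j : Matrix I8 I8 R × R) i = if i = j then 1 else 0 := by
  rw [← bT_map (Int.castRingHom R) j, coordT_map, coordT_bT_int]
  split_ifs <;> simp

theorem coordT_add' (p q : Matrix I8 I8 R × R) (i : chevD4.Idx) :
    coordT (p + q) i = coordT p i + coordT q i := by
  rcases i with k | r
  · simp only [coordT, Prod.fst_add, Prod.snd_add, Matrix.add_apply]
    split_ifs <;> ring
  · simp only [coordT, Prod.fst_add, Matrix.add_apply]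
    ring

theorem coordT_smul' (c : R) (p : Matrix I8 I8 R × R) (i : chevD4.Idx) :
    coordT (c • p) i = c * coordT p i := by
  rcases i with k | r
  · simp only [coordT, Prod.smul_fst, Prod.smul_snd, Matrix.smul_apply, smul_eq_mul]
    split_ifs <;> ring
  · simp only [coordT, Prod.smul_fst, Matrix.smul_apply, smul_eq_mul]
    ring

/-! ## [R-ROOT] the action of `1 + τ e` -/
theorem actT_one_add_smul (e : Matrix I8 I8 R) (τ : R) (p : Matrix I8 I8 R × R) :
    actT (1 + τ • e) p = p + τ • D1 e p + τ ^ 2 • D2 e p := by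
  have hDl : Dl (1 + τ • e) = τ • (eᵀ * NM + NM * e) + τ ^ 2 • (eᵀ * NM * e) := by
    unfold Dl
    simp only [Matrix.transpose_add, Matrix.transpose_one, Matrix.transpose_smul, Matrix.add_mul,
      Matrix.mul_add, Matrix.one_mul, Matrix.mul_one, Matrix.smul_mul, Matrix.mul_smul, smul_add,
      smul_smul, pow_two]
    abel
  refine Prod.ext ?_ ?_
  · simp only [actT, D1, D2, Prod.fst_add, Prod.smul_fst, Matrix.transpose_add,
      Matrix.transpose_one, Matrix.transpose_smul, Matrix.add_mul, Matrix.mul_add, Matrix.one_mul,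
      Matrix.mul_one, Matrix.smul_mul, Matrix.mul_smul, smul_add, smul_smul, pow_two]
    abel
  · simp only [actT, D1, D2, Prod.snd_add, Prod.smul_snd, hDl, Matrix.mul_add, Matrix.mul_smul,
      Matrix.trace_add, Matrix.trace_smul, smul_eq_mul]
    ring

theorem rhoM_xM (a b : I8) (τ : R) (i j : chevD4.Idx) :
    rhoM (xM a b τ) i j = (if i = j then 1 else 0) + τ * coordT (D1 (eM a b) (bT j)) i
      + τ ^ 2 * coordT (D2 (eM a b) (bT j)) i := by
  unfold rhoM xM
  rw [Matrix.of_apply, actT_one_add_smul, coordT_add', coordT_add', coordT_smul', coordT_smul',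
    coordT_bT']

end ring

end Cfsg.Agent.Lib.Helper89.D4Iso
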