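import Mathlib
import Cfsg.Agent.Lib.Helper95.D4Iso.Defs

/-!
# Project D4ISO (S1082), module [R-TAB]: the entries of `chevD4.xMat` as polynomials in `t`
(helper89, for helper95)
-/

set_option autoImplicit false

namespace Cfsg.Agent.Lib.Helper89.D4Iso

open Matrix Cfsg.Lie Cfsg.Agent.Lib.Helper95.D4Iso

/-- every chain of `D₄` has length at most one -/
theorem chain_size : ∀ r < 24, ∀ e ∈ (chevD4.chain.getD r #[]).toList, e.2.size ≤ 1 := by
  decide +kernel

theorem chain_size' (r : ℕ) : ∀ e ∈ (chevD4.chain.getD r #[]).toList, e.2.size ≤ 1 := by
  by_cases hr : r < 24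
  · exact chain_size r hr
  · intro e he
    exfalso
    have hsz : chevD4.chain.size = 24 := by decide
    have h1 : chevD4.chain.getD r #[] = #[] := by
      unfold Array.getD
      rw [dif_neg (by rw [hsz]; exact hr)]
    rw [h1] at he
    simp at he

variable {F : Type*} [Field F]

/-! ## [R-TAB] the entries of `xMat` as polynomials in `t` -/
theorem chain_exp (r s u : ℕ) : ∀ km ∈ chevD4.chainCoeff r s u, km.1 = 1 := by
  intro km hkm
  unfold ChevalleyDatum.chainCoeff at hkm
  simp only [List.mem_flatMap, List.mem_map, List.mem_filter] at hkm
  obtain ⟨e, ⟨he, -⟩, q, ⟨hq, -⟩, rfl⟩ := hkm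
  have h1 := chain_size' r e he
  have h2 := List.snd_lt_of_mem_zipIdx hq
  rw [Array.length_toList] at h2
  show q.2 + 1 = 1
  omega

theorem xMat_eq (r : Fin chevD4.nroots) (t : F) (i j : chevD4.Idx) :
    chevD4.xMat F r t i j =
      (if i = j then 1 else 0) + t * ((m1Z r i j : ℤ) : F) + t ^ 2 * ((m2Z r i j : ℤ) : F) := by
  unfold ChevalleyDatum.xMat
  rw [Matrix.of_apply]
  rcases j with c | s
  · -- column `h_{p_c}`
    rcases i with i' | u
    · simp only [m1Z, m2Z, Sum.inl.injEq]
      simp
    · simp only [m1Z, m2Z]
      by_cases hur : u = r
      · have hv : u.val = r.val := by rw [hur]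
        simp [hur]
        ring
      · have hv : ¬ u.val = r.val := fun h => hur (Fin.ext h)
        simp [hur, hv]
  · -- column `e_s`
    by_cases hsr : s = r
    · have hv : s.val = r.val := by rw [hsr]
      rcases i with i' | u
      · simp [m1Z, m2Z, hsr]
      · simp [m1Z, m2Z, hsr]
    · have hv : ¬ s.val = r.val := fun h => hsr (Fin.ext h)
      by_cases hneg : s.val = chevD4.negIdx.getD r.val 0
      · rcases i with i' | u
        · simp only [m1Z, m2Z, if_neg hsr, if_neg hv, if_pos hneg]
          simp
          ring
        · simp only [m1Z, m2Z, if_neg hsr, if_neg hv, if_pos hneg]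
          by_cases hus : u = s
          · have hv2 : u.val = s.val := by rw [hus]
            simp [hus]
          · have hv2 : ¬ u.val = s.val := fun h => hus (Fin.ext h)
            by_cases hur : u = r
            · subst hur
              simp [hus, hv2]
            · have hv3 : ¬ u.val = r.val := fun h => hur (Fin.ext h)
              simp [hus, hv2, hur, hv3]
      · rcases i with i' | u
        · simp only [m1Z, m2Z, if_neg hsr, if_neg hv, if_neg hneg]
          simp
        · simp only [m1Z, m2Z, if_neg hsr, if_neg hv, if_neg hneg]
          have hall := chain_exp r.val s.val u.val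
          have hf1 : (chevD4.chainCoeff r.val s.val u.val).filter (fun km => km.1 = 1) =
              chevD4.chainCoeff r.val s.val u.val := by
            rw [List.filter_eq_self]
            intro km hkm
            simp [hall km hkm]
          have hf2 : (chevD4.chainCoeff r.val s.val u.val).filter (fun km => km.1 = 2) = [] := by
            rw [List.filter_eq_nil_iff]
            intro km hkm
            simp [hall km hkm]
          rw [hf1, hf2]
          have hsum : ((chevD4.chainCoeff r.val s.val u.val).map
              fun km => ((km.2 : ℤ) : F) * t ^ km.1).sum =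
              t * ((((chevD4.chainCoeff r.val s.val u.val).map fun km => km.2).sum : ℤ) : F) := by
            generalize chevD4.chainCoeff r.val s.val u.val = l at hall
            induction l with
            | nil => simp
            | cons a l ih =>
              have ha := hall a (List.mem_cons_self)
              have hl : ∀ km ∈ l, km.1 = 1 := fun km hkm => hall km (List.mem_cons_of_mem _ hkm)
              simp only [List.map_cons, List.sum_cons, ih hl, ha, pow_one, Int.cast_add]
              ring
          rw [hsum]
          simp [Sum.inr.injEq]

end Cfsg.Agent.Lib.Helper89.D4Iso
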