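import Mathlib
import Cfsg.Prelude.Def_DegreeGraph

/-!
# S4811 module [DG-GRAPH] (helper89 for helper80)

If every prime of the degree graph is equal or joined to one of two anchor primes `a`, `b`
(through a common character degree), then the degree graph has at most two connected components.
-/

set_option autoImplicit false

namespace Cfsg.Agent.Lib.Helper89.DG

open Cfsg

/-- A vertex related to the anchor `a` lies in the same component as `a` (which is a vertex). -/
theorem reachable_anchor {G : Type*} [Group G] (a : ℕ) (ha : a.Prime)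
    (r : ↥(degreePrimes G))
    (hr : a = (r : ℕ) ∨ ∃ d ∈ charDegrees G, a ∣ d ∧ (r : ℕ) ∣ d) :
    ∃ ha' : a ∈ degreePrimes G,
      ((degreeGraph G).induce (degreePrimes G)).Reachable ⟨a, ha'⟩ r := by
  rcases hr with rfl | ⟨d, hd, had, hrd⟩
  · exact ⟨r.2, SimpleGraph.Reachable.refl _⟩
  · have ha' : a ∈ degreePrimes G := ⟨ha, d, hd, had⟩
    refine ⟨ha', ?_⟩
    by_cases hne : a = (r : ℕ)
    · have : (⟨a, ha'⟩ : ↥(degreePrimes G)) = r := Subtype.ext hne
      rw [this]
    · apply SimpleGraph.Adj.reachable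
      rw [SimpleGraph.comap_adj]
      refine ⟨hne, ha, r.2.1, d, hd, ?_⟩
      exact Nat.Coprime.mul_dvd_of_dvd_of_dvd ((Nat.coprime_primes ha r.2.1).mpr hne) had hrd

/-- [DG-GRAPH] -/
theorem card_connectedComponent_le_two_of_anchors {G : Type*} [Group G] [Finite G] (a b : ℕ)
    (ha : a.Prime) (hb : b.Prime)
    (h : ∀ r ∈ Cfsg.degreePrimes G,
      (a = r ∨ ∃ d ∈ Cfsg.charDegrees G, a ∣ d ∧ r ∣ d) ∨
      (b = r ∨ ∃ d ∈ Cfsg.charDegrees G, b ∣ d ∧ r ∣ d)) :
    Nat.card ((Cfsg.degreeGraph G).induce (Cfsg.degreePrimes G)).ConnectedComponent ≤ 2 := by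
  classical
  set Γ := (Cfsg.degreeGraph G).induce (Cfsg.degreePrimes G) with hΓ
  let Ra : ↥(degreePrimes G) → Prop := fun r =>
    a = (r : ℕ) ∨ ∃ d ∈ charDegrees G, a ∣ d ∧ (r : ℕ) ∣ d
  let f : Γ.ConnectedComponent → Bool := fun c => decide (∃ v : ↥(degreePrimes G),
    Γ.connectedComponentMk v = c ∧ Ra v)
  have hinj : Function.Injective f := by
    intro c1 c2 hc
    by_cases h1 : ∃ v : ↥(degreePrimes G), Γ.connectedComponentMk v = c1 ∧ Ra v
    · have h2 : ∃ v : ↥(degreePrimes G), Γ.connectedComponentMk v = c2 ∧ Ra v := by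
        have : f c1 = true := decide_eq_true h1
        rw [hc] at this
        exact of_decide_eq_true this
      obtain ⟨v1, hv1, hR1⟩ := h1
      obtain ⟨v2, hv2, hR2⟩ := h2
      obtain ⟨ha1, hr1⟩ := reachable_anchor a ha v1 hR1
      obtain ⟨ha2, hr2⟩ := reachable_anchor a ha v2 hR2
      rw [← hv1, ← hv2]
      exact (SimpleGraph.ConnectedComponent.eq.mpr hr1).symm.trans
        (SimpleGraph.ConnectedComponent.eq.mpr hr2)
    · have h2 : ¬ ∃ v : ↥(degreePrimes G), Γ.connectedComponentMk v = c2 ∧ Ra v := by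
        intro h2
        have : f c2 = true := decide_eq_true h2
        rw [← hc] at this
        exact h1 (of_decide_eq_true this)
      obtain ⟨v1, hv1⟩ := c1.exists_rep
      obtain ⟨v2, hv2⟩ := c2.exists_rep
      have hb1 : b = (v1 : ℕ) ∨ ∃ d ∈ charDegrees G, b ∣ d ∧ (v1 : ℕ) ∣ d := by
        rcases h v1 v1.2 with h' | h'
        · exact absurd ⟨v1, hv1, h'⟩ h1
        · exact h'
      have hb2 : b = (v2 : ℕ) ∨ ∃ d ∈ charDegrees G, b ∣ d ∧ (v2 : ℕ) ∣ d := by
        rcases h v2 v2.2 with h' | h'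
        · exact absurd ⟨v2, hv2, h'⟩ h2
        · exact h'
      obtain ⟨hb1', hr1⟩ := reachable_anchor b hb v1 hb1
      obtain ⟨hb2', hr2⟩ := reachable_anchor b hb v2 hb2
      rw [← hv1, ← hv2]
      exact (SimpleGraph.ConnectedComponent.eq.mpr hr1).symm.trans
        (SimpleGraph.ConnectedComponent.eq.mpr hr2)
  have := Nat.card_le_card_of_injective f hinj
  simpa using this

end Cfsg.Agent.Lib.Helper89.DG
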