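import Mathlib

/-!
# Quadratic forms on elementary abelian 2-groups (helper89)

A quadratic form on an additive group `V` with values in `ZMod 2` is a function `q` whose polar form
`pol q u v = q (u + v) + q u + q v` is biadditive; it is nondegenerate when the polar form is.  (Then `V` has
exponent two.)  This file splits off hyperbolic planes: if `e, f` is a hyperbolic pair, then
`V ≃ F_2 × F_2 × {e, f}^⊥`, and an isometry of `{e, f}^⊥` with a standard form
`Σ_{i<m} x_i y_i + R(t)` extends to an isometry of `V` with `Σ_{i<m+1} x_i y_i + R(t)`.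
-/

set_option autoImplicit false
set_option linter.unusedSectionVars false

namespace Cfsg.Agent.Lib.Helper89.QuadF2

theorem zmod2_cases (a : ZMod 2) : a = 0 ∨ a = 1 := by
  revert a; decide

theorem zmod2_add_self (a : ZMod 2) : a + a = 0 := by
  revert a; decide

theorem zmod2_eq_one_of_ne_zero {a : ZMod 2} (h : a ≠ 0) : a = 1 := by
  rcases zmod2_cases a with h0 | h1
  · exact absurd h0 h
  · exact h1

variable {V : Type*} [AddCommGroup V]

/-- the polar form of `q` -/
def pol (q : V → ZMod 2) (u v : V) : ZMod 2 := q (u + v) + q u + q v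

/-- `q` is a nondegenerate quadratic form over the field with two elements -/
structure IsQuad (q : V → ZMod 2) : Prop where
  add_left : ∀ u v w, pol q (u + v) w = pol q u w + pol q v w
  nondeg : ∀ u, (∀ v, pol q u v = 0) → u = 0

/-- scalar multiplication by an element of `ZMod 2`, without a module structure -/
def sm (a : ZMod 2) (v : V) : V := if a = 0 then 0 else v

@[simp] theorem sm_zero (v : V) : sm 0 v = 0 := by simp [sm]

@[simp] theorem sm_one (v : V) : sm 1 v = v := by simp [sm]

@[simp] theorem sm_zero_right (a : ZMod 2) : sm a (0 : V) = 0 := by simp [sm]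

theorem pol_comm (q : V → ZMod 2) (u v : V) : pol q u v = pol q v u := by
  unfold pol
  rw [add_comm u v]
  ring

namespace IsQuad

variable {q : V → ZMod 2} (h : IsQuad q)

include h

theorem add_right (u v w : V) : pol q u (v + w) = pol q u v + pol q u w := by
  rw [pol_comm, h.add_left, pol_comm q v u, pol_comm q w u]

theorem q_zero : q 0 = 0 := by
  have h1 := h.add_left 0 0 0
  rw [add_zero] at h1
  have h2 : pol q 0 0 = q 0 := by
    unfold pol
    rw [add_zero, zmod2_add_self, zero_add]
  rw [h2] at h1
  have h3 : q 0 + q 0 = 0 := zmod2_add_self _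
  rw [← h1] at h3
  exact h3

theorem pol_zero_left (v : V) : pol q 0 v = 0 := by
  have h1 := h.add_left 0 0 v
  rw [add_zero] at h1
  have h3 : pol q 0 v + pol q 0 v = 0 := zmod2_add_self _
  rw [← h1] at h3
  exact h3

theorem pol_zero_right (v : V) : pol q v 0 = 0 := by
  rw [pol_comm, h.pol_zero_left]

theorem add_self (u : V) : u + u = 0 := by
  apply h.nondeg
  intro v
  rw [h.add_left, zmod2_add_self]

theorem neg_eq (u : V) : -u = u := by
  have := h.add_self u
  exact neg_eq_of_add_eq_zero_left this

theorem sub_eq (u v : V) : u - v = u + v := by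
  rw [sub_eq_add_neg, h.neg_eq]

theorem pol_self (u : V) : pol q u u = 0 := by
  unfold pol
  rw [h.add_self, h.q_zero, zero_add, zmod2_add_self]

theorem q_add (u v : V) : q (u + v) = q u + q v + pol q u v := by
  unfold pol
  have : ∀ a b c : ZMod 2, a = b + c + (a + b + c) := by decide
  exact this _ _ _

theorem sm_add (a b : ZMod 2) (v : V) : sm (a + b) v = sm a v + sm b v := by
  rcases zmod2_cases a with rfl | rfl <;> rcases zmod2_cases b with rfl | rfl
  · simp
  · simp
  · simp
  · rw [zmod2_add_self, sm_zero, sm_one, h.add_self]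

omit h in
theorem sm_add_right (a : ZMod 2) (u v : V) : sm a (u + v) = sm a u + sm a v := by
  rcases zmod2_cases a with rfl | rfl <;> simp

theorem pol_sm_left (a : ZMod 2) (u v : V) : pol q (sm a u) v = a * pol q u v := by
  rcases zmod2_cases a with rfl | rfl
  · rw [sm_zero, h.pol_zero_left, zero_mul]
  · rw [sm_one, one_mul]

theorem pol_sm_right (a : ZMod 2) (u v : V) : pol q u (sm a v) = a * pol q u v := by
  rw [pol_comm, h.pol_sm_left, pol_comm]

theorem q_sm (a : ZMod 2) (u : V) : q (sm a u) = a * q u := by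
  rcases zmod2_cases a with rfl | rfl
  · rw [sm_zero, h.q_zero, zero_mul]
  · rw [sm_one, one_mul]

end IsQuad

/-- a hyperbolic pair -/
structure IsHypPair (q : V → ZMod 2) (e f : V) : Prop where
  qe : q e = 0
  qf : q f = 0
  ef : pol q e f = 1

namespace IsHypPair

variable {q : V → ZMod 2} {e f : V}

theorem fe (hp : IsHypPair q e f) : pol q f e = 1 := by
  rw [pol_comm]; exact hp.ef

end IsHypPair

/-- the orthogonal complement of a pair of vectors -/
def perp2 (q : V → ZMod 2) (h : IsQuad q) (e f : V) : AddSubgroup V where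
  carrier := {w | pol q w e = 0 ∧ pol q w f = 0}
  zero_mem' := ⟨h.pol_zero_left e, h.pol_zero_left f⟩
  add_mem' := by
    rintro a b ⟨ha1, ha2⟩ ⟨hb1, hb2⟩
    exact ⟨by rw [h.add_left, ha1, hb1, add_zero], by rw [h.add_left, ha2, hb2, add_zero]⟩
  neg_mem' := by
    rintro a ⟨ha1, ha2⟩
    rw [h.neg_eq]
    exact ⟨ha1, ha2⟩

theorem mem_perp2 {q : V → ZMod 2} (h : IsQuad q) {e f w : V} :
    w ∈ perp2 q h e f ↔ pol q w e = 0 ∧ pol q w f = 0 := Iff.rfl

section split

variable {q : V → ZMod 2} (h : IsQuad q) {e f : V} (hp : IsHypPair q e f)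

/-- the projection onto `{e, f}^⊥` -/
def proj (q : V → ZMod 2) (e f : V) (v : V) : V := v + sm (pol q v f) e + sm (pol q v e) f

include h hp

theorem proj_mem (v : V) : proj q e f v ∈ perp2 q h e f := by
  rw [mem_perp2]
  unfold proj
  constructor
  · rw [h.add_left, h.add_left, h.pol_sm_left, h.pol_sm_left, h.pol_self, hp.fe, mul_zero, mul_one,
      add_zero, zmod2_add_self]
  · rw [h.add_left, h.add_left, h.pol_sm_left, h.pol_sm_left, h.pol_self, hp.ef, mul_zero, mul_one,
      add_zero, zmod2_add_self]

theorem proj_add (u v : V) : proj q e f (u + v) = proj q e f u + proj q e f v := by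
  unfold proj
  rw [h.add_left, h.add_left, h.sm_add, h.sm_add]
  abel

theorem proj_of_mem {w : V} (hw : w ∈ perp2 q h e f) : proj q e f w = w := by
  rw [mem_perp2] at hw
  unfold proj
  rw [hw.1, hw.2, sm_zero, sm_zero, add_zero, add_zero]

theorem q_split (a b : ZMod 2) {w : V} (hw : w ∈ perp2 q h e f) :
    q (sm a e + sm b f + w) = a * b + q w := by
  rw [mem_perp2] at hw
  rw [h.q_add, h.q_add, h.add_left, h.pol_sm_left, h.pol_sm_left, h.pol_sm_left, h.pol_sm_right,
    h.q_sm, h.q_sm, hp.qe, hp.qf, hp.ef, pol_comm q e w, pol_comm q f w, hw.1, hw.2]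
  ring

theorem pol_split_f (a b : ZMod 2) {w : V} (hw : w ∈ perp2 q h e f) :
    pol q (sm a e + sm b f + w) f = a := by
  rw [mem_perp2] at hw
  rw [h.add_left, h.add_left, h.pol_sm_left, h.pol_sm_left, hp.ef, h.pol_self, hw.2]
  ring

theorem pol_split_e (a b : ZMod 2) {w : V} (hw : w ∈ perp2 q h e f) :
    pol q (sm a e + sm b f + w) e = b := by
  rw [mem_perp2] at hw
  rw [h.add_left, h.add_left, h.pol_sm_left, h.pol_sm_left, hp.fe, h.pol_self, hw.1]
  ring

theorem split_eq (v : V) :
    sm (pol q v f) e + sm (pol q v e) f + proj q e f v = v := by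
  unfold proj
  have h1 := h.add_self (sm (pol q v f) e)
  have h2 := h.add_self (sm (pol q v e) f)
  calc sm (pol q v f) e + sm (pol q v e) f + (v + sm (pol q v f) e + sm (pol q v e) f)
      = v + (sm (pol q v f) e + sm (pol q v f) e) + (sm (pol q v e) f + sm (pol q v e) f) := by abel
    _ = v := by rw [h1, h2, add_zero, add_zero]

/-- `V ≃ F_2 × F_2 × {e, f}^⊥` -/
def splitEquiv : V ≃+ (ZMod 2 × ZMod 2) × ↥(perp2 q h e f) where
  toFun v := ((pol q v f, pol q v e), ⟨proj q e f v, proj_mem h hp v⟩)
  invFun p := sm p.1.1 e + sm p.1.2 f + (p.2 : V)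
  left_inv v := split_eq h hp v
  right_inv p := by
    obtain ⟨⟨a, b⟩, ⟨w, hw⟩⟩ := p
    refine Prod.ext (Prod.ext ?_ ?_) (Subtype.ext ?_)
    · exact pol_split_f h hp a b hw
    · exact pol_split_e h hp a b hw
    · show proj q e f (sm a e + sm b f + w) = w
      unfold proj
      rw [pol_split_f h hp a b hw, pol_split_e h hp a b hw]
      have h1 := h.add_self (sm a e)
      have h2 := h.add_self (sm b f)
      calc sm a e + sm b f + w + sm a e + sm b f = w + (sm a e + sm a e) + (sm b f + sm b f) := by abel
        _ = w := by rw [h1, h2, add_zero, add_zero]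
  map_add' u v := by
    refine Prod.ext (Prod.ext ?_ ?_) (Subtype.ext ?_)
    · exact h.add_left u v f
    · exact h.add_left u v e
    · exact proj_add h hp u v

theorem splitEquiv_apply (v : V) :
    splitEquiv h hp v = ((pol q v f, pol q v e), ⟨proj q e f v, proj_mem h hp v⟩) := rfl

theorem q_eq_split (v : V) : q v = pol q v f * pol q v e + q (proj q e f v) := by
  conv_lhs => rw [← split_eq h hp v]
  exact q_split h hp _ _ (proj_mem h hp v)

theorem card_split [Finite V] : Nat.card V = 4 * Nat.card ↥(perp2 q h e f) := by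
  rw [Nat.card_congr (splitEquiv h hp).toEquiv, Nat.card_prod, Nat.card_prod, Nat.card_zmod]

end split

/-- the restriction of `q` to `{e, f}^⊥` -/
def qPerp (q : V → ZMod 2) (h : IsQuad q) (e f : V) (w : ↥(perp2 q h e f)) : ZMod 2 := q (w : V)

theorem pol_qPerp {q : V → ZMod 2} (h : IsQuad q) (e f : V) (u v : ↥(perp2 q h e f)) :
    pol (qPerp q h e f) u v = pol q (u : V) (v : V) := rfl

theorem isQuad_qPerp {q : V → ZMod 2} (h : IsQuad q) {e f : V} (hp : IsHypPair q e f) :
    IsQuad (qPerp q h e f) where
  add_left u v w := by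
    rw [pol_qPerp, pol_qPerp, pol_qPerp]
    exact h.add_left _ _ _
  nondeg u hu := by
    apply Subtype.ext
    apply h.nondeg
    intro v
    have h1 := hu ⟨proj q e f v, proj_mem h hp v⟩
    rw [pol_qPerp] at h1
    have hu' := (mem_perp2 h).1 u.2
    change pol q (u : V) (proj q e f v) = 0 at h1
    unfold proj at h1
    rw [h.add_right, h.add_right, h.pol_sm_right, h.pol_sm_right, hu'.1, hu'.2, mul_zero, mul_zero,
      add_zero, add_zero] at h1
    exact h1

end Cfsg.Agent.Lib.Helper89.QuadF2
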