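import Mathlib
import Cfsg.Prelude.Def_KGroupFacts
import Cfsg.Prelude.Def_Classical
import Cfsg.Agent.Lib.Helper89.QuadF2

/-!
# Outer automorphisms of a group with "extraspecial coordinates" (helper89)

`Coord E Q`: a finite group `E` with a central involution `z`, `Z(E) = {1, z}`, and a surjective
"coordinate" homomorphism `c : E → (ι → ZMod 2)` with kernel `Z(E)` such that `Q (c x) = 0 ↔ x² = 1`,
where the polar form of `Q` is `Σ u_i v_{σ i}` for a permutation `σ`.
Then `Out E ≃* isometryGroup (ZMod 2) Q` (`Coord.nonempty_out_equiv`).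

The lifting of isometries uses the fibre product `S = {(x, y) | c y = A (c x)} ≤ E × E`: all squares of `S` lie in
`N = {1, (z, z)}`, so `S / N` is an `F_2`-vector space and a hyperplane avoiding `(1, z)` is the graph of an
automorphism.
-/

set_option autoImplicit false
set_option linter.unusedSectionVars false

namespace Cfsg.Agent.Lib.Helper89.ESOut

open Cfsg.Agent.Lib.Helper89.QuadF2
open Matrix

theorem zmod2_eq_of_iff {a b : ZMod 2} (h : a = 0 ↔ b = 0) : a = b := by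
  revert h; revert a b; decide

theorem zmod2_add_eq_zero_of_ne {a b : ZMod 2} (ha : a ≠ 0) (hb : b ≠ 0) : a + b = 0 := by
  revert ha hb; revert a b; decide

/-- a group in which all squares lie in a normal subgroup `N` has an additive character, trivial on `N`, that does
not vanish at a given element outside `N` -/
theorem exists_char {S : Type*} [Group S] (N : Subgroup S) [hN : N.Normal] (hsq : ∀ s : S, s * s ∈ N)
    {w : S} (hw : w ∉ N) :
    ∃ χ : S → ZMod 2, (∀ s t, χ (s * t) = χ s + χ t) ∧ (∀ n ∈ N, χ n = 0) ∧ χ w = 1 := by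
  have hsq' : ∀ a : S ⧸ N, a * a = 1 := by
    intro a
    induction a using QuotientGroup.induction_on with
    | H s =>
      rw [← QuotientGroup.mk_mul, QuotientGroup.eq_one_iff]
      exact hsq s
  have hinv : ∀ a : S ⧸ N, a⁻¹ = a := fun a => inv_eq_of_mul_eq_one_left (hsq' a)
  letI : CommGroup (S ⧸ N) :=
    { (inferInstance : Group (S ⧸ N)) with
      mul_comm := fun a b => by rw [← hinv (a * b), _root_.mul_inv_rev, hinv, hinv] }
  letI : Module (ZMod 2) (Additive (S ⧸ N)) := AddCommGroup.zmodModule (n := 2) (fun x => by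
    rw [two_nsmul]
    exact hsq' (Additive.toMul x))
  have hw0 : Additive.ofMul ((w : S ⧸ N)) ≠ 0 := by
    intro h0
    apply hw
    rw [← QuotientGroup.eq_one_iff]
    exact h0
  have hf : ∃ f : Module.Dual (ZMod 2) (Additive (S ⧸ N)), f (Additive.ofMul ((w : S ⧸ N))) ≠ 0 := by
    by_contra hcon
    push Not at hcon
    exact hw0 ((Module.forall_dual_apply_eq_zero_iff (ZMod 2) _).1 hcon)
  obtain ⟨f, hf⟩ := hf
  refine ⟨fun s => f (Additive.ofMul ((s : S ⧸ N))), ?_, ?_, ?_⟩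
  · intro s t
    show f (Additive.ofMul (((s * t : S) : S ⧸ N))) = _
    rw [QuotientGroup.mk_mul, ofMul_mul, map_add]
  · intro n hn
    have : ((n : S) : S ⧸ N) = 1 := (QuotientGroup.eq_one_iff n).2 hn
    show f (Additive.ofMul ((n : S ⧸ N))) = 0
    rw [this, ofMul_one, map_zero]
  · exact zmod2_eq_one_of_ne_zero hf

/-- extraspecial coordinates -/
structure Coord (E : Type*) [Group E] {ι : Type} [Fintype ι] (Q : (ι → ZMod 2) → ZMod 2) where
  σ : Equiv.Perm ι
  hB : ∀ u v : ι → ZMod 2, Q (u + v) + Q u + Q v = ∑ i, u i * v (σ i)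
  z : E
  hz1 : z ≠ 1
  hz2 : z * z = 1
  hZ : ∀ x : E, x ∈ Subgroup.center E ↔ x = 1 ∨ x = z
  c : E → (ι → ZMod 2)
  hc_mul : ∀ x y, c (x * y) = c x + c y
  hc_surj : Function.Surjective c
  hc_ker : ∀ x, c x = 0 ↔ x ∈ Subgroup.center E
  hQ : ∀ x, Q (c x) = 0 ↔ x * x = 1

theorem pi_add_self {ι : Type} (u : ι → ZMod 2) : u + u = 0 := by
  funext i
  exact zmod2_add_self _

/-- indicator of non-identity elements -/
noncomputable def ind {E : Type*} [Group E] (k : E) : ZMod 2 := by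
  classical exact if k = 1 then 0 else 1

theorem ind_one {E : Type*} [Group E] : ind (1 : E) = 0 := by
  unfold ind
  simp

theorem ind_eq_zero_iff {E : Type*} [Group E] {k : E} : ind k = 0 ↔ k = 1 := by
  unfold ind
  classical
  by_cases h : k = 1
  · simp [h]
  · simp [h]

theorem ind_of_ne {E : Type*} [Group E] {k : E} (h : k ≠ 1) : ind k = 1 := by
  unfold ind
  classical
  simp [h]

theorem mem_isometryGroup_iff {ι : Type} [Fintype ι] [DecidableEq ι] {Q : (ι → ZMod 2) → ZMod 2}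
    (g : Matrix.GeneralLinearGroup ι (ZMod 2)) :
    g ∈ Cfsg.isometryGroup (ZMod 2) Q ↔
      ∀ u : ι → ZMod 2, Q ((g : Matrix ι ι (ZMod 2)) *ᵥ u) = Q u := by
  constructor
  · intro h u
    exact h u u
  · intro h u v
    exact h u

namespace Coord

variable {E : Type*} [Group E] {ι : Type} [Fintype ι] [DecidableEq ι] {Q : (ι → ZMod 2) → ZMod 2}
  (D : Coord E Q)

include D

theorem c_one : D.c 1 = 0 := by
  have h := D.hc_mul 1 1
  rw [mul_one] at h
  exact left_eq_add.mp h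

theorem c_inv (x : E) : D.c x⁻¹ = D.c x := by
  have h1 := D.hc_mul x⁻¹ x
  rw [inv_mul_cancel, D.c_one] at h1
  calc D.c x⁻¹ = D.c x⁻¹ + (D.c x + D.c x) := by rw [pi_add_self, add_zero]
    _ = (D.c x⁻¹ + D.c x) + D.c x := by rw [add_assoc]
    _ = D.c x := by rw [← h1, zero_add]

theorem z_mem : D.z ∈ Subgroup.center E := (D.hZ _).2 (Or.inr rfl)

theorem c_z : D.c D.z = 0 := (D.hc_ker _).2 D.z_mem

theorem inv_mul_mem_center {x y : E} (h : D.c x = D.c y) : x⁻¹ * y ∈ Subgroup.center E := by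
  rw [← D.hc_ker, D.hc_mul, D.c_inv, h, pi_add_self]

theorem sq_mem (x : E) : x * x ∈ Subgroup.center E := by
  rw [← D.hc_ker, D.hc_mul, pi_add_self]

theorem sq_cases (x : E) : x * x = 1 ∨ x * x = D.z := (D.hZ _).1 (D.sq_mem x)

theorem comm_mem (x y : E) : y * x * y⁻¹ * x⁻¹ ∈ Subgroup.center E := by
  rw [← D.hc_ker, D.hc_mul, D.hc_mul, D.hc_mul, D.c_inv, D.c_inv]
  funext i
  have : ∀ a b : ZMod 2, a + b + a + b = 0 := by decide
  exact this _ _

theorem center_comm {k : E} (hk : k ∈ Subgroup.center E) (g : E) : g * k = k * g :=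
  Subgroup.mem_center_iff.1 hk g

theorem ind_z : ind D.z = 1 := ind_of_ne D.hz1

theorem ind_mul {k k' : E} (hk : k ∈ Subgroup.center E) (hk' : k' ∈ Subgroup.center E) :
    ind (k * k') = ind k + ind k' := by
  rcases (D.hZ k).1 hk with rfl | rfl
  · rw [one_mul, ind_one, zero_add]
  · rcases (D.hZ k').1 hk' with rfl | rfl
    · rw [mul_one, ind_one, add_zero]
    · rw [D.hz2, ind_one, D.ind_z]
      rfl

theorem eq_of_ind_eq {k k' : E} (hk : k ∈ Subgroup.center E) (hk' : k' ∈ Subgroup.center E)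
    (h : ind k = ind k') : k = k' := by
  rcases (D.hZ k).1 hk with rfl | rfl
  · rw [ind_one] at h
    exact (ind_eq_zero_iff.1 h.symm).symm
  · rcases (D.hZ k').1 hk' with rfl | rfl
    · rw [ind_one] at h
      exact ind_eq_zero_iff.1 h
    · rfl

theorem Q_c (x : E) : Q (D.c x) = ind (x * x) :=
  zmod2_eq_of_iff (by rw [D.hQ, ind_eq_zero_iff])

theorem sq_mul (x y : E) : x * y * (x * y) = y * x * y⁻¹ * x⁻¹ * (x * x * (y * y)) := by
  have hk := D.center_comm (D.comm_mem x y)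
  have h1 : y * x = y * x * y⁻¹ * x⁻¹ * x * y := by group
  calc x * y * (x * y) = x * (y * x) * y := by group
    _ = x * (y * x * y⁻¹ * x⁻¹ * x * y) * y := by rw [← h1]
    _ = x * (y * x * y⁻¹ * x⁻¹) * (x * y * y) := by group
    _ = y * x * y⁻¹ * x⁻¹ * x * (x * y * y) := by rw [hk x]
    _ = y * x * y⁻¹ * x⁻¹ * (x * x * (y * y)) := by group

theorem B_c (x y : E) :
    Q (D.c x + D.c y) + Q (D.c x) + Q (D.c y) = ind (y * x * y⁻¹ * x⁻¹) := by
  rw [← D.hc_mul, D.Q_c, D.Q_c, D.Q_c, D.sq_mul,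
    D.ind_mul (D.comm_mem x y) (Subgroup.mul_mem _ (D.sq_mem x) (D.sq_mem y)),
    D.ind_mul (D.sq_mem x) (D.sq_mem y)]
  have : ∀ a b c : ZMod 2, a + (b + c) + b + c = a := by decide
  exact this _ _ _

/-! ### automorphisms -/

theorem aut_mem_center (φ : MulAut E) {x : E} : φ x ∈ Subgroup.center E ↔ x ∈ Subgroup.center E := by
  have h := Subgroup.characteristic_iff_comap_eq.1 (Subgroup.centerCharacteristic (G := E)) φ
  conv_rhs => rw [← h]
  rfl

theorem aut_z (φ : MulAut E) : φ D.z = D.z := by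
  rcases (D.hZ _).1 ((D.aut_mem_center φ).2 D.z_mem) with h | h
  · exfalso
    apply D.hz1
    have : φ D.z = φ 1 := by rw [h, map_one]
    exact φ.injective this
  · exact h

theorem aut_center (φ : MulAut E) {k : E} (hk : k ∈ Subgroup.center E) : φ k = k := by
  rcases (D.hZ k).1 hk with rfl | rfl
  · exact map_one φ
  · exact D.aut_z φ

theorem c_aut_congr (φ : MulAut E) {x y : E} (h : D.c x = D.c y) : D.c (φ x) = D.c (φ y) := by
  have hm := D.inv_mul_mem_center h
  have hy : y = x * (x⁻¹ * y) := by group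
  rw [hy, map_mul, D.aut_center φ hm, D.hc_mul, (D.hc_ker _).2 hm, add_zero]

/-- a section of the coordinate map -/
noncomputable def sec (u : ι → ZMod 2) : E := Function.surjInv D.hc_surj u

theorem c_sec (u : ι → ZMod 2) : D.c (D.sec u) = u := Function.surjInv_eq _ _

/-- the action of an automorphism on coordinates -/
noncomputable def T (φ : MulAut E) : (ι → ZMod 2) →+ (ι → ZMod 2) where
  toFun u := D.c (φ (D.sec u))
  map_zero' := by
    have h : D.c (D.sec 0) = D.c 1 := by rw [D.c_sec, D.c_one]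
    rw [D.c_aut_congr φ h, map_one, D.c_one]
  map_add' u v := by
    have h : D.c (D.sec (u + v)) = D.c (D.sec u * D.sec v) := by
      rw [D.c_sec, D.hc_mul, D.c_sec, D.c_sec]
    rw [D.c_aut_congr φ h, map_mul, D.hc_mul]

theorem T_c (φ : MulAut E) (x : E) : D.T φ (D.c x) = D.c (φ x) :=
  D.c_aut_congr φ (D.c_sec _)

theorem T_mul (φ ψ : MulAut E) (u : ι → ZMod 2) : D.T (φ * ψ) u = D.T φ (D.T ψ u) := by
  obtain ⟨x, rfl⟩ := D.hc_surj u
  rw [D.T_c, D.T_c, D.T_c]
  rfl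

theorem T_one (u : ι → ZMod 2) : D.T 1 u = u := by
  obtain ⟨x, rfl⟩ := D.hc_surj u
  rw [D.T_c]
  rfl

/-- the matrix of an automorphism -/
noncomputable def Mat (φ : MulAut E) : Matrix ι ι (ZMod 2) :=
  LinearMap.toMatrix' ((D.T φ).toZModLinearMap 2)

theorem Mat_mulVec (φ : MulAut E) (u : ι → ZMod 2) : D.Mat φ *ᵥ u = D.T φ u := by
  rw [← Matrix.toLin'_apply, Mat, Matrix.toLin'_toMatrix', AddMonoidHom.coe_toZModLinearMap]

omit [DecidableEq ι] D in
theorem eq_of_mulVec {A B : Matrix ι ι (ZMod 2)} (h : ∀ u, A *ᵥ u = B *ᵥ u) : A = B :=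
  Matrix.mulVec_injective (funext h)

/-- the matrix representation as a monoid homomorphism -/
noncomputable def ΘM : MulAut E →* Matrix ι ι (ZMod 2) where
  toFun := D.Mat
  map_one' := eq_of_mulVec (by
    intro u
    rw [D.Mat_mulVec, D.T_one, Matrix.one_mulVec])
  map_mul' φ ψ := eq_of_mulVec (by
    intro u
    rw [D.Mat_mulVec, D.T_mul, ← Matrix.mulVec_mulVec, D.Mat_mulVec, D.Mat_mulVec])

/-- the representation on coordinates -/
noncomputable def Θ : MulAut E →* Matrix.GeneralLinearGroup ι (ZMod 2) := D.ΘM.toHomUnits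

theorem Θ_coe (φ : MulAut E) :
    ((D.Θ φ : Matrix.GeneralLinearGroup ι (ZMod 2)) : Matrix ι ι (ZMod 2)) = D.Mat φ :=
  MonoidHom.coe_toHomUnits _ _

theorem Q_T (φ : MulAut E) (u : ι → ZMod 2) : Q (D.T φ u) = Q u := by
  obtain ⟨x, rfl⟩ := D.hc_surj u
  rw [D.T_c, D.Q_c, D.Q_c, ← map_mul, D.aut_center φ (D.sq_mem x)]

theorem Θ_mem (φ : MulAut E) : D.Θ φ ∈ Cfsg.isometryGroup (ZMod 2) Q := by
  rw [mem_isometryGroup_iff]
  intro u
  rw [D.Θ_coe, D.Mat_mulVec, D.Q_T]

/-- the representation into the isometry group -/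
noncomputable def Θ' : MulAut E →* ↥(Cfsg.isometryGroup (ZMod 2) Q) :=
  D.Θ.codRestrict _ D.Θ_mem

theorem Θ'_coe (φ : MulAut E) :
    (((D.Θ' φ : ↥(Cfsg.isometryGroup (ZMod 2) Q)) : Matrix.GeneralLinearGroup ι (ZMod 2)) :
      Matrix ι ι (ZMod 2)) = D.Mat φ := D.Θ_coe φ

/-! ### the kernel -/

theorem Θ'_conj (g : E) : D.Θ' (MulAut.conj g) = 1 := by
  apply Subtype.ext
  apply Units.ext
  rw [D.Θ'_coe]
  show D.Mat (MulAut.conj g) = 1
  apply eq_of_mulVec
  intro u
  rw [D.Mat_mulVec, Matrix.one_mulVec]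
  obtain ⟨x, rfl⟩ := D.hc_surj u
  rw [D.T_c, MulAut.conj_apply, D.hc_mul, D.hc_mul, D.c_inv]
  funext i
  have : ∀ a b : ZMod 2, a + b + a = b := by decide
  exact this _ _

theorem inn_of_Θ'_eq_one {φ : MulAut E} (h : D.Θ' φ = 1) : φ ∈ Cfsg.Inn E := by
  have hMat : D.Mat φ = 1 := by
    rw [← D.Θ'_coe, h]
    rfl
  have hc : ∀ x, D.c (φ x) = D.c x := by
    intro x
    rw [← D.T_c, ← D.Mat_mulVec, hMat, Matrix.one_mulVec]
  have hk : ∀ x, x⁻¹ * φ x ∈ Subgroup.center E := fun x => D.inv_mul_mem_center (hc x).symm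
  let lam : E → ZMod 2 := fun x => ind (x⁻¹ * φ x)
  have hlam_mul : ∀ x y, lam (x * y) = lam x + lam y := by
    intro x y
    have h1 : (x * y)⁻¹ * φ (x * y) = (x⁻¹ * φ x) * (y⁻¹ * φ y) := by
      rw [map_mul]
      have h2 := D.center_comm (hk x) y⁻¹
      calc (x * y)⁻¹ * (φ x * φ y) = y⁻¹ * (x⁻¹ * φ x) * φ y := by group
        _ = (x⁻¹ * φ x) * y⁻¹ * φ y := by rw [h2]
        _ = (x⁻¹ * φ x) * (y⁻¹ * φ y) := by group
    show ind _ = _
    rw [h1, D.ind_mul (hk x) (hk y)]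
  have hlam_center : ∀ m ∈ Subgroup.center E, lam m = 0 := by
    intro m hm
    show ind (m⁻¹ * φ m) = 0
    rw [D.aut_center φ hm, inv_mul_cancel, ind_one]
  have hlam_congr : ∀ x y, D.c x = D.c y → lam x = lam y := by
    intro x y hxy
    have hm := D.inv_mul_mem_center hxy
    have hy : y = x * (x⁻¹ * y) := by group
    rw [hy, hlam_mul, hlam_center _ hm, add_zero]
  let ell : (ι → ZMod 2) →+ ZMod 2 :=
    { toFun := fun u => lam (D.sec u)
      map_zero' := by
        have h1 : D.c (D.sec 0) = D.c 1 := by rw [D.c_sec, D.c_one]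
        rw [hlam_congr _ _ h1]
        exact hlam_center 1 (Subgroup.one_mem _)
      map_add' := by
        intro u v
        have h1 : D.c (D.sec (u + v)) = D.c (D.sec u * D.sec v) := by
          rw [D.c_sec, D.hc_mul, D.c_sec, D.c_sec]
        rw [hlam_congr _ _ h1, hlam_mul] }
  have hell_c : ∀ x, ell (D.c x) = lam x := fun x => hlam_congr _ _ (D.c_sec _)
  have hsum : ∀ u : ι → ZMod 2, ell u = ∑ i, u i * ell (fun j => if i = j then 1 else 0) := by
    intro u
    have h1 := LinearMap.pi_apply_eq_sum_univ (ell.toZModLinearMap 2) u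
    rw [AddMonoidHom.coe_toZModLinearMap] at h1
    rw [h1]
    rfl
  let w : ι → ZMod 2 := fun j => ell (fun k => if D.σ.symm j = k then 1 else 0)
  obtain ⟨g, hg⟩ := D.hc_surj w
  refine ⟨g, ?_⟩
  apply MulEquiv.ext
  intro x
  rw [MulAut.conj_apply]
  have h1 : lam x = ind (g * x * g⁻¹ * x⁻¹) := by
    rw [← D.B_c x g, D.hB, hg, ← hell_c x, hsum]
    apply Finset.sum_congr rfl
    intro i _
    show _ = D.c x i * ell (fun k => if D.σ.symm (D.σ i) = k then 1 else 0)
    rw [Equiv.symm_apply_apply]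
  have h2 := D.eq_of_ind_eq (hk x) (D.comm_mem x g) h1
  calc g * x * g⁻¹ = (g * x * g⁻¹ * x⁻¹) * x := by group
    _ = (x⁻¹ * φ x) * x := by rw [h2]
    _ = x * (x⁻¹ * φ x) := (D.center_comm (hk x) x).symm
    _ = φ x := by group

theorem ker_Θ' : D.Θ'.ker = Cfsg.Inn E := by
  ext φ
  rw [MonoidHom.mem_ker]
  constructor
  · exact D.inn_of_Θ'_eq_one
  · rintro ⟨g, rfl⟩
    exact D.Θ'_conj g

/-! ### lifting isometries -/

/-- the fibre product -/
def fib (A : Matrix ι ι (ZMod 2)) : Subgroup (E × E) where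
  carrier := {p | D.c p.2 = A *ᵥ D.c p.1}
  mul_mem' := by
    intro p p' hp hp'
    have hp1 : D.c p.2 = A *ᵥ D.c p.1 := hp
    have hp2 : D.c p'.2 = A *ᵥ D.c p'.1 := hp'
    show D.c (p.2 * p'.2) = A *ᵥ D.c (p.1 * p'.1)
    rw [D.hc_mul, D.hc_mul, Matrix.mulVec_add, hp1, hp2]
  one_mem' := by
    show D.c 1 = A *ᵥ D.c 1
    rw [D.c_one, Matrix.mulVec_zero]
  inv_mem' := by
    intro p hp
    have hp1 : D.c p.2 = A *ᵥ D.c p.1 := hp
    show D.c p.2⁻¹ = A *ᵥ D.c p.1⁻¹
    rw [D.c_inv, D.c_inv, hp1]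

theorem mem_fib (A : Matrix ι ι (ZMod 2)) (x y : E) : (x, y) ∈ D.fib A ↔ D.c y = A *ᵥ D.c x := Iff.rfl

theorem exists_lift [Finite E] (A : Matrix ι ι (ZMod 2)) (hA : ∀ u, Q (A *ᵥ u) = Q u)
    (hAinj : ∀ u, A *ᵥ u = 0 → u = 0) : ∃ φ : MulAut E, ∀ x, D.c (φ x) = A *ᵥ D.c x := by
  have hzz : (D.z, D.z) ∈ D.fib A := by
    rw [mem_fib, D.c_z, Matrix.mulVec_zero]
  have hw1 : ((1 : E), D.z) ∈ D.fib A := by
    rw [mem_fib, D.c_z, D.c_one, Matrix.mulVec_zero]
  let zz : ↥(D.fib A) := ⟨(D.z, D.z), hzz⟩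
  let w1 : ↥(D.fib A) := ⟨(1, D.z), hw1⟩
  have hzzsq : zz * zz = 1 := Subtype.ext (Prod.ext D.hz2 D.hz2)
  have hzzcomm : ∀ g : ↥(D.fib A), g * zz * g⁻¹ = zz := by
    intro g
    have h1 : g * zz = zz * g := by
      apply Subtype.ext
      exact Prod.ext (D.center_comm D.z_mem _) (D.center_comm D.z_mem _)
    rw [h1, mul_inv_cancel_right]
  let NN : Subgroup ↥(D.fib A) :=
    { carrier := {s | s = 1 ∨ s = zz}
      mul_mem' := by
        rintro a b (rfl | rfl) (rfl | rfl)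
        · left; exact mul_one 1
        · right; exact one_mul _
        · right; exact mul_one _
        · left; exact hzzsq
      one_mem' := Or.inl rfl
      inv_mem' := by
        rintro a (rfl | rfl)
        · left; exact inv_one
        · right; exact inv_eq_of_mul_eq_one_left hzzsq }
  have hNN : NN.Normal := by
    constructor
    rintro n (rfl | rfl) g
    · left
      rw [mul_one, mul_inv_cancel]
    · right
      exact hzzcomm g
  have hsq : ∀ s : ↥(D.fib A), s * s ∈ NN := by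
    rintro ⟨⟨x, y⟩, hxy⟩
    have hxy' : D.c y = A *ᵥ D.c x := hxy
    have hiff : x * x = 1 ↔ y * y = 1 := by
      rw [← D.hQ, ← D.hQ, hxy', hA]
    rcases D.sq_cases x with hx | hx
    · left
      exact Subtype.ext (Prod.ext hx (hiff.1 hx))
    · rcases D.sq_cases y with hy | hy
      · exfalso
        apply D.hz1
        rw [← hx]
        exact hiff.2 hy
      · right
        exact Subtype.ext (Prod.ext hx hy)
  have hw1N : w1 ∉ NN := by
    rintro (h | h)
    · apply D.hz1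
      exact congrArg (fun s : ↥(D.fib A) => (s : E × E).2) h
    · apply D.hz1
      exact (congrArg (fun s : ↥(D.fib A) => (s : E × E).1) h).symm
  obtain ⟨χ, hχmul, hχN, hχw⟩ := exists_char NN hsq hw1N
  have hχzz : χ zz = 0 := hχN zz (Or.inr rfl)
  -- the graph
  have hex : ∀ x : E, ∃ y : E, ∃ h : (x, y) ∈ D.fib A, χ ⟨(x, y), h⟩ = 0 := by
    intro x
    obtain ⟨y0, hy0⟩ := D.hc_surj (A *ᵥ D.c x)
    have h0 : (x, y0) ∈ D.fib A := hy0
    by_cases hχ0 : χ ⟨(x, y0), h0⟩ = 0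
    · exact ⟨y0, h0, hχ0⟩
    · have h1 : (x, y0 * D.z) ∈ D.fib A := by
        rw [mem_fib, D.hc_mul, D.c_z, add_zero]
        exact hy0
      refine ⟨y0 * D.z, h1, ?_⟩
      have h2 : (⟨(x, y0 * D.z), h1⟩ : ↥(D.fib A)) = ⟨(x, y0), h0⟩ * w1 :=
        Subtype.ext (Prod.ext (mul_one x).symm rfl)
      rw [h2, hχmul]
      exact zmod2_add_eq_zero_of_ne hχ0 (by rw [hχw]; decide)
  have huniq : ∀ x y y' : E, (∃ h : (x, y) ∈ D.fib A, χ ⟨(x, y), h⟩ = 0) →
      (∃ h : (x, y') ∈ D.fib A, χ ⟨(x, y'), h⟩ = 0) → y = y' := by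
    rintro x y y' ⟨h, hχ1⟩ ⟨h', hχ2⟩
    have hcc : D.c y = D.c y' := by
      rw [(D.mem_fib A x y).1 h, (D.mem_fib A x y').1 h']
    rcases (D.hZ _).1 (D.inv_mul_mem_center hcc) with hm | hm
    · exact inv_mul_eq_one.1 hm
    · exfalso
      have h2 : (⟨(x, y'), h'⟩ : ↥(D.fib A)) = ⟨(x, y), h⟩ * w1 := by
        apply Subtype.ext
        refine Prod.ext (mul_one x).symm ?_
        show y' = y * D.z
        rw [← hm]
        group
      rw [h2, hχmul, hχ1, hχw, zero_add] at hχ2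
      exact one_ne_zero hχ2
  choose φf hφf using hex
  have hφmul : ∀ x x', φf (x * x') = φf x * φf x' := by
    intro x x'
    apply huniq (x * x') _ _ (hφf (x * x'))
    obtain ⟨h1, hχ1⟩ := hφf x
    obtain ⟨h2, hχ2⟩ := hφf x'
    have h3 : (x * x', φf x * φf x') ∈ D.fib A := (D.fib A).mul_mem h1 h2
    refine ⟨h3, ?_⟩
    have h4 : (⟨(x * x', φf x * φf x'), h3⟩ : ↥(D.fib A)) = ⟨(x, φf x), h1⟩ * ⟨(x', φf x'), h2⟩ := rfl
    rw [h4, hχmul, hχ1, hχ2, add_zero]
  let φh : E →* E := MonoidHom.mk' φf hφmul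
  have hφinj : Function.Injective φh := by
    rw [injective_iff_map_eq_one]
    intro x hx
    have hx' : φf x = 1 := hx
    obtain ⟨h1, hχ1⟩ := hφf x
    have h2 : D.c x = 0 := by
      apply hAinj
      rw [← (D.mem_fib A x (φf x)).1 h1, hx', D.c_one]
    rcases (D.hZ x).1 ((D.hc_ker x).1 h2) with hx1 | hxz
    · exact hx1
    · exfalso
      have h3 : (⟨(x, φf x), h1⟩ : ↥(D.fib A)) = zz * w1 := by
        apply Subtype.ext
        refine Prod.ext ?_ ?_
        · show x = D.z * 1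
          rw [mul_one, hxz]
        · show φf x = D.z * D.z
          rw [hx', D.hz2]
      rw [h3, hχmul, hχzz, hχw, zero_add] at hχ1
      exact one_ne_zero hχ1
  have hφbij : Function.Bijective φh := ⟨hφinj, Finite.injective_iff_surjective.1 hφinj⟩
  refine ⟨MulEquiv.ofBijective φh hφbij, fun x => ?_⟩
  show D.c (φf x) = A *ᵥ D.c x
  exact (D.mem_fib A x (φf x)).1 (hφf x).1

theorem Θ'_surjective [Finite E] : Function.Surjective D.Θ' := by
  rintro ⟨M, hM⟩
  have hM' := (mem_isometryGroup_iff M).1 hM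
  have hAinj : ∀ u, (M : Matrix ι ι (ZMod 2)) *ᵥ u = 0 → u = 0 := by
    intro u hu
    have h1 : ((M⁻¹ : Matrix.GeneralLinearGroup ι (ZMod 2)) : Matrix ι ι (ZMod 2)) *ᵥ
        ((M : Matrix ι ι (ZMod 2)) *ᵥ u) = u := by
      rw [Matrix.mulVec_mulVec, ← Units.val_mul, inv_mul_cancel, Units.val_one, Matrix.one_mulVec]
    rw [hu, Matrix.mulVec_zero] at h1
    exact h1.symm
  obtain ⟨φ, hφ⟩ := D.exists_lift (M : Matrix ι ι (ZMod 2)) hM' hAinj
  refine ⟨φ, ?_⟩
  apply Subtype.ext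
  apply Units.ext
  rw [D.Θ'_coe]
  show D.Mat φ = (M : Matrix ι ι (ZMod 2))
  apply eq_of_mulVec
  intro u
  obtain ⟨x, rfl⟩ := D.hc_surj u
  rw [D.Mat_mulVec, D.T_c, hφ]

theorem nonempty_out_equiv [Finite E] : Nonempty (Cfsg.Out E ≃* ↥(Cfsg.isometryGroup (ZMod 2) Q)) :=
  ⟨(QuotientGroup.quotientMulEquivOfEq D.ker_Θ'.symm).trans
    (QuotientGroup.quotientKerEquivOfSurjective D.Θ' D.Θ'_surjective)⟩

end Coord

end Cfsg.Agent.Lib.Helper89.ESOut
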