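import Mathlib
import Cfsg.Prelude.Def_Transfer
import Cfsg.Agent.Lib.Helper89.ESOut

/-!
# The quadratic form of a group of extraspecial shape (helper89)

`Pre E V`: a group `E` with `Z(E) = {1, z}` of order two, all squares central, and a surjective homomorphism
`f : E → V` onto an additive commutative group with kernel `Z(E)`.  Then `qb (f x) = [x² ≠ 1]` is a nondegenerate
quadratic form on `V`, totally singular subgroups of `V` correspond to elementary abelian subgroups of `E`
containing `Z(E)`, and an isometry of `(V, qb)` with a standard form `Q` yields extraspecial coordinates `Coord E Q`.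
-/

set_option autoImplicit false
set_option linter.unusedSectionVars false

namespace Cfsg.Agent.Lib.Helper89.ESQuad

open Cfsg.Agent.Lib.Helper89.QuadF2 Cfsg.Agent.Lib.Helper89.ESOut

structure Pre (E : Type*) [Group E] (V : Type*) [AddCommGroup V] where
  z : E
  hz1 : z ≠ 1
  hz2 : z * z = 1
  hZ : ∀ x : E, x ∈ Subgroup.center E ↔ x = 1 ∨ x = z
  f : E → V
  hf_mul : ∀ x y, f (x * y) = f x + f y
  hf_surj : Function.Surjective f
  hf_ker : ∀ x, f x = 0 ↔ x ∈ Subgroup.center E
  hsq : ∀ x : E, x * x ∈ Subgroup.center E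

/-- the quadratic form upstairs -/
noncomputable def qt {E : Type*} [Group E] (x : E) : ZMod 2 := ind (x * x)

namespace Pre

variable {E : Type*} [Group E] {V : Type*} [AddCommGroup V] (P : Pre E V)

include P

theorem f_one : P.f 1 = 0 := by
  have h := P.hf_mul 1 1
  rw [mul_one] at h
  exact left_eq_add.mp h

theorem f_inv (x : E) : P.f x⁻¹ = - P.f x := by
  have h1 := P.hf_mul x⁻¹ x
  rw [inv_mul_cancel, P.f_one] at h1
  exact eq_neg_of_add_eq_zero_left h1.symm

theorem z_mem : P.z ∈ Subgroup.center E := (P.hZ _).2 (Or.inr rfl)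

theorem f_z : P.f P.z = 0 := (P.hf_ker _).2 P.z_mem

theorem inv_mul_mem_center {x y : E} (h : P.f x = P.f y) : x⁻¹ * y ∈ Subgroup.center E := by
  rw [← P.hf_ker, P.hf_mul, P.f_inv, h, neg_add_cancel]

theorem comm_mem (x y : E) : y * x * y⁻¹ * x⁻¹ ∈ Subgroup.center E := by
  rw [← P.hf_ker, P.hf_mul, P.hf_mul, P.hf_mul, P.f_inv, P.f_inv]
  abel

theorem center_comm {k : E} (hk : k ∈ Subgroup.center E) (g : E) : g * k = k * g :=
  Subgroup.mem_center_iff.1 hk g

theorem ind_z : ind P.z = 1 := ind_of_ne P.hz1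

theorem ind_mul {k k' : E} (hk : k ∈ Subgroup.center E) (hk' : k' ∈ Subgroup.center E) :
    ind (k * k') = ind k + ind k' := by
  rcases (P.hZ k).1 hk with rfl | rfl
  · rw [one_mul, ind_one, zero_add]
  · rcases (P.hZ k').1 hk' with rfl | rfl
    · rw [mul_one, ind_one, add_zero]
    · rw [P.hz2, ind_one, P.ind_z]
      rfl

theorem center_sq {m : E} (hm : m ∈ Subgroup.center E) : m * m = 1 := by
  rcases (P.hZ m).1 hm with rfl | rfl
  · exact mul_one 1
  · exact P.hz2

theorem sq_mul (x y : E) : x * y * (x * y) = y * x * y⁻¹ * x⁻¹ * (x * x * (y * y)) := by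
  have hk := P.center_comm (P.comm_mem x y)
  have h1 : y * x = y * x * y⁻¹ * x⁻¹ * x * y := by group
  calc x * y * (x * y) = x * (y * x) * y := by group
    _ = x * (y * x * y⁻¹ * x⁻¹ * x * y) * y := by rw [← h1]
    _ = x * (y * x * y⁻¹ * x⁻¹) * (x * y * y) := by group
    _ = y * x * y⁻¹ * x⁻¹ * x * (x * y * y) := by rw [hk x]
    _ = y * x * y⁻¹ * x⁻¹ * (x * x * (y * y)) := by group

/-- a section of `f` -/
noncomputable def sec (v : V) : E := Function.surjInv P.hf_surj v

theorem f_sec (v : V) : P.f (P.sec v) = v := Function.surjInv_eq _ _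

theorem qt_mul_center (x : E) {m : E} (hm : m ∈ Subgroup.center E) : qt (x * m) = qt x := by
  unfold qt
  have h1 : x * m * (x * m) = x * x * (m * m) := by
    have := P.center_comm hm x
    calc x * m * (x * m) = x * (m * x) * m := by group
      _ = x * (x * m) * m := by rw [this]
      _ = x * x * (m * m) := by group
  rw [h1, P.center_sq hm, mul_one]

theorem qt_congr {x y : E} (h : P.f x = P.f y) : qt x = qt y := by
  have hm := P.inv_mul_mem_center h
  have hy : y = x * (x⁻¹ * y) := by group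
  rw [hy, P.qt_mul_center x hm]

/-- the quadratic form on `V` -/
noncomputable def qb (v : V) : ZMod 2 := qt (P.sec v)

theorem qb_f (x : E) : P.qb (P.f x) = qt x := P.qt_congr (P.f_sec _)

theorem pol_qb (x y : E) : pol P.qb (P.f x) (P.f y) = ind (y * x * y⁻¹ * x⁻¹) := by
  unfold pol
  rw [← P.hf_mul, P.qb_f, P.qb_f, P.qb_f]
  unfold qt
  rw [P.sq_mul, P.ind_mul (P.comm_mem x y) (Subgroup.mul_mem _ (P.hsq x) (P.hsq y)),
    P.ind_mul (P.hsq x) (P.hsq y)]
  have : ∀ a b c : ZMod 2, a + (b + c) + b + c = a := by decide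
  exact this _ _ _

theorem comm_of_pol {x y : E} (h : pol P.qb (P.f x) (P.f y) = 0) : x * y = y * x := by
  rw [P.pol_qb, ind_eq_zero_iff] at h
  have h1 : y * x = y * x * y⁻¹ * x⁻¹ * (x * y) := by group
  rw [h1, h, one_mul]

theorem isQuad : IsQuad P.qb where
  add_left u v w := by
    obtain ⟨x, rfl⟩ := P.hf_surj u
    obtain ⟨x', rfl⟩ := P.hf_surj v
    obtain ⟨y, rfl⟩ := P.hf_surj w
    rw [← P.hf_mul, P.pol_qb, P.pol_qb, P.pol_qb,
      ← P.ind_mul (P.comm_mem x y) (P.comm_mem x' y)]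
    congr 1
    have hk := P.center_comm (P.comm_mem x' y) x
    calc y * (x * x') * y⁻¹ * (x * x')⁻¹ = y * x * y⁻¹ * x⁻¹ * (x * (y * x' * y⁻¹ * x'⁻¹)) * x⁻¹ := by
          group
      _ = y * x * y⁻¹ * x⁻¹ * (y * x' * y⁻¹ * x'⁻¹ * x) * x⁻¹ := by rw [hk]
      _ = y * x * y⁻¹ * x⁻¹ * (y * x' * y⁻¹ * x'⁻¹) := by group
  nondeg u hu := by
    obtain ⟨x, rfl⟩ := P.hf_surj u
    rw [P.hf_ker, Subgroup.mem_center_iff]
    intro g
    exact (P.comm_of_pol (hu (P.f g))).symm

/-! ### preimages of subgroups -/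

/-- the preimage of a subgroup of `V` -/
def pre (U : AddSubgroup V) : Subgroup E where
  carrier := {x | P.f x ∈ U}
  mul_mem' := by
    intro a b ha hb
    show P.f (a * b) ∈ U
    rw [P.hf_mul]
    exact U.add_mem ha hb
  one_mem' := by
    show P.f 1 ∈ U
    rw [P.f_one]
    exact U.zero_mem
  inv_mem' := by
    intro a ha
    show P.f a⁻¹ ∈ U
    rw [P.f_inv]
    exact U.neg_mem ha

theorem mem_pre (U : AddSubgroup V) (x : E) : x ∈ P.pre U ↔ P.f x ∈ U := Iff.rfl

theorem eq_of_ind_eq {k k' : E} (hk : k ∈ Subgroup.center E) (hk' : k' ∈ Subgroup.center E)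
    (h : ind k = ind k') : k = k' := by
  rcases (P.hZ k).1 hk with rfl | rfl
  · rw [ind_one] at h
    exact (ind_eq_zero_iff.1 h.symm).symm
  · rcases (P.hZ k').1 hk' with rfl | rfl
    · rw [ind_one] at h
      exact ind_eq_zero_iff.1 h
    · rfl

theorem card_pre [Finite E] (U : AddSubgroup V) : Nat.card ↥(P.pre U) = 2 * Nat.card ↥U := by
  have hsecU : ∀ u : ↥U, P.sec (u : V) ∈ P.pre U := by
    intro u
    rw [mem_pre, P.f_sec]
    exact u.2
  let φ : ↥(P.pre U) → ZMod 2 × ↥U := fun x =>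
    (ind ((x : E)⁻¹ * P.sec (P.f (x : E))), ⟨P.f (x : E), x.2⟩)
  have hbij : Function.Bijective φ := by
    constructor
    · rintro ⟨x, hx⟩ ⟨y, hy⟩ hxy
      have h1 : ind (x⁻¹ * P.sec (P.f x)) = ind (y⁻¹ * P.sec (P.f y)) := congrArg Prod.fst hxy
      have h2 : P.f x = P.f y := congrArg (fun p : ZMod 2 × ↥U => (p.2 : V)) hxy
      have h3 := P.eq_of_ind_eq (P.inv_mul_mem_center (P.f_sec (P.f x)).symm)
        (P.inv_mul_mem_center (P.f_sec (P.f y)).symm) h1
      rw [h2] at h3
      apply Subtype.ext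
      show x = y
      have h4 := mul_right_cancel h3
      exact inv_injective h4
    · rintro ⟨a, u⟩
      rcases zmod2_cases a with rfl | rfl
      · refine ⟨⟨P.sec (u : V), hsecU u⟩, ?_⟩
        refine Prod.ext ?_ (Subtype.ext (P.f_sec _))
        show ind ((P.sec (u : V))⁻¹ * P.sec (P.f (P.sec (u : V)))) = 0
        rw [P.f_sec, inv_mul_cancel, ind_one]
      · have hmem : P.sec (u : V) * P.z ∈ P.pre U := by
          rw [mem_pre, P.hf_mul, P.f_z, add_zero, P.f_sec]
          exact u.2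
        have hfz : P.f (P.sec (u : V) * P.z) = (u : V) := by
          rw [P.hf_mul, P.f_z, add_zero, P.f_sec]
        refine ⟨⟨P.sec (u : V) * P.z, hmem⟩, ?_⟩
        refine Prod.ext ?_ (Subtype.ext hfz)
        show ind ((P.sec (u : V) * P.z)⁻¹ * P.sec (P.f (P.sec (u : V) * P.z))) = 1
        rw [hfz]
        have h5 : (P.sec (u : V) * P.z)⁻¹ * P.sec (u : V) = P.z⁻¹ * ((P.sec (u : V))⁻¹ * P.sec (u : V)) := by
          group
        rw [h5, inv_mul_cancel, mul_one]
        apply ind_of_ne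
        intro h6
        apply P.hz1
        exact inv_eq_one.1 h6
  rw [Nat.card_congr (Equiv.ofBijective φ hbij), Nat.card_prod, Nat.card_zmod]

theorem card_eq [Finite E] : Nat.card E = 2 * Nat.card V := by
  have h1 := P.card_pre ⊤
  have h2 : P.pre ⊤ = ⊤ := by
    ext x
    simp [mem_pre]
  rw [h2, Subgroup.card_top, AddSubgroup.card_top] at h1
  exact h1

/-- an elementary abelian subgroup gives a totally singular subgroup of at least half its order -/
theorem exists_singular_of_elemAb [Finite E] (A : Subgroup E) (hA : Cfsg.IsElementaryAbelian 2 A) :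
    ∃ U : AddSubgroup V, (∀ u ∈ U, P.qb u = 0) ∧ Nat.card ↥A ≤ 2 * Nat.card ↥U := by
  let U : AddSubgroup V :=
    { carrier := {v | ∃ a ∈ A, P.f a = v}
      zero_mem' := ⟨1, A.one_mem, P.f_one⟩
      add_mem' := by
        rintro _ _ ⟨a, ha, rfl⟩ ⟨b, hb, rfl⟩
        exact ⟨a * b, A.mul_mem ha hb, P.hf_mul a b⟩
      neg_mem' := by
        rintro _ ⟨a, ha, rfl⟩
        exact ⟨a⁻¹, A.inv_mem ha, P.f_inv a⟩ }
  refine ⟨U, ?_, ?_⟩
  · rintro _ ⟨a, ha, rfl⟩
    rw [P.qb_f]
    unfold qt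
    rw [ind_eq_zero_iff, ← pow_two]
    exact hA.2 a ha
  · have hle : A ≤ P.pre U := fun a ha => ⟨a, ha, rfl⟩
    rw [← P.card_pre U]
    exact Subgroup.card_le_of_le hle

/-- a totally singular subgroup gives an elementary abelian subgroup of twice its order -/
theorem elemAb_pre (U : AddSubgroup V) (hU : ∀ u ∈ U, P.qb u = 0) :
    Cfsg.IsElementaryAbelian 2 (P.pre U) := by
  constructor
  · constructor
    constructor
    rintro ⟨a, ha⟩ ⟨b, hb⟩
    apply Subtype.ext
    show a * b = b * a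
    apply P.comm_of_pol
    unfold pol
    rw [hU _ (U.add_mem ha hb), hU _ ha, hU _ hb]
    rfl
  · intro a ha
    have h1 := hU _ ha
    rw [P.qb_f] at h1
    unfold qt at h1
    rw [ind_eq_zero_iff] at h1
    rw [pow_two]
    exact h1

/-- coordinates from an isometry -/
noncomputable def toCoord {ι : Type} [Fintype ι] {Q : (ι → ZMod 2) → ZMod 2} (σ : Equiv.Perm ι)
    (hB : ∀ u v : ι → ZMod 2, Q (u + v) + Q u + Q v = ∑ i, u i * v (σ i))
    (e : V ≃+ (ι → ZMod 2)) (he : ∀ v, Q (e v) = P.qb v) : Coord E Q where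
  σ := σ
  hB := hB
  z := P.z
  hz1 := P.hz1
  hz2 := P.hz2
  hZ := P.hZ
  c := fun x => e (P.f x)
  hc_mul := fun x y => by rw [P.hf_mul, map_add]
  hc_surj := e.surjective.comp P.hf_surj
  hc_ker := fun x => by rw [← P.hf_ker, EmbeddingLike.map_eq_zero_iff]
  hQ := fun x => by
    rw [he, P.qb_f]
    unfold qt
    exact ind_eq_zero_iff

end Pre

end Cfsg.Agent.Lib.Helper89.ESQuad
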