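import Cfsg.Agent.Lib.Helper89.ESOut

/-!
# An obstruction to splitting `Aut E` over `Inn E` (helper89)

For a group `E` with extraspecial coordinates `D : Coord E Q`:
* `Coord.no_commuting_lifts`: if `A, B` are commuting involutory automorphisms inducing `a, b` on the coordinates and
  `t + b t = t' + a t'`, `t + a t = t'' + b t''`, then the polar form vanishes at `(b t, a t)`.
* `Coord.not_isComplement'`: hence, given commuting involutory isometries `Ma, Mb` and such vectors with polar form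
  `1` at `(Mb t, Ma t)`, the inner automorphism group has no complement in `Aut E`.
-/

set_option autoImplicit false
set_option linter.unusedSectionVars false

namespace Cfsg.Agent.Lib.Helper89.ESOut

open Cfsg.Agent.Lib.Helper89.QuadF2
open Matrix

namespace Coord

variable {E : Type*} [Group E] {ι : Type} [Fintype ι] [DecidableEq ι] {Q : (ι → ZMod 2) → ZMod 2}
  (D : Coord E Q)

/-- the polar form -/
def Bf (_D : Coord E Q) (u v : ι → ZMod 2) : ZMod 2 := Q (u + v) + Q u + Q v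

include D

theorem Bf_eq_sum (u v : ι → ZMod 2) : D.Bf u v = ∑ i, u i * v (D.σ i) := D.hB u v

theorem Bf_add_left (u u' v : ι → ZMod 2) : D.Bf (u + u') v = D.Bf u v + D.Bf u' v := by
  rw [D.Bf_eq_sum, D.Bf_eq_sum, D.Bf_eq_sum, ← Finset.sum_add_distrib]
  apply Finset.sum_congr rfl
  intro i _
  rw [Pi.add_apply, add_mul]

theorem Bf_comm (u v : ι → ZMod 2) : D.Bf u v = D.Bf v u := by
  unfold Bf
  rw [add_comm u v]
  ring

theorem Q_add (u v : ι → ZMod 2) : Q (u + v) = Q u + Q v + D.Bf u v := by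
  unfold Bf
  have : ∀ a b c : ZMod 2, a = b + c + (a + b + c) := by decide
  exact this _ _ _

theorem Q_aut (A : MulAut E) (x : E) : Q (D.c (A x)) = Q (D.c x) := by
  rw [D.Q_c, D.Q_c, ← map_mul, D.aut_center A (D.sq_mem x)]

/-- the action of an automorphism on an element over `t' + a t'` -/
theorem exists_kappa (A : MulAut E) (hAA : ∀ x, A (A x) = x) (y' : E) :
    ∃ κ ∈ Subgroup.center E, (∀ u : E, D.c u = D.c y' + D.c (A y') → A u = κ * u) ∧
      ind κ = Q (D.c y' + D.c (A y')) := by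
  refine ⟨A y' * y' * (A y')⁻¹ * y'⁻¹, D.comm_mem y' (A y'), ?_, ?_⟩
  · intro u hu
    have hc : D.c (y' * A y') = D.c u := by rw [D.hc_mul, hu]
    have hk := D.inv_mul_mem_center hc
    have hu' : u = y' * A y' * ((y' * A y')⁻¹ * u) := by group
    have hAp : A (y' * A y') = A y' * y' * (A y')⁻¹ * y'⁻¹ * (y' * A y') := by
      rw [map_mul, hAA]
      group
    calc A u = A (y' * A y' * ((y' * A y')⁻¹ * u)) := by rw [← hu']
      _ = A (y' * A y') * ((y' * A y')⁻¹ * u) := by rw [map_mul, D.aut_center A hk]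
      _ = A y' * y' * (A y')⁻¹ * y'⁻¹ * (y' * A y') * ((y' * A y')⁻¹ * u) := by rw [hAp]
      _ = A y' * y' * (A y')⁻¹ * y'⁻¹ * u := by group
  · rw [← D.B_c y' (A y'), D.Q_aut A y']
    have : ∀ a b : ZMod 2, a + b + b = a := by decide
    exact this _ _

theorem no_commuting_lifts (A B : MulAut E) (a b : (ι → ZMod 2) → (ι → ZMod 2))
    (hA : ∀ x, D.c (A x) = a (D.c x)) (hB : ∀ x, D.c (B x) = b (D.c x))
    (hAA : ∀ x, A (A x) = x) (hBB : ∀ x, B (B x) = x) (hAB : ∀ x, A (B x) = B (A x))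
    (t t' t'' : ι → ZMod 2) (h1 : t + b t = t' + a t') (h2 : t + a t = t'' + b t'')
    (h3 : D.Bf (b t) (a t) = 1) : False := by
  obtain ⟨y, hy⟩ := D.hc_surj t
  obtain ⟨y', hy'⟩ := D.hc_surj t'
  obtain ⟨y'', hy''⟩ := D.hc_surj t''
  obtain ⟨κA, hκAc, hκA, hκAind⟩ := D.exists_kappa A hAA y'
  obtain ⟨κB, hκBc, hκB, hκBind⟩ := D.exists_kappa B hBB y''
  rw [hA, hy', ← h1] at hκAind
  rw [hB, hy'', ← h2] at hκBind
  -- the two relations
  have e1 : A y * A (B y) = κA * (y * B y) := by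
    rw [← map_mul]
    apply hκA
    rw [D.hc_mul, hB, hy, hA, hy', h1]
  have e2 : B y * A (B y) = κB * (y * A y) := by
    rw [hAB y, ← map_mul]
    apply hκB
    rw [D.hc_mul, hA, hy, hB, hy'', h2]
  -- eliminate `A (B y)`
  have hyy := D.sq_mem y
  have e3 : κA * ((A y)⁻¹ * y * B y) = κB * ((B y)⁻¹ * y * A y) := by
    have hw1 : A (B y) = κA * ((A y)⁻¹ * y * B y) := by
      have h4 : A (B y) = (A y)⁻¹ * (κA * (y * B y)) := by rw [← e1]; group
      rw [h4, ← mul_assoc, D.center_comm hκAc (A y)⁻¹]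
      group
    have hw2 : A (B y) = κB * ((B y)⁻¹ * y * A y) := by
      have h4 : A (B y) = (B y)⁻¹ * (κB * (y * A y)) := by rw [← e2]; group
      rw [h4, ← mul_assoc, D.center_comm hκBc (B y)⁻¹]
      group
    rw [← hw1, ← hw2]
  have e4 : (A y)⁻¹ * y * B y = y * y * ((B y)⁻¹ * y * A y)⁻¹ := by
    have h5 := D.center_comm hyy (A y)⁻¹
    calc (A y)⁻¹ * y * B y = (A y)⁻¹ * (y * y) * (y⁻¹ * B y) := by group
      _ = y * y * (A y)⁻¹ * (y⁻¹ * B y) := by rw [h5]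
      _ = y * y * ((B y)⁻¹ * y * A y)⁻¹ := by group
  have e5 : κA * (y * y) = κB * ((B y)⁻¹ * y * A y * ((B y)⁻¹ * y * A y)) := by
    rw [e4] at e3
    calc κA * (y * y) = κA * (y * y * ((B y)⁻¹ * y * A y)⁻¹) * ((B y)⁻¹ * y * A y) := by group
      _ = κB * ((B y)⁻¹ * y * A y) * ((B y)⁻¹ * y * A y) := by rw [e3]
      _ = κB * ((B y)⁻¹ * y * A y * ((B y)⁻¹ * y * A y)) := by group
  have e6 := congrArg ind e5
  rw [D.ind_mul hκAc hyy, D.ind_mul hκBc (D.sq_mem _), hκAind, hκBind, ← D.Q_c, ← D.Q_c, hy,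
    D.hc_mul, D.hc_mul, D.c_inv, hB, hA, hy] at e6
  -- the quadratic form computation
  have hQa : Q (a t) = Q t := by rw [← hy, ← hA, D.Q_aut]
  have hQb : Q (b t) = Q t := by rw [← hy, ← hB, D.Q_aut]
  rw [D.Q_add t (b t), D.Q_add t (a t), D.Q_add (b t + t) (a t), D.Q_add (b t) t,
    D.Bf_add_left (b t) t (a t), hQa, hQb, D.Bf_comm (b t) t, h3] at e6
  revert e6
  generalize Q t = q0
  generalize D.Bf t (b t) = x1
  generalize D.Bf t (a t) = x2
  revert q0 x1 x2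
  decide

theorem c_of_Θ' (A : MulAut E) (M : ↥(Cfsg.isometryGroup (ZMod 2) Q)) (hM : D.Θ' A = M) (x : E) :
    D.c (A x) = ((M : Matrix.GeneralLinearGroup ι (ZMod 2)) : Matrix ι ι (ZMod 2)) *ᵥ D.c x := by
  rw [← hM, D.Θ'_coe, D.Mat_mulVec, D.T_c]

/-- no complement when a four-group of isometries carries the obstruction -/
theorem not_isComplement' [Finite E] (Ma Mb : ↥(Cfsg.isometryGroup (ZMod 2) Q))
    (hMa : Ma * Ma = 1) (hMb : Mb * Mb = 1) (hab : Ma * Mb = Mb * Ma) (t t' t'' : ι → ZMod 2)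
    (h1 : t + ((Mb : Matrix.GeneralLinearGroup ι (ZMod 2)) : Matrix ι ι (ZMod 2)) *ᵥ t =
      t' + ((Ma : Matrix.GeneralLinearGroup ι (ZMod 2)) : Matrix ι ι (ZMod 2)) *ᵥ t')
    (h2 : t + ((Ma : Matrix.GeneralLinearGroup ι (ZMod 2)) : Matrix ι ι (ZMod 2)) *ᵥ t =
      t'' + ((Mb : Matrix.GeneralLinearGroup ι (ZMod 2)) : Matrix ι ι (ZMod 2)) *ᵥ t'')
    (h3 : D.Bf (((Mb : Matrix.GeneralLinearGroup ι (ZMod 2)) : Matrix ι ι (ZMod 2)) *ᵥ t)
      (((Ma : Matrix.GeneralLinearGroup ι (ZMod 2)) : Matrix ι ι (ZMod 2)) *ᵥ t) = 1)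
    (L : Subgroup (MulAut E)) : ¬ (Cfsg.Inn E).IsComplement' L := by
  intro hL
  have hdisj : Cfsg.Inn E ⊓ L = ⊥ := disjoint_iff.1 hL.disjoint
  -- lifts in `L`
  have hlift : ∀ M : ↥(Cfsg.isometryGroup (ZMod 2) Q), ∃ l ∈ L, D.Θ' l = M := by
    intro M
    obtain ⟨α, hα⟩ := D.Θ'_surjective M
    obtain ⟨⟨i, l⟩, hil⟩ := hL.2 α
    have hil' : (i : MulAut E) * (l : MulAut E) = α := hil
    refine ⟨l, l.2, ?_⟩
    have hi : D.Θ' (i : MulAut E) = 1 := by
      rw [← MonoidHom.mem_ker, D.ker_Θ']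
      exact i.2
    rw [← hα, ← hil', map_mul, hi, one_mul]
  have htriv : ∀ l ∈ L, D.Θ' l = 1 → l = 1 := by
    intro l hl h
    have h5 : l ∈ Cfsg.Inn E := by
      rw [← D.ker_Θ', MonoidHom.mem_ker]
      exact h
    have h4 : l ∈ Cfsg.Inn E ⊓ L := ⟨h5, hl⟩
    rw [hdisj] at h4
    exact h4
  obtain ⟨A, hAL, hA⟩ := hlift Ma
  obtain ⟨B, hBL, hB⟩ := hlift Mb
  have hAA : A * A = 1 := htriv _ (L.mul_mem hAL hAL) (by rw [map_mul, hA, hMa])
  have hBB : B * B = 1 := htriv _ (L.mul_mem hBL hBL) (by rw [map_mul, hB, hMb])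
  have hAB : A * B * A⁻¹ * B⁻¹ = 1 := by
    apply htriv _ (L.mul_mem (L.mul_mem (L.mul_mem hAL hBL) (L.inv_mem hAL)) (L.inv_mem hBL))
    rw [map_mul, map_mul, map_mul, map_inv, map_inv, hA, hB, hab]
    group
  have hAB' : A * B = B * A := by
    calc A * B = A * B * A⁻¹ * B⁻¹ * (B * A) := by group
      _ = B * A := by rw [hAB, one_mul]
  exact D.no_commuting_lifts A B
    (fun u => ((Ma : Matrix.GeneralLinearGroup ι (ZMod 2)) : Matrix ι ι (ZMod 2)) *ᵥ u)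
    (fun u => ((Mb : Matrix.GeneralLinearGroup ι (ZMod 2)) : Matrix ι ι (ZMod 2)) *ᵥ u)
    (D.c_of_Θ' A Ma hA) (D.c_of_Θ' B Mb hB)
    (fun x => by rw [← MulAut.mul_apply, hAA]; rfl)
    (fun x => by rw [← MulAut.mul_apply, hBB]; rfl)
    (fun x => by rw [← MulAut.mul_apply, ← MulAut.mul_apply, hAB'])
    t t' t'' h1 h2 h3

end Coord

/-- an additive involutory isometry as an element of the isometry group -/
theorem exists_isometry_of_additive {ι : Type} [Fintype ι] [DecidableEq ι] {Q : (ι → ZMod 2) → ZMod 2}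
    (G : (ι → ZMod 2) → (ι → ZMod 2)) (hadd : ∀ u v, G (u + v) = G u + G v)
    (hinv : ∀ u, G (G u) = u) (hQ : ∀ u, Q (G u) = Q u) :
    ∃ M : ↥(Cfsg.isometryGroup (ZMod 2) Q),
      (∀ u, ((M : Matrix.GeneralLinearGroup ι (ZMod 2)) : Matrix ι ι (ZMod 2)) *ᵥ u = G u) ∧
        M * M = 1 := by
  let T : (ι → ZMod 2) →+ (ι → ZMod 2) := AddMonoidHom.mk' G hadd
  let A : Matrix ι ι (ZMod 2) := LinearMap.toMatrix' (T.toZModLinearMap 2)
  have hA : ∀ u, A *ᵥ u = G u := by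
    intro u
    show LinearMap.toMatrix' (T.toZModLinearMap 2) *ᵥ u = G u
    rw [← Matrix.toLin'_apply, Matrix.toLin'_toMatrix', AddMonoidHom.coe_toZModLinearMap]
    rfl
  have hAA : A * A = 1 := by
    apply Coord.eq_of_mulVec
    intro u
    rw [← Matrix.mulVec_mulVec, hA, hA, hinv, Matrix.one_mulVec]
  let M0 : Matrix.GeneralLinearGroup ι (ZMod 2) := ⟨A, A, hAA, hAA⟩
  have hM0 : M0 ∈ Cfsg.isometryGroup (ZMod 2) Q := by
    rw [mem_isometryGroup_iff]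
    intro u
    show Q (A *ᵥ u) = Q u
    rw [hA, hQ]
  refine ⟨⟨M0, hM0⟩, hA, ?_⟩
  apply Subtype.ext
  apply Units.ext
  exact hAA

theorem isometry_comm_of_mulVec {ι : Type} [Fintype ι] [DecidableEq ι] {Q : (ι → ZMod 2) → ZMod 2}
    (Ma Mb : ↥(Cfsg.isometryGroup (ZMod 2) Q)) (Ga Gb : (ι → ZMod 2) → (ι → ZMod 2))
    (ha : ∀ u, ((Ma : Matrix.GeneralLinearGroup ι (ZMod 2)) : Matrix ι ι (ZMod 2)) *ᵥ u = Ga u)
    (hb : ∀ u, ((Mb : Matrix.GeneralLinearGroup ι (ZMod 2)) : Matrix ι ι (ZMod 2)) *ᵥ u = Gb u)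
    (hcomm : ∀ u, Ga (Gb u) = Gb (Ga u)) : Ma * Mb = Mb * Ma := by
  apply Subtype.ext
  apply Units.ext
  show ((Ma : Matrix.GeneralLinearGroup ι (ZMod 2)) : Matrix ι ι (ZMod 2)) *
      ((Mb : Matrix.GeneralLinearGroup ι (ZMod 2)) : Matrix ι ι (ZMod 2)) =
    ((Mb : Matrix.GeneralLinearGroup ι (ZMod 2)) : Matrix ι ι (ZMod 2)) *
      ((Ma : Matrix.GeneralLinearGroup ι (ZMod 2)) : Matrix ι ι (ZMod 2))
  apply Coord.eq_of_mulVec
  intro u
  rw [← Matrix.mulVec_mulVec, ← Matrix.mulVec_mulVec, hb, ha, ha, hb, hcomm]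

end Cfsg.Agent.Lib.Helper89.ESOut
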