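import Cfsg.Agent.Lib.Helper91.TwOut.Defs
import Cfsg.Agent.Lib.Helper69.TwOut.TwOutCount

set_option autoImplicit false

namespace Cfsg.Agent.Lib.Helper89.F4Out

open Cfsg Cfsg.Agent.Lib.Helper91.TwOut Cfsg.Agent.Lib.Helper69.TwOut

variable {Γ : Type*} [Group Γ] {ι : Type*} {p : ℕ}

section Count

variable {K : Type*} [Field K] [Fintype K]

/-- [S-KER], `_of` form: [S-SUZ] and [S-YFIX] are hypotheses (`hsuz`, `hyfix`). -/
theorem card_le_sz_of [Finite Γ] [Fact p.Prime] (S : SplitBN Γ (Fin 2) p) (he : S.e 0 ≠ S.e 1)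
    (Φa : Matrix.SpecialLinearGroup (Fin 2) K →* Γ)
    (hXa : ∀ g, g ∈ S.X 0 ↔ ∃ t, g = Φa (sx t)) (hYa : ∀ g, g ∈ S.Y 0 ↔ ∃ t, g = Φa (sy t))
    (hinja : Function.Injective fun t : K => Φa (sx t)) (hinjya : Function.Injective fun t : K => Φa (sy t))
    (σ : K ≃+* K)
    (xb : K → K → Γ) (hXb : ∀ g, g ∈ S.X 1 ↔ ∃ t u, g = xb t u)
    (hgen : Subgroup.closure (Set.range (fun t : K => Φa (sx t)) ∪ Set.range (fun t : K => Φa (sy t)) ∪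
      (S.X 1 : Set Γ) ∪ (S.Y 1 : Set Γ)) = ⊤)
    (hsuz : ∀ θ : Γ ≃* Γ, (∀ l : Kˣ, θ (Φa (hd l)) = Φa (hd l)) →
      (∀ t u, ∃ t' u', θ (xb t u) = xb t' u') →
      ∃ c : Kˣ, ∀ t u, θ (xb t u) = xb ((c : K) * t) ((c : K) * σ c * u))
    (hyfix : ∀ θ : Γ ≃* Γ, S.U.map θ.toMonoidHom = S.U → S.V.map θ.toMonoidHom = S.V →
      (S.Y 1).map θ.toMonoidHom = S.Y 1 → (∀ x ∈ S.X 1, θ x = x) → ∀ y ∈ S.Y 1, θ y = y)
    (T : Subgroup (MulAut Γ)) (hT : T ≤ Nrm S.U S.V)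
    (hTs : ∀ θ ∈ T, ∃ c : Kˣ, ∀ t, θ (Φa (sx t)) = Φa (sx ((c : K) * t))) :
    Nat.card ↥T ≤ (Fintype.card K - 1) * (Fintype.card K - 1) := by
  classical
  have hUV := U_inf_V S
  -- `x(t) ≠ y(u)` for `t ≠ 0`
  have hxya : ∀ t u : K, t ≠ 0 → Φa (sx t) ≠ Φa (sy u) := by
    intro t u ht h
    have h1 : Φa (sx t) ∈ S.U ⊓ S.V :=
      ⟨X_le_U S 0 ((hXa _).mpr ⟨t, rfl⟩), by rw [h]; exact Y_le_V S 0 ((hYa _).mpr ⟨u, rfl⟩)⟩
    rw [hUV, Subgroup.mem_bot] at h1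
    have h0 : Φa (sx (0 : K)) = 1 := by
      have e : (sx (0 : K)) = 1 := by
        ext i j
        fin_cases i <;> fin_cases j <;> simp [coe_sx]
      rw [e, map_one]
    exact ht (hinja (h1.trans h0.symm))
  -- the normal form of the members of `T`
  have hnf : ∀ θ : ↥T, ∃ x : Kˣ × Kˣ,
      (∀ t, (θ : MulAut Γ) (Φa (sx t)) = Φa (sx ((x.1 : K) * t))) ∧
      (∀ t, (θ : MulAut Γ) (Φa (sy t)) = Φa (sy (((x.1⁻¹ : Kˣ) : K) * t))) ∧
      (∀ t u, (θ : MulAut Γ) (xb t u) = xb ((x.2 : K) * t) ((x.2 : K) * σ x.2 * u)) := by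
    intro θ
    obtain ⟨hU, hV⟩ := hT θ.2
    obtain ⟨hX0, hY0⟩ := map_root_eq S he (θ : MulAut Γ) hU hV 0
    obtain ⟨hX1, hY1⟩ := map_root_eq S he (θ : MulAut Γ) hU hV 1
    have hXa' : ∀ t, ∃ t', (θ : MulAut Γ) (Φa (sx t)) = Φa (sx t') := by
      intro t
      have : (θ : MulAut Γ) (Φa (sx t)) ∈ (S.X 0).map (θ : MulAut Γ).toMonoidHom :=
        ⟨_, (hXa _).mpr ⟨t, rfl⟩, rfl⟩
      rw [hX0] at this
      exact (hXa _).mp this
    have hYa' : ∀ t, ∃ t', (θ : MulAut Γ) (Φa (sy t)) = Φa (sy t') := by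
      intro t
      have : (θ : MulAut Γ) (Φa (sy t)) ∈ (S.Y 0).map (θ : MulAut Γ).toMonoidHom :=
        ⟨_, (hYa _).mpr ⟨t, rfl⟩, rfl⟩
      rw [hY0] at this
      exact (hYa _).mp this
    have hXb' : ∀ t u, ∃ t' u', (θ : MulAut Γ) (xb t u) = xb t' u' := by
      intro t u
      have : (θ : MulAut Γ) (xb t u) ∈ (S.X 1).map (θ : MulAut Γ).toMonoidHom :=
        ⟨_, (hXb _).mpr ⟨t, u, rfl⟩, rfl⟩
      rw [hX1] at this
      exact (hXb _).mp this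
    obtain ⟨c, τ, a1, a2, a3⟩ :=
      Cfsg.Agent.Lib.Helper23.TwOut.pair_nf Φa hinja hinjya hxya (θ : MulAut Γ) hXa' hYa'
    obtain ⟨c', hc'⟩ := hTs θ θ.2
    have h2 : ∀ t : K, (c : K) * τ t = (c' : K) * (RingEquiv.refl K) t := by
      intro t
      apply hinja
      show Φa (sx ((c : K) * τ t)) = Φa (sx ((c' : K) * (RingEquiv.refl K) t))
      rw [← a1 t, hc' t]
      rfl
    obtain ⟨-, hτ⟩ := Cfsg.Agent.Lib.Helper85.TwOut.nf_unique c c' τ (RingEquiv.refl K) h2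
    subst hτ
    have hd' : ∀ l : Kˣ, (θ : MulAut Γ) (Φa (hd l)) = Φa (hd l) := by
      intro l
      rw [a3 l]
      congr 2
    obtain ⟨cb, hcb⟩ := hsuz (θ : MulAut Γ) hd' hXb'
    refine ⟨(c, cb), ?_, ?_, hcb⟩
    · intro t; rw [a1 t]; rfl
    · intro t; rw [a2 t]; rfl
  let f : ↥T → Kˣ × Kˣ := fun θ => Classical.choose (hnf θ)
  have hf := fun θ => Classical.choose_spec (hnf θ)
  have hinj : Function.Injective f := by
    intro θ θ' hθ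
    apply Subtype.ext
    obtain ⟨a1, a2, a3⟩ := hf θ
    obtain ⟨b1, b2, b3⟩ := hf θ'
    have hfe : f θ = f θ' := hθ
    -- `θ'⁻¹ θ` fixes `X 1` pointwise, hence `Y 1`
    have hX1eq : ∀ x ∈ S.X 1, (θ : MulAut Γ) x = (θ' : MulAut Γ) x := by
      intro x hx
      obtain ⟨t, u, rfl⟩ := (hXb x).mp hx
      rw [a3, b3]
      show xb (((f θ).2 : K) * t) (((f θ).2 : K) * σ (f θ).2 * u) =
        xb (((f θ').2 : K) * t) (((f θ').2 : K) * σ (f θ').2 * u)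
      rw [hfe]
    have hmem : ((θ' : MulAut Γ)⁻¹ * (θ : MulAut Γ)) ∈ T := T.mul_mem (T.inv_mem θ'.2) θ.2
    obtain ⟨hU, hV⟩ := hT hmem
    obtain ⟨-, hY1⟩ := map_root_eq S he ((θ' : MulAut Γ)⁻¹ * (θ : MulAut Γ)) hU hV 1
    have hfix : ∀ x ∈ S.X 1, ((θ' : MulAut Γ)⁻¹ * (θ : MulAut Γ)) x = x := by
      intro x hx
      show (θ' : MulAut Γ)⁻¹ ((θ : MulAut Γ) x) = x
      rw [hX1eq x hx]
      exact (θ' : MulAut Γ).symm_apply_apply x
    have hY1eq : ∀ y ∈ S.Y 1, (θ : MulAut Γ) y = (θ' : MulAut Γ) y := by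
      intro y hy
      have h1 := hyfix _ hU hV hY1 hfix y hy
      have h2 : (θ' : MulAut Γ)⁻¹ ((θ : MulAut Γ) y) = y := h1
      have h3 : (θ' : MulAut Γ) ((θ' : MulAut Γ)⁻¹ ((θ : MulAut Γ) y)) = (θ' : MulAut Γ) y :=
        congrArg (fun z => (θ' : MulAut Γ) z) h2
      rw [← h3]
      exact ((θ' : MulAut Γ).apply_symm_apply _).symm
    have key : ((θ : MulAut Γ) : Γ ≃* Γ).toMonoidHom = ((θ' : MulAut Γ) : Γ ≃* Γ).toMonoidHom := by
      apply MonoidHom.eq_of_eqOn_dense hgen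
      intro g hg
      rcases hg with ((⟨t, rfl⟩ | ⟨t, rfl⟩) | hg) | hg
      · show (θ : MulAut Γ) (Φa (sx t)) = (θ' : MulAut Γ) (Φa (sx t))
        rw [a1, b1]
        show Φa (sx (((f θ).1 : K) * t)) = Φa (sx (((f θ').1 : K) * t))
        rw [hfe]
      · show (θ : MulAut Γ) (Φa (sy t)) = (θ' : MulAut Γ) (Φa (sy t))
        rw [a2, b2]
        show Φa (sy ((((f θ).1⁻¹ : Kˣ) : K) * t)) = Φa (sy ((((f θ').1⁻¹ : Kˣ) : K) * t))
        rw [hfe]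
      · exact hX1eq g hg
      · exact hY1eq g hg
    apply MulEquiv.ext
    intro g
    exact DFunLike.congr_fun key g
  have hcard := Nat.card_le_card_of_injective f hinj
  have h2 : Nat.card (Kˣ × Kˣ) = (Fintype.card K - 1) * (Fintype.card K - 1) := by
    rw [Nat.card_prod, Nat.card_eq_fintype_card, Fintype.card_units]
  rw [h2] at hcard
  exact hcard

end Count

end Cfsg.Agent.Lib.Helper89.F4Out
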