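import Cfsg.Agent.Lib.Helper91.TwOut.Defs
import Cfsg.Agent.Lib.Helper69.TwOut.TwOutCount

set_option autoImplicit false

namespace Cfsg.Agent.Lib.Helper89.F4Out

open Cfsg Cfsg.Agent.Lib.Helper91.TwOut

variable {Γ : Type*} [Group Γ] {ι : Type*} {p : ℕ}

/-- [S-YFIX], `_of` form: the facts of [S-MAPN], [S-UNIQ], [S-HNORM] that are used are hypotheses. -/
theorem fix_Y_of_fix_X_of (S : SplitBN Γ ι p) (i : ι)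
    (x₀ y₀ y₀' : Γ) (hx₀ : x₀ ∈ S.X i) (hx1 : x₀ ≠ 1) (hy₀ : y₀ ∈ S.Y i) (hy₀' : y₀' ∈ S.Y i)
    (hn : y₀ * x₀ * y₀' ∈ S.P.N)
    (θ : Γ ≃* Γ)
    (hYi : (S.Y i).map θ.toMonoidHom = S.Y i) (hfix : ∀ x ∈ S.X i, θ x = x)
    -- from [S-MAPN]
    (hmapN : θ (y₀ * x₀ * y₀') ∈ S.P.N)
    -- from [S-UNIQ]
    (hpair : ∀ (x y₁ y₁' y₂ y₂' : Γ), x ∈ S.X i → x ≠ 1 → y₁ ∈ S.Y i → y₁' ∈ S.Y i → y₂ ∈ S.Y i →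
      y₂' ∈ S.Y i → y₁ * x * y₁' ∈ S.P.N → y₂ * x * y₂' ∈ S.P.N → y₁ = y₂ ∧ y₁' = y₂')
    (hsH : (S.s i)⁻¹ * (y₀ * x₀ * y₀') ∈ S.P.B ⊓ S.P.N)
    -- from [S-HNORM]
    (hHX : ∀ h ∈ S.P.B ⊓ S.P.N, ∀ x ∈ S.X i, h * x * h⁻¹ ∈ S.X i) :
    ∀ y ∈ S.Y i, θ y = y := by
  have hθY : ∀ y ∈ S.Y i, θ y ∈ S.Y i := by
    intro y hy
    rw [← hYi]
    exact ⟨y, hy, rfl⟩
  have hθn : θ (y₀ * x₀ * y₀') = θ y₀ * x₀ * θ y₀' := by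
    rw [map_mul, map_mul, hfix x₀ hx₀]
  have hN' : θ y₀ * x₀ * θ y₀' ∈ S.P.N := by rw [← hθn]; exact hmapN
  obtain ⟨e1, e2⟩ := hpair x₀ (θ y₀) (θ y₀') y₀ y₀' hx₀ hx1 (hθY _ hy₀) (hθY _ hy₀') hy₀ hy₀' hN' hn
  have hθn' : θ (y₀ * x₀ * y₀') = y₀ * x₀ * y₀' := by rw [hθn, e1, e2]
  set n := y₀ * x₀ * y₀' with hndef
  set d := (S.s i)⁻¹ * n with hddef
  intro y hy
  have hx : (S.s i)⁻¹ * y * S.s i ∈ S.X i := (S.Y_eq i y).mp hy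
  have hdinv : d⁻¹ ∈ S.P.B ⊓ S.P.N := inv_mem hsH
  have hx' : d⁻¹ * ((S.s i)⁻¹ * y * S.s i) * d⁻¹⁻¹ ∈ S.X i := hHX _ hdinv _ hx
  have hy_eq : y = n * (d⁻¹ * ((S.s i)⁻¹ * y * S.s i) * d⁻¹⁻¹) * n⁻¹ := by
    rw [hddef]
    group
  calc θ y = θ (n * (d⁻¹ * ((S.s i)⁻¹ * y * S.s i) * d⁻¹⁻¹) * n⁻¹) := by rw [← hy_eq]
    _ = θ n * θ (d⁻¹ * ((S.s i)⁻¹ * y * S.s i) * d⁻¹⁻¹) * (θ n)⁻¹ := by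
        rw [map_mul, map_mul, map_inv]
    _ = n * (d⁻¹ * ((S.s i)⁻¹ * y * S.s i) * d⁻¹⁻¹) * n⁻¹ := by rw [hθn', hfix _ hx']
    _ = y := hy_eq.symm

end Cfsg.Agent.Lib.Helper89.F4Out
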