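/-
helper89: project F4OUT (helper91), module [S-YFIX] (exact sheet statement).
-/
import Cfsg.Agent.Lib.Helper89.F4OutYFixOf
import Cfsg.Agent.Lib.Helper86.F4OutMapN
import Cfsg.Agent.Lib.Helper25.F4OutUniq
import Cfsg.Agent.Lib.Helper25.F4OutHNorm

set_option autoImplicit false

namespace Cfsg.Agent.Lib.Helper89.F4Out

open Cfsg Cfsg.Agent.Lib.Helper91.TwOut

variable {Γ : Type*} [Group Γ] {ι : Type*} {p : ℕ}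

/-- [S-YFIX] one relation `y₀ x₀ y₀' ∈ N` pins a normalised automorphism on `Y i` once it is trivial on `X i`. -/
theorem fix_Y_of_fix_X [Finite Γ] [Fact p.Prime] (S : SplitBN Γ ι p) (hcore : S.P.B.normalCore = ⊥)
    (hCU : ∀ u ∈ S.U, (∀ h ∈ S.P.B ⊓ S.P.N, h * u * h⁻¹ = u) → u = 1) (i : ι)
    (x₀ y₀ y₀' : Γ) (hx₀ : x₀ ∈ S.X i) (hx1 : x₀ ≠ 1) (hy₀ : y₀ ∈ S.Y i) (hy₀' : y₀' ∈ S.Y i)
    (hn : y₀ * x₀ * y₀' ∈ S.P.N)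
    (θ : Γ ≃* Γ) (hU : S.U.map θ.toMonoidHom = S.U) (hV : S.V.map θ.toMonoidHom = S.V)
    (hYi : (S.Y i).map θ.toMonoidHom = S.Y i) (hfix : ∀ x ∈ S.X i, θ x = x) : ∀ y ∈ S.Y i, θ y = y :=
  fix_Y_of_fix_X_of S i x₀ y₀ y₀' hx₀ hx1 hy₀ hy₀' hn θ hYi hfix
    (Cfsg.Agent.Lib.Helper86.F4Out.map_N_mem S hcore hCU θ hU hV _ hn)
    (fun x y₁ y₁' y₂ y₂' hx hx1 h1 h1' h2 h2' hn1 hn2 =>
      Cfsg.Agent.Lib.Helper25.F4Out.pair_unique S i x y₁ y₁' y₂ y₂' hx hx1 h1 h1' h2 h2' hn1 hn2)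
    (Cfsg.Agent.Lib.Helper25.F4Out.mem_sH_of_mem_N S i x₀ y₀ y₀' hx₀ hx1 hy₀ hy₀' hn)
    (fun h hh x hx => Cfsg.Agent.Lib.Helper25.F4Out.H_conj_X S i h hh x hx)

end Cfsg.Agent.Lib.Helper89.F4Out
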