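/-
helper89: project F4OUT (helper91), module [S-KER] (exact sheet statement).
-/
import Cfsg.Agent.Lib.Helper89.F4OutKerOf
import Cfsg.Agent.Lib.Helper89.F4OutYFix
import Cfsg.Agent.Lib.Helper19.F4OutSuz

set_option autoImplicit false

namespace Cfsg.Agent.Lib.Helper89.F4Out

open Cfsg Cfsg.Agent.Lib.Helper91.TwOut

variable {Γ : Type*} [Group Γ] {ι : Type*} {p : ℕ}

section Count

variable {K : Type*} [Field K] [Fintype K]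

/-- [S-KER] the bound in the Suzuki setting. -/
theorem card_le_sz [CharP K 2] [Finite Γ] [Fact p.Prime] (S : SplitBN Γ (Fin 2) p) (he : S.e 0 ≠ S.e 1)
    (Φa : Matrix.SpecialLinearGroup (Fin 2) K →* Γ)
    (hXa : ∀ g, g ∈ S.X 0 ↔ ∃ t, g = Φa (sx t)) (hYa : ∀ g, g ∈ S.Y 0 ↔ ∃ t, g = Φa (sy t))
    (hinja : Function.Injective fun t : K => Φa (sx t)) (hinjya : Function.Injective fun t : K => Φa (sy t))
    (σ : K ≃+* K) (hσ : ∃ t, σ t ≠ t) (hbij : Function.Bijective fun t : K => t * σ t)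
    (xb : K → K → Γ) (hXb : ∀ g, g ∈ S.X 1 ↔ ∃ t u, g = xb t u)
    (hinjb : ∀ t u t' u', xb t u = xb t' u' → t = t' ∧ u = u')
    (hmul : ∀ t u t' u', xb t u * xb t' u' = xb (t + t') (u + u' + σ t * t'))
    (hact : ∀ (l : Kˣ) (t u : K), Φa (hd l) * xb t u * (Φa (hd l))⁻¹ = xb ((l : K)⁻¹ * t) (((l : K) * σ l)⁻¹ * u))
    (hgen : Subgroup.closure (Set.range (fun t : K => Φa (sx t)) ∪ Set.range (fun t : K => Φa (sy t)) ∪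
      (S.X 1 : Set Γ) ∪ (S.Y 1 : Set Γ)) = ⊤)
    (hcore : S.P.B.normalCore = ⊥)
    (hCU : ∀ u ∈ S.U, (∀ h ∈ S.P.B ⊓ S.P.N, h * u * h⁻¹ = u) → u = 1)
    (x₀ y₀ y₀' : Γ) (hx₀ : x₀ ∈ S.X 1) (hx1 : x₀ ≠ 1) (hy₀ : y₀ ∈ S.Y 1) (hy₀' : y₀' ∈ S.Y 1)
    (hn : y₀ * x₀ * y₀' ∈ S.P.N)
    (T : Subgroup (MulAut Γ)) (hT : T ≤ Nrm S.U S.V)
    (hTs : ∀ θ ∈ T, ∃ c : Kˣ, ∀ t, θ (Φa (sx t)) = Φa (sx ((c : K) * t))) :
    Nat.card ↥T ≤ (Fintype.card K - 1) * (Fintype.card K - 1) :=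
  card_le_sz_of S he Φa hXa hYa hinja hinjya σ xb hXb hgen
    (fun θ hθd hθX => Cfsg.Agent.Lib.Helper19.F4Out.suzuki_node σ hσ hbij xb hinjb hmul
      (fun l => Φa (hd l)) hact θ hθd hθX)
    (fun θ hU hV hY1 hfix =>
      fix_Y_of_fix_X S hcore hCU 1 x₀ y₀ y₀' hx₀ hx1 hy₀ hy₀' hn θ hU hV hY1 hfix)
    T hT hTs

end Count

end Cfsg.Agent.Lib.Helper89.F4Out
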