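/-
helper89: project F4OUT (helper91), module [C-SL2A]: the homomorphism `SL₂(K) → ²F₄` of the class `{p₁, p₄}`
(`ψ_{p₁} ∘ map (Frobenius^m)` times `ψ_{p₄}`), port of helper69's `exists_Phi_pair_E6`.
-/
import Cfsg.Agent.Lib.Helper91.F4Out.F4Defs
import Cfsg.Agent.Lib.Helper69.TwOut.E6SL2

set_option autoImplicit false
set_option linter.unusedSectionVars false
set_option maxRecDepth 1000000

namespace Cfsg.Agent.Lib.Helper89.F4Out

open Cfsg Cfsg.Lie Cfsg.Agent.Lib.Helper18 Cfsg.Agent.Lib.Helper18.F4T Cfsg.Agent.Lib.Helper91.TwOut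
open Cfsg.Agent.Lib.Helper91.ReeF4 Cfsg.Agent.Lib.Helper91.SigAbs Cfsg.Agent.Lib.Helper91.ExcAut
open Cfsg.Agent.Lib.Helper61.ReeF4 Cfsg.Agent.Lib.Helper91.F4Out
open Cfsg.Agent.Lib.Helper69.TwOut
open Cfsg.Agent.Lib.Helper17.SL2Pres Cfsg.Agent.Lib.Helper17.ChevSL2 Cfsg.Agent.Lib.Helper19.NatSL2

universe u

/-! ### Commuting closures -/

theorem commute_of_mem_closure {G : Type*} [Group G] {S T : Set G} (h : ∀ s ∈ S, ∀ t ∈ T, Commute s t)
    {a b : G} (ha : a ∈ Subgroup.closure S) (hb : b ∈ Subgroup.closure T) : Commute a b := by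
  have hb' : b ∈ Subgroup.centralizer S := by
    have hle : Subgroup.closure T ≤ Subgroup.centralizer S := by
      rw [Subgroup.closure_le]
      intro t ht
      rw [SetLike.mem_coe, Subgroup.mem_centralizer_iff]
      intro s hs
      exact (h s hs t ht).eq
    exact hle hb
  have ha' : a ∈ Subgroup.centralizer ({b} : Set G) := by
    have hle : Subgroup.closure S ≤ Subgroup.centralizer ({b} : Set G) := by
      rw [Subgroup.closure_le]
      intro s hs
      rw [SetLike.mem_coe, Subgroup.mem_centralizer_iff]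
      intro x hx
      rw [Set.mem_singleton_iff] at hx
      subst hx
      exact ((Subgroup.mem_centralizer_iff.mp hb') s hs).symm
    exact hle ha
  exact ((Subgroup.mem_centralizer_iff.mp ha') b rfl).symm

/-! ### The four commutation checks of `±p₁` with `±p₄` -/

set_option maxRecDepth 100000 in
theorem pair_chk_33_23 : wordEqChk chevF4 2 (pairL 33 23) (pairR 33 23) = true := by decide +kernel

set_option maxRecDepth 100000 in
theorem pair_chk_14_24 : wordEqChk chevF4 2 (pairL 14 24) (pairR 14 24) = true := by decide +kernel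

section

variable {K : Type u} [Field K] [CharP K 2]

theorem xG_comm_of_chk (r rb : ℕ) (hc : wordEqChk chevF4 2 (pairL r rb) (pairR r rb) = true) (s₁ s₂ : K) :
    Commute (xG Helper91.ReeF4.hD4 r s₂) (xG Helper91.ReeF4.hD4 rb s₁) := by
  have h := pair_identity_aux (K := K) r rb hc s₁ s₂
  apply Units.ext
  have e1 : ((xG Helper91.ReeF4.hD4 rb s₁ * xG Helper91.ReeF4.hD4 r s₂ : GL chevF4.Idx K) : Matrix chevF4.Idx chevF4.Idx K)
      = chevF4.wordMat K [(rb, s₁), (r, s₂)] := by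
    rw [← coe_wordG Helper91.ReeF4.hD4, wordG_cons, wordG_cons, wordG_nil, mul_one]
  have e2 : ((xG Helper91.ReeF4.hD4 r s₂ * xG Helper91.ReeF4.hD4 rb s₁ : GL chevF4.Idx K) : Matrix chevF4.Idx chevF4.Idx K)
      = chevF4.wordMat K [(r, s₂), (rb, s₁)] := by
    rw [← coe_wordG Helper91.ReeF4.hD4, wordG_cons, wordG_cons, wordG_nil, mul_one]
  rw [e1, e2, h]

/-- `x_{±p₁}` commutes with `x_{±p₄}`. -/
theorem gens_commute :
    ∀ a ∈ {x : GL chevF4.Idx K | ∃ t : K, x = xG Helper91.ReeF4.hD4 33 t ∨ x = xG Helper91.ReeF4.hD4 14 t},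
      ∀ b ∈ {x : GL chevF4.Idx K | ∃ t : K, x = xG Helper91.ReeF4.hD4 24 t ∨ x = xG Helper91.ReeF4.hD4 23 t}, Commute a b := by
  rintro a ⟨t, rfl | rfl⟩ b ⟨s, rfl | rfl⟩
  · exact xG_comm_of_chk 33 24 pair_pos_chk s t
  · exact xG_comm_of_chk 33 23 pair_chk_33_23 s t
  · exact xG_comm_of_chk 14 24 pair_chk_14_24 s t
  · exact xG_comm_of_chk 14 23 pair_neg_chk s t

end

section Torus

variable {K : Type u} [Field K]

/-- `h_{p₁}(a) h_{p₄}(d)` as a value of `tor4`. -/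
theorem tor4_eq_hPt (a d : Kˣ) :
    tor4 a 1 1 d = hPt Helper91.ReeF4.hD4 chevData_F4.{u} 0 (a : K) * hPt Helper91.ReeF4.hD4 chevData_F4.{u} 3 (d : K) := by
  rw [tor4_eq_wordG]
  apply Units.ext
  rw [coe_wordG, Units.val_mul, coe_hPt Helper91.ReeF4.hD4 chevData_F4.{u} 0 (by decide), coe_hPt Helper91.ReeF4.hD4 chevData_F4.{u} 3 (by decide)]
  simp only [wordMat_append]
  have h33 := hMat_diag 0 (by norm_num) (a : K) a.ne_zero
  have h27 := hMat_diag 1 (by norm_num) (1 : K) one_ne_zero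
  have h25 := hMat_diag 2 (by norm_num) (1 : K) one_ne_zero
  have h24 := hMat_diag 3 (by norm_num) (d : K) d.ne_zero
  have s0 : chevF4.simple 0 = 33 := rfl
  have s1 : chevF4.simple 1 = 27 := rfl
  have s2 : chevF4.simple 2 = 25 := rfl
  have s3 : chevF4.simple 3 = 24 := rfl
  rw [s0, s3]
  rw [s0] at h33
  rw [s1] at h27
  rw [s2] at h25
  rw [s3] at h24
  unfold ChevalleyDatum.hMat at h33 h27 h25 h24 ⊢
  rw [Units.val_one, h33, h27, h25, h24]
  simp only [Matrix.diagonal_mul_diagonal]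
  congr 1
  funext j
  rcases j with j | j <;> simp

end Torus

variable (K : Type u) [Field K] [Fintype K] [CharP K 2] (m : ℕ) (hq : ∀ t : K, t ^ (2 * 2 ^ m * 2 ^ m) = t)

/-- [C-SL2A] (port of `exists_Phi_pair_E6`, Lib/Helper69/TwOut/E6SL2.lean: `ψ_{p₁} ∘ map (Frobenius^m)` times `ψ_{p₄}`). -/
theorem exists_PhiA :
    ∃ Φ : Matrix.SpecialLinearGroup (Fin 2) K →* ↥(GF4 K m),
      (∀ t : K, Φ (sx t) = xa K m t) ∧ (∀ t : K, Φ (sy t) = ya K m t) ∧
      (∀ d : Kˣ, Φ (hd d) = hF4 K m hq 1 d) := by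
  have hp2 : Fact (Nat.Prime 2) := ⟨Nat.prime_two⟩
  obtain ⟨ψ₁, h1x, h1y⟩ := exists_hom_root (F := K) chevF4 Helper91.ReeF4.hD4 33 (by decide)
  obtain ⟨ψ₄, h4x, h4y⟩ := exists_hom_root (F := K) chevF4 Helper91.ReeF4.hD4 24 (by decide)
  have n33 : chevF4.neg 33 = 14 := by decide
  have n24 : chevF4.neg 24 = 23 := by decide
  rw [n33] at h1y
  rw [n24] at h4y
  have c14 : ∀ A B, Commute (ψ₁ A) (ψ₄ B) := fun A B =>
    commute_of_mem_closure (gens_commute (K := K))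
      (hom_mem_closure ψ₁ (fun t => xG Helper91.ReeF4.hD4 33 t) (fun t => xG Helper91.ReeF4.hD4 14 t)
        (fun t => by rw [sx_eq_uu, h1x]) (fun t => by rw [sy_eq_yy, h1y]) A)
      (hom_mem_closure ψ₄ (fun t => xG Helper91.ReeF4.hD4 24 t) (fun t => xG Helper91.ReeF4.hD4 23 t)
        (fun t => by rw [sx_eq_uu, h4x]) (fun t => by rw [sy_eq_yy, h4y]) B)
  let f1 : K →+* K := iterateFrobenius K 2 m
  have hf1 : ∀ t : K, f1 t = t ^ 2 ^ m := fun t => iterateFrobenius_def 2 m t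
  let Ψ : Matrix.SpecialLinearGroup (Fin 2) K →* GL chevF4.Idx K :=
    prod2 (ψ₁.comp (Matrix.SpecialLinearGroup.map f1)) ψ₄ (fun A B => c14 _ B)
  have hΨx : ∀ t : K, Ψ (sx t) = ((xa K m t : ↥(GF4 K m)) : GL chevF4.Idx K) := by
    intro t
    show ψ₁ (Matrix.SpecialLinearGroup.map f1 (sx t)) * ψ₄ (sx t) = _
    rw [map_sx, sx_eq_uu, sx_eq_uu, h1x, h4x, coe_xa, pairW_eq, hf1]
  have hΨy : ∀ t : K, Ψ (sy t) = ((ya K m t : ↥(GF4 K m)) : GL chevF4.Idx K) := by
    intro t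
    show ψ₁ (Matrix.SpecialLinearGroup.map f1 (sy t)) * ψ₄ (sy t) = _
    rw [map_sy, sy_eq_yy, sy_eq_yy, h1y, h4y, coe_ya, hf1]
  have hmem : ∀ A, Ψ A ∈ GF4 K m := fun A =>
    hom_mem_of_gens Ψ (GF4 K m)
      (fun t => by rw [hΨx]; exact (xa K m t).2)
      (fun t => by rw [hΨy]; exact (ya K m t).2) A
  refine ⟨Ψ.codRestrict (GF4 K m) hmem, fun t => Subtype.ext (hΨx t), fun t => Subtype.ext (hΨy t),
    fun d => Subtype.ext ?_⟩
  show ψ₁ (Matrix.SpecialLinearGroup.map f1 (hd d)) * ψ₄ (hd d) = f4H (2 ^ m) 1 d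
  rw [map_hd, hom_root_hd Helper91.ReeF4.hD4 chevData_F4.{u} ψ₁ 0 (by decide) h1x (by rw [show chevF4.neg (chevF4.simple 0) = 14 from by decide]; exact h1y),
    hom_root_hd Helper91.ReeF4.hD4 chevData_F4.{u} ψ₄ 3 (by decide) h4x (by rw [show chevF4.neg (chevF4.simple 3) = 23 from by decide]; exact h4y)]
  unfold f4H
  rw [one_pow, tor4_eq_hPt]
  congr 2

end Cfsg.Agent.Lib.Helper89.F4Out
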