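/-
helper89: project F4OUT (helper91), module [C-SPLIT]: `²F₄` as an instance of helper91's `SplitBN`
(port of helper69's `splitTw`, Lib/Helper69/TwOut/TwSplit.lean).
-/
import Cfsg.Agent.Lib.Helper91.F4Out.F4Defs
import Cfsg.Agent.Lib.Helper91.TwOut.Inst1

set_option autoImplicit false
set_option linter.unusedSectionVars false

namespace Cfsg.Agent.Lib.Helper89.F4Out

open Cfsg Cfsg.Lie Cfsg.Agent.Lib.Helper18 Cfsg.Agent.Lib.Helper18.F4T Cfsg.Agent.Lib.Helper91.TwOut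
open Cfsg.Agent.Lib.Helper91.ReeF4 Cfsg.Agent.Lib.Helper91.SigAbs Cfsg.Agent.Lib.Helper91.ExcAut
open Cfsg.Agent.Lib.Helper61.ReeF4 Cfsg.Agent.Lib.Helper91.F4Out

universe u

/-- Two subgroups of a finite group exchanged by conjugation with `n₀`. -/
theorem swap_of_conj {G : Type*} [Group G] [Finite G] (n₀ : G) (U V : Subgroup G)
    (hUV : ∀ u ∈ U, n₀ * u * n₀⁻¹ ∈ V) (hVU : ∀ v ∈ V, n₀ * v * n₀⁻¹ ∈ U) :
    (∀ g, g ∈ V ↔ n₀⁻¹ * g * n₀ ∈ U) ∧ (∀ g, g ∈ U ↔ n₀⁻¹ * g * n₀ ∈ V) := by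
  have hA : U.map (MulAut.conj n₀).toMonoidHom ≤ V := by
    rintro x ⟨u, hu, rfl⟩
    exact hUV u hu
  have hB : V.map (MulAut.conj n₀).toMonoidHom ≤ U := by
    rintro x ⟨v, hv, rfl⟩
    exact hVU v hv
  have cA : Nat.card ↥(U.map (MulAut.conj n₀).toMonoidHom) = Nat.card ↥U :=
    Subgroup.card_map_of_injective (MulAut.conj n₀).injective
  have cB : Nat.card ↥(V.map (MulAut.conj n₀).toMonoidHom) = Nat.card ↥V :=
    Subgroup.card_map_of_injective (MulAut.conj n₀).injective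
  have c1 := Subgroup.card_le_of_le hA
  have c2 := Subgroup.card_le_of_le hB
  rw [cA] at c1
  rw [cB] at c2
  have eA : U.map (MulAut.conj n₀).toMonoidHom = V :=
    Subgroup.eq_of_le_of_card_ge hA (by rw [cA]; exact c2)
  have eB : V.map (MulAut.conj n₀).toMonoidHom = U :=
    Subgroup.eq_of_le_of_card_ge hB (by rw [cB]; exact c1)
  constructor
  · intro g
    constructor
    · intro hg
      rw [← eA] at hg
      obtain ⟨u, hu, rfl⟩ := hg
      have : n₀⁻¹ * (MulAut.conj n₀).toMonoidHom u * n₀ = u := by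
        show n₀⁻¹ * (n₀ * u * n₀⁻¹) * n₀ = u
        group
      rw [this]
      exact hu
    · intro hg
      have := hUV _ hg
      have e : n₀ * (n₀⁻¹ * g * n₀) * n₀⁻¹ = g := by group
      rwa [e] at this
  · intro g
    constructor
    · intro hg
      rw [← eB] at hg
      obtain ⟨v, hv, rfl⟩ := hg
      have : n₀⁻¹ * (MulAut.conj n₀).toMonoidHom v * n₀ = v := by
        show n₀⁻¹ * (n₀ * v * n₀⁻¹) * n₀ = v
        group
      rw [this]
      exact hv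
    · intro hg
      have := hVU _ hg
      have e : n₀ * (n₀⁻¹ * g * n₀) * n₀⁻¹ = g := by group
      rwa [e] at this

section Long

variable (K : Type u) [Field K]

/-- The longest element conjugates `U` into `V`. -/
theorem f4n0_conj_U (u : GL chevF4.Idx K) (hu : u ∈ chevF4.posUnipotent K) :
    f4n0 K * u * (f4n0 K)⁻¹ ∈ chevF4.negUnipotent K := by
  have hle : chevF4.posUnipotent K ≤
      (chevF4.negUnipotent K).comap (MulAut.conj (f4n0 K)).toMonoidHom := by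
    unfold ChevalleyDatum.posUnipotent
    rw [Subgroup.closure_le]
    rintro g ⟨r, t, hr, hg⟩
    have hg' : g = xG hD4 r t := eq_xG hD4 _ r t hg
    show f4n0 K * g * (f4n0 K)⁻¹ ∈ chevF4.negUnipotent K
    unfold f4n0
    rw [hg', nW_conj_xG hD4 chevData_F4.{u} (wordJ f4Long) (wordJ_lt _) r hr.1]
    have hpos := (isPosRoot_iff hD4 r).mp hr
    apply xG_mem_negUnipotent' hD4
    rw [f4tabs_eq, f4Long_neg r hr.1]
    have h48 : chevF4.nroots = 48 := rfl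
    have := hpos.2
    constructor <;> omega
  exact hle hu

end Long

variable (K : Type u) [Field K] [Fintype K] [CharP K 2] (m : ℕ) (hq : ∀ t : K, t ^ (2 * 2 ^ m * 2 ^ m) = t)

include hq in
/-- `B ∩ ²F₄ = (U ∩ ²F₄)(H ∩ ²F₄)`. -/
theorem borel_decomp_F4 (b : GL chevF4.Idx K) (hb : b ∈ chevF4.borelSubgroup K) (hbG : b ∈ GF4 K m) :
    ∃ u ∈ chevF4.posUnipotent K ⊓ GF4 K m, ∃ h ∈ chevF4.diagonalSubgroup K ⊓ GF4 K m, b = u * h := by
  obtain ⟨u₀, hu₀, n, hn, u, hu, hug, e⟩ := exists_form K m hq b hbG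
  have huU : u ∈ chevF4.posUnipotent K := closure_UnegSet_le chevF4 n hu
  have hnB : n ∈ chevF4.borelSubgroup K := by
    have : n = u₀⁻¹ * b * u⁻¹ := by rw [e]; group
    rw [this]
    exact mul_mem (mul_mem (inv_mem (borel_of_posUnipotent _ hu₀.1)) hb) (inv_mem (borel_of_posUnipotent _ huU))
  have hnH : n ∈ chevF4.diagonalSubgroup K := by
    rw [← (Cfsg.Agent.S1040.result chevF4 hD4).2]
    exact Subgroup.mem_inf.mpr ⟨hnB, hn.1⟩
  have h1 : n * u * n⁻¹ ∈ chevF4.posUnipotent K := borel_conj_mem hD4 n u hnB huU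
  refine ⟨u₀ * (n * u * n⁻¹), Subgroup.mem_inf.mpr ⟨mul_mem hu₀.1 h1, ?_⟩, n, Subgroup.mem_inf.mpr ⟨hnH, hn.2⟩, ?_⟩
  · exact mul_mem hu₀.2 (mul_mem (mul_mem hn.2 hug) (inv_mem hn.2))
  · rw [e]; group

section Split

variable (P : Cfsg.BNPair ↥(GF4 K m))
  (hPB : P.B = (chevF4.borelSubgroup K ⊓ GF4 K m).subgroupOf (GF4 K m))
  (hPN : P.N = (chevF4.monomialSubgroup K ⊓ GF4 K m).subgroupOf (GF4 K m))

include hPB in
theorem mem_PB_F4 (x : ↥(GF4 K m)) : x ∈ P.B ↔ (x : GL chevF4.Idx K) ∈ chevF4.borelSubgroup K := by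
  rw [hPB, Subgroup.mem_subgroupOf, Subgroup.mem_inf]
  exact ⟨fun h => h.1, fun h => ⟨h, x.2⟩⟩

include hPN in
theorem mem_PN_F4 (x : ↥(GF4 K m)) : x ∈ P.N ↔ (x : GL chevF4.Idx K) ∈ chevF4.monomialSubgroup K := by
  rw [hPN, Subgroup.mem_subgroupOf, Subgroup.mem_inf]
  exact ⟨fun h => h.1, fun h => ⟨h, x.2⟩⟩

include hPB hPN in
theorem mem_PH_F4 (x : ↥(GF4 K m)) : x ∈ P.B ⊓ P.N ↔ (x : GL chevF4.Idx K) ∈ chevF4.diagonalSubgroup K := by
  rw [Subgroup.mem_inf, mem_PB_F4 K m P hPB, mem_PN_F4 K m P hPN, ← (Cfsg.Agent.S1040.result chevF4 hD4).2,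
    Subgroup.mem_inf]

end Split

/-- [C-SPLIT] `²F₄` as a split (B,N)-pair with root subgroups. -/
noncomputable def splitF4 (P : Cfsg.BNPair ↥(GF4 K m))
    (hPB : P.B = (chevF4.borelSubgroup K ⊓ GF4 K m).subgroupOf (GF4 K m))
    (hPN : P.N = (chevF4.monomialSubgroup K ⊓ GF4 K m).subgroupOf (GF4 K m))
    (hPS : P.S = {s : ↥(GF4 K m) | ∃ J ∈ f4Js, (s : GL chevF4.Idx K) = nW hD4 chevData_F4.{u} J})
    (hsyl : IsPGroup 2 ↥(UF4 K m) ∧ ¬ 2 ∣ (UF4 K m).index)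
    (e : Fin 2 → ℕ) (he : ∀ i, 0 < e i)
    (hXeq : ∀ i g, g ∈ XF4 K m i ↔ (n0F4 K m)⁻¹ * g * n0F4 K m ∈ YF4 K m i)
    (hcard : ∀ i, Nat.card ↥(XF4 K m i) = 2 ^ e i) : SplitBN ↥(GF4 K m) (Fin 2) 2 where
  P := P
  U := UF4 K m
  V := VF4 K m
  Um := UmF4 K m
  s := sF4 K m
  X := XF4 K m
  Y := YF4 K m
  e := e
  n₀ := n0F4 K m
  op := 1
  S_eq := by
    rw [hPS]
    ext x
    simp only [Set.mem_ofPred_eq, Set.mem_range]
    constructor
    · rintro ⟨J, hJ, hx⟩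
      have hJ' : J = wordJ [0] ∨ J = wordJ [1] := by
        rw [wordJ_zero, wordJ_one]
        simpa [f4Js] using hJ
      rcases hJ' with rfl | rfl
      · exact ⟨0, Subtype.ext hx.symm⟩
      · exact ⟨1, Subtype.ext hx.symm⟩
    · rintro ⟨i, rfl⟩
      refine ⟨wordJ [i.val], ?_, rfl⟩
      fin_cases i
      · show wordJ [0] ∈ f4Js
        rw [wordJ_zero]; simp [f4Js]
      · show wordJ [1] ∈ f4Js
        rw [wordJ_one]; simp [f4Js]
  pU := hsyl.1
  idxU := hsyl.2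
  U_le := by
    intro x hx
    rw [mem_PB_F4 K m P hPB]
    exact borel_of_posUnipotent _ ((mem_UF4 K m x).mp hx)
  U_norm := by
    intro b hb x hx
    rw [mem_UF4]
    rw [mem_PB_F4 K m P hPB] at hb
    have := borel_conj_mem hD4 _ _ hb ((mem_UF4 K m x).mp hx)
    simpa using this
  B_eq := by
    intro b hb
    rw [mem_PB_F4 K m P hPB] at hb
    obtain ⟨x, hx, h, hh, e⟩ := borel_decomp_F4 K m hq _ hb b.2
    refine ⟨⟨x, hx.2⟩, (mem_UF4 K m _).mpr hx.1, ⟨h, hh.2⟩,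
      (mem_PH_F4 K m P hPB hPN _).mpr hh.1, Subtype.ext e⟩
  V_inf_B := by
    rw [eq_bot_iff]
    intro x hx
    rw [Subgroup.mem_bot]
    apply Subtype.ext
    have h1 : (x : GL chevF4.Idx K) ∈ chevF4.borelSubgroup K ⊓ chevF4.negUnipotent K :=
      Subgroup.mem_inf.mpr ⟨(mem_PB_F4 K m P hPB x).mp hx.2, (mem_VF4 K m x).mp hx.1⟩
    rw [(Cfsg.Agent.S1037.result chevF4 hD4).1, Subgroup.mem_bot] at h1
    exact h1
  n₀_mem := by
    rw [mem_PN_F4 K m P hPN, coe_n0F4]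
    exact nW_mem_monomial hD4 chevData_F4.{u} _
  V_eq := by
    intro g
    rw [mem_VF4, mem_UF4]
    have := (swap_of_conj (f4n0 K) (chevF4.posUnipotent K) (chevF4.negUnipotent K)
      (f4n0_conj_U K) (f4n0_conj_V K)).1 (g : GL chevF4.Idx K)
    rw [this, Subgroup.coe_mul, Subgroup.coe_mul, Subgroup.coe_inv, coe_n0F4]
  U_eq := by
    intro g
    rw [mem_VF4, mem_UF4]
    have := (swap_of_conj (f4n0 K) (chevF4.posUnipotent K) (chevF4.negUnipotent K)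
      (f4n0_conj_U K) (f4n0_conj_V K)).2 (g : GL chevF4.Idx K)
    rw [this, Subgroup.coe_mul, Subgroup.coe_mul, Subgroup.coe_inv, coe_n0F4]
  Um_le := by
    intro n x hx
    rw [mem_UF4]
    exact closure_UnegSet_le chevF4 _ ((mem_UmF4 K m n x).mp hx)
  Um_conj := by
    intro n x hx
    rw [mem_VF4]
    have := conj_mem_neg_of_mem_closure hD4 _ _ ((mem_UmF4 K m n x).mp hx)
    simpa using this
  Um_diag := by
    intro n h hh
    rw [mem_PH_F4 K m P hPB hPN] at hh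
    ext x
    rw [mem_UmF4, mem_UmF4, Subgroup.coe_mul, closure_UnegSet_mul_diag hD4 _ _ hh]
  form := by
    intro g
    obtain ⟨u₀, hu₀, n, hn, x, hx, hxG, e⟩ := exists_form K m hq _ g.2
    refine ⟨⟨u₀, hu₀.2⟩, (mem_UF4 K m _).mpr hu₀.1, ⟨n, hn.2⟩, (mem_PN_F4 K m P hPN _).mpr hn.1,
      ⟨x, hxG⟩, (mem_UmF4 K m _ _).mpr hx, Subtype.ext e⟩
  Um_s := fun i => rfl
  Y_eq := fun i g => mem_YF4 K m i g
  X_eq := hXeq
  card_X := hcard
  e_pos := he

end Cfsg.Agent.Lib.Helper89.F4Out
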