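import Cfsg.Agent.Lib.Helper89.ESSplit

/-!
# Vanishing of the first cohomology of small orthogonal groups over `F_2` (helper89)

`V = ι → ZMod 2` with a nondegenerate quadratic form `Q`.  For nonsingular `u` the orthogonal transvection is
`tv Q u x = x + pol Q x u • u`.  A group `G` acting faithfully by isometries and containing, for all nonsingular `u, w`
with `pol Q u w = 1`, the rotation `r u w` acting as `tv u ∘ tv w` is packaged as `Data G Q`.

`Data.h1_vanish`: if the nonsingular vectors satisfy the three conditions `H1` (they span), `H2` (each has a partner)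
and `H3` (every function on them that is additive on anisotropic lines is the restriction of a linear functional), then
every crossed homomorphism `G → V` is principal.  No generators of `G` are needed: the rotations form a normal subset,
a crossed homomorphism is principal on each rotation group, the relation `(t_w t_z)^k = 1` makes the local data
coherent, and a crossed homomorphism vanishing on a normal subset without common fixed vectors vanishes.
-/

set_option autoImplicit false
set_option linter.unusedSectionVars false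
set_option linter.unusedTactic false

namespace Cfsg.Agent.Lib.Helper89.H1Orth

open Cfsg.Agent.Lib.Helper89.QuadF2

variable {ι : Type} [Fintype ι] [DecidableEq ι]

theorem vadd_self (x : ι → ZMod 2) : x + x = 0 := by
  ext i
  exact zmod2_add_self _

theorem vadd_cancel (x y : ι → ZMod 2) : x + y + y = x := by
  rw [add_assoc, vadd_self, add_zero]

theorem vadd_cancel' (x y : ι → ZMod 2) : y + (y + x) = x := by
  rw [← add_assoc, vadd_self, zero_add]

theorem veq_of_add_eq_zero {x y : ι → ZMod 2} (h : x + y = 0) : x = y := by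
  have h1 : x + y + y = y := by rw [h, zero_add]
  rw [vadd_cancel] at h1
  exact h1

theorem vsub_eq (x y : ι → ZMod 2) : x - y = x + y := by
  ext i
  have : ∀ a b : ZMod 2, a - b = a + b := by decide
  exact this _ _

/-- the orthogonal transvection -/
def tv (Q : (ι → ZMod 2) → ZMod 2) (u x : ι → ZMod 2) : ι → ZMod 2 := x + pol Q x u • u

section quad

variable {Q : (ι → ZMod 2) → ZMod 2} (hq : IsQuad Q)

include hq

theorem pol_smul_left (a : ZMod 2) (x y : ι → ZMod 2) : pol Q (a • x) y = a * pol Q x y := by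
  rcases zmod2_cases a with rfl | rfl
  · rw [zero_smul, hq.pol_zero_left, zero_mul]
  · rw [one_smul, one_mul]

theorem pol_smul_right (a : ZMod 2) (x y : ι → ZMod 2) : pol Q x (a • y) = a * pol Q x y := by
  rw [pol_comm, pol_smul_left hq, pol_comm]

theorem tv_add (u x y : ι → ZMod 2) : tv Q u (x + y) = tv Q u x + tv Q u y := by
  unfold tv
  rw [hq.add_left, add_smul]
  abel

theorem pol_tv (u x y : ι → ZMod 2) : pol Q (tv Q u x) (tv Q u y) = pol Q x y := by
  unfold tv
  rw [hq.add_left, hq.add_right, hq.add_right, pol_smul_left hq, pol_smul_left hq, pol_smul_right hq,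
    pol_smul_right hq, hq.pol_self, pol_comm Q u y]
  generalize pol Q x y = a
  generalize pol Q x u = b
  generalize pol Q y u = c
  revert a b c
  decide

theorem tv_tv_self (u x : ι → ZMod 2) : tv Q u (tv Q u x) = x := by
  unfold tv
  rw [hq.add_left, pol_smul_left hq, hq.pol_self, mul_zero, add_zero, vadd_cancel]

theorem tv_smul (u : ι → ZMod 2) (a : ZMod 2) (x : ι → ZMod 2) : tv Q u (a • x) = a • tv Q u x := by
  rcases zmod2_cases a with rfl | rfl
  · rw [zero_smul, zero_smul]
    unfold tv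
    rw [hq.pol_zero_left, zero_smul, add_zero]
  · rw [one_smul, one_smul]

/-- conjugating a transvection by a transvection -/
theorem tv_conj (u z x : ι → ZMod 2) : tv Q u (tv Q z (tv Q u x)) = tv Q (tv Q u z) x := by
  have h1 : tv Q z (tv Q u x) = tv Q u x + pol Q (tv Q u x) z • z := rfl
  rw [h1, tv_add hq, tv_tv_self hq, tv_smul hq]
  have h2 : pol Q (tv Q u x) z = pol Q x (tv Q u z) := by
    rw [← pol_tv hq u (tv Q u x) z, tv_tv_self hq]
  rw [h2]
  rfl

/-- the rotation `t_u t_w` in closed form -/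
theorem tv_tv {u w : ι → ZMod 2} (huw : pol Q u w = 1) (x : ι → ZMod 2) :
    tv Q u (tv Q w x) = x + pol Q x w • w + (pol Q x u + pol Q x w) • u := by
  unfold tv
  rw [hq.add_left, pol_smul_left hq, pol_comm Q w u, huw, mul_one]

theorem tv_of_pol_one {u w : ι → ZMod 2} (huw : pol Q u w = 1) : tv Q u w = w + u := by
  unfold tv
  rw [pol_comm, huw, one_smul]

theorem tv_self (u : ι → ZMod 2) : tv Q u u = u := by
  unfold tv
  rw [hq.pol_self, zero_smul, add_zero]

theorem tv_cube {u w : ι → ZMod 2} (huw : pol Q u w = 1) (x : ι → ZMod 2) :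
    tv Q u (tv Q w (tv Q u (tv Q w (tv Q u (tv Q w x))))) = x := by
  have hwu : pol Q w u = 1 := by rw [pol_comm, huw]
  have h3 : tv Q u (tv Q w u) = w := by
    rw [tv_of_pol_one hq hwu, tv_add hq, tv_self hq, tv_of_pol_one hq huw, add_comm w u, vadd_cancel']
  rw [tv_conj hq w u, tv_conj hq u (tv Q w u), h3, tv_tv_self hq]

theorem tv_tv0 {w z : ι → ZMod 2} (hwz : pol Q w z = 0) (y : ι → ZMod 2) :
    tv Q w (tv Q z y) = y + pol Q y z • z + pol Q y w • w := by
  unfold tv
  rw [hq.add_left, pol_smul_left hq, pol_comm Q z w, hwz, mul_zero, add_zero]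

theorem tv_sq0 {w z : ι → ZMod 2} (hwz : pol Q w z = 0) (y : ι → ZMod 2) :
    tv Q w (tv Q z (tv Q w (tv Q z y))) = y := by
  have hzw : pol Q z w = 0 := by rw [pol_comm, hwz]
  rw [tv_tv0 hq hwz, tv_tv0 hq hwz]
  simp only [hq.add_left, pol_smul_left hq, hq.pol_self, hwz, hzw, mul_zero, add_zero]
  ext i
  simp only [Pi.add_apply, Pi.smul_apply, smul_eq_mul]
  generalize pol Q y z = a
  generalize pol Q y w = b
  generalize y i = c
  generalize z i = d
  generalize w i = e
  revert a b c d e
  beta_reduce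
  decide

end quad

/-- admissible pairs: nonsingular vectors spanning an anisotropic line -/
def Adm (Q : (ι → ZMod 2) → ZMod 2) (u w : ι → ZMod 2) : Prop := Q u = 1 ∧ Q w = 1 ∧ pol Q u w = 1

/-- a group acting faithfully by isometries and containing the rotations -/
structure Data (G : Type*) [Group G] (Q : (ι → ZMod 2) → ZMod 2) where
  act : G → (ι → ZMod 2) → (ι → ZMod 2)
  act_one : ∀ x, act 1 x = x
  act_mul : ∀ g h x, act (g * h) x = act g (act h x)
  act_add : ∀ g x y, act g (x + y) = act g x + act g y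
  faithful : ∀ g h : G, (∀ x, act g x = act h x) → g = h
  hQ : ∀ g x, Q (act g x) = Q x
  r : (ι → ZMod 2) → (ι → ZMod 2) → G
  hr : ∀ u w, Adm Q u w → ∀ x, act (r u w) x = tv Q u (tv Q w x)

section adm

variable {Q : (ι → ZMod 2) → ZMod 2} (hq : IsQuad Q)

include hq

theorem Adm.symm {u w : ι → ZMod 2} (h : Adm Q u w) : Adm Q w u :=
  ⟨h.2.1, h.1, by rw [pol_comm]; exact h.2.2⟩

theorem Adm.q_add {u w : ι → ZMod 2} (h : Adm Q u w) : Q (u + w) = 1 := by
  rw [hq.q_add, h.1, h.2.1, h.2.2]
  decide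

theorem Adm.rot {u w : ι → ZMod 2} (h : Adm Q u w) : Adm Q w (u + w) := by
  refine ⟨h.2.1, h.q_add hq, ?_⟩
  rw [hq.add_right, hq.pol_self, add_zero, pol_comm]
  exact h.2.2

theorem Adm.rot' {u w : ι → ZMod 2} (h : Adm Q u w) : Adm Q (u + w) u := by
  have h1 := (h.rot hq).rot hq
  have h2 : w + (u + w) = u := by rw [add_comm u w, vadd_cancel']
  rw [h2] at h1
  exact h1

theorem tv_rot {u w : ι → ZMod 2} (h : Adm Q u w) (x : ι → ZMod 2) :
    tv Q u (tv Q w x) = tv Q w (tv Q (u + w) x) := by
  rw [tv_tv hq h.2.2, tv_tv hq (h.rot hq).2.2, hq.add_right, smul_add]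
  ext i
  simp only [Pi.add_apply, Pi.smul_apply, smul_eq_mul]
  generalize pol Q x u = a
  generalize pol Q x w = b
  generalize x i = c
  generalize u i = d
  generalize w i = e
  revert a b c d e
  beta_reduce
  decide

end adm

namespace Data

variable {G : Type*} [Group G] {Q : (ι → ZMod 2) → ZMod 2} (D : Data G Q) (hq : IsQuad Q)

theorem act_zero (g : G) : D.act g 0 = 0 := by
  have h := D.act_add g 0 0
  rw [add_zero] at h
  have h2 : D.act g 0 + D.act g 0 = 0 := vadd_self _
  rw [← h] at h2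
  exact h2

theorem act_smul (g : G) (a : ZMod 2) (x : ι → ZMod 2) : D.act g (a • x) = a • D.act g x := by
  rcases zmod2_cases a with rfl | rfl
  · rw [zero_smul, zero_smul, D.act_zero]
  · rw [one_smul, one_smul]

theorem act_inv_act (g : G) (x : ι → ZMod 2) : D.act g⁻¹ (D.act g x) = x := by
  rw [← D.act_mul, inv_mul_cancel, D.act_one]

theorem act_act_inv (g : G) (x : ι → ZMod 2) : D.act g (D.act g⁻¹ x) = x := by
  rw [← D.act_mul, mul_inv_cancel, D.act_one]

theorem pol_act (g : G) (x y : ι → ZMod 2) : pol Q (D.act g x) (D.act g y) = pol Q x y := by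
  unfold pol
  rw [← D.act_add, D.hQ, D.hQ, D.hQ]

theorem act_tv (g : G) (u x : ι → ZMod 2) : D.act g (tv Q u x) = tv Q (D.act g u) (D.act g x) := by
  unfold tv
  rw [D.act_add, D.act_smul, D.pol_act]

include hq

theorem r_mul_r {u w : ι → ZMod 2} (h : Adm Q u w) : D.r w u * D.r u w = 1 := by
  apply D.faithful
  intro x
  rw [D.act_mul, D.hr _ _ (h.symm hq), D.hr _ _ h, D.act_one, tv_tv_self hq, tv_tv_self hq]

theorem r_inv {u w : ι → ZMod 2} (h : Adm Q u w) : (D.r u w)⁻¹ = D.r w u :=
  (eq_inv_of_mul_eq_one_left (D.r_mul_r hq h)).symm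

theorem r_cube {u w : ι → ZMod 2} (h : Adm Q u w) : D.r u w * D.r u w * D.r u w = 1 := by
  apply D.faithful
  intro x
  rw [D.act_mul, D.act_mul, D.hr _ _ h, D.hr _ _ h, D.hr _ _ h, D.act_one, tv_cube hq h.2.2]

theorem r_rot {u w : ι → ZMod 2} (h : Adm Q u w) : D.r u w = D.r w (u + w) := by
  apply D.faithful
  intro x
  rw [D.hr _ _ h, D.hr _ _ (h.rot hq), tv_rot hq h]

theorem r_conj {u w : ι → ZMod 2} (h : Adm Q u w) (g : G) :
    g * D.r u w * g⁻¹ = D.r (D.act g u) (D.act g w) := by
  have h' : Adm Q (D.act g u) (D.act g w) := ⟨by rw [D.hQ]; exact h.1, by rw [D.hQ]; exact h.2.1,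
    by rw [D.pol_act]; exact h.2.2⟩
  apply D.faithful
  intro x
  rw [D.act_mul, D.act_mul, D.hr _ _ h, D.hr _ _ h', D.act_tv, D.act_tv, D.act_act_inv]

/-! ### crossed homomorphisms -/

section cocycle

variable (f : G → (ι → ZMod 2)) (hf : ∀ g h, f (g * h) = f g + D.act g (f h))

include hf

omit hq in
theorem f_one : f 1 = 0 := by
  have h := hf 1 1
  rw [mul_one, D.act_one] at h
  have h2 : f 1 + f 1 = 0 := vadd_self _
  rw [← h] at h2
  exact h2

omit hq in
theorem f_inv (g : G) : f g⁻¹ = D.act g⁻¹ (f g) := by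
  have h := hf g⁻¹ g
  rw [inv_mul_cancel, D.f_one f hf] at h
  exact veq_of_add_eq_zero h.symm

/-- the local fixed point of a rotation -/
def cc (f : G → (ι → ZMod 2)) (u w : ι → ZMod 2) : ι → ZMod 2 := D.act (D.r u w) (f (D.r u w))

theorem f_r {u w : ι → ZMod 2} (h : Adm Q u w) :
    f (D.r u w) = D.act (D.r u w) (D.cc f u w) + D.cc f u w := by
  have h1 := D.r_cube hq h
  have h2 : f (D.r u w * D.r u w * D.r u w) = 0 := by rw [h1, D.f_one f hf]
  rw [hf, hf, D.act_mul] at h2
  unfold cc
  -- h2 : f r + r f r + r r f r = 0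
  have h3 : f (D.r u w) + (D.act (D.r u w) (f (D.r u w)) +
      D.act (D.r u w) (D.act (D.r u w) (f (D.r u w)))) = 0 := by
    rw [← add_assoc]
    exact h2
  have h4 := veq_of_add_eq_zero h3
  exact h4.trans (add_comm _ _)

theorem f_r_formula {u w : ι → ZMod 2} (h : Adm Q u w) :
    f (D.r u w) = pol Q (D.cc f u w) w • w + (pol Q (D.cc f u w) u + pol Q (D.cc f u w) w) • u := by
  rw [D.f_r hq f hf h, D.hr _ _ h, tv_tv hq h.2.2]
  generalize D.cc f u w = c
  rw [add_comm, ← add_assoc, ← add_assoc, vadd_self, zero_add]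

omit hf in
theorem cc_rot {u w : ι → ZMod 2} (h : Adm Q u w) : D.cc f w (u + w) = D.cc f u w := by
  unfold cc
  rw [← D.r_rot hq h]

omit hf in
theorem act_prod {u w z : ι → ZMod 2} (h : Adm Q u w) (h' : Adm Q u z) (y : ι → ZMod 2) :
    D.act ((D.r u w)⁻¹ * D.r u z) y = tv Q w (tv Q z y) := by
  rw [D.act_mul, D.r_inv hq h, D.hr _ _ (h.symm hq), D.hr _ _ h', tv_tv_self hq]

theorem f_prod {u w z : ι → ZMod 2} (h : Adm Q u w) (h' : Adm Q u z) :
    f ((D.r u w)⁻¹ * D.r u z) =
      (D.act ((D.r u w)⁻¹ * D.r u z) (D.cc f u z) + D.cc f u z) +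
        ((pol Q (D.cc f u w) u + pol Q (D.cc f u z) u) • u +
          (pol Q (D.cc f u w) w + pol Q (D.cc f u w) u + pol Q (D.cc f u z) w +
            pol Q (D.cc f u z) u) • w) := by
  have hact : ∀ y, D.act (D.r u w)⁻¹ y = y + pol Q y u • u + (pol Q y w + pol Q y u) • w := by
    intro y
    rw [D.r_inv hq h, D.hr _ _ (h.symm hq), tv_tv hq (h.symm hq).2.2]
  rw [hf, D.f_inv f hf, D.f_r hq f hf h, D.f_r hq f hf h', D.act_add, D.act_add, D.act_inv_act,
    ← D.act_mul, hact (D.cc f u w), hact (D.cc f u z)]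
  generalize D.act ((D.r u w)⁻¹ * D.r u z) (D.cc f u z) = X
  generalize D.cc f u w = ca
  generalize D.cc f u z = cb
  ext i
  simp only [Pi.add_apply, Pi.smul_apply, smul_eq_mul]
  generalize pol Q ca u = a1
  generalize pol Q ca w = a2
  generalize pol Q cb u = b1
  generalize pol Q cb w = b2
  generalize X i = x
  generalize ca i = c1
  generalize cb i = c2
  generalize u i = d
  generalize w i = e
  revert a1 a2 b1 b2 x c1 c2 d e
  beta_reduce
  decide

theorem delta_zero_two {u w z : ι → ZMod 2} (h : Adm Q u w) (h' : Adm Q u z) (hwz : pol Q w z = 0)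
    (hne : z ≠ w) : pol Q (D.cc f u w) u + pol Q (D.cc f u z) u = 0 := by
  have hxx : ((D.r u w)⁻¹ * D.r u z) * ((D.r u w)⁻¹ * D.r u z) = 1 := by
    apply D.faithful
    intro y
    rw [D.act_mul, D.act_prod hq h h', D.act_prod hq h h', D.act_one, tv_sq0 hq hwz]
  have h0 : f (((D.r u w)⁻¹ * D.r u z) * ((D.r u w)⁻¹ * D.r u z)) = 0 := by rw [hxx, D.f_one f hf]
  rw [hf] at h0
  have hF := D.f_prod hq f hf h h'
  have hact := D.act_prod hq h h'
  have hxx' : ∀ y, D.act ((D.r u w)⁻¹ * D.r u z) (D.act ((D.r u w)⁻¹ * D.r u z) y) = y := by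
    intro y
    rw [← D.act_mul, hxx, D.act_one]
  generalize (D.r u w)⁻¹ * D.r u z = x at h0 hF hact hxx'
  generalize pol Q (D.cc f u w) u + pol Q (D.cc f u z) u = δ at hF ⊢
  generalize (pol Q (D.cc f u w) w + pol Q (D.cc f u w) u + pol Q (D.cc f u z) w +
    pol Q (D.cc f u z) u) = ε at hF
  generalize D.cc f u z = cb at hF
  generalize he : δ • u + ε • w = e at hF
  rw [hF, D.act_add, D.act_add, hxx'] at h0
  have h1 : D.act x e = e := by
    ext i
    have h2 := congrFun h0 i
    simp only [Pi.add_apply, Pi.zero_apply] at h2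
    generalize (D.act x cb) i = p1 at h2
    generalize cb i = p2 at h2
    generalize (D.act x e) i = p3 at h2 ⊢
    generalize e i = p4 at h2 ⊢
    revert p1 p2 p3 p4
    beta_reduce
    decide
  rw [hact, tv_tv0 hq hwz] at h1
  have h3 : pol Q e z • z + pol Q e w • w = 0 := by
    have h4 : e + (pol Q e z • z + pol Q e w • w) = e + 0 := by rw [add_zero, ← add_assoc]; exact h1
    exact add_left_cancel h4
  have hez : pol Q e z = δ := by
    rw [← he, hq.add_left, pol_smul_left hq, pol_smul_left hq, h'.2.2, hwz, mul_one, mul_zero, add_zero]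
  have hew : pol Q e w = δ := by
    rw [← he, hq.add_left, pol_smul_left hq, pol_smul_left hq, h.2.2, hq.pol_self, mul_one, mul_zero,
      add_zero]
  rw [hez, hew] at h3
  rcases zmod2_cases δ with hδ | hδ
  · exact hδ
  · exfalso
    rw [hδ, one_smul, one_smul] at h3
    exact hne (veq_of_add_eq_zero h3)

theorem delta_zero_three {u w z : ι → ZMod 2} (h : Adm Q u w) (h' : Adm Q u z) (hwz : pol Q w z = 1)
    (hne : u ≠ z + w) : pol Q (D.cc f u w) u + pol Q (D.cc f u z) u = 0 := by
  have hA : Adm Q w z := ⟨h.2.1, h'.2.1, hwz⟩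
  have hx : (D.r u w)⁻¹ * D.r u z = D.r w z := by
    apply D.faithful
    intro y
    rw [D.act_prod hq h h', D.hr _ _ hA]
  have hF := D.f_prod hq f hf h h'
  rw [hx, D.f_r_formula hq f hf hA, D.hr _ _ hA, tv_tv hq hwz] at hF
  generalize pol Q (D.cc f u w) u + pol Q (D.cc f u z) u = δ at hF ⊢
  generalize (pol Q (D.cc f u w) w + pol Q (D.cc f u w) u + pol Q (D.cc f u z) w +
    pol Q (D.cc f u z) u) = ε at hF
  generalize D.cc f u z = cb at hF
  generalize D.cc f w z = c' at hF
  have hE : δ • u + ε • w = (pol Q c' z + pol Q cb z) • z +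
      (pol Q c' w + pol Q c' z + pol Q cb w + pol Q cb z) • w := by
    ext i
    have h2 := congrFun hF i
    simp only [Pi.add_apply, Pi.smul_apply, smul_eq_mul] at h2 ⊢
    generalize pol Q c' z = a1 at h2 ⊢
    generalize pol Q c' w = a2 at h2 ⊢
    generalize pol Q cb z = a3 at h2 ⊢
    generalize pol Q cb w = a4 at h2 ⊢
    generalize cb i = p1 at h2
    generalize u i = p2 at h2 ⊢
    generalize w i = p3 at h2 ⊢
    generalize z i = p4 at h2 ⊢
    clear hF
    revert δ ε a1 a2 a3 a4 p1 p2 p3 p4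
    beta_reduce
    decide
  generalize pol Q c' z + pol Q cb z = s' at hE
  generalize pol Q c' w + pol Q c' z + pol Q cb w + pol Q cb z = t' at hE
  have hzw : pol Q z w = 1 := by rw [pol_comm, hwz]
  have e1 : δ = s' := by
    have h3 := congrArg (fun y => pol Q y w) hE
    simp only [hq.add_left, pol_smul_left hq, h.2.2, hq.pol_self, hzw, mul_one, mul_zero, add_zero] at h3
    exact h3
  have e2 : δ + ε = t' := by
    have h3 := congrArg (fun y => pol Q y z) hE
    simp only [hq.add_left, pol_smul_left hq, h'.2.2, hq.pol_self, hwz, mul_one, mul_zero, zero_add] at h3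
    exact h3
  rcases zmod2_cases δ with hδ | hδ
  · exact hδ
  · exfalso
    apply hne
    rw [← e1, ← e2, hδ, one_smul, one_smul] at hE
    rcases zmod2_cases ε with hε | hε
    · rw [hε, zero_smul, add_zero, add_zero, one_smul] at hE
      exact hE
    · rw [hε, one_smul] at hE
      have h5 : (1 : ZMod 2) + 1 = 0 := by decide
      rw [h5, zero_smul, add_zero] at hE
      rw [← hE, vadd_cancel]

theorem cc_same {w z : ι → ZMod 2} (h : Adm Q (z + w) w) :
    D.cc f (z + w) z = D.cc f (z + w) w := by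
  have h1 : (D.r (z + w) w)⁻¹ = D.r (z + w) z := by
    rw [D.r_inv hq h, D.r_rot hq (h.symm hq), add_comm z w, vadd_cancel']
  have h2 := D.r_cube hq h
  have h3 : (D.r (z + w) w)⁻¹ * (D.r (z + w) w)⁻¹ = D.r (z + w) w := by
    rw [← mul_inv_rev]
    exact (eq_inv_of_mul_eq_one_right h2).symm
  unfold cc
  rw [← h1, D.f_inv f hf, ← D.act_mul, h3]

theorem mu_indep {u w z : ι → ZMod 2} (h : Adm Q u w) (h' : Adm Q u z) :
    pol Q (D.cc f u w) u = pol Q (D.cc f u z) u := by
  have key : ∀ a b : ZMod 2, a + b = 0 → a = b := by decide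
  by_cases hzw : z = w
  · rw [hzw]
  rcases zmod2_cases (pol Q w z) with hwz | hwz
  · exact key _ _ (D.delta_zero_two hq f hf h h' hwz hzw)
  · by_cases hu : u = z + w
    · subst hu
      rw [D.cc_same hq f hf h]
    · exact key _ _ (D.delta_zero_three hq f hf h h' hwz hu)

/-- the global functional on nonsingular vectors -/
noncomputable def M (f : G → (ι → ZMod 2)) (u : ι → ZMod 2) : ZMod 2 :=
  open Classical in
  if h : ∃ w, Adm Q u w then pol Q (D.cc f u (Classical.choose h)) u else 0

theorem M_eq {u w : ι → ZMod 2} (h : Adm Q u w) : D.M f u = pol Q (D.cc f u w) u := by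
  have hex : ∃ w, Adm Q u w := ⟨w, h⟩
  unfold M
  rw [dif_pos hex]
  exact D.mu_indep hq f hf (Classical.choose_spec hex) h

theorem M_add {u w : ι → ZMod 2} (h : Adm Q u w) : D.M f (u + w) = D.M f u + D.M f w := by
  have h1 := h.rot' hq
  have h2 := h.rot hq
  rw [D.M_eq hq f hf h1, D.M_eq hq f hf h, D.M_eq hq f hf h2]
  have e1 : D.cc f (u + w) u = D.cc f u w := by
    have h3 := D.cc_rot hq f h1
    have h4 : u + w + u = w := by rw [add_comm u w, vadd_cancel]
    rw [h4] at h3
    exact h3.symm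
  have e2 : D.cc f w (u + w) = D.cc f u w := D.cc_rot hq f h
  rw [e1, e2, hq.add_right]

end cocycle

/-- **Vanishing of `H¹`**: every crossed homomorphism is principal. -/
theorem h1_vanish (H1 : ∀ x, (∀ u, Q u = 1 → pol Q x u = 0) → x = 0)
    (H2 : ∀ u, Q u = 1 → ∃ w, Q w = 1 ∧ pol Q u w = 1)
    (H3 : ∀ μ : (ι → ZMod 2) → ZMod 2, (∀ u w, Adm Q u w → μ (u + w) = μ u + μ w) →
      ∃ v, ∀ u, Q u = 1 → μ u = pol Q v u)
    (f : G → (ι → ZMod 2)) (hf : ∀ g h, f (g * h) = f g + D.act g (f h)) :
    ∃ v, ∀ g, f g = D.act g v - v := by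
  obtain ⟨v, hv⟩ := H3 (D.M f) (fun u w h => D.M_add hq f hf h)
  refine ⟨v, ?_⟩
  have hrv : ∀ u w, Adm Q u w → f (D.r u w) = D.act (D.r u w) v + v := by
    intro u w h
    rw [D.f_r_formula hq f hf h, D.hr _ _ h, tv_tv hq h.2.2]
    have e1 : pol Q (D.cc f u w) u = pol Q v u := by rw [← D.M_eq hq f hf h, hv u h.1]
    have e2 : pol Q (D.cc f u w) w = pol Q v w := by
      rw [← D.cc_rot hq f h, ← D.M_eq hq f hf (h.rot hq), hv w h.2.1]
    rw [e1, e2]
    rw [add_comm (v + pol Q v w • w + (pol Q v u + pol Q v w) • u) v, ← add_assoc, ← add_assoc, vadd_self,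
      zero_add]
  -- the difference vanishes on all rotations
  let f' : G → (ι → ZMod 2) := fun g => f g + (D.act g v + v)
  have hf'c : ∀ g h, f' (g * h) = f' g + D.act g (f' h) := by
    intro g h
    show f (g * h) + (D.act (g * h) v + v) = f g + (D.act g v + v) + D.act g (f h + (D.act h v + v))
    rw [hf, D.act_mul, D.act_add, D.act_add]
    generalize D.act g (D.act h v) = p1
    generalize D.act g (f h) = p2
    generalize D.act g v = p3
    generalize f g = p4
    ext i
    simp only [Pi.add_apply]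
    generalize p1 i = a1
    generalize p2 i = a2
    generalize p3 i = a3
    generalize p4 i = a4
    generalize v i = a5
    revert a1 a2 a3 a4 a5
    beta_reduce
    decide
  have hf'r : ∀ u w, Adm Q u w → f' (D.r u w) = 0 := by
    intro u w h
    show f (D.r u w) + (D.act (D.r u w) v + v) = 0
    rw [hrv u w h, vadd_self]
  intro g
  have hz : f' g = 0 := by
    apply H1
    intro u' hu'
    obtain ⟨w, hw, huw⟩ := H2 (D.act g⁻¹ u') (by rw [D.hQ]; exact hu')
    have hA : Adm Q (D.act g⁻¹ u') w := ⟨by rw [D.hQ]; exact hu', hw, huw⟩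
    have hconj := D.r_conj hq hA g
    rw [D.act_act_inv] at hconj
    have hA' : Adm Q u' (D.act g w) := by
      refine ⟨hu', by rw [D.hQ]; exact hw, ?_⟩
      have h1 := D.pol_act g (D.act g⁻¹ u') w
      rw [D.act_act_inv] at h1
      rw [h1]
      exact huw
    have h0 : f' (g * D.r (D.act g⁻¹ u') w * g⁻¹) = 0 := by
      rw [hconj]
      exact hf'r _ _ hA'
    rw [hf'c, hf'c, hf'r _ _ hA, D.act_zero, add_zero, D.f_inv f' hf'c, ← D.act_mul, hconj,
      D.hr _ _ hA', tv_tv hq hA'.2.2] at h0
    generalize f' g = y at h0 ⊢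
    have h1 : pol Q y (D.act g w) • D.act g w + (pol Q y u' + pol Q y (D.act g w)) • u' = 0 := by
      have h2 : y + (y + pol Q y (D.act g w) • D.act g w + (pol Q y u' + pol Q y (D.act g w)) • u') =
          y + (y + 0) := by rw [add_zero, vadd_self]; exact h0
      have h3 := add_left_cancel h2
      rw [add_assoc] at h3
      exact add_left_cancel h3
    have h4 := congrArg (fun t => pol Q t u') h1
    have hgw : pol Q (D.act g w) u' = 1 := by rw [pol_comm]; exact hA'.2.2
    simp only [hq.add_left, pol_smul_left hq, hgw, hq.pol_self, hq.pol_zero_left, mul_one, mul_zero,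
      add_zero] at h4
    have h5 := congrArg (fun t => pol Q t (D.act g w)) h1
    simp only [hq.add_left, pol_smul_left hq, hA'.2.2, hq.pol_self, hq.pol_zero_left, mul_one, mul_zero,
      zero_add] at h5
    rw [h4, add_zero] at h5
    exact h5
  have h6 : f g + (D.act g v + v) = 0 := hz
  rw [vsub_eq]
  exact veq_of_add_eq_zero h6

end Data

end Cfsg.Agent.Lib.Helper89.H1Orth
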