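import Cfsg.Agent.Lib.Helper89.H1Orth

/-!
# The rotation data of `Ω(Q)` over `F_2`, and the table criterion for `H3` (helper89)

* `isQuad_of_sum`: a form whose polar form is `Σ u_i v_{σ i}` is a nondegenerate quadratic form.
* `omegaData`: `Ω(Q)` (the commutator subgroup of the isometry group) with its action on `F_2^ι` and the rotations
  `t_u t_w = [t_w, t_u]`.
* `H3_of_table`: the linear extension property from a basis of nonsingular vectors and a height function.
* `omega_h1_vanish`: the resulting vanishing criterion for `H¹(Ω(Q), F_2^ι)`.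
-/

set_option autoImplicit false
set_option linter.unusedSectionVars false
set_option linter.unusedTactic false

namespace Cfsg.Agent.Lib.Helper89.H1Orth

open Cfsg.Agent.Lib.Helper89.QuadF2 Cfsg.Agent.Lib.Helper89.ESOut
open Matrix
open scoped commutatorElement

variable {ι : Type} [Fintype ι] [DecidableEq ι]

theorem isQuad_of_sum {Q : (ι → ZMod 2) → ZMod 2} (σ : Equiv.Perm ι)
    (hB : ∀ u v : ι → ZMod 2, Q (u + v) + Q u + Q v = ∑ i, u i * v (σ i)) : IsQuad Q where
  add_left u v w := by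
    unfold pol
    rw [hB, hB, hB, ← Finset.sum_add_distrib]
    apply Finset.sum_congr rfl
    intro i _
    rw [Pi.add_apply, add_mul]
  nondeg u h := by
    ext i
    have h1 := h (Pi.single (σ i) 1)
    unfold pol at h1
    rw [hB, Finset.sum_eq_single i] at h1
    · rw [Pi.single_eq_same, mul_one] at h1
      exact h1
    · intro j _ hj
      rw [Pi.single_eq_of_ne (fun h => hj (σ.injective h)), mul_zero]
    · intro hi
      exact absurd (Finset.mem_univ i) hi

section table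

variable {Q : (ι → ZMod 2) → ZMod 2} (hq : IsQuad Q)

include hq

theorem pol_sum_left {α : Type*} (s : Finset α) (c : α → ZMod 2) (x : α → (ι → ZMod 2)) (y : ι → ZMod 2) :
    pol Q (∑ i ∈ s, c i • x i) y = ∑ i ∈ s, c i * pol Q (x i) y := by
  classical
  induction s using Finset.induction_on with
  | empty => rw [Finset.sum_empty, Finset.sum_empty, hq.pol_zero_left]
  | insert a s ha ih =>
    rw [Finset.sum_insert ha, Finset.sum_insert ha, hq.add_left, pol_smul_left hq, ih]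

/-- the linear extension property from a basis of nonsingular vectors with a height function -/
theorem H3_of_table {d : ℕ} (b bs : Fin d → (ι → ZMod 2)) (ht : (ι → ZMod 2) → ℕ)
    (hdual : ∀ i j, pol Q (bs i) (b j) = if i = j then 1 else 0)
    (hb : ∀ i, Q (b i) = 1)
    (hstep : ∀ u, Q u = 1 → (∃ i, u = b i) ∨ ∃ i, pol Q (b i) u = 1 ∧ ht (u + b i) < ht u)
    (μ : (ι → ZMod 2) → ZMod 2) (hμ : ∀ u w, Adm Q u w → μ (u + w) = μ u + μ w) :
    ∃ v, ∀ u, Q u = 1 → μ u = pol Q v u := by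
  refine ⟨∑ i, μ (b i) • bs i, ?_⟩
  have hv : ∀ j, pol Q (∑ i, μ (b i) • bs i) (b j) = μ (b j) := by
    intro j
    rw [pol_sum_left hq]
    simp only [hdual, mul_ite, mul_one, mul_zero]
    rw [Finset.sum_ite_eq' Finset.univ j]
    simp
  generalize (∑ i, μ (b i) • bs i) = v at hv
  have key : ∀ n : ℕ, ∀ u, ht u = n → Q u = 1 → μ u = pol Q v u := by
    intro n
    induction n using Nat.strong_induction_on with
    | _ n ih =>
      intro u hn hu
      rcases hstep u hu with ⟨i, rfl⟩ | ⟨i, hi, hlt⟩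
      · exact (hv i).symm
      · have hiu : pol Q u (b i) = 1 := by rw [pol_comm]; exact hi
        have hQ' : Q (u + b i) = 1 := by
          rw [hq.q_add, hu, hb, hiu]
          decide
        have hA : Adm Q (u + b i) (b i) := by
          refine ⟨hQ', hb i, ?_⟩
          rw [hq.add_left, hq.pol_self, add_zero]
          exact hiu
        have h1 := ih (ht (u + b i)) (by rw [← hn]; exact hlt) (u + b i) rfl hQ'
        have h2 := hμ _ _ hA
        rw [vadd_cancel, h1, ← hv i, ← hq.add_right, vadd_cancel] at h2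
        exact h2
  intro u hu
  exact key (ht u) u rfl hu

end table

/-! ### the data of `Ω(Q)` -/

section omega

variable {Q : (ι → ZMod 2) → ZMod 2} (hq : IsQuad Q)

include hq

theorem Q_tv {u : ι → ZMod 2} (hu : Q u = 1) (x : ι → ZMod 2) : Q (tv Q u x) = Q x := by
  unfold tv
  rw [hq.q_add]
  rcases zmod2_cases (pol Q x u) with h0 | h1
  · rw [h0, zero_smul, hq.q_zero, hq.pol_zero_right, add_zero, add_zero]
  · rw [h1, one_smul, hu, h1]
    have : ∀ a : ZMod 2, a + 1 + 1 = a := by decide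
    exact this _

theorem exists_transvection {u : ι → ZMod 2} (hu : Q u = 1) :
    ∃ M : ↥(Cfsg.isometryGroup (ZMod 2) Q),
      (∀ x, ((M : Matrix.GeneralLinearGroup ι (ZMod 2)) : Matrix ι ι (ZMod 2)) *ᵥ x = tv Q u x) ∧
        M * M = 1 :=
  exists_isometry_of_additive (tv Q u) (tv_add hq u) (tv_tv_self hq u) (Q_tv hq hu)

/-- the transvection as an element of the isometry group -/
noncomputable def T (u : ι → ZMod 2) : ↥(Cfsg.isometryGroup (ZMod 2) Q) :=
  open Classical in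
  if hu : Q u = 1 then Classical.choose (exists_transvection hq hu) else 1

theorem T_mulVec {u : ι → ZMod 2} (hu : Q u = 1) (x : ι → ZMod 2) :
    ((T hq u : Matrix.GeneralLinearGroup ι (ZMod 2)) : Matrix ι ι (ZMod 2)) *ᵥ x = tv Q u x := by
  unfold T
  rw [dif_pos hu]
  exact (Classical.choose_spec (exists_transvection hq hu)).1 x

theorem T_mul_self {u : ι → ZMod 2} (hu : Q u = 1) : T hq u * T hq u = 1 := by
  unfold T
  rw [dif_pos hu]
  exact (Classical.choose_spec (exists_transvection hq hu)).2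

omit hq in
theorem isometry_ext {M N : ↥(Cfsg.isometryGroup (ZMod 2) Q)}
    (h : ∀ x, ((M : Matrix.GeneralLinearGroup ι (ZMod 2)) : Matrix ι ι (ZMod 2)) *ᵥ x =
      ((N : Matrix.GeneralLinearGroup ι (ZMod 2)) : Matrix ι ι (ZMod 2)) *ᵥ x) : M = N := by
  apply Subtype.ext
  apply Units.ext
  exact Coord.eq_of_mulVec h

omit hq in
theorem isometry_mul_mulVec (M N : ↥(Cfsg.isometryGroup (ZMod 2) Q)) (x : ι → ZMod 2) :
    (((M * N : ↥(Cfsg.isometryGroup (ZMod 2) Q)) : Matrix.GeneralLinearGroup ι (ZMod 2)) :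
      Matrix ι ι (ZMod 2)) *ᵥ x =
    ((M : Matrix.GeneralLinearGroup ι (ZMod 2)) : Matrix ι ι (ZMod 2)) *ᵥ
      (((N : Matrix.GeneralLinearGroup ι (ZMod 2)) : Matrix ι ι (ZMod 2)) *ᵥ x) := by
  rw [Subgroup.coe_mul, Units.val_mul, Matrix.mulVec_mulVec]

theorem T_inv {u : ι → ZMod 2} (hu : Q u = 1) : (T hq u)⁻¹ = T hq u :=
  (eq_inv_of_mul_eq_one_left (T_mul_self hq hu)).symm

/-- the rotation is a commutator -/
theorem T_mul_T_eq_commutator {u w : ι → ZMod 2} (h : Adm Q u w) :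
    T hq u * T hq w = ⁅T hq w, T hq u⁆ := by
  rw [commutatorElement_def, T_inv hq h.1, T_inv hq h.2.1]
  apply isometry_ext
  intro x
  have hwu : pol Q w u = 1 := (h.symm hq).2.2
  rw [isometry_mul_mulVec, isometry_mul_mulVec, isometry_mul_mulVec, isometry_mul_mulVec]
  simp only [T_mulVec hq h.1, T_mulVec hq h.2.1]
  have h1 : tv Q u (tv Q w (tv Q w (tv Q u (tv Q w (tv Q u (tv Q w (tv Q u x))))))) = tv Q u (tv Q w x) := by
    rw [tv_cube hq hwu]
  rw [tv_tv_self hq, tv_tv_self hq] at h1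
  exact h1.symm

theorem T_mul_T_mem {u w : ι → ZMod 2} (h : Adm Q u w) :
    T hq u * T hq w ∈ Cfsg.Omega (ZMod 2) Q := by
  rw [T_mul_T_eq_commutator hq h]
  exact Subgroup.commutator_mem_commutator (Subgroup.mem_top _) (Subgroup.mem_top _)

/-- `Ω(Q)` with its rotations -/
noncomputable def omegaData : Data ↥(Cfsg.Omega (ZMod 2) Q) Q where
  act g x := (((g : ↥(Cfsg.isometryGroup (ZMod 2) Q)) : Matrix.GeneralLinearGroup ι (ZMod 2)) :
    Matrix ι ι (ZMod 2)) *ᵥ x
  act_one x := by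
    show (((1 : ↥(Cfsg.isometryGroup (ZMod 2) Q)) : Matrix.GeneralLinearGroup ι (ZMod 2)) :
      Matrix ι ι (ZMod 2)) *ᵥ x = x
    rw [Subgroup.coe_one, Units.val_one, Matrix.one_mulVec]
  act_mul g h x := by
    show ((((g : ↥(Cfsg.isometryGroup (ZMod 2) Q)) * (h : ↥(Cfsg.isometryGroup (ZMod 2) Q)) :
      ↥(Cfsg.isometryGroup (ZMod 2) Q)) : Matrix.GeneralLinearGroup ι (ZMod 2)) :
      Matrix ι ι (ZMod 2)) *ᵥ x = _
    rw [isometry_mul_mulVec]
  act_add g x y := Matrix.mulVec_add _ x y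
  faithful g h hgh := by
    apply Subtype.ext
    exact isometry_ext hgh
  hQ g x := (mem_isometryGroup_iff _).1 (g : ↥(Cfsg.isometryGroup (ZMod 2) Q)).2 x
  r u w := open Classical in if h : Adm Q u w then ⟨T hq u * T hq w, T_mul_T_mem hq h⟩ else 1
  hr u w h x := by
    rw [dif_pos h]
    show (((T hq u * T hq w : ↥(Cfsg.isometryGroup (ZMod 2) Q)) : Matrix.GeneralLinearGroup ι (ZMod 2)) :
      Matrix ι ι (ZMod 2)) *ᵥ x = _
    rw [isometry_mul_mulVec, T_mulVec hq h.2.1, T_mulVec hq h.1]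

/-- **Vanishing criterion for `H¹(Ω(Q), F_2^ι)`** -/
theorem omega_h1_vanish {d : ℕ} (b bs : Fin d → (ι → ZMod 2)) (ht : (ι → ZMod 2) → ℕ)
    (hdual : ∀ i j, pol Q (bs i) (b j) = if i = j then 1 else 0)
    (hb : ∀ i, Q (b i) = 1)
    (hconn : ∀ i, ∃ j, pol Q (b i) (b j) = 1)
    (hspan : ∀ x : ι → ZMod 2, (∀ j, pol Q x (b j) = 0) → x = 0)
    (hstep : ∀ u, Q u = 1 → (∃ i, u = b i) ∨ ∃ i, pol Q (b i) u = 1 ∧ ht (u + b i) < ht u)
    (f : ↥(Cfsg.Omega (ZMod 2) Q) → (ι → ZMod 2))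
    (hf : ∀ g h : ↥(Cfsg.Omega (ZMod 2) Q), f (g * h) = f g +
      (((g : ↥(Cfsg.isometryGroup (ZMod 2) Q)) : Matrix.GeneralLinearGroup ι (ZMod 2)) :
        Matrix ι ι (ZMod 2)) *ᵥ (f h)) :
    ∃ v : ι → ZMod 2, ∀ g : ↥(Cfsg.Omega (ZMod 2) Q), f g =
      (((g : ↥(Cfsg.isometryGroup (ZMod 2) Q)) : Matrix.GeneralLinearGroup ι (ZMod 2)) :
        Matrix ι ι (ZMod 2)) *ᵥ v - v := by
  apply (omegaData hq).h1_vanish hq
  · intro x hx
    exact hspan x (fun j => hx (b j) (hb j))
  · intro u hu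
    rcases hstep u hu with ⟨i, rfl⟩ | ⟨i, hi, _⟩
    · obtain ⟨j, hj⟩ := hconn i
      exact ⟨b j, hb j, hj⟩
    · exact ⟨b i, hb i, by rw [pol_comm]; exact hi⟩
  · exact H3_of_table hq b bs ht hdual hb hstep
  · exact hf

end omega

end Cfsg.Agent.Lib.Helper89.H1Orth
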