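import Cfsg.Agent.Lib.Helper89.TransvCentGenES

/-!
# The centralizer of a transvection of `SL(n + 2, 2)` as a point stabilizer in a holomorph (helper89)

An element `g = gm x w v B` of the centralizer acts on `ZMod 2 × (Fin n → ZMod 2)` by the affine map
`p ↦ tau g + Lg g p`, where `Lg g (a, y) = (a + w ⬝ y, B y)` and `tau g = (x, v)`.  Every additive
bijection of `ZMod 2 × (Fin n → ZMod 2)` fixing `(1, 0)` is `Lg g` for some `g`.
-/

set_option autoImplicit false

namespace Cfsg.Agent.Lib.Helper89.TransvCentGen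

open Matrix

variable {n : ℕ}

abbrev Wn (n : ℕ) : Type := ZMod 2 × Vn n

section

variable {z0 : SLn (n + 2)}
  (hz0 : (z0 : Matrix (Fin (n + 2)) (Fin (n + 2)) (ZMod 2)) = Matrix.transvection 0 (Fin.succ 0) 1)

/-- the linear part of the affine action -/
def Lg (g : ↥(Cent z0)) (p : Wn n) : Wn n := (p.1 + pu g ⬝ᵥ p.2, blk g *ᵥ p.2)

/-- the translation part of the affine action -/
def tau (g : ↥(Cent z0)) : Wn n := (px g, pv g)

theorem Lg_add (g : ↥(Cent z0)) (p q : Wn n) : Lg g (p + q) = Lg g p + Lg g q := by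
  unfold Lg
  rw [Prod.fst_add, Prod.snd_add, dotProduct_add, Matrix.mulVec_add]
  ext1
  · show p.1 + q.1 + (pu g ⬝ᵥ p.2 + pu g ⬝ᵥ q.2) = p.1 + pu g ⬝ᵥ p.2 + (q.1 + pu g ⬝ᵥ q.2)
    abel
  · rfl

theorem Lg_fix (g : ↥(Cent z0)) : Lg g ((1, 0) : Wn n) = (1, 0) := by
  unfold Lg
  show ((1 : ZMod 2) + pu g ⬝ᵥ (0 : Vn n), blk g *ᵥ (0 : Vn n)) = (1, 0)
  rw [dotProduct_zero, Matrix.mulVec_zero, add_zero]

include hz0

theorem mat_mul_gen (g h : ↥(Cent z0)) :
    mat (g * h) = gm (px g + px h + pu g ⬝ᵥ pv h) (pu h + pu g ᵥ* blk h)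
      (pv g + blk g *ᵥ pv h) (blk g * blk h) := by
  rw [mat_mul, mat_eq_gm hz0 g, mat_eq_gm hz0 h, gm_mul]

theorem params_one : px (1 : ↥(Cent z0)) = 0 ∧ pu (1 : ↥(Cent z0)) = 0 ∧
    pv (1 : ↥(Cent z0)) = 0 :=
  params_of_mat hz0 (g := (1 : ↥(Cent z0))) (x := 0) (u := 0) (v := 0) (B := 1)
    (by rw [mat_one, gm_one])

theorem Lg_one (p : Wn n) : Lg (1 : ↥(Cent z0)) p = p := by
  unfold Lg
  rw [(params_one hz0).2.1, blk_one hz0, zero_dotProduct, add_zero, Matrix.one_mulVec]

theorem Lg_mul (g h : ↥(Cent z0)) (p : Wn n) : Lg (g * h) p = Lg g (Lg h p) := by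
  obtain ⟨_, e2, _⟩ := params_of_mat hz0 (mat_mul_gen hz0 g h)
  unfold Lg
  rw [e2, blk_mul hz0, add_dotProduct, ← Matrix.dotProduct_mulVec, ← Matrix.mulVec_mulVec]
  ext1
  · show p.1 + (pu h ⬝ᵥ p.2 + pu g ⬝ᵥ blk h *ᵥ p.2) = p.1 + pu h ⬝ᵥ p.2 + pu g ⬝ᵥ blk h *ᵥ p.2
    rw [add_assoc]
  · rfl

theorem tau_mul (g h : ↥(Cent z0)) : tau (g * h) = tau g + Lg g (tau h) := by
  obtain ⟨e1, _, e3⟩ := params_of_mat hz0 (mat_mul_gen hz0 g h)
  unfold tau Lg
  rw [e1, e3]
  ext1
  · show px g + px h + pu g ⬝ᵥ pv h = px g + (px h + pu g ⬝ᵥ pv h)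
    rw [add_assoc]
  · rfl

theorem tau_one : tau (1 : ↥(Cent z0)) = 0 := by
  unfold tau
  rw [(params_one hz0).1, (params_one hz0).2.2]
  rfl

/-- an element with trivial linear and translation parts is trivial -/
theorem eq_one_of_Lg_tau {g : ↥(Cent z0)} (hL : ∀ p, Lg g p = p) (ht : tau g = 0) : g = 1 := by
  have hx : px g = 0 := congrArg Prod.fst ht
  have hv : pv g = 0 := congrArg Prod.snd ht
  have hu : pu g = 0 := by
    funext k
    have := congrArg Prod.fst (hL (0, ek k))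
    unfold Lg at this
    simp only [zero_add] at this
    unfold ek at this
    rw [dotProduct_single_one] at this
    exact this
  have hB : blk g = 1 := by
    apply Matrix.mulVec_injective
    funext y
    have := congrArg Prod.snd (hL (0, y))
    unfold Lg at this
    rw [Matrix.one_mulVec]
    exact this
  apply mat_injective
  rw [mat_eq_gm hz0 g, hx, hu, hv, hB, mat_one, gm_one]

/-- every additive injection of `Wn n` fixing `(1, 0)` is the linear part of an element of the
centralizer, with arbitrary translation part -/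
theorem exists_of_additive (L : Wn n → Wn n) (hadd : ∀ p q, L (p + q) = L p + L q)
    (hinj : Function.Injective L) (hfix : L (1, 0) = (1, 0)) (τ : Wn n) :
    ∃ g : ↥(Cent z0), (∀ p, Lg g p = L p) ∧ tau g = τ := by
  have hL0 : L 0 = 0 := by
    have := hadd 0 0
    rw [add_zero] at this
    have h2 : L 0 + 0 = L 0 + L 0 := by rw [add_zero]; exact this
    exact (add_left_cancel h2).symm
  let Lh : Wn n →+ Wn n := { toFun := L, map_zero' := hL0, map_add' := hadd }
  have hsm : ∀ (c : ZMod 2) (q : Wn n), L (c • q) = c • L q := by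
    intro c q
    rcases zmod2_cases c with h | h
    · rw [h, zero_smul, zero_smul, hL0]
    · rw [h, one_smul, one_smul]
  set w : Vn n := fun k => (L (0, ek k)).1 with hw
  set Bm : Mn n := Matrix.of fun i k => (L (0, ek k)).2 i with hBm
  have hform : ∀ (a : ZMod 2) (y : Vn n), L (a, y) = (a + w ⬝ᵥ y, Bm *ᵥ y) := by
    intro a y
    have h1 : ((a, y) : Wn n) = a • ((1, 0) : Wn n) + ∑ k, y k • ((0, ek k) : Wn n) := by
      ext1
      · rw [Prod.fst_add, Prod.fst_sum]
        simp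
      · rw [Prod.snd_add, Prod.snd_sum]
        simp only [Prod.smul_snd, smul_zero, zero_add]
        funext i
        rw [Finset.sum_apply]
        unfold ek
        simp [Pi.single_apply]
    rw [h1, hadd, hsm, hfix]
    have h2 : L (∑ k, y k • ((0, ek k) : Wn n)) = ∑ k, y k • L (0, ek k) := by
      have := map_sum Lh (fun k => y k • ((0, ek k) : Wn n)) Finset.univ
      rw [show L (∑ k, y k • ((0, ek k) : Wn n)) = Lh (∑ k, y k • ((0, ek k) : Wn n)) from rfl, this]
      apply Finset.sum_congr rfl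
      intro k _
      exact hsm _ _
    rw [h2]
    ext1
    · rw [Prod.fst_add, Prod.fst_sum]
      simp only [Prod.smul_fst, smul_eq_mul, mul_one]
      show a + ∑ k, y k * w k = a + w ⬝ᵥ y
      rw [dotProduct]
      congr 1
      apply Finset.sum_congr rfl
      intro k _
      rw [mul_comm]
    · rw [Prod.snd_add, Prod.snd_sum]
      simp only [Prod.smul_snd, smul_zero, zero_add]
      funext i
      rw [Finset.sum_apply, Matrix.mulVec, dotProduct]
      apply Finset.sum_congr rfl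
      intro k _
      show y k * (L (0, ek k)).2 i = Bm i k * y k
      rw [mul_comm]
      rfl
  have hBinj : Function.Injective Bm.mulVec := by
    intro y y' hyy
    have h1 : L (w ⬝ᵥ y, y) = L (w ⬝ᵥ y', y') := by
      rw [hform, hform, CharTwo.add_self_eq_zero, CharTwo.add_self_eq_zero, hyy]
    exact congrArg Prod.snd (hinj h1)
  have hdet : Bm.det = 1 := by
    have hu := Matrix.mulVec_injective_iff_isUnit.mp hBinj
    rw [Matrix.isUnit_iff_isUnit_det] at hu
    exact zmod2_eq_one_of_ne_zero _ hu.ne_zero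
  let Bsl : SLn n := ⟨Bm, hdet⟩
  let g : ↥(Cent z0) := qel hz0 τ.1 0 τ.2 * (kelHom hz0 Bsl * qel hz0 0 w 0)
  have hmat : mat g = gm τ.1 w τ.2 Bm := by
    show mat (qel hz0 τ.1 0 τ.2 * (kelHom hz0 Bsl * qel hz0 0 w 0)) = _
    rw [mat_mul, mat_mul, mat_qel, mat_qel, mat_kelHom, gm_mul, gm_mul]
    simp only [Matrix.zero_vecMul, Matrix.mulVec_zero, dotProduct_zero, add_zero,
      Matrix.vecMul_one, mul_one, one_mul]
    rfl
  obtain ⟨e1, e2, e3⟩ := params_of_mat hz0 hmat
  have e4 := blk_of_mat hz0 hmat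
  refine ⟨g, ?_, ?_⟩
  · intro p
    unfold Lg
    rw [e2, e4]
    exact (hform p.1 p.2).symm
  · unfold tau
    rw [e1, e3]

end

end Cfsg.Agent.Lib.Helper89.TransvCentGen
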