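import Cfsg.Agent.Lib.Helper89.HolomorphCent

/-!
# Point stabilizers in the holomorph of an elementary abelian `2`-group (helper89)

If `G = U ⋊ M` with `U` elementary abelian of order `2 ^ (n + 1)` and `M` inducing faithfully the
full automorphism group of `U`, then the centralizer in `G` of an involution of `U` is isomorphic to
the centralizer of a transvection in `SL(n + 2, 2)`.
-/

set_option autoImplicit false

namespace Cfsg.Agent.Lib.Helper89.TransvCentGen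

open Matrix

/-- a split extension of a coordinatized elementary abelian `2`-group `U` by a complement `M`
inducing faithfully the full automorphism group of `U` -/
structure HoloData (G : Type*) [Group G] (n : ℕ) where
  U : Subgroup G
  M : Subgroup G
  normal : U.Normal
  comm : ∀ a ∈ U, ∀ b ∈ U, a * b = b * a
  inf_eq : U ⊓ M = ⊥
  sup_eq : U ⊔ M = ⊤
  faith : ∀ m ∈ M, (∀ u ∈ U, m * u * m⁻¹ = u) → m = 1
  full : ∀ φ : ↥U ≃* ↥U, ∃ m ∈ M, ∀ u : ↥U, ((φ u : ↥U) : G) = m * u * m⁻¹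
  ψ : ↥U ≃ Wn n
  ψ_mul : ∀ a b : ↥U, ψ (a * b) = ψ a + ψ b

namespace HoloData

variable {G : Type*} [Group G] {n : ℕ} (D : HoloData G n) {z0 : SLn (n + 2)}
  (hz0 : (z0 : Matrix (Fin (n + 2)) (Fin (n + 2)) (ZMod 2)) = Matrix.transvection 0 (Fin.succ 0) 1)

theorem ψ_one : D.ψ 1 = 0 := by
  have := D.ψ_mul 1 1
  rw [mul_one] at this
  have h2 : D.ψ 1 + 0 = D.ψ 1 + D.ψ 1 := by rw [add_zero]; exact this
  exact (add_left_cancel h2).symm

theorem ψ_symm_add (p q : Wn n) : D.ψ.symm (p + q) = D.ψ.symm p * D.ψ.symm q := by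
  apply D.ψ.injective
  rw [D.ψ_mul, Equiv.apply_symm_apply, Equiv.apply_symm_apply, Equiv.apply_symm_apply]

theorem ψ_symm_zero : D.ψ.symm 0 = 1 := by
  apply D.ψ.injective
  rw [Equiv.apply_symm_apply, D.ψ_one]

/-- the automorphism of `U` induced by an element of the centralizer of the transvection -/
def alpha (g : ↥(Cent z0)) : ↥D.U ≃* ↥D.U where
  toFun u := D.ψ.symm (Lg g (D.ψ u))
  invFun u := D.ψ.symm (Lg g⁻¹ (D.ψ u))
  left_inv u := by
    show D.ψ.symm (Lg g⁻¹ (D.ψ (D.ψ.symm (Lg g (D.ψ u))))) = u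
    rw [Equiv.apply_symm_apply, ← Lg_mul hz0, inv_mul_cancel, Lg_one hz0, Equiv.symm_apply_apply]
  right_inv u := by
    show D.ψ.symm (Lg g (D.ψ (D.ψ.symm (Lg g⁻¹ (D.ψ u))))) = u
    rw [Equiv.apply_symm_apply, ← Lg_mul hz0, mul_inv_cancel, Lg_one hz0, Equiv.symm_apply_apply]
  map_mul' a b := by
    show D.ψ.symm (Lg g (D.ψ (a * b))) = D.ψ.symm (Lg g (D.ψ a)) * D.ψ.symm (Lg g (D.ψ b))
    rw [D.ψ_mul, Lg_add, D.ψ_symm_add]

theorem alpha_apply (g : ↥(Cent z0)) (u : ↥D.U) : D.alpha hz0 g u = D.ψ.symm (Lg g (D.ψ u)) := rfl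

theorem alpha_mul (g h : ↥(Cent z0)) (u : ↥D.U) :
    D.alpha hz0 (g * h) u = D.alpha hz0 g (D.alpha hz0 h u) := by
  rw [alpha_apply, alpha_apply, alpha_apply, Equiv.apply_symm_apply, Lg_mul hz0]

/-- the element of `M` inducing `alpha g` -/
noncomputable def mu (g : ↥(Cent z0)) : G := Classical.choose (D.full (D.alpha hz0 g))

theorem mu_mem (g : ↥(Cent z0)) : D.mu hz0 g ∈ D.M :=
  (Classical.choose_spec (D.full (D.alpha hz0 g))).1

theorem mu_spec (g : ↥(Cent z0)) (u : ↥D.U) :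
    ((D.alpha hz0 g u : ↥D.U) : G) = D.mu hz0 g * u * (D.mu hz0 g)⁻¹ :=
  (Classical.choose_spec (D.full (D.alpha hz0 g))).2 u

omit hz0 in
theorem eq_of_conj_eq {m m' : G} (hm : m ∈ D.M) (hm' : m' ∈ D.M)
    (h : ∀ u ∈ D.U, m * u * m⁻¹ = m' * u * m'⁻¹) : m = m' := by
  have h1 : m'⁻¹ * m = 1 := by
    apply D.faith _ (D.M.mul_mem (D.M.inv_mem hm') hm)
    intro u hu
    calc m'⁻¹ * m * u * (m'⁻¹ * m)⁻¹ = m'⁻¹ * (m * u * m⁻¹) * m' := by group
      _ = m'⁻¹ * (m' * u * m'⁻¹) * m' := by rw [h u hu]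
      _ = u := by group
  calc m = m' * (m'⁻¹ * m) := by group
    _ = m' := by rw [h1, mul_one]

theorem mu_mul (g h : ↥(Cent z0)) : D.mu hz0 (g * h) = D.mu hz0 g * D.mu hz0 h := by
  apply D.eq_of_conj_eq (D.mu_mem hz0 _) (D.M.mul_mem (D.mu_mem hz0 _) (D.mu_mem hz0 _))
  intro u hu
  have h1 := D.mu_spec hz0 (g * h) ⟨u, hu⟩
  rw [D.alpha_mul hz0, D.mu_spec hz0 g, D.mu_spec hz0 h] at h1
  rw [← h1]
  show D.mu hz0 g * (D.mu hz0 h * u * (D.mu hz0 h)⁻¹) * (D.mu hz0 g)⁻¹ = _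
  group

/-- the embedding of the centralizer of the transvection into `G` -/
noncomputable def Psi (g : ↥(Cent z0)) : G := (D.ψ.symm (tau g) : G) * D.mu hz0 g

theorem Psi_mul (g h : ↥(Cent z0)) : D.Psi hz0 (g * h) = D.Psi hz0 g * D.Psi hz0 h := by
  unfold Psi
  rw [tau_mul hz0, D.ψ_symm_add, D.mu_mul hz0]
  have h1 : ((D.ψ.symm (Lg g (tau h)) : ↥D.U) : G) =
      D.mu hz0 g * (D.ψ.symm (tau h) : G) * (D.mu hz0 g)⁻¹ := by
    rw [← D.mu_spec hz0 g, alpha_apply, Equiv.apply_symm_apply]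
  rw [Subgroup.coe_mul, h1]
  group

/-- the embedding as a homomorphism -/
noncomputable def PsiHom : ↥(Cent z0) →* G := MonoidHom.mk' (D.Psi hz0) (D.Psi_mul hz0)

theorem PsiHom_apply (g : ↥(Cent z0)) : D.PsiHom hz0 g = D.Psi hz0 g := rfl

theorem PsiHom_injective : Function.Injective (D.PsiHom hz0) := by
  rw [injective_iff_map_eq_one]
  intro g hg
  rw [PsiHom_apply] at hg
  unfold Psi at hg
  -- the two factors are trivial
  have hmem : ((D.ψ.symm (tau g) : ↥D.U) : G) ∈ D.U ⊓ D.M := by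
    refine ⟨(D.ψ.symm (tau g)).2, ?_⟩
    have : ((D.ψ.symm (tau g) : ↥D.U) : G) = (D.mu hz0 g)⁻¹ := eq_inv_of_mul_eq_one_left hg
    rw [this]
    exact D.M.inv_mem (D.mu_mem hz0 g)
  rw [D.inf_eq, Subgroup.mem_bot] at hmem
  have hmu : D.mu hz0 g = 1 := by
    rw [hmem, one_mul] at hg
    exact hg
  have ht : tau g = 0 := by
    have h1 : D.ψ.symm (tau g) = 1 := Subtype.ext hmem
    have h2 := congrArg D.ψ h1
    rw [Equiv.apply_symm_apply, D.ψ_one] at h2
    exact h2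
  have hL : ∀ p, Lg g p = p := by
    intro p
    have h1 := D.mu_spec hz0 g (D.ψ.symm p)
    rw [hmu, one_mul, inv_one, mul_one, alpha_apply, Equiv.apply_symm_apply] at h1
    have h2 : D.ψ.symm (Lg g p) = D.ψ.symm p := Subtype.ext h1
    exact D.ψ.symm.injective h2
  exact eq_one_of_Lg_tau hz0 hL ht

/-- the involution corresponding to `(1, 0)` -/
def zU : ↥D.U := D.ψ.symm (1, 0)

theorem Psi_mem_centralizer (g : ↥(Cent z0)) :
    D.Psi hz0 g ∈ Subgroup.centralizer ({(D.zU : G)} : Set G) := by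
  rw [Subgroup.mem_centralizer_singleton_iff]
  unfold Psi
  have h1 : D.mu hz0 g * (D.zU : G) * (D.mu hz0 g)⁻¹ = (D.zU : G) := by
    rw [← D.mu_spec hz0 g, alpha_apply]
    unfold zU
    rw [Equiv.apply_symm_apply, Lg_fix]
  have h2 : ((D.ψ.symm (tau g) : ↥D.U) : G) * (D.zU : G) = (D.zU : G) * (D.ψ.symm (tau g) : G) :=
    D.comm _ (D.ψ.symm (tau g)).2 _ D.zU.2
  calc ((D.ψ.symm (tau g) : ↥D.U) : G) * D.mu hz0 g * (D.zU : G)
      = (D.ψ.symm (tau g) : G) * (D.mu hz0 g * (D.zU : G) * (D.mu hz0 g)⁻¹) * D.mu hz0 g := by group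
    _ = (D.ψ.symm (tau g) : G) * (D.zU : G) * D.mu hz0 g := by rw [h1]
    _ = (D.zU : G) * (D.ψ.symm (tau g) : G) * D.mu hz0 g := by rw [h2]
    _ = (D.zU : G) * ((D.ψ.symm (tau g) : G) * D.mu hz0 g) := by group

theorem exists_Psi_eq {c : G} (hc : c ∈ Subgroup.centralizer ({(D.zU : G)} : Set G)) :
    ∃ g : ↥(Cent z0), D.Psi hz0 g = c := by
  have hN := D.normal
  have hcz : c * (D.zU : G) = (D.zU : G) * c := Subgroup.mem_centralizer_singleton_iff.mp hc
  -- decompose `c = u * m`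
  have hcm : c ∈ ((D.U ⊔ D.M : Subgroup G) : Set G) := by
    rw [D.sup_eq]; exact Set.mem_univ _
  rw [Subgroup.normal_mul] at hcm
  obtain ⟨u, hu, m, hm, rfl⟩ := Set.mem_mul.mp hcm
  have huz : u * (D.zU : G) = (D.zU : G) * u := D.comm _ hu _ D.zU.2
  have hmz : m * (D.zU : G) * m⁻¹ = (D.zU : G) := by
    have h1 : u * (m * (D.zU : G)) = u * ((D.zU : G) * m) := by
      calc u * (m * (D.zU : G)) = u * m * (D.zU : G) := by group
        _ = (D.zU : G) * (u * m) := hcz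
        _ = (D.zU : G) * u * m := by group
        _ = u * (D.zU : G) * m := by rw [huz]
        _ = u * ((D.zU : G) * m) := by group
    have h2 := mul_left_cancel h1
    rw [h2]; group
  -- the automorphism induced by `m`
  let β : ↥D.U ≃* ↥D.U := MulAut.conjNormal m
  have hβ : ∀ x : ↥D.U, ((β x : ↥D.U) : G) = m * x * m⁻¹ := fun x => MulAut.conjNormal_apply m x
  let L : Wn n → Wn n := fun p => D.ψ (β (D.ψ.symm p))
  have hadd : ∀ p q, L (p + q) = L p + L q := by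
    intro p q
    show D.ψ (β (D.ψ.symm (p + q))) = D.ψ (β (D.ψ.symm p)) + D.ψ (β (D.ψ.symm q))
    rw [D.ψ_symm_add, map_mul, D.ψ_mul]
  have hinj : Function.Injective L := by
    intro p q hpq
    exact D.ψ.symm.injective (β.injective (D.ψ.injective hpq))
  have hfix : L (1, 0) = (1, 0) := by
    show D.ψ (β (D.ψ.symm (1, 0))) = (1, 0)
    have : β (D.ψ.symm (1, 0)) = D.ψ.symm (1, 0) := by
      apply Subtype.ext
      rw [hβ]
      exact hmz
    rw [this, Equiv.apply_symm_apply]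
  obtain ⟨g, hgL, hgt⟩ := exists_of_additive hz0 L hadd hinj hfix (D.ψ ⟨u, hu⟩)
  refine ⟨g, ?_⟩
  unfold Psi
  rw [hgt, Equiv.symm_apply_apply]
  have hmu : D.mu hz0 g = m := by
    apply D.eq_of_conj_eq (D.mu_mem hz0 g) hm
    intro x hx
    rw [← D.mu_spec hz0 g ⟨x, hx⟩, alpha_apply, hgL]
    show ((D.ψ.symm (D.ψ (β (D.ψ.symm (D.ψ ⟨x, hx⟩)))) : ↥D.U) : G) = _
    rw [Equiv.symm_apply_apply, Equiv.symm_apply_apply, hβ]
  rw [hmu]

include hz0 in
/-- the centralizer of the involution `zU` is isomorphic to the centralizer of the transvection -/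
theorem exists_iso :
    Nonempty (↥(Subgroup.centralizer ({(D.zU : G)} : Set G)) ≃* ↥(Cent z0)) := by
  have hrange : (D.PsiHom hz0).range = Subgroup.centralizer ({(D.zU : G)} : Set G) := by
    ext c
    constructor
    · rintro ⟨g, rfl⟩
      exact D.Psi_mem_centralizer hz0 g
    · intro hc
      obtain ⟨g, hg⟩ := D.exists_Psi_eq hz0 hc
      exact ⟨g, hg⟩
  exact ⟨((MonoidHom.ofInjective (D.PsiHom_injective hz0)).trans
    (MulEquiv.subgroupCongr hrange)).symm⟩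

end HoloData

end Cfsg.Agent.Lib.Helper89.TransvCentGen
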