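/-
helper89: the 9-dimensional matrix group 3·J3 over the concrete field with four elements lies in the
special unitary group; conditional packaging of statement S0478 (from the conclusion of S1625).
-/
import Mathlib
import Cfsg.Prelude.Def_Spor_J3
import Cfsg.Prelude.Def_Classical
import Cfsg.Prelude.Def_Sporadic
import Cfsg.Agent.Lib.Helper56.F4

set_option autoImplicit false
open Cfsg Cfsg.Spor Matrix
open Cfsg.Agent.Lib.Helper56

namespace Cfsg.Agent.Lib.Helper89.J3Unitary

instance charTwoF4 : CharP F4 2 :=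
  CharTwo.of_one_ne_zero_of_two_eq_zero (by decide) (by decide)

/-- unitarity in matrix form -/
def IsU (M : Matrix F9 F9 F4) : Prop := M.transpose * M.map (fun x => x ^ 2) = 1

instance (M : Matrix F9 F9 F4) : Decidable (IsU M) := by unfold IsU; infer_instance

/-- the Hermitian form on `F9 → F4` -/
def herm9 (u v : F9 → F4) : F4 := ∑ z, u z * v z ^ 2

theorem herm9_eq (u v : F9 → F4) : herm9 u v = u ⬝ᵥ (fun z => v z ^ 2) := rfl

theorem sq_mulVec (M : Matrix F9 F9 F4) (v : F9 → F4) :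
    (fun z => (M *ᵥ v) z ^ 2) = (M.map (fun x => x ^ 2)) *ᵥ (fun z => v z ^ 2) := by
  funext z
  simp only [Matrix.mulVec, dotProduct, Matrix.map_apply]
  rw [CharTwo.sum_sq]
  exact Finset.sum_congr rfl (fun i _ => mul_pow _ _ _)

theorem herm9_of_isU {M : Matrix F9 F9 F4} (h : IsU M) (u v : F9 → F4) :
    herm9 (M *ᵥ u) (M *ᵥ v) = herm9 u v := by
  rw [herm9_eq, herm9_eq, sq_mulVec, ← Matrix.vecMul_transpose, ← Matrix.dotProduct_mulVec,
    Matrix.mulVec_mulVec, h, Matrix.one_mulVec]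

/-- the subgroup of `GL F9 F4` of unitary matrices of determinant one -/
def SU9 : Subgroup (GL F9 F4) :=
  Cfsg.preserving (Units.coeHom (Matrix F9 F9 F4)) herm9 ⊓ (Matrix.GeneralLinearGroup.det).ker

theorem mem_SU9_of {g : GL F9 F4} (hU : IsU (g : Matrix F9 F9 F4))
    (hd : (g : Matrix F9 F9 F4).det = 1) : g ∈ SU9 := by
  refine Subgroup.mem_inf.mpr ⟨?_, ?_⟩
  · intro u v
    exact herm9_of_isU hU u v
  · rw [MonoidHom.mem_ker]
    apply Units.ext
    simpa using hd

/-! ### the generators are unitary -/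

set_option maxRecDepth 100000 in
theorem isU_A : ∀ Z : F9, IsU (j3A F4 F4.w Z) := by decide +kernel

set_option maxRecDepth 100000 in
theorem isU_E : ∀ Z : F9, IsU (j3E F4 F4.w Z) := by decide +kernel

set_option maxRecDepth 100000 in
theorem isU_D : ∀ Z : F9, IsU (j3D F4 F4.w Z) := by decide +kernel

set_option maxRecDepth 100000 in
theorem isU_B : ∀ Z : F9, Z ≠ 0 → IsU (j3B F4 Z) := by decide +kernel

set_option maxRecDepth 100000 in
theorem isU_C : ∀ Z : F9, Z ≠ 0 → IsU (j3C F4 Z) := by decide +kernel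

/-! ### the generators have determinant one -/

set_option maxRecDepth 100000 in
theorem prod_A : ∀ Z : F9, ∏ z : F9, omegaPow F4 F4.w (Z.1 * z.1 + Z.2 * z.2) = 1 := by
  decide +kernel

set_option maxRecDepth 100000 in
theorem prod_E : ∀ Z : F9,
    ∏ z : F9, omegaPow F4 F4.w ((Z.1 - z.1) ^ 2 + (Z.2 - z.2) ^ 2) = 1 := by
  decide +kernel

set_option maxRecDepth 100000 in
theorem prod_D : ∀ Z : F9, ∏ z : F9, j3Lam F4 F4.w Z z = 1 := by
  decide +kernel

theorem det_A (Z : F9) : (j3A F4 F4.w Z).det = 1 := by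
  rw [j3A, Matrix.det_diagonal]; exact prod_A Z

theorem det_E (Z : F9) : (j3E F4 F4.w Z).det = 1 := by
  rw [j3E, Matrix.det_diagonal]; exact prod_E Z

theorem sign_cast_F4 (σ : Equiv.Perm F9) : ((Equiv.Perm.sign σ : ℤ) : F4) = 1 := by
  rcases Int.units_eq_one_or (Equiv.Perm.sign σ) with h | h
  · rw [h]; simp
  · rw [h]; simp only [Units.val_neg, Units.val_one, Int.cast_neg, Int.cast_one]; decide

theorem j3D_eq (Z : F9) :
    j3D F4 F4.w Z = (Matrix.diagonal (j3Lam F4 F4.w Z)).submatrix (Equiv.subRight Z) id := by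
  ext a b
  simp only [j3D, Matrix.of_apply, Matrix.submatrix_apply, Matrix.diagonal_apply, id_eq,
    Equiv.subRight_apply]
  by_cases h : a = b + Z
  · subst h
    simp only [add_sub_cancel_right, if_true]
  · rw [if_neg h, if_neg (fun h' => h (by rw [← h']; abel))]

theorem det_D (Z : F9) : (j3D F4 F4.w Z).det = 1 := by
  rw [j3D_eq, Matrix.det_permute, Matrix.det_diagonal, prod_D, mul_one]
  exact sign_cast_F4 _

set_option maxRecDepth 100000 in
theorem pow8_B : ∀ Z : F9, Z ≠ 0 →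
    ((j3B F4 Z * j3B F4 Z) * (j3B F4 Z * j3B F4 Z)) *
      ((j3B F4 Z * j3B F4 Z) * (j3B F4 Z * j3B F4 Z)) = 1 := by decide +kernel

set_option maxRecDepth 100000 in
theorem sq_C : ∀ Z : F9, Z ≠ 0 → j3C F4 Z * j3C F4 Z = 1 := by decide +kernel

theorem F4_pow8 : ∀ x : F4, ((x * x) * (x * x)) * ((x * x) * (x * x)) = 1 → x = 1 := by decide

theorem F4_sq : ∀ x : F4, x * x = 1 → x = 1 := by decide

theorem det_B (Z : F9) (hZ : Z ≠ 0) : (j3B F4 Z).det = 1 := by
  apply F4_pow8
  have h := congrArg Matrix.det (pow8_B Z hZ)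
  simpa only [Matrix.det_mul, Matrix.det_one] using h

theorem det_C (Z : F9) (hZ : Z ≠ 0) : (j3C F4 Z).det = 1 := by
  apply F4_sq
  have h := congrArg Matrix.det (sq_C Z hZ)
  simpa only [Matrix.det_mul, Matrix.det_one] using h

theorem threeJ3_le : threeJ3 F4 F4.w ≤ SU9 := by
  unfold threeJ3
  rw [Subgroup.closure_le]
  intro g hg
  simp only [Set.mem_ofPred_eq, j3Gens] at hg
  rcases hg with (((⟨Z, hZ⟩ | ⟨Z, hZ⟩) | ⟨Z, hZ⟩) | ⟨Z, hZ0, hZ⟩) | ⟨Z, hZ0, hZ⟩
  · exact mem_SU9_of (hZ ▸ isU_A Z) (hZ ▸ det_A Z)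
  · exact mem_SU9_of (hZ ▸ isU_E Z) (hZ ▸ det_E Z)
  · exact mem_SU9_of (hZ ▸ isU_D Z) (hZ ▸ det_D Z)
  · exact mem_SU9_of (hZ ▸ isU_B Z hZ0) (hZ ▸ det_B Z hZ0)
  · exact mem_SU9_of (hZ ▸ isU_C Z hZ0) (hZ ▸ det_C Z hZ0)

/-! ### transport to `SU 9 F4 2` -/

/-- an identification of the index set with `Fin 9` -/
noncomputable def e9 : F9 ≃ Fin 9 := Fintype.equivFinOfCardEq (by decide)

theorem hermForm_comp (x y : F9 → F4) :
    hermForm 9 F4 2 (x ∘ e9.symm) (y ∘ e9.symm) = herm9 x y := by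
  unfold hermForm herm9
  exact Equiv.sum_comp e9.symm (fun z => x z * y z ^ 2)

theorem herm_reindex (M : Matrix F9 F9 F4)
    (hM : ∀ u v, herm9 (M *ᵥ u) (M *ᵥ v) = herm9 u v) (u v : Fin 9 → F4) :
    hermForm 9 F4 2 ((Matrix.reindexAlgEquiv F4 F4 e9 M) *ᵥ u)
      ((Matrix.reindexAlgEquiv F4 F4 e9 M) *ᵥ v) = hermForm 9 F4 2 u v := by
  rw [Matrix.coe_reindexAlgEquiv, Matrix.reindex_apply, Matrix.submatrix_mulVec_equiv,
    Matrix.submatrix_mulVec_equiv, hermForm_comp, hM, ← hermForm_comp]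
  congr 1 <;> · funext i; simp

theorem det_of_mem_SU9 {g : GL F9 F4} (hg : g ∈ SU9) : (g : Matrix F9 F9 F4).det = 1 := by
  have h := (Subgroup.mem_inf.mp hg).2
  rw [MonoidHom.mem_ker] at h
  have h2 := congrArg Units.val h
  simpa using h2

theorem pres_of_mem_SU9 {g : GL F9 F4} (hg : g ∈ SU9) (u v : F9 → F4) :
    herm9 ((g : Matrix F9 F9 F4) *ᵥ u) ((g : Matrix F9 F9 F4) *ᵥ v) = herm9 u v :=
  (Subgroup.mem_inf.mp hg).1 u v

/-- reindexing, into the special linear group -/
noncomputable def toSL : SU9 →* Matrix.SpecialLinearGroup (Fin 9) F4 where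
  toFun g := ⟨Matrix.reindexAlgEquiv F4 F4 e9 (g.1 : Matrix F9 F9 F4), by
    rw [Matrix.det_reindexAlgEquiv]; exact det_of_mem_SU9 g.2⟩
  map_one' := by
    apply Subtype.ext
    simp
  map_mul' a b := by
    apply Subtype.ext
    simp only [Subgroup.coe_mul, Units.val_mul, map_mul]
    rfl

theorem toSL_val (g : SU9) :
    ((toSL g : Matrix.SpecialLinearGroup (Fin 9) F4) : Matrix (Fin 9) (Fin 9) F4) =
      Matrix.reindexAlgEquiv F4 F4 e9 (g.1 : Matrix F9 F9 F4) := rfl

theorem toSL_mem (g : SU9) : toSL g ∈ Cfsg.SU 9 F4 2 := by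
  intro u v
  exact herm_reindex _ (pres_of_mem_SU9 g.2) u v

/-- reindexing, into the special unitary group -/
noncomputable def toSU : SU9 →* Cfsg.SU 9 F4 2 := toSL.codRestrict _ toSL_mem

theorem toSU_injective : Function.Injective toSU := by
  intro a b hab
  have h1 : toSL a = toSL b := congrArg Subtype.val hab
  have h2 := congrArg Subtype.val h1
  rw [toSL_val, toSL_val] at h2
  have h3 := (Matrix.reindexAlgEquiv F4 F4 e9).injective h2
  exact Subtype.ext (Units.ext h3)

/-- the embedding of `3·J3` in the special unitary group -/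
noncomputable def emb : threeJ3 F4 F4.w →* Cfsg.SU 9 F4 2 :=
  toSU.comp (Subgroup.inclusion threeJ3_le)

theorem emb_injective : Function.Injective emb :=
  toSU_injective.comp (Subgroup.inclusion_injective threeJ3_le)

theorem map_center_equiv {G H : Type*} [Group G] [Group H] (θ : G ≃* H) :
    (Subgroup.center G).map (θ : G →* H) = Subgroup.center H := by
  ext x
  simp only [Subgroup.mem_map, Subgroup.mem_center_iff]
  constructor
  · rintro ⟨z, hz, rfl⟩ g
    obtain ⟨g', rfl⟩ := θ.surjective g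
    simp only [MonoidHom.coe_coe, ← map_mul, hz]
  · intro hx
    refine ⟨θ.symm x, fun g => ?_, by simp⟩
    apply θ.injective
    simp [hx]

/-- Statement S0478, from the conclusion of S1625 at the concrete field with four elements. -/
theorem s0478_of
    (h : Nat.card ↥(Subgroup.center ↥(threeJ3 F4 F4.w)) = 3 ∧
      Nat.card ↥(threeJ3 F4 F4.w) = 150698880 ∧
      Nat.card (J3 F4 F4.w) = 50232960 ∧ IsSimpleGroup (J3 F4 F4.w)) :
    ∃ (F : Type) (_ : Field F) (_ : Fintype F), Fintype.card F = 4 ∧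
      ∃ H : Subgroup (Cfsg.SU 9 F 2), Nat.card (Subgroup.center H) = 3 ∧
        Cfsg.IsJ3 (H ⧸ Subgroup.center H) := by
  obtain ⟨h1, -, h3, h4⟩ := h
  let θ : threeJ3 F4 F4.w ≃* emb.range := MonoidHom.ofInjective emb_injective
  let q : J3 F4 F4.w ≃* (emb.range ⧸ Subgroup.center emb.range) :=
    QuotientGroup.congr _ _ θ (map_center_equiv θ)
  refine ⟨F4, inferInstance, inferInstance, F4.card, emb.range, ?_, ?_, ?_⟩
  · exact (Nat.card_congr (Subgroup.centerCongr θ).symm.toEquiv).trans h1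
  · exact q.isSimpleGroup_congr.mp h4
  · exact (Nat.card_congr q.symm.toEquiv).trans h3

end Cfsg.Agent.Lib.Helper89.J3Unitary
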