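import Mathlib
import Cfsg.Agent.Lib.Helper79.Schur

/-!
# The class-equation counting trick (helper89, for helper29's project M22B / S5005)

`G` a finite group, `r 0, …, r (k-1)` elements such that every element of `G` is conjugate to some
`r i`, and numbers `c i ∣ |G|` with `c i ≤ |C(r i)|` and `∑ |G| / c i ≤ |G|`.  Then `|C(r i)| = c i`,
the `r i` are pairwise non-conjugate, and `∑_g f g = ∑_i (|G| / c i) f (r i)` for class functions.
-/

set_option autoImplicit false

namespace Cfsg.Agent.Lib.Helper89.ClassCount

open Cfsg.Agent.Lib.Helper79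

variable {G : Type*} [Group G] [Fintype G]

theorem card_centralizer_mul_card_conjFinset (x : G) :
    Nat.card (Subgroup.centralizer ({x} : Set G)) * (conjFinset x).card = Fintype.card G := by
  rw [card_conjFinset, Subgroup.card_mul_index, Nat.card_eq_fintype_card]

theorem card_conjFinset_eq_div (x : G) :
    (conjFinset x).card = Fintype.card G / Nat.card (Subgroup.centralizer ({x} : Set G)) := by
  have h := card_centralizer_mul_card_conjFinset x
  have hpos : 0 < Nat.card (Subgroup.centralizer ({x} : Set G)) := Nat.card_pos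
  rw [← h, Nat.mul_div_cancel_left _ hpos]

theorem conjFinset_eq_of_isConj {x y : G} (h : IsConj x y) : conjFinset x = conjFinset y := by
  ext z
  rw [mem_conjFinset, mem_conjFinset]
  exact ⟨fun hz => h.symm.trans hz, fun hz => h.trans hz⟩

theorem card_centralizer_eq_of_isConj {x y : G} (h : IsConj x y) :
    Nat.card (Subgroup.centralizer ({x} : Set G)) = Nat.card (Subgroup.centralizer ({y} : Set G)) := by
  have h1 := card_centralizer_mul_card_conjFinset x
  have h2 := card_centralizer_mul_card_conjFinset y
  rw [conjFinset_eq_of_isConj h] at h1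
  have hpos : 0 < (conjFinset y).card := Finset.card_pos.mpr ⟨y, mem_conjFinset.mpr (IsConj.refl y)⟩
  exact Nat.eq_of_mul_eq_mul_right hpos (h1.trans h2.symm)

/-- the data of the counting trick -/
structure Data (k : ℕ) (r : ℕ → G) (c : ℕ → ℕ) : Prop where
  cover : ∀ g : G, ∃ i < k, IsConj g (r i)
  lb : ∀ i < k, c i ≤ Nat.card (Subgroup.centralizer ({r i} : Set G))
  dvd : ∀ i < k, c i ∣ Fintype.card G
  sum_le : ∑ i ∈ Finset.range k, Fintype.card G / c i ≤ Fintype.card G

variable {k : ℕ} {r : ℕ → G} {c : ℕ → ℕ}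

theorem Data.pos (D : Data k r c) {i : ℕ} (hi : i < k) : 0 < c i :=
  Nat.pos_of_dvd_of_pos (D.dvd i hi) Fintype.card_pos

theorem Data.card_le (D : Data k r c) {i : ℕ} (hi : i < k) :
    (conjFinset (r i)).card ≤ Fintype.card G / c i := by
  rw [card_conjFinset_eq_div]
  exact Nat.div_le_div_left (D.lb i hi) (D.pos hi)

theorem Data.univ_subset [DecidableEq G] (_D : Data k r c) (s : Finset ℕ)
    (hs : ∀ g : G, ∃ i ∈ s, IsConj g (r i)) :
    (Finset.univ : Finset G) ⊆ s.biUnion (fun i => conjFinset (r i)) := by
  intro g _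
  obtain ⟨i, hi, hg⟩ := hs g
  exact Finset.mem_biUnion.mpr ⟨i, hi, mem_conjFinset.mpr hg.symm⟩

theorem Data.sum_card_eq (D : Data k r c) :
    ∑ i ∈ Finset.range k, (conjFinset (r i)).card = Fintype.card G := by
  classical
  apply le_antisymm
  · exact (Finset.sum_le_sum fun i hi => D.card_le (Finset.mem_range.mp hi)).trans D.sum_le
  · calc Fintype.card G = (Finset.univ : Finset G).card := rfl
      _ ≤ ((Finset.range k).biUnion (fun i => conjFinset (r i))).card :=
          Finset.card_le_card (D.univ_subset _ fun g => by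
            obtain ⟨i, hi, hg⟩ := D.cover g
            exact ⟨i, Finset.mem_range.mpr hi, hg⟩)
      _ ≤ ∑ i ∈ Finset.range k, (conjFinset (r i)).card := Finset.card_biUnion_le

theorem Data.card_eq (D : Data k r c) {i : ℕ} (hi : i < k) :
    (conjFinset (r i)).card = Fintype.card G / c i := by
  have hle : ∀ j ∈ Finset.range k, (conjFinset (r j)).card ≤ Fintype.card G / c j :=
    fun j hj => D.card_le (Finset.mem_range.mp hj)
  have hsum : ∑ j ∈ Finset.range k, (conjFinset (r j)).card =
      ∑ j ∈ Finset.range k, Fintype.card G / c j :=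
    le_antisymm (Finset.sum_le_sum hle) (D.sum_le.trans D.sum_card_eq.ge)
  exact (Finset.sum_eq_sum_iff_of_le hle).mp hsum i (Finset.mem_range.mpr hi)

/-- (a) the centralizer orders -/
theorem Data.card_centralizer (D : Data k r c) {i : ℕ} (hi : i < k) :
    Nat.card (Subgroup.centralizer ({r i} : Set G)) = c i := by
  have h1 := card_centralizer_mul_card_conjFinset (r i)
  rw [D.card_eq hi] at h1
  obtain ⟨m, hm⟩ := D.dvd i hi
  have hc := D.pos hi
  have hm' : Fintype.card G / c i = m := by rw [hm, Nat.mul_div_cancel_left _ hc]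
  rw [hm'] at h1
  have hmpos : 0 < m := by
    rcases Nat.eq_zero_or_pos m with h0 | h0
    · rw [h0, mul_zero] at hm
      exact absurd hm Fintype.card_pos.ne'
    · exact h0
  exact Nat.eq_of_mul_eq_mul_right hmpos (h1.trans hm)

/-- (b) the representatives are pairwise non-conjugate -/
theorem Data.not_isConj (D : Data k r c) {i j : ℕ} (hi : i < k) (hj : j < k) (hij : i ≠ j) :
    ¬ IsConj (r i) (r j) := by
  classical
  intro hconj
  have hsub : (Finset.univ : Finset G) ⊆ ((Finset.range k).erase j).biUnion
      (fun i => conjFinset (r i)) := by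
    apply D.univ_subset
    intro g
    obtain ⟨l, hl, hg⟩ := D.cover g
    by_cases hlj : l = j
    · refine ⟨i, Finset.mem_erase.mpr ⟨hij, Finset.mem_range.mpr hi⟩, ?_⟩
      rw [hlj] at hg
      exact hg.trans hconj.symm
    · exact ⟨l, Finset.mem_erase.mpr ⟨hlj, Finset.mem_range.mpr hl⟩, hg⟩
  have h1 : Fintype.card G ≤ ∑ l ∈ (Finset.range k).erase j, (conjFinset (r l)).card :=
    (Finset.card_le_card hsub).trans Finset.card_biUnion_le
  have h2 := Finset.add_sum_erase (Finset.range k) (fun l => (conjFinset (r l)).card)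
    (Finset.mem_range.mpr hj)
  rw [D.sum_card_eq] at h2
  have hpos : 0 < (conjFinset (r j)).card :=
    Finset.card_pos.mpr ⟨r j, mem_conjFinset.mpr (IsConj.refl _)⟩
  omega

/-- (d) sums of class functions -/
theorem Data.sum_eq (D : Data k r c) {R : Type*} [CommSemiring R] (f : G → R)
    (hf : ∀ g h : G, f (h * g * h⁻¹) = f g) :
    ∑ g : G, f g = ∑ i ∈ Finset.range k, ((Fintype.card G / c i : ℕ) : R) * f (r i) := by
  classical
  have huniv : (Finset.univ : Finset G) = (Finset.range k).biUnion (fun i => conjFinset (r i)) := by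
    apply Finset.Subset.antisymm
    · exact D.univ_subset _ fun g => by
        obtain ⟨i, hi, hg⟩ := D.cover g
        exact ⟨i, Finset.mem_range.mpr hi, hg⟩
    · exact Finset.subset_univ _
  have hdisj : Set.PairwiseDisjoint (↑(Finset.range k) : Set ℕ) (fun i => conjFinset (r i)) := by
    intro i hi j hj hij
    rw [Function.onFun, Finset.disjoint_left]
    intro g hgi hgj
    rw [mem_conjFinset] at hgi hgj
    exact D.not_isConj (Finset.mem_range.mp hi) (Finset.mem_range.mp hj) hij (hgi.trans hgj.symm)
  rw [huniv, Finset.sum_biUnion hdisj]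
  refine Finset.sum_congr rfl fun i hi => ?_
  have hconst : ∀ y ∈ conjFinset (r i), f y = f (r i) := by
    intro y hy
    rw [mem_conjFinset, isConj_iff] at hy
    obtain ⟨d, rfl⟩ := hy
    rw [hf]
  rw [Finset.sum_congr rfl hconst, Finset.sum_const, D.card_eq (Finset.mem_range.mp hi),
    nsmul_eq_mul]

end Cfsg.Agent.Lib.Helper89.ClassCount
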