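import Mathlib
import Cfsg.Agent.Lib.Helper29.M22B.Defs
import Cfsg.Agent.Lib.Helper89.M22BCountGen

/-!
# M22B-[COUNT] (helper89, for helper29's project M22B / S5005), `_of` forms

The class-equation trick for `M22`: from [COVER], [LB2], [LB3] and `|M22| = 443520` the twelve
representatives are pairwise non-conjugate, `|C(rep i)| = cOrd i`, and sums of class functions are
`∑ cSize i * f (rep i)`.
-/

set_option autoImplicit false

namespace Cfsg.Agent.Lib.Helper29.M22B
open Cfsg Cfsg.Agent.Lib.Helper7 Cfsg.Agent.Lib.Helper92 Cfsg.Agent.Lib.Helper92.SylM22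

namespace H89Count

open Cfsg.Agent.Lib.Helper89.ClassCount

/-- the statement of module [COVER] -/
def CoverStmt : Prop := ∀ g : Equiv.Perm GolayPt, g ∈ Spor.M22 →
    ∃ h ∈ Spor.M22, ∃ i < 12, h * g * h⁻¹ = rep i

/-- the statement of module [LB2] -/
def LB2Stmt : Prop := ∀ i : ℕ, 1 ≤ i ∧ i ≤ 4 →
    cOrd i ≤ Nat.card ↥(Subgroup.centralizer ({rep i} : Set (Equiv.Perm GolayPt)) ⊓ Spor.M22)

/-- the statement of module [LB3] -/
def LB3Stmt : Prop := ∀ i : ℕ, 5 ≤ i ∧ i < 12 →
    cOrd i ≤ Nat.card ↥(Subgroup.centralizer ({rep i} : Set (Equiv.Perm GolayPt)) ⊓ Spor.M22)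

/-- the centralizer in `G` and the centralizer in `Perm GolayPt` intersected with `M22` -/
theorem card_centralizer_G (x : G) :
    Nat.card ↥(Subgroup.centralizer ({x} : Set G)) =
      Nat.card ↥(Subgroup.centralizer ({(x : Equiv.Perm GolayPt)} : Set (Equiv.Perm GolayPt)) ⊓
        Spor.M22) := by
  have h1 : Subgroup.centralizer ({x} : Set G) =
      (Subgroup.centralizer ({(x : Equiv.Perm GolayPt)} : Set (Equiv.Perm GolayPt)) ⊓
        Spor.M22).subgroupOf Spor.M22 := by
    rw [Subgroup.inf_subgroupOf_right]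
    ext y
    rw [Subgroup.mem_centralizer_singleton_iff, Subgroup.mem_subgroupOf,
      Subgroup.mem_centralizer_singleton_iff]
    constructor
    · intro h
      exact congrArg Subtype.val h
    · intro h
      exact Subtype.ext h
  rw [h1]
  exact Nat.card_congr (Subgroup.subgroupOfEquivOfLe inf_le_right).toEquiv

theorem card_G [Fintype G] : Fintype.card G = 443520 := by
  rw [← Nat.card_eq_fintype_card]
  exact card_M22

theorem cOrd_zero_le : cOrd 0 ≤ Nat.card ↥(Subgroup.centralizer ({repG 0} : Set G)) := by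
  have h : Subgroup.centralizer ({repG 0} : Set G) = ⊤ := by
    ext y
    rw [Subgroup.mem_centralizer_singleton_iff]
    have h1 : repG 0 = 1 := Subtype.ext rfl
    rw [h1, mul_one, one_mul]
    exact iff_of_true rfl (Subgroup.mem_top y)
  rw [h, Subgroup.card_top]
  exact card_M22.ge

theorem data [Fintype G] (hcov : CoverStmt) (h2 : LB2Stmt) (h3 : LB3Stmt) :
    Data 12 repG cOrd where
  cover := by
    intro g
    obtain ⟨h, hh, i, hi, hg⟩ := hcov g.1 g.2
    refine ⟨i, hi, isConj_iff.mpr ⟨⟨h, hh⟩, Subtype.ext ?_⟩⟩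
    exact hg
  lb := by
    intro i hi
    rcases Nat.eq_zero_or_pos i with h0 | h0
    · rw [h0]
      exact cOrd_zero_le
    · rw [card_centralizer_G]
      by_cases h4 : i ≤ 4
      · exact h2 i ⟨h0, h4⟩
      · exact h3 i ⟨by omega, hi⟩
  dvd := by
    intro i hi
    rw [card_G]
    interval_cases i <;> decide
  sum_le := by
    rw [card_G]
    decide

end H89Count

open H89Count Cfsg.Agent.Lib.Helper89.ClassCount

/-- [COUNT-a], `_of` form -/
theorem card_centralizer_repG_of (hcov : CoverStmt) (h2 : LB2Stmt) (h3 : LB3Stmt)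
    (i : ℕ) (hi : i < 12) :
    Nat.card ↥(Subgroup.centralizer ({repG i} : Set G)) = cOrd i := by
  classical
  have : Fintype G := Fintype.ofFinite G
  exact (data hcov h2 h3).card_centralizer hi

/-- [COUNT-b], `_of` form -/
theorem repG_not_isConj_of (hcov : CoverStmt) (h2 : LB2Stmt) (h3 : LB3Stmt)
    {i j : ℕ} (hi : i < 12) (hj : j < 12) (hij : i ≠ j) :
    ¬ IsConj (repG i) (repG j) := by
  classical
  have : Fintype G := Fintype.ofFinite G
  exact (data hcov h2 h3).not_isConj hi hj hij

/-- [COUNT-c], `_of` form -/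
theorem isConj_repG_of (hcov : CoverStmt) (g : G) : ∃ i < 12, IsConj g (repG i) := by
  obtain ⟨h, hh, i, hi, hg⟩ := hcov g.1 g.2
  exact ⟨i, hi, isConj_iff.mpr ⟨⟨h, hh⟩, Subtype.ext hg⟩⟩

/-- [COUNT-d], `_of` form -/
theorem sum_classFunction_of (hcov : CoverStmt) (h2 : LB2Stmt) (h3 : LB3Stmt)
    [Fintype G] (f : G → ℂ) (hf : IsClassFunction G f) :
    ∑ g : G, f g = ∑ i ∈ Finset.range 12, (cSize i : ℂ) * f (repG i) := by
  rw [(data hcov h2 h3).sum_eq f hf]
  refine Finset.sum_congr rfl fun i hi => ?_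
  have hi' := Finset.mem_range.mp hi
  have : Fintype.card G / cOrd i = cSize i := by
    rw [card_G]
    interval_cases i <;> decide
  rw [this]

end Cfsg.Agent.Lib.Helper29.M22B
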