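import Mathlib

/-!
# Sylow conjugation lemmas inside a subgroup (helper89, for helper29's project M22B / S5005)

* `exists_conj_mem`: if `S ≤ M` has order `p^k` and `|M| = p^k m`, `p ∤ m`, every `p`-element of `M`
  is `M`-conjugate into `S`.
* `prime_case`: if `|M| = p m`, `p ∤ m`, `t ∈ M` of order `p` with `C_M(t) = ⟨t⟩`, then every `g ∈ M`
  of order divisible by `p` is `M`-conjugate to a power `t^j`, `p ∤ j`.
-/

set_option autoImplicit false

namespace Cfsg.Agent.Lib.Helper89.SylConj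

theorem factorization_pow_mul (p k m : ℕ) (hp : p.Prime) (hm : ¬ p ∣ m) :
    (p ^ k * m).factorization p = k := by
  have hm0 : m ≠ 0 := by
    rintro rfl
    exact hm (dvd_zero p)
  rw [Nat.factorization_mul (pow_ne_zero k hp.ne_zero) hm0, Finsupp.add_apply,
    hp.factorization_pow, Finsupp.single_eq_same, Nat.factorization_eq_zero_of_not_dvd hm, add_zero]

theorem exists_conj_mem {A : Type*} [Group A] (M S : Subgroup A) [Finite M] (hSM : S ≤ M)
    (p k m : ℕ) [hp : Fact p.Prime] (hm : ¬ p ∣ m) (hM : Nat.card M = p ^ k * m)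
    (hS : Nat.card S = p ^ k) (g : A) (hgM : g ∈ M) (j : ℕ) (hg : g ^ (p ^ j) = 1) :
    ∃ c ∈ M, c * g * c⁻¹ ∈ S := by
  have hS' : Nat.card (S.subgroupOf M) = p ^ (Nat.card M).factorization p := by
    rw [hM, factorization_pow_mul p k m hp.out hm, ← hS]
    exact Nat.card_congr (Subgroup.subgroupOfEquivOfLe hSM).toEquiv
  set P₀ : Sylow p M := Sylow.ofCard (S.subgroupOf M) hS' with hP₀
  set g' : M := ⟨g, hgM⟩ with hg'
  have hpg : IsPGroup p (Subgroup.zpowers g') := by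
    rintro ⟨x, hx⟩
    obtain ⟨z, rfl⟩ := Subgroup.mem_zpowers_iff.mp hx
    refine ⟨j, Subtype.ext ?_⟩
    have h1 : g' ^ (p ^ j) = 1 := Subtype.ext (by simpa using hg)
    simp only [Subgroup.coe_pow, Subgroup.coe_one]
    rw [← zpow_natCast, ← zpow_mul, mul_comm, zpow_mul, zpow_natCast, h1, one_zpow]
  obtain ⟨Q, hQ⟩ := hpg.exists_le_sylow
  obtain ⟨c, hc⟩ := MulAction.exists_smul_eq M Q P₀
  have hgQ : g' ∈ (Q : Subgroup M) := hQ (Subgroup.mem_zpowers g')
  have hmem : c * g' * c⁻¹ ∈ ((c • Q : Sylow p M) : Subgroup M) := by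
    rw [Sylow.coe_subgroup_smul]
    exact Subgroup.smul_mem_pointwise_smul _ _ _ hgQ
  rw [hc, hP₀, Sylow.coe_ofCard, Subgroup.mem_subgroupOf] at hmem
  exact ⟨c.1, c.2, by simpa using hmem⟩

theorem prime_case {A : Type*} [Group A] (M : Subgroup A) [Finite M] (p m : ℕ) [hp : Fact p.Prime]
    (hm : ¬ p ∣ m) (hM : Nat.card M = p * m) (t : A) (ht : t ∈ M) (hto : orderOf t = p)
    (hC : ∀ g ∈ M, g * t = t * g → g ∈ Subgroup.zpowers t)
    (g : A) (hg : g ∈ M) (hdvd : p ∣ orderOf g) :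
    ∃ c ∈ M, ∃ j : ℕ, ¬ p ∣ j ∧ c * g * c⁻¹ = t ^ j := by
  have hn0 : orderOf g ≠ 0 := by
    have : IsOfFinOrder (⟨g, hg⟩ : M) := isOfFinOrder_of_finite _
    have h2 : orderOf (⟨g, hg⟩ : M) = orderOf g := Subgroup.orderOf_mk g hg
    rw [← h2]
    exact (orderOf_pos_iff.mpr this).ne'
  set y : A := g ^ (orderOf g / p) with hy
  have hyo : orderOf y = p := orderOf_pow_orderOf_div hn0 hdvd
  have hyM : y ∈ M := M.pow_mem hg _
  have hyp : y ^ (p ^ 1) = 1 := by rw [pow_one, ← hyo, pow_orderOf_eq_one]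
  have hSM : Subgroup.zpowers t ≤ M := (Subgroup.zpowers_le).mpr ht
  have hScard : Nat.card (Subgroup.zpowers t) = p ^ 1 := by rw [Nat.card_zpowers, hto, pow_one]
  obtain ⟨c, hcM, hc⟩ := exists_conj_mem M (Subgroup.zpowers t) hSM p 1 m hm (by rw [pow_one]; exact hM)
    hScard y hyM 1 hyp
  set g' : A := c * g * c⁻¹ with hg'
  set y' : A := c * y * c⁻¹ with hy'
  have hy'g' : y' = g' ^ (orderOf g / p) := by rw [hy', hg', conj_pow, hy]
  have hy'1 : y' ≠ 1 := by
    intro h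
    rw [hy', conj_eq_one_iff] at h
    rw [h, orderOf_one] at hyo
    exact hp.out.one_lt.ne hyo
  have hdv : orderOf y' ∣ p := hto ▸ orderOf_dvd_of_mem_zpowers hc
  have hy'o : orderOf y' = p :=
    ((Nat.dvd_prime hp.out).mp hdv).resolve_left (fun h => hy'1 (orderOf_eq_one_iff.mp h))
  have heq : Subgroup.zpowers y' = Subgroup.zpowers t := by
    have : Finite (Subgroup.zpowers t) := by
      apply Nat.finite_of_card_ne_zero
      rw [hScard]
      exact pow_ne_zero 1 hp.out.ne_zero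
    apply Subgroup.eq_of_le_of_card_ge (Subgroup.zpowers_le.mpr hc)
    rw [Nat.card_zpowers, Nat.card_zpowers, hy'o, hto]
  have htmem : t ∈ Subgroup.zpowers y' := heq ▸ Subgroup.mem_zpowers t
  obtain ⟨z, hz⟩ := Subgroup.mem_zpowers_iff.mp htmem
  have hcomm : g' * t = t * g' := by
    rw [← hz, hy'g']
    exact (((Commute.refl g').pow_right _).zpow_right z).eq
  have hg'M : g' ∈ M := M.mul_mem (M.mul_mem hcM hg) (M.inv_mem hcM)
  have hmem := hC g' hg'M hcomm
  have hfin : IsOfFinOrder t := orderOf_pos_iff.mp (hto ▸ hp.out.pos)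
  obtain ⟨j, hj⟩ := hfin.mem_powers_iff_mem_zpowers.mpr hmem
  refine ⟨c, hcM, j, ?_, hj.symm⟩
  intro hpj
  have h1 : t ^ j = 1 := by
    rw [← orderOf_dvd_iff_pow_eq_one, hto]
    exact hpj
  have hj' : t ^ j = g' := hj
  rw [h1] at hj'
  have hg1 : g = 1 := by
    have := hj'.symm
    rw [hg', conj_eq_one_iff] at this
    exact this
  rw [hg1, orderOf_one] at hdvd
  exact hp.out.one_lt.ne' (Nat.dvd_one.mp hdvd)

end Cfsg.Agent.Lib.Helper89.SylConj
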