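import Mathlib
import Cfsg.Agent.Lib.Helper29.M22B.Defs
import Cfsg.Agent.Lib.Helper89.M22BSylConj

/-!
# M22B-[COVER] (helper89, for helper29's project M22B / S5005), `_of` form

Every element of `M22` is conjugate to one of the twelve representatives: Sylow's theorem and the
statements of the modules [ORD] [S2] [S3] [S5] [S7] [S11] [C5] [C7] [C11] [C3] [V4].
-/

set_option autoImplicit false

namespace Cfsg.Agent.Lib.Helper29.M22B
open Cfsg Cfsg.Agent.Lib.Helper7 Cfsg.Agent.Lib.Helper92 Cfsg.Agent.Lib.Helper92.SylM22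

namespace H89Cover

open Cfsg.Agent.Lib.Helper89.SylConj

/-- statement of [ORD] -/
def OrdStmt : Prop := ∀ i : ℕ, i < 12 →
    orderOf (rep i) = [1, 2, 4, 4, 8, 3, 5, 6, 7, 7, 11, 11].getD i 0

/-- statement of [S2] -/
def S2Stmt : Prop := ∀ s : Equiv.Perm GolayPt, s ∈ S0 →
    ∃ h ∈ Spor.M22, ∃ i < 5, h * s * h⁻¹ = rep i

/-- statement of [S3a] -/
def CardP3Stmt : Prop := Nat.card ↥(Subgroup.closure ({x3, z3} : Set (Equiv.Perm GolayPt))) = 9

/-- statement of [S3b] -/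
def P3LeStmt : Prop := Subgroup.closure ({x3, z3} : Set (Equiv.Perm GolayPt)) ≤
    Subgroup.centralizer ({x3} : Set (Equiv.Perm GolayPt)) ⊓ Spor.M22

/-- statement of [S3c] -/
def ConjP3Stmt : Prop := ∀ g : Equiv.Perm GolayPt,
    g ∈ Subgroup.closure ({x3, z3} : Set (Equiv.Perm GolayPt)) → g ≠ 1 →
    ∃ h ∈ Spor.M22, h * g * h⁻¹ = x3

/-- statement of [S5] -/
def S5Stmt : Prop := ∀ k : ℕ, ¬ 5 ∣ k → ∃ h ∈ Spor.M22, h * n5P ^ k * h⁻¹ = n5P

/-- statement of [S7] -/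
def S7Stmt : Prop := ∀ k : ℕ, ¬ 7 ∣ k →
    ∃ h ∈ Spor.M22, h * g7 ^ k * h⁻¹ = g7 ∨ h * g7 ^ k * h⁻¹ = g7⁻¹

/-- statement of [S11] -/
def S11Stmt : Prop := ∀ k : ℕ, ¬ 11 ∣ k →
    ∃ h ∈ Spor.M22, h * s11P ^ k * h⁻¹ = s11P ∨ h * s11P ^ k * h⁻¹ = s11P⁻¹

/-- statement of [C5] -/
def C5Stmt : Prop := ∀ g : Equiv.Perm GolayPt, g ∈ Spor.M22 → g * n5P = n5P * g →
    g ∈ Subgroup.zpowers n5P

/-- statement of [C7] -/
def C7Stmt : Prop := ∀ g : Equiv.Perm GolayPt, g ∈ Spor.M22 → g * g7 = g7 * g →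
    g ∈ Subgroup.zpowers g7

/-- statement of [C11] -/
def C11Stmt : Prop := ∀ g : Equiv.Perm GolayPt, g ∈ Spor.M22 → g * s11P = s11P * g →
    g ∈ Subgroup.zpowers s11P

/-- statement of [C3] -/
def C3Stmt : Prop :=
    Nat.card ↥(Subgroup.centralizer ({x3} : Set (Equiv.Perm GolayPt)) ⊓ Spor.M22) ≤ 36

/-- statement of [V4] -/
def V4Stmt : Prop := ∃ V : Subgroup (Equiv.Perm GolayPt),
    V ≤ Subgroup.centralizer ({x3} : Set (Equiv.Perm GolayPt)) ⊓ Spor.M22 ∧ Nat.card V = 4 ∧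
    ∀ v ∈ V, v ≠ 1 → ∃ c ∈ Subgroup.centralizer ({x3} : Set (Equiv.Perm GolayPt)) ⊓ Spor.M22,
      c * v * c⁻¹ = v1

theorem conj_conj {A : Type*} [Group A] (h c g : A) :
    h * (c * g * c⁻¹) * h⁻¹ = (h * c) * g * (h * c)⁻¹ := by
  group

theorem conj_mul {A : Type*} [Group A] (d x y : A) :
    d * (x * y) * d⁻¹ = (d * x * d⁻¹) * (d * y * d⁻¹) := by
  group

/-- the `{2,3}`-case: `g ^ 1152 = 1` -/
theorem cover_23 (hS2 : S2Stmt) (hcP3 : CardP3Stmt) (hP3le : P3LeStmt) (hconjP3 : ConjP3Stmt)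
    (hC3 : C3Stmt) (hV4 : V4Stmt) (g : Equiv.Perm GolayPt) (hg : g ∈ Spor.M22)
    (hg1152 : g ^ 1152 = 1) :
    ∃ h ∈ Spor.M22, ∃ i < 12, h * g * h⁻¹ = rep i := by
  have hM : Nat.card ↥Spor.M22 = 443520 := card_M22
  have h2p : Fact (Nat.Prime 2) := ⟨Nat.prime_two⟩
  have h3p : Fact (Nat.Prime 3) := ⟨Nat.prime_three⟩
  set x : Equiv.Perm GolayPt := g ^ 640 with hx
  set y : Equiv.Perm GolayPt := g ^ 513 with hy
  have hxy : g = x * y := by
    rw [hx, hy, ← pow_add]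
    have : (640 + 513 : ℕ) = 1152 + 1 := by norm_num
    rw [this, pow_add, hg1152, one_mul, pow_one]
  have hx9 : x ^ (3 ^ 2) = 1 := by
    rw [hx, ← pow_mul]
    have : (640 * 3 ^ 2 : ℕ) = 1152 * 5 := by norm_num
    rw [this, pow_mul, hg1152, one_pow]
  have hy128 : y ^ (2 ^ 7) = 1 := by
    rw [hy, ← pow_mul]
    have : (513 * 2 ^ 7 : ℕ) = 1152 * 57 := by norm_num
    rw [this, pow_mul, hg1152, one_pow]
  have hxM : x ∈ Spor.M22 := Spor.M22.pow_mem hg _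
  have hyM : y ∈ Spor.M22 := Spor.M22.pow_mem hg _
  have hcomm : x * y = y * x := by
    rw [hx, hy, ← pow_add, ← pow_add, add_comm]
  by_cases hx1 : x = 1
  · -- `g = y` is a 2-element
    have hgy : g = y := by rw [hxy, hx1, one_mul]
    have hg128 : g ^ (2 ^ 7) = 1 := by rw [hgy]; exact hy128
    obtain ⟨c, hc, hcS⟩ := exists_conj_mem Spor.M22 S0 S0_le_M22 2 7 3465 (by norm_num)
      (by rw [hM]; norm_num) (by rw [card_S0]; norm_num) g hg 7 hg128
    obtain ⟨h, hh, i, hi, hconj⟩ := hS2 _ hcS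
    refine ⟨h * c, Spor.M22.mul_mem hh hc, i, by omega, ?_⟩
    rw [← conj_conj, hconj]
  · -- the 3-part is conjugate to `x3`
    have hP3M : Subgroup.closure ({x3, z3} : Set (Equiv.Perm GolayPt)) ≤ Spor.M22 :=
      hP3le.trans inf_le_right
    obtain ⟨c, hc, hcS⟩ := exists_conj_mem Spor.M22 _ hP3M 3 2 49280 (by norm_num)
      (by rw [hM]; norm_num) (by rw [hcP3]; norm_num) x hxM 2 hx9
    have hne : c * x * c⁻¹ ≠ 1 := fun h => hx1 (conj_eq_one_iff.mp h)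
    obtain ⟨h, hh, hconj⟩ := hconjP3 _ hcS hne
    rw [conj_conj] at hconj
    set d : Equiv.Perm GolayPt := h * c with hd
    have hdM : d ∈ Spor.M22 := Spor.M22.mul_mem hh hc
    set y₁ : Equiv.Perm GolayPt := d * y * d⁻¹ with hy₁
    have hg₁ : d * g * d⁻¹ = x3 * y₁ := by rw [hxy, conj_mul, hconj]
    have hy₁M : y₁ ∈ Spor.M22 := Spor.M22.mul_mem (Spor.M22.mul_mem hdM hyM) (Spor.M22.inv_mem hdM)
    have hy₁comm : y₁ * x3 = x3 * y₁ := by
      rw [← hconj, hy₁, ← conj_mul, ← conj_mul, hcomm]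
    have hy₁C : y₁ ∈ Subgroup.centralizer ({x3} : Set (Equiv.Perm GolayPt)) ⊓ Spor.M22 :=
      Subgroup.mem_inf.mpr ⟨Subgroup.mem_centralizer_singleton_iff.mpr hy₁comm, hy₁M⟩
    have hy₁128 : y₁ ^ (2 ^ 7) = 1 := by rw [hy₁, conj_pow, hy128, mul_one, mul_inv_cancel]
    by_cases hy1 : y₁ = 1
    · refine ⟨d, hdM, 5, by norm_num, ?_⟩
      rw [hg₁, hy1, mul_one]
      rfl
    · obtain ⟨V, hVle, hVcard, hVconj⟩ := hV4
      -- `|C(x3) ∩ M22| = 36`
      have hCcard : Nat.card ↥(Subgroup.centralizer ({x3} : Set (Equiv.Perm GolayPt)) ⊓ Spor.M22) =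
          2 ^ 2 * 9 := by
        have h9 : 9 ∣ Nat.card ↥(Subgroup.centralizer ({x3} : Set (Equiv.Perm GolayPt)) ⊓ Spor.M22) := by
          rw [← hcP3]
          exact Subgroup.card_dvd_of_le hP3le
        have h4 : 4 ∣ Nat.card ↥(Subgroup.centralizer ({x3} : Set (Equiv.Perm GolayPt)) ⊓ Spor.M22) := by
          rw [← hVcard]
          exact Subgroup.card_dvd_of_le hVle
        have h36 : 4 * 9 ∣ Nat.card ↥(Subgroup.centralizer ({x3} : Set (Equiv.Perm GolayPt)) ⊓ Spor.M22) :=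
          Nat.Coprime.mul_dvd_of_dvd_of_dvd (by norm_num) h4 h9
        have hpos : 0 < Nat.card ↥(Subgroup.centralizer ({x3} : Set (Equiv.Perm GolayPt)) ⊓ Spor.M22) :=
          Nat.card_pos
        have hle := Nat.le_of_dvd hpos h36
        have hC3' : Nat.card ↥(Subgroup.centralizer ({x3} : Set (Equiv.Perm GolayPt)) ⊓ Spor.M22) ≤ 36 := hC3
        omega
      obtain ⟨c', hc', hc'V⟩ := exists_conj_mem
        (Subgroup.centralizer ({x3} : Set (Equiv.Perm GolayPt)) ⊓ Spor.M22) V hVle 2 2 9 (by norm_num)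
        hCcard (by rw [hVcard]; norm_num) y₁ hy₁C 7 hy₁128
      have hne' : c' * y₁ * c'⁻¹ ≠ 1 := fun h => hy1 (conj_eq_one_iff.mp h)
      obtain ⟨c'', hc'', hconj'⟩ := hVconj _ hc'V hne'
      rw [conj_conj] at hconj'
      set e : Equiv.Perm GolayPt := c'' * c' with he
      have heC : e ∈ Subgroup.centralizer ({x3} : Set (Equiv.Perm GolayPt)) ⊓ Spor.M22 :=
        Subgroup.mul_mem _ hc'' hc'
      have heM : e ∈ Spor.M22 := (Subgroup.mem_inf.mp heC).2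
      have hex3 : e * x3 * e⁻¹ = x3 := by
        have := Subgroup.mem_centralizer_singleton_iff.mp (Subgroup.mem_inf.mp heC).1
        rw [this, mul_assoc, mul_inv_cancel, mul_one]
      refine ⟨e * d, Spor.M22.mul_mem heM hdM, 7, by norm_num, ?_⟩
      rw [← conj_conj, hg₁, conj_mul, hex3, hconj']
      rfl

end H89Cover

open H89Cover Cfsg.Agent.Lib.Helper89.SylConj

/-- [COVER], `_of` form: every element of `M22` is conjugate to one of the twelve representatives. -/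
theorem cover_of (hord : OrdStmt) (hS2 : S2Stmt) (hcP3 : CardP3Stmt) (hP3le : P3LeStmt)
    (hconjP3 : ConjP3Stmt) (hS5 : S5Stmt) (hS7 : S7Stmt) (hS11 : S11Stmt) (hC5 : C5Stmt)
    (hC7 : C7Stmt) (hC11 : C11Stmt) (hC3 : C3Stmt) (hV4 : V4Stmt)
    (g : Equiv.Perm GolayPt) (hg : g ∈ Spor.M22) :
    ∃ h ∈ Spor.M22, ∃ i < 12, h * g * h⁻¹ = rep i := by
  have hM : Nat.card ↥Spor.M22 = 443520 := card_M22
  have ho5 : orderOf n5P = 5 := hord 6 (by norm_num)
  have ho7 : orderOf g7 = 7 := hord 8 (by norm_num)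
  have ho11 : orderOf s11P = 11 := hord 10 (by norm_num)
  by_cases h5 : 5 ∣ orderOf g
  · have : Fact (Nat.Prime 5) := ⟨by norm_num⟩
    obtain ⟨c, hc, j, hj, hcg⟩ := prime_case Spor.M22 5 88704 (by norm_num) (by rw [hM])
      n5P n5_mem ho5 hC5 g hg h5
    obtain ⟨h, hh, hconj⟩ := hS5 j hj
    refine ⟨h * c, Spor.M22.mul_mem hh hc, 6, by norm_num, ?_⟩
    rw [← conj_conj, hcg, hconj]
    rfl
  by_cases h7 : 7 ∣ orderOf g
  · have : Fact (Nat.Prime 7) := ⟨by norm_num⟩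
    obtain ⟨c, hc, j, hj, hcg⟩ := prime_case Spor.M22 7 63360 (by norm_num) (by rw [hM])
      g7 g7_mem ho7 hC7 g hg h7
    obtain ⟨h, hh, hconj | hconj⟩ := hS7 j hj
    · refine ⟨h * c, Spor.M22.mul_mem hh hc, 8, by norm_num, ?_⟩
      rw [← conj_conj, hcg, hconj]
      rfl
    · refine ⟨h * c, Spor.M22.mul_mem hh hc, 9, by norm_num, ?_⟩
      rw [← conj_conj, hcg, hconj]
      rfl
  by_cases h11 : 11 ∣ orderOf g
  · have : Fact (Nat.Prime 11) := ⟨by norm_num⟩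
    obtain ⟨c, hc, j, hj, hcg⟩ := prime_case Spor.M22 11 40320 (by norm_num) (by rw [hM])
      s11P s11_mem ho11 hC11 g hg h11
    obtain ⟨h, hh, hconj | hconj⟩ := hS11 j hj
    · refine ⟨h * c, Spor.M22.mul_mem hh hc, 10, by norm_num, ?_⟩
      rw [← conj_conj, hcg, hconj]
      rfl
    · refine ⟨h * c, Spor.M22.mul_mem hh hc, 11, by norm_num, ?_⟩
      rw [← conj_conj, hcg, hconj]
      rfl
  -- the order of `g` divides `2^7 * 3^2`
  have hdvd : orderOf g ∣ 1152 * 385 := by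
    have := Subgroup.orderOf_dvd_natCard Spor.M22 hg
    rw [hM] at this
    exact this
  have hcop : Nat.Coprime (orderOf g) 385 := by
    have e : (385 : ℕ) = 5 * 7 * 11 := by norm_num
    rw [e]
    refine Nat.Coprime.mul_right (Nat.Coprime.mul_right ?_ ?_) ?_
    · exact ((Nat.Prime.coprime_iff_not_dvd (by norm_num)).mpr h5).symm
    · exact ((Nat.Prime.coprime_iff_not_dvd (by norm_num)).mpr h7).symm
    · exact ((Nat.Prime.coprime_iff_not_dvd (by norm_num)).mpr h11).symm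
  have h1152 : orderOf g ∣ 1152 := hcop.dvd_of_dvd_mul_right hdvd
  exact cover_23 hS2 hcP3 hP3le hconjP3 hC3 hV4 g hg (orderOf_dvd_iff_pow_eq_one.mp h1152)

end Cfsg.Agent.Lib.Helper29.M22B
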