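import Mathlib
import Cfsg.Agent.Lib.Helper89.M22BCover
import Cfsg.Agent.Lib.Helper62.M22BOrd
import Cfsg.Agent.Lib.Helper29.M22B.S2
import Cfsg.Agent.Lib.Helper75.M22BS3
import Cfsg.Agent.Lib.Helper62.M22BPow
import Cfsg.Agent.Lib.Helper9.M22BCN
import Cfsg.Agent.Lib.Helper29.M22B.C7
import Cfsg.Agent.Lib.Helper62.M22BC3
import Cfsg.Agent.Lib.Helper62.M22BV4

/-!
# M22B-[COVER] (helper89, for helper29's project M22B / S5005): exact statement
-/

set_option autoImplicit false

namespace Cfsg.Agent.Lib.Helper29.M22B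
open Cfsg Cfsg.Agent.Lib.Helper7 Cfsg.Agent.Lib.Helper92 Cfsg.Agent.Lib.Helper92.SylM22

/-- [COVER] every element of `M22` is conjugate to one of the twelve representatives. -/
theorem cover (g : Equiv.Perm GolayPt) (hg : g ∈ Spor.M22) :
    ∃ h ∈ Spor.M22, ∃ i < 12, h * g * h⁻¹ = rep i :=
  cover_of orderOf_rep conj_S0 card_P3 P3_le conj_P3 conj_pow_n5 conj_pow_g7 conj_pow_s11
    centralizer_n5 centralizer_g7 centralizer_s11 card_centralizer_x3_le four_group_x3 g hg

end Cfsg.Agent.Lib.Helper29.M22B
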