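import Mathlib
import Cfsg.Agent.Lib.Helper89.M22BCount
import Cfsg.Agent.Lib.Helper89.M22BCoverExact
import Cfsg.Agent.Lib.Helper75.M22BLB2
import Cfsg.Agent.Lib.Helper75.M22BLB3

/-!
# M22B-[COUNT] (helper89, for helper29's project M22B / S5005): exact statements
-/

set_option autoImplicit false

namespace Cfsg.Agent.Lib.Helper29.M22B
open Cfsg Cfsg.Agent.Lib.Helper7 Cfsg.Agent.Lib.Helper92 Cfsg.Agent.Lib.Helper92.SylM22

/-- [COUNT-a] counting trick: `|G| ≤ Σ |K_i| ≤ Σ |G| / cOrd i = |G|`. -/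
theorem card_centralizer_repG (i : ℕ) (hi : i < 12) :
    Nat.card ↥(Subgroup.centralizer ({repG i} : Set G)) = cOrd i :=
  card_centralizer_repG_of cover cent_lb_two cent_lb_odd i hi

/-- [COUNT-b] -/
theorem repG_not_isConj {i j : ℕ} (hi : i < 12) (hj : j < 12) (hij : i ≠ j) :
    ¬ IsConj (repG i) (repG j) :=
  repG_not_isConj_of cover cent_lb_two cent_lb_odd hi hj hij

/-- [COUNT-c] -/
theorem isConj_repG (g : G) : ∃ i < 12, IsConj g (repG i) :=
  isConj_repG_of cover g

/-- [COUNT-d] sums of class functions. -/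
theorem sum_classFunction [Fintype G] (f : G → ℂ) (hf : IsClassFunction G f) :
    ∑ g : G, f g = ∑ i ∈ Finset.range 12, (cSize i : ℂ) * f (repG i) :=
  sum_classFunction_of cover cent_lb_two cent_lb_odd f hf

end Cfsg.Agent.Lib.Helper29.M22B
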