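import Mathlib
import Cfsg.Agent.Lib.Helper89.M22BCountExact
import Cfsg.Agent.Lib.Helper62.M22BOrd

/-!
# M22B-[A] (helper89, for helper29's project M22B / S5005)

Centralizers of nontrivial elements of odd order in `M22` have 2-part at most 4.
-/

set_option autoImplicit false

namespace Cfsg.Agent.Lib.Helper29.M22B
open Cfsg Cfsg.Agent.Lib.Helper7 Cfsg.Agent.Lib.Helper92 Cfsg.Agent.Lib.Helper92.SylM22

namespace H89A

theorem orderOf_eq_of_isConj {A : Type*} [Group A] {a b : A} (h : IsConj a b) :
    orderOf a = orderOf b := by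
  obtain ⟨c, rfl⟩ := isConj_iff.mp h
  exact ((MulAut.conj c).orderOf_eq a).symm

theorem orderOf_repG (i : ℕ) : orderOf (repG i) = orderOf (rep i) :=
  Subgroup.orderOf_mk (rep i) (rep_mem i)

theorem fact2 (k m : ℕ) (hm : ¬ 2 ∣ m) : (2 ^ k * m).factorization 2 = k :=
  Cfsg.Agent.Lib.Helper89.SylConj.factorization_pow_mul 2 k m Nat.prime_two hm

end H89A

open H89A

/-- [A] centralizers of nontrivial elements of odd order have 2-part at most 4. -/
theorem cent_two_part (x : G) (hx : x ≠ 1) (hodd : ¬ 2 ∣ orderOf x) :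
    (Nat.card ↥(Subgroup.centralizer ({x} : Set G))).factorization 2 ≤ 2 := by
  classical
  have : Fintype G := Fintype.ofFinite G
  obtain ⟨i, hi, hconj⟩ := isConj_repG x
  rw [Cfsg.Agent.Lib.Helper89.ClassCount.card_centralizer_eq_of_isConj hconj,
    card_centralizer_repG i hi]
  have ho : orderOf x = [1, 2, 4, 4, 8, 3, 5, 6, 7, 7, 11, 11].getD i 0 := by
    rw [orderOf_eq_of_isConj hconj, orderOf_repG, orderOf_rep i hi]
  interval_cases i
  · -- `x = 1`
    exfalso
    apply hx
    have h1 : repG 0 = 1 := Subtype.ext rfl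
    rw [h1] at hconj
    exact isConj_one_left.mp hconj
  · exact absurd (by rw [ho]; decide) hodd
  · exact absurd (by rw [ho]; decide) hodd
  · exact absurd (by rw [ho]; decide) hodd
  · exact absurd (by rw [ho]; decide) hodd
  · have : cOrd 5 = 2 ^ 2 * 9 := by decide
    rw [this, fact2 2 9 (by decide)]
  · have : cOrd 6 = 2 ^ 0 * 5 := by decide
    rw [this, fact2 0 5 (by decide)]
    exact Nat.zero_le _
  · exact absurd (by rw [ho]; decide) hodd
  · have : cOrd 8 = 2 ^ 0 * 7 := by decide
    rw [this, fact2 0 7 (by decide)]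
    exact Nat.zero_le _
  · have : cOrd 9 = 2 ^ 0 * 7 := by decide
    rw [this, fact2 0 7 (by decide)]
    exact Nat.zero_le _
  · have : cOrd 10 = 2 ^ 0 * 11 := by decide
    rw [this, fact2 0 11 (by decide)]
    exact Nat.zero_le _
  · have : cOrd 11 = 2 ^ 0 * 11 := by decide
    rw [this, fact2 0 11 (by decide)]
    exact Nat.zero_le _

end Cfsg.Agent.Lib.Helper29.M22B
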