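import Cfsg.Agent.S5607
import Cfsg.Agent.Lib.Helper9.M24BE16

/-!
# The `hinv` hypothesis of `Helper82.OneBlock.sameBlock_244823040` for `M24` (helper89, for S5006)

For a fixed-point-free involution `t0` of `M24` (class `2B`), the kernel `QB` of the action of
`C0 = C_{M24}(t0)` on the six tetrads of its invariant sextet is a normal elementary abelian
2-subgroup (of order `2^6`) of `C0` containing its centralizer in `C0`; all of it is read off the
enumeration `c = s * K_p` (`s ∈ stabGood`, `K_p` the transversal) of the `7680` elements of `C0`.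
With `Helper9.M24BE16` (class `2A`) and `S5394` (exactly two classes of involutions) this gives the
hypothesis `hinv` for every involution of `M24`.
-/

set_option autoImplicit false

namespace Cfsg.Agent.Lib.Helper89.M24BHinv

open Cfsg Cfsg.Agent.Lib.Helper93 Cfsg.Agent.S5394 Cfsg.Agent.Lib.Helper89 Cfsg.Agent.S5607
open Cfsg.Agent.Lib.Helper7 hiding uT uP
open scoped Pointwise

/-! ### The transversal and the enumeration of `C0` -/

/-- table of the transversal element mapping `p` to `∞` -/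
def KT (p : ℕ) : List ℕ := siftAux 0 (transQ.getD p []) idT

/-- the transversal element mapping `p` to `∞` -/
noncomputable def KP (p : ℕ) : Equiv.Perm GolayPt := siftP 0 (transQ.getD p []) 1

theorem KP_matches (p : ℕ) : Matches (KP p) (KT p) := siftP_matches _ _ _ _ matches_one

theorem KP_mem_C0 {p : ℕ} (hp : p < 24) : KP p ∈ C0 :=
  ⟨siftP_mem _ _ _ M24.one_mem,
    eq_of_eqT (matches_mul (KP_matches p) t0_matches) (matches_mul t0_matches (KP_matches p))
      (trans_check p hp).2⟩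

theorem KP_apply {p : ℕ} (hp : p < 24) : KP p (pt p) = bp 0 :=
  matches_apply (KP_matches p) hp (by decide : 23 < 24) (trans_check p hp).1

/-- every element of `C0` is `s * K_p` with `s` in the point stabilizer -/
theorem cent_enum {c : Equiv.Perm GolayPt} (hc : c ∈ C0) :
    ∃ p < 24, ∃ Ts ∈ stabGood, Matches c (compT Ts (KT p)) := by
  have hp24 : idx (c⁻¹ (bp 0)) < 24 := idx_lt _
  have hK := KP_mem_C0 hp24
  have hs : c * (KP (idx (c⁻¹ (bp 0))))⁻¹ ∈ C0 := C0.mul_mem hc (C0.inv_mem hK)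
  have hfix : (c * (KP (idx (c⁻¹ (bp 0))))⁻¹) (bp 0) = bp 0 := by
    rw [Equiv.Perm.mul_apply]
    have h1 : (KP (idx (c⁻¹ (bp 0))))⁻¹ (bp 0) = pt (idx (c⁻¹ (bp 0))) := by
      rw [Equiv.Perm.inv_eq_iff_eq]
      exact (KP_apply hp24).symm
    rw [h1, pt_idx]
    simp
  obtain ⟨Ts, hTs, hm⟩ := stab_enum hs.1 hs.2 hfix
  refine ⟨_, hp24, Ts, hTs, ?_⟩
  have h2 := matches_mul hm (KP_matches (idx (c⁻¹ (bp 0))))
  rw [inv_mul_cancel_right] at h2
  exact h2

/-- conversely the tables `Ts * K_p` belong to elements of `C0` -/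
theorem exists_of_enum {p : ℕ} (hp : p < 24) {Ts : List ℕ} (hTs : Ts ∈ stabGood) :
    ∃ c ∈ C0, Matches c (compT Ts (KT p)) := by
  obtain ⟨s, hsM, hsm, hst, _⟩ := exists_of_mem_stabGood hTs
  exact ⟨s * KP p, C0.mul_mem ⟨hsM, hst⟩ (KP_mem_C0 hp), matches_mul hsm (KP_matches p)⟩

/-! ### The kernel on the tetrads -/

/-- the table fixes each of the six tetrads -/
def fixT (T : List ℕ) : Bool := S0L.all fun m => mapsInto T m m

/-- the kernel of `C0` on the six tetrads -/
def QB : Subgroup (Equiv.Perm GolayPt) where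
  carrier := {c | c ∈ C0 ∧ ∀ m ∈ S0L, c • setOf m = setOf m}
  one_mem' := ⟨C0.one_mem, fun m _ => one_smul _ _⟩
  mul_mem' := by
    rintro a b ⟨ha, ha'⟩ ⟨hb, hb'⟩
    exact ⟨C0.mul_mem ha hb, fun m hm => by rw [mul_smul, hb' m hm, ha' m hm]⟩
  inv_mem' := by
    rintro a ⟨ha, ha'⟩
    exact ⟨C0.inv_mem ha, fun m hm => by rw [inv_smul_eq_iff, ha' m hm]⟩

theorem mem_QB {c : Equiv.Perm GolayPt} :
    c ∈ QB ↔ c ∈ C0 ∧ ∀ m ∈ S0L, c • setOf m = setOf m := Iff.rfl

theorem smul_of_fixT {c : Equiv.Perm GolayPt} {T : List ℕ} (hm : Matches c T)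
    (h : fixT T = true) : ∀ m ∈ S0L, c • setOf m = setOf m := by
  intro m hmL
  rw [fixT, List.all_eq_true] at h
  exact smul_setOf_eq_of_mapsInto hm (h m hmL) le_rfl

theorem fixT_of_smul {c : Equiv.Perm GolayPt} {T : List ℕ} (hm : Matches c T)
    (h : ∀ m ∈ S0L, c • setOf m = setOf m) : fixT T = true := by
  rw [fixT, List.all_eq_true]
  intro m hmL
  rw [mapsInto, List.all_eq_true]
  intro i hi
  rw [List.mem_range] at hi
  rw [Bool.or_eq_true, Bool.not_eq_true']
  by_cases hb : m.testBit i = true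
  · right
    have h1 : pt i ∈ setOf m := by rw [mem_setOf, idx_pt hi]; exact hb
    have h2 : c (pt i) ∈ c • setOf m := Finset.smul_mem_smul_finset h1
    rw [h m hmL, mem_setOf, hm (pt i), idx_pt hi] at h2
    exact h2
  · left
    simpa using hb

theorem getD_mem_stabGood {j : ℕ} (hj : j < 320) : stabGood.getD j [] ∈ stabGood := by
  have h : j < stabGood.length := by rw [stabGood_length]; exact hj
  rw [List.getD_eq_getElem _ _ h]
  exact List.getElem_mem h

/-- tables of two elements of the kernel whose centralizer in `C0` is the kernel -/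
def G1 : List ℕ := compT (stabGood.getD 0 []) (KT 0)

/-- tables of two elements of the kernel whose centralizer in `C0` is the kernel -/
def G2 : List ℕ := compT (stabGood.getD 1 []) (KT 0)

/-- the certificate: elements of the kernel are involutions -/
theorem cert_sq : ∀ p < 24, ∀ Ts ∈ stabGood, fixT (compT Ts (KT p)) = true →
    eqT (compT (compT Ts (KT p)) (compT Ts (KT p))) idT = true := by
  rw [stabGood_eq]
  decide +kernel

/-- the certificate: `G1`, `G2` fix the tetrads, and an element of `C0` commuting with both fixes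
the tetrads -/
theorem cert_cent : fixT G1 = true ∧ fixT G2 = true ∧ ∀ p < 24, ∀ Ts ∈ stabGood,
    eqT (compT (compT Ts (KT p)) G1) (compT G1 (compT Ts (KT p))) = true →
    eqT (compT (compT Ts (KT p)) G2) (compT G2 (compT Ts (KT p))) = true →
    fixT (compT Ts (KT p)) = true := by
  rw [G1, G2, stabGood_eq]
  decide +kernel

theorem exists_gen1 : ∃ g ∈ QB, Matches g G1 := by
  obtain ⟨c, hc, hm⟩ := exists_of_enum (p := 0) (by decide) (getD_mem_stabGood (j := 0) (by decide))
  exact ⟨c, ⟨hc, smul_of_fixT hm cert_cent.1⟩, hm⟩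

theorem exists_gen2 : ∃ g ∈ QB, Matches g G2 := by
  obtain ⟨c, hc, hm⟩ := exists_of_enum (p := 0) (by decide) (getD_mem_stabGood (j := 1) (by decide))
  exact ⟨c, ⟨hc, smul_of_fixT hm cert_cent.2.1⟩, hm⟩

/-- elements of the kernel are involutions -/
theorem mul_self_of_mem_QB {c : Equiv.Perm GolayPt} (hc : c ∈ QB) : c * c = 1 := by
  obtain ⟨p, hp, Ts, hTs, hm⟩ := cent_enum hc.1
  have hf := fixT_of_smul hm hc.2
  exact eq_of_eqT (matches_mul hm hm) matches_one (cert_sq p hp Ts hTs hf)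

/-- the kernel contains its centralizer in `C0` -/
theorem mem_QB_of_commute {c : Equiv.Perm GolayPt} (hc : c ∈ C0)
    (hcomm : ∀ g ∈ QB, c * g = g * c) : c ∈ QB := by
  obtain ⟨p, hp, Ts, hTs, hm⟩ := cent_enum hc
  obtain ⟨g1, hg1, hm1⟩ := exists_gen1
  obtain ⟨g2, hg2, hm2⟩ := exists_gen2
  have e1 : eqT (compT (compT Ts (KT p)) G1) (compT G1 (compT Ts (KT p))) = true :=
    eqT_of_matches (matches_mul hm hm1) (by rw [hcomm g1 hg1]; exact matches_mul hm1 hm)
  have e2 : eqT (compT (compT Ts (KT p)) G2) (compT G2 (compT Ts (KT p))) = true :=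
    eqT_of_matches (matches_mul hm hm2) (by rw [hcomm g2 hg2]; exact matches_mul hm2 hm)
  exact ⟨hc, smul_of_fixT hm (cert_cent.2.2 p hp Ts hTs e1 e2)⟩

/-- conjugation by `C0` preserves the kernel -/
theorem conj_mem_QB {g n : Equiv.Perm GolayPt} (hg : g ∈ C0) (hn : n ∈ QB) :
    g * n * g⁻¹ ∈ QB := by
  refine ⟨C0.mul_mem (C0.mul_mem hg hn.1) (C0.inv_mem hg), ?_⟩
  intro m hmL
  have h1 : g⁻¹ • setOf m ∈ S0 := by
    have h2 : g⁻¹ • setOf m ∈ g⁻¹ • S0 :=
      Finset.smul_mem_smul_finset (mem_S0.mpr ⟨m, hmL, rfl⟩)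
    rw [smul_S0_of_mem_C0 (C0.inv_mem hg)] at h2
    exact h2
  obtain ⟨m', hm'L, hm'⟩ := mem_S0.mp h1
  rw [mul_smul, mul_smul, ← hm', hn.2 m' hm'L, hm', smul_inv_smul]

/-! ### The subgroup `E` of the centralizer of `t0` in `↥M24` -/

/-- the `2B` involution of `M24` -/
noncomputable def t24 : ↥M24 := ⟨t0, t0_mem⟩

theorem orderOf_t24 : orderOf t24 = 2 := by
  rw [← orderOf_t0]
  exact Subgroup.orderOf_mk t0 t0_mem

/-- elements of the centralizer of `t24`, as permutations, lie in `C0` -/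
theorem coe_mem_C0 (c : Subgroup.centralizer ({t24} : Set ↥M24)) :
    ((c : ↥M24) : Equiv.Perm GolayPt) ∈ C0 := by
  refine ⟨(c : ↥M24).2, ?_⟩
  have h := Subgroup.mem_centralizer_singleton_iff.mp c.2
  exact congrArg Subtype.val h

/-- lift of an element of `C0` -/
noncomputable def liftC {g : Equiv.Perm GolayPt} (hg : g ∈ C0) :
    Subgroup.centralizer ({t24} : Set ↥M24) :=
  ⟨⟨g, hg.1⟩, Subgroup.mem_centralizer_singleton_iff.mpr (Subtype.ext hg.2)⟩

/-- the kernel on the tetrads, as a subgroup of the centralizer of `t24` -/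
noncomputable def EB : Subgroup (Subgroup.centralizer ({t24} : Set ↥M24)) :=
  QB.comap ((M24.subtype).comp (Subgroup.centralizer ({t24} : Set ↥M24)).subtype)

theorem mem_EB (c : Subgroup.centralizer ({t24} : Set ↥M24)) :
    c ∈ EB ↔ ((c : ↥M24) : Equiv.Perm GolayPt) ∈ QB := Iff.rfl

theorem EB_normal : EB.Normal := by
  constructor
  intro n hn g
  rw [mem_EB] at hn ⊢
  exact conj_mem_QB (coe_mem_C0 g) hn

theorem EB_isPGroup : IsPGroup 2 EB := by
  rintro ⟨c, hc⟩
  refine ⟨1, ?_⟩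
  rw [mem_EB] at hc
  have h := mul_self_of_mem_QB hc
  apply Subtype.ext
  apply Subtype.ext
  apply Subtype.ext
  rw [pow_one, pow_two]
  exact h

theorem EB_selfCentralizing :
    Subgroup.centralizer (EB : Set (Subgroup.centralizer ({t24} : Set ↥M24))) ≤ EB := by
  intro c hc
  rw [mem_EB]
  apply mem_QB_of_commute (coe_mem_C0 c)
  intro g hg
  have hgE : liftC hg.1 ∈ EB := by rw [mem_EB]; exact hg
  have h := Subgroup.mem_centralizer_iff.mp hc (liftC hg.1) hgE
  have h' := congrArg (fun x : Subgroup.centralizer ({t24} : Set ↥M24) =>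
    ((x : ↥M24) : Equiv.Perm GolayPt)) h
  exact h'.symm

/-- the normal self-centralizing 2-subgroup of the centralizer of `t24` -/
theorem exists_E64_M24 : ∃ E : Subgroup (Subgroup.centralizer ({t24} : Set ↥M24)), E.Normal ∧
    IsPGroup 2 E ∧ Subgroup.centralizer (E : Set (Subgroup.centralizer ({t24} : Set ↥M24))) ≤ E :=
  ⟨EB, EB_normal, EB_isPGroup, EB_selfCentralizing⟩

/-- the `hinv` clause for every involution of `M24` conjugate to `t0` -/
theorem hinv_of_isConj_t24 (z : ↥M24) (hz : IsConj z t24) :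
    ∃ x : ↥M24, ∃ E : Subgroup (Subgroup.centralizer ({x * z * x⁻¹} : Set ↥M24)), E.Normal ∧
      IsPGroup 2 E ∧
      Subgroup.centralizer (E : Set (Subgroup.centralizer ({x * z * x⁻¹} : Set ↥M24))) ≤ E := by
  obtain ⟨x, hx⟩ := isConj_iff.mp hz
  refine ⟨x, ?_⟩
  rw [hx]
  exact exists_E64_M24

/-! ### Every involution of `M24` -/

open Cfsg.Agent.Lib.Helper9.M24BE16 Cfsg.Agent.Lib.Helper89.M24CentA in
/-- the hypothesis `hinv` of `Helper82.OneBlock.sameBlock_244823040` for `G = ↥M24` -/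
theorem hinv_M24 (z : ↥M24) (hz : orderOf z = 2) :
    ∃ x : ↥M24, ∃ E : Subgroup (Subgroup.centralizer ({x * z * x⁻¹} : Set ↥M24)), E.Normal ∧
      IsPGroup 2 E ∧
      Subgroup.centralizer (E : Set (Subgroup.centralizer ({x * z * x⁻¹} : Set ↥M24))) ≤ E := by
  obtain ⟨_, _, _, hconj⟩ := Cfsg.Agent.S5394.result
  have hzo : orderOf (z : Equiv.Perm GolayPt) = 2 := by rw [Subgroup.orderOf_coe]; exact hz
  by_cases hfpf : ∀ p, (z : Equiv.Perm GolayPt) p ≠ p
  · -- class 2B
    obtain ⟨k, hk, hkz⟩ := hconj _ z.2 t0 t0_mem hzo orderOf_t0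
      (iff_of_true hfpf t0_fpf)
    apply hinv_of_isConj_t24
    exact isConj_iff.mpr ⟨⟨k, hk⟩, Subtype.ext hkz⟩
  · -- class 2A
    have hzA : ¬ ∀ p, zA p ≠ p := by
      intro h
      obtain ⟨p, hp⟩ : ∃ p, p ∈ Cfsg.Agent.Lib.Helper7.setOf octO := by
        have hcard : (Cfsg.Agent.Lib.Helper7.setOf octO).card = 8 := octO_mem.2
        exact Finset.card_pos.mp (by rw [hcard]; norm_num)
      exact h p ((zA_fix_iff p).mpr hp)
    have hoA : orderOf zA = 2 := by
      have := orderOf_z24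
      rw [← Subgroup.orderOf_coe] at this
      exact this
    obtain ⟨k, hk, hkz⟩ := hconj _ z.2 zA zA_mem hzo hoA (iff_of_false hfpf hzA)
    apply hinv_of_isConj_z24
    exact isConj_iff.mpr ⟨⟨k, hk⟩, Subtype.ext hkz⟩

end Cfsg.Agent.Lib.Helper89.M24BHinv
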