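import Cfsg.Agent.Lib.Helper93.M24Extra
import Cfsg.Agent.Lib.Helper7.M24OctStab
import Cfsg.Agent.S5394

/-!
# The centralizer in `M24` of a fixed-point-free involution (helper89)

`t0` is a fixed-point-free involution of `M24` exchanging `∞, 0`, `1, 2` and `3, 4`.  Its centralizer
is enumerated through the stabilizer chain of `Helper7`: 24 coset representatives (transitivity) and
the 320 elements fixing `∞`.
-/

set_option autoImplicit false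

namespace Cfsg.Agent.Lib.Helper89

open Cfsg Cfsg.Agent.Lib.Helper93 Cfsg.Agent.S5394
open Cfsg.Agent.Lib.Helper7 hiding uT uP
open scoped Pointwise

/-! ### Sift products -/

/-- the chain element of level `i` for the orbit point `q` -/
noncomputable def uP (i q : ℕ) : Equiv.Perm GolayPt := chainP.getD ((lookupT.getD i []).getD q 0) 1

theorem uP_mem (i q : ℕ) : uP i q ∈ M24 := genH_le_M24 (chainP_mem_genH _)

theorem uP_matches (i q : ℕ) : Matches (uP i q) (uT i q) :=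
  forall₂_getD chain_match matches_one _

/-- table of `u_k * ... * u_i * acc` for the orbit points `qs` of levels `i, i+1, ...` -/
def siftAux : ℕ → List ℕ → List ℕ → List ℕ
  | _, [], acc => acc
  | i, q :: qs, acc => siftAux (i + 1) qs (compT (uT i q) acc)

/-- the corresponding permutation -/
noncomputable def siftP : ℕ → List ℕ → Equiv.Perm GolayPt → Equiv.Perm GolayPt
  | _, [], acc => acc
  | i, q :: qs, acc => siftP (i + 1) qs (uP i q * acc)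

theorem siftP_mem : ∀ (qs : List ℕ) (i : ℕ) (acc : Equiv.Perm GolayPt), acc ∈ M24 →
    siftP i qs acc ∈ M24 := by
  intro qs
  induction qs with
  | nil => intro i acc h; exact h
  | cons q qs ih => intro i acc h; exact ih (i + 1) _ (M24.mul_mem (uP_mem i q) h)

theorem siftP_matches : ∀ (qs : List ℕ) (i : ℕ) (acc : Equiv.Perm GolayPt) (t : List ℕ),
    Matches acc t → Matches (siftP i qs acc) (siftAux i qs t) := by
  intro qs
  induction qs with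
  | nil => intro i acc t h; exact h
  | cons q qs ih => intro i acc t h; exact ih (i + 1) _ _ (matches_mul (uP_matches i q) h)

/-- sifting step with the orbit point exposed -/
theorem sift_step2 {i : ℕ} (hi : i < 7) {s : Equiv.Perm GolayPt} (hs : s ∈ M24)
    (hfix : ∀ j < i, s (bp j) = bp j) {q : ℕ} (hq : idx (s (bp i)) = q) :
    orbitOK i q = true ∧ q < 24 ∧ ∃ u ∈ M24, Matches u (uT i q) ∧
      ∀ j < i + 1, (u * s) (bp j) = bp j := by
  subst hq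
  refine ⟨orbitOK_of_fixes hs hi hfix, idx_lt _, ?_⟩
  obtain ⟨u, hu, hum, hufix, huq⟩ := exists_chain_elem' hi (idx_lt (s (bp i)))
    (orbitOK_of_fixes hs hi hfix)
  rw [pt_idx] at huq
  refine ⟨u, hu, hum, fun j hj => ?_⟩
  rw [Equiv.Perm.mul_apply]
  by_cases hji : j < i
  · rw [hfix j hji, hufix j hji]
  · have : j = i := by omega
    subst this
    exact huq

/-! ### The involution `t0` -/

/-- sift data of `t0` -/
def t0Q : List ℕ := [0, 0, 11, 16, 15, 18, 5]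

def t0T : List ℕ := siftAux 0 t0Q idT

noncomputable def t0 : Equiv.Perm GolayPt := siftP 0 t0Q 1

theorem t0_mem : t0 ∈ M24 := siftP_mem _ _ _ M24.one_mem

theorem t0_matches : Matches t0 t0T := siftP_matches _ _ _ _ matches_one

theorem t0T_spec : isInvolT t0T = true ∧ fixIs t0T 0 = true ∧ t0T.getD 23 0 = 0 ∧
    t0T.getD 0 0 = 23 ∧ t0T.getD 1 0 = 2 ∧ t0T.getD 2 0 = 1 ∧ t0T.getD 3 0 = 4 ∧
    t0T.getD 4 0 = 3 := by
  decide +kernel

theorem t0_mul_self : t0 * t0 = 1 := mul_self_of_isInvolT t0_matches t0T_spec.1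

theorem t0_fpf (p : GolayPt) : t0 p ≠ p := by
  intro h
  have := (fix_iff_of_fixIs t0_matches t0T_spec.2.1 p).mp h
  rw [setOf_zero] at this
  exact absurd this (Finset.notMem_empty p)

theorem t0_bp0 : t0 (bp 0) = bp 1 :=
  matches_apply t0_matches (i := 23) (j := 0) (by decide) (by decide) t0T_spec.2.2.1

theorem t0_bp2 : t0 (bp 2) = bp 3 :=
  matches_apply t0_matches (i := 1) (j := 2) (by decide) (by decide) t0T_spec.2.2.2.2.1

theorem t0_bp4 : t0 (bp 4) = bp 5 :=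
  matches_apply t0_matches (i := 3) (j := 4) (by decide) (by decide) t0T_spec.2.2.2.2.2.2.1

theorem orderOf_t0 : orderOf t0 = 2 := by
  have : Fact (Nat.Prime 2) := ⟨Nat.prime_two⟩
  apply orderOf_eq_prime
  · rw [pow_two]; exact t0_mul_self
  · intro h
    exact t0_fpf none (by rw [h]; rfl)

/-! ### Enumeration of the elements of the centralizer fixing `∞` -/

def lvl6 (W5 : List ℕ) : List (List ℕ) :=
  ((List.range 24).filter (orbitOK 6)).map fun e => compT (uT 6 e) W5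

def lvl4 (W3 : List ℕ) : List (List ℕ) :=
  (List.range 24).flatMap fun d =>
    if orbitOK 4 (W3.getD d 0) then
      if orbitOK 5 ((compT (uT 4 (W3.getD d 0)) W3).getD (t0T.getD d 0) 0) then
        lvl6 (compT (uT 5 ((compT (uT 4 (W3.getD d 0)) W3).getD (t0T.getD d 0) 0))
          (compT (uT 4 (W3.getD d 0)) W3))
      else []
    else []

def lvl2 : List (List ℕ) :=
  (List.range 24).flatMap fun b =>
    if orbitOK 2 b then
      if orbitOK 3 ((uT 2 b).getD (t0T.getD b 0) 0) then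
        lvl4 (compT (uT 3 ((uT 2 b).getD (t0T.getD b 0) 0)) (uT 2 b))
      else []
    else []

def commT (K : List ℕ) : Bool := eqT (compT K t0T) (compT t0T K)

/-- tables of the elements of the centralizer of `t0` fixing `∞` -/
def stabGood : List (List ℕ) := lvl2.filter commT

theorem mem_lvl6 {W5 : List ℕ} {e : ℕ} (he : e < 24) (ok : orbitOK 6 e = true) :
    compT (uT 6 e) W5 ∈ lvl6 W5 := by
  simp only [lvl6, List.mem_map, List.mem_filter, List.mem_range]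
  exact ⟨e, ⟨he, ok⟩, rfl⟩

theorem mem_lvl4 {W3 X : List ℕ} {d : ℕ} (hd : d < 24) (ok4 : orbitOK 4 (W3.getD d 0) = true)
    (ok5 : orbitOK 5 ((compT (uT 4 (W3.getD d 0)) W3).getD (t0T.getD d 0) 0) = true)
    (hX : X ∈ lvl6 (compT (uT 5 ((compT (uT 4 (W3.getD d 0)) W3).getD (t0T.getD d 0) 0))
          (compT (uT 4 (W3.getD d 0)) W3))) : X ∈ lvl4 W3 := by
  simp only [lvl4, List.mem_flatMap, List.mem_range]
  refine ⟨d, hd, ?_⟩
  rw [if_pos ok4, if_pos ok5]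
  exact hX

theorem mem_lvl2 {X : List ℕ} {b : ℕ} (hb : b < 24) (ok2 : orbitOK 2 b = true)
    (ok3 : orbitOK 3 ((uT 2 b).getD (t0T.getD b 0) 0) = true)
    (hX : X ∈ lvl4 (compT (uT 3 ((uT 2 b).getD (t0T.getD b 0) 0)) (uT 2 b))) : X ∈ lvl2 := by
  simp only [lvl2, List.mem_flatMap, List.mem_range]
  refine ⟨b, hb, ?_⟩
  rw [if_pos ok2, if_pos ok3]
  exact hX

theorem eqT_of_matches {g : Equiv.Perm GolayPt} {a b : List ℕ} (ha : Matches g a)
    (hb : Matches g b) : eqT a b = true := by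
  simp only [eqT, List.all_eq_true, List.mem_range, beq_iff_eq]
  intro i hi
  have h1 := ha (pt i)
  have h2 := hb (pt i)
  rw [idx_pt hi] at h1 h2
  rw [← h1, ← h2]

theorem stab_enum {c : Equiv.Perm GolayPt} (hc : c ∈ M24) (hct : c * t0 = t0 * c)
    (hfix : c (bp 0) = bp 0) : ∃ T ∈ stabGood, Matches c T := by
  have hsM : c⁻¹ ∈ M24 := M24.inv_mem hc
  have hst : c⁻¹ * t0 = t0 * c⁻¹ := by
    calc c⁻¹ * t0 = c⁻¹ * (t0 * c) * c⁻¹ := by group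
      _ = c⁻¹ * (c * t0) * c⁻¹ := by rw [hct]
      _ = t0 * c⁻¹ := by group
  have hst' : ∀ p, c⁻¹ (t0 p) = t0 (c⁻¹ p) := by
    intro p
    rw [← Equiv.Perm.mul_apply, ← Equiv.Perm.mul_apply, hst]
  have s0 : c⁻¹ (bp 0) = bp 0 := by
    rw [Equiv.Perm.inv_eq_iff_eq]; exact hfix.symm
  have s1 : c⁻¹ (bp 1) = bp 1 := by rw [← t0_bp0, hst', s0]
  have hfix2 : ∀ j < 2, c⁻¹ (bp j) = bp j := by
    intro j hj
    have : j = 0 ∨ j = 1 := by omega
    rcases this with rfl | rfl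
    · exact s0
    · exact s1
  -- level 2
  obtain ⟨b, hb⟩ : ∃ b, idx (c⁻¹ (bp 2)) = b := ⟨_, rfl⟩
  obtain ⟨ok2, hb24, u2, hu2, m2, hfix3⟩ := sift_step2 (i := 2) (by decide) hsM hfix2 hb
  -- level 3
  have hq3 : idx ((u2 * c⁻¹) (bp 3)) = (uT 2 b).getD (t0T.getD b 0) 0 := by
    rw [Equiv.Perm.mul_apply, m2 (c⁻¹ (bp 3)), ← t0_bp2, hst', t0_matches (c⁻¹ (bp 2)), hb]
  obtain ⟨ok3, _, u3, hu3, m3, hfix4⟩ := sift_step2 (i := 3) (by decide)
    (M24.mul_mem hu2 hsM) hfix3 hq3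
  -- level 4
  have m32 : Matches (u3 * u2) (compT (uT 3 ((uT 2 b).getD (t0T.getD b 0) 0)) (uT 2 b)) :=
    matches_mul m3 m2
  obtain ⟨d, hd⟩ : ∃ d, idx (c⁻¹ (bp 4)) = d := ⟨_, rfl⟩
  have hd24 : d < 24 := by rw [← hd]; exact idx_lt _
  have hq4 : idx ((u3 * (u2 * c⁻¹)) (bp 4)) =
      (compT (uT 3 ((uT 2 b).getD (t0T.getD b 0) 0)) (uT 2 b)).getD d 0 := by
    have : (u3 * (u2 * c⁻¹)) (bp 4) = (u3 * u2) (c⁻¹ (bp 4)) := by
      simp only [Equiv.Perm.mul_apply]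
    rw [this, m32 (c⁻¹ (bp 4)), hd]
  obtain ⟨ok4, _, u4, hu4, m4, hfix5⟩ := sift_step2 (i := 4) (by decide)
    (M24.mul_mem hu3 (M24.mul_mem hu2 hsM)) hfix4 hq4
  -- level 5
  have m432 := matches_mul m4 m32
  have hq5 : idx ((u4 * (u3 * (u2 * c⁻¹))) (bp 5)) =
      (compT (uT 4 ((compT (uT 3 ((uT 2 b).getD (t0T.getD b 0) 0)) (uT 2 b)).getD d 0))
        (compT (uT 3 ((uT 2 b).getD (t0T.getD b 0) 0)) (uT 2 b))).getD (t0T.getD d 0) 0 := by
    have : (u4 * (u3 * (u2 * c⁻¹))) (bp 5) = (u4 * (u3 * u2)) (c⁻¹ (bp 5)) := by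
      simp only [Equiv.Perm.mul_apply]
    rw [this, m432 (c⁻¹ (bp 5)), ← t0_bp4, hst', t0_matches (c⁻¹ (bp 4)), hd]
  obtain ⟨ok5, _, u5, hu5, m5, hfix6⟩ := sift_step2 (i := 5) (by decide)
    (M24.mul_mem hu4 (M24.mul_mem hu3 (M24.mul_mem hu2 hsM))) hfix5 hq5
  -- level 6
  obtain ⟨e, he⟩ : ∃ e, idx ((u5 * (u4 * (u3 * (u2 * c⁻¹)))) (bp 6)) = e := ⟨_, rfl⟩
  obtain ⟨ok6, he24, u6, hu6, m6, hfix7⟩ := sift_step2 (i := 6) (by decide)
    (M24.mul_mem hu5 (M24.mul_mem hu4 (M24.mul_mem hu3 (M24.mul_mem hu2 hsM)))) hfix6 he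
  have hone : u6 * (u5 * (u4 * (u3 * (u2 * c⁻¹)))) = 1 :=
    eq_one_of_fixes_base (M24.mul_mem hu6 (M24.mul_mem hu5 (M24.mul_mem hu4 (M24.mul_mem hu3
      (M24.mul_mem hu2 hsM))))) hfix7
  have hceq : u6 * (u5 * (u4 * (u3 * u2))) = c := by
    have e1 : (u6 * (u5 * (u4 * (u3 * u2)))) * c⁻¹ = 1 := by
      rw [← hone]; simp only [mul_assoc]
    calc u6 * (u5 * (u4 * (u3 * u2))) = ((u6 * (u5 * (u4 * (u3 * u2)))) * c⁻¹) * c := by group
      _ = c := by rw [e1, one_mul]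
  have mc := matches_mul m6 (matches_mul m5 m432)
  rw [hceq] at mc
  refine ⟨_, ?_, mc⟩
  rw [stabGood, List.mem_filter]
  refine ⟨mem_lvl2 hb24 ok2 ok3 (mem_lvl4 hd24 ok4 ok5 (mem_lvl6 he24 ok6)), ?_⟩
  rw [commT]
  exact eqT_of_matches (matches_mul mc t0_matches) (by rw [hct]; exact matches_mul t0_matches mc)

/-! ### The list is exact -/

/-- sift data (levels 2 to 6) of the 320 elements -/
def stabParams : List (List ℕ) :=
  [[1, 2, 3, 4, 5], [1, 2, 4, 15, 5], [1, 2, 5, 6, 17], [1, 2, 6, 4, 17], [1, 2, 7, 16, 14],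
   [1, 2, 9, 20, 5], [1, 2, 10, 8, 17], [1, 2, 13, 11, 17], [1, 2, 14, 8, 5], [1, 2, 15, 21, 14],
   [1, 2, 16, 6, 14], [1, 2, 17, 4, 17], [1, 2, 19, 15, 17], [1, 2, 20, 12, 17], [1, 2, 21, 8, 5],
   [1, 2, 22, 15, 14], [2, 2, 11, 20, 5], [2, 2, 13, 19, 17], [2, 2, 8, 8, 14], [2, 2, 6, 4, 5],
   [2, 2, 19, 9, 14], [2, 2, 9, 15, 14], [2, 2, 10, 8, 14], [2, 2, 4, 11, 14], [2, 2, 12, 21, 14],
   [2, 2, 20, 18, 17], [2, 2, 16, 9, 5], [2, 2, 18, 15, 14], [2, 2, 7, 4, 17], [2, 2, 15, 19, 14],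
   [2, 2, 21, 18, 5], [2, 2, 22, 4, 17], [3, 18, 19, 21, 17], [3, 18, 8, 7, 5], [3, 18, 4, 15, 14],
   [3, 18, 16, 19, 14], [3, 18, 11, 4, 5], [3, 18, 12, 4, 17], [3, 18, 3, 4, 17], [3, 18, 21, 21, 14],
   [3, 18, 22, 20, 5], [3, 18, 17, 16, 14], [3, 18, 5, 19, 5], [3, 18, 14, 11, 14], [3, 18, 6, 15, 14],
   [3, 18, 7, 19, 14], [3, 18, 18, 8, 5], [3, 18, 13, 8, 14], [4, 10, 9, 13, 17], [4, 10, 5, 10, 5],
   [4, 10, 16, 18, 14], [4, 10, 4, 6, 5], [4, 10, 17, 19, 5], [4, 10, 3, 20, 14], [4, 10, 19, 13, 17],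
   [4, 10, 10, 16, 17], [4, 10, 22, 18, 5], [4, 10, 6, 21, 17], [4, 10, 21, 9, 5], [4, 10, 7, 12, 14],
   [4, 10, 20, 7, 14], [4, 10, 15, 13, 14], [4, 10, 14, 10, 14], [4, 10, 13, 10, 14],
   [5, 13, 22, 8, 17], [5, 13, 19, 22, 17], [5, 13, 20, 16, 14], [5, 13, 15, 11, 5],
   [5, 13, 21, 20, 17], [5, 13, 13, 10, 17], [5, 13, 11, 8, 5], [5, 13, 4, 7, 5], [5, 13, 8, 20, 17],
   [5, 13, 12, 10, 17], [5, 13, 10, 10, 5], [5, 13, 9, 21, 5], [5, 13, 7, 12, 5], [5, 13, 6, 7, 17],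
   [5, 13, 16, 8, 5], [5, 13, 18, 6, 17], [6, 12, 7, 6, 14], [6, 12, 11, 16, 14], [6, 12, 6, 15, 5],
   [6, 12, 12, 4, 5], [6, 12, 8, 21, 5], [6, 12, 19, 19, 17], [6, 12, 13, 16, 5], [6, 12, 18, 11, 5],
   [6, 12, 21, 6, 17], [6, 12, 9, 12, 17], [6, 12, 16, 22, 5], [6, 12, 20, 9, 5], [6, 12, 10, 6, 17],
   [6, 12, 15, 20, 17], [6, 12, 22, 7, 5], [6, 12, 4, 22, 14], [7, 13, 7, 22, 17], [7, 13, 20, 8, 17],
   [7, 13, 9, 10, 17], [7, 13, 21, 12, 5], [7, 13, 6, 4, 14], [7, 13, 19, 20, 17], [7, 13, 18, 16, 17],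
   [7, 13, 15, 7, 5], [7, 13, 10, 8, 5], [7, 13, 11, 6, 14], [7, 13, 3, 11, 5], [7, 13, 8, 13, 14],
   [7, 13, 14, 7, 17], [7, 13, 17, 10, 5], [7, 13, 12, 11, 17], [7, 13, 5, 16, 14], [8, 5, 19, 20, 17],
   [8, 5, 15, 7, 5], [8, 5, 7, 22, 17], [8, 5, 3, 11, 5], [8, 5, 5, 16, 14], [8, 5, 17, 10, 5],
   [8, 5, 11, 6, 14], [8, 5, 20, 8, 17], [8, 5, 9, 10, 17], [8, 5, 8, 13, 14], [8, 5, 21, 12, 5],
   [8, 5, 10, 8, 5], [8, 5, 12, 11, 17], [8, 5, 14, 7, 17], [8, 5, 18, 16, 17], [8, 5, 6, 4, 14],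
   [9, 21, 13, 12, 14], [9, 21, 17, 22, 14], [9, 21, 6, 22, 14], [9, 21, 9, 9, 5], [9, 21, 7, 22, 5],
   [9, 21, 21, 18, 17], [9, 21, 10, 11, 14], [9, 21, 4, 9, 14], [9, 21, 15, 19, 17],
   [9, 21, 14, 18, 17], [9, 21, 20, 8, 14], [9, 21, 16, 21, 17], [9, 21, 19, 10, 14], [9, 21, 3, 16, 5],
   [9, 21, 5, 19, 14], [9, 21, 22, 20, 17], [10, 3, 4, 11, 17], [10, 3, 8, 8, 5], [10, 3, 13, 6, 14],
   [10, 3, 12, 7, 14], [10, 3, 11, 9, 17], [10, 3, 16, 15, 5], [10, 3, 15, 4, 14], [10, 3, 18, 10, 17],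
   [10, 3, 22, 22, 17], [10, 3, 17, 7, 17], [10, 3, 20, 21, 14], [10, 3, 14, 9, 17], [10, 3, 3, 15, 17],
   [10, 3, 5, 10, 17], [10, 3, 9, 13, 5], [10, 3, 10, 22, 17], [11, 13, 14, 13, 5], [11, 13, 6, 18, 5],
   [11, 13, 17, 12, 14], [11, 13, 4, 8, 14], [11, 13, 22, 13, 17], [11, 13, 13, 19, 14],
   [11, 13, 12, 19, 5], [11, 13, 19, 11, 14], [11, 13, 7, 9, 17], [11, 13, 8, 18, 14],
   [11, 13, 5, 18, 14], [11, 13, 21, 16, 5], [11, 13, 11, 20, 14], [11, 13, 16, 15, 14],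
   [11, 13, 18, 10, 14], [11, 13, 3, 21, 17], [13, 6, 7, 11, 14], [13, 6, 16, 12, 14],
   [13, 6, 20, 13, 17], [13, 6, 15, 8, 14], [13, 6, 13, 9, 14], [13, 6, 21, 9, 17], [13, 6, 12, 9, 14],
   [13, 6, 6, 19, 17], [13, 6, 8, 9, 17], [13, 6, 11, 12, 14], [13, 6, 9, 19, 14], [13, 6, 10, 15, 14],
   [13, 6, 22, 18, 14], [13, 6, 4, 21, 17], [13, 6, 19, 16, 5], [13, 6, 18, 7, 14],
   [14, 22, 17, 19, 14], [14, 22, 10, 16, 14], [14, 22, 7, 21, 14], [14, 22, 12, 16, 14],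
   [14, 22, 11, 4, 17], [14, 22, 14, 15, 5], [14, 22, 20, 19, 5], [14, 22, 15, 4, 17],
   [14, 22, 18, 11, 14], [14, 22, 9, 4, 5], [14, 22, 3, 15, 14], [14, 22, 21, 21, 17],
   [14, 22, 5, 20, 5], [14, 22, 19, 19, 14], [14, 22, 8, 19, 17], [14, 22, 6, 20, 5],
   [15, 19, 14, 15, 14], [15, 19, 9, 4, 17], [15, 19, 20, 7, 17], [15, 19, 3, 20, 5],
   [15, 19, 5, 15, 5], [15, 19, 17, 21, 14], [15, 19, 22, 4, 5], [15, 19, 15, 16, 14],
   [15, 19, 10, 4, 5], [15, 19, 16, 10, 17], [15, 19, 11, 15, 14], [15, 19, 4, 8, 5],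
   [15, 19, 18, 15, 5], [15, 19, 8, 11, 17], [15, 19, 13, 7, 5], [15, 19, 12, 19, 14],
   [16, 10, 19, 15, 17], [16, 10, 9, 20, 5], [16, 10, 16, 6, 14], [16, 10, 14, 8, 5],
   [16, 10, 17, 4, 17], [16, 10, 7, 16, 14], [16, 10, 10, 8, 17], [16, 10, 20, 12, 17],
   [16, 10, 5, 6, 17], [16, 10, 15, 21, 14], [16, 10, 21, 8, 5], [16, 10, 22, 15, 14],
   [16, 10, 6, 4, 17], [16, 10, 13, 11, 17], [16, 10, 3, 4, 5], [16, 10, 4, 15, 5], [17, 21, 20, 11, 5],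
   [17, 21, 6, 13, 5], [17, 21, 5, 21, 5], [17, 21, 16, 7, 5], [17, 21, 22, 9, 17],
   [17, 21, 21, 11, 17], [17, 21, 15, 7, 17], [17, 21, 7, 4, 14], [17, 21, 17, 13, 5],
   [17, 21, 10, 12, 5], [17, 21, 9, 15, 17], [17, 21, 3, 22, 17], [17, 21, 19, 20, 5],
   [17, 21, 4, 10, 17], [17, 21, 14, 11, 17], [17, 21, 13, 8, 5], [19, 10, 14, 12, 17],
   [19, 10, 22, 10, 17], [19, 10, 10, 15, 5], [19, 10, 18, 7, 17], [19, 10, 15, 11, 17],
   [19, 10, 9, 6, 14], [19, 10, 8, 15, 17], [19, 10, 3, 4, 14], [19, 10, 11, 11, 5],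
   [19, 10, 4, 15, 17], [19, 10, 12, 10, 5], [19, 10, 5, 21, 14], [19, 10, 20, 22, 17],
   [19, 10, 16, 7, 17], [19, 10, 13, 12, 5], [19, 10, 17, 22, 17], [20, 9, 17, 4, 14],
   [20, 9, 22, 15, 17], [20, 9, 19, 19, 5], [20, 9, 18, 11, 17], [20, 9, 21, 7, 17], [20, 9, 8, 6, 14],
   [20, 9, 6, 9, 17], [20, 9, 3, 13, 5], [20, 9, 7, 7, 14], [20, 9, 13, 18, 5], [20, 9, 12, 13, 5],
   [20, 9, 4, 9, 17], [20, 9, 11, 22, 17], [20, 9, 14, 18, 14], [20, 9, 5, 21, 17], [20, 9, 16, 7, 14],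
   [21, 5, 13, 11, 14], [21, 5, 5, 6, 5], [21, 5, 12, 15, 14], [21, 5, 10, 20, 14], [21, 5, 18, 19, 17],
   [21, 5, 9, 19, 5], [21, 5, 11, 8, 14], [21, 5, 16, 19, 17], [21, 5, 8, 9, 5], [21, 5, 17, 16, 5],
   [21, 5, 15, 18, 17], [21, 5, 3, 22, 5], [21, 5, 20, 16, 5], [21, 5, 22, 9, 14], [21, 5, 4, 9, 5],
   [21, 5, 14, 18, 5], [22, 2, 5, 8, 5], [22, 2, 21, 22, 14], [22, 2, 18, 6, 14], [22, 2, 9, 21, 14],
   [22, 2, 15, 8, 17], [22, 2, 7, 15, 5], [22, 2, 3, 6, 17], [22, 2, 19, 11, 5], [22, 2, 12, 15, 17],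
   [22, 2, 14, 4, 5], [22, 2, 17, 12, 17], [22, 2, 11, 12, 5], [22, 2, 6, 11, 17], [22, 2, 10, 20, 5],
   [22, 2, 8, 15, 5], [22, 2, 20, 22, 14]]

theorem stabGood_eq : stabGood = stabParams.map (fun qs => siftAux 2 qs idT) := by
  decide +kernel

theorem stabParams_length : stabParams.length = 320 := by
  decide +kernel

theorem stabGood_length : stabGood.length = 320 := by
  rw [stabGood_eq, List.length_map, stabParams_length]

theorem stabGood_nodup : stabGood.Nodup := by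
  rw [stabGood_eq]
  decide +kernel

theorem stabGood_fix : ∀ T ∈ stabGood, T.getD 23 0 = 23 := by
  rw [stabGood_eq]
  decide +kernel

theorem exists_of_mem_stabGood {T : List ℕ} (hT : T ∈ stabGood) :
    ∃ K ∈ M24, Matches K T ∧ K * t0 = t0 * K ∧ K (bp 0) = bp 0 := by
  have hT' := hT
  rw [stabGood_eq, List.mem_map] at hT'
  obtain ⟨qs, _, rfl⟩ := hT'
  have hm : Matches (siftP 2 qs 1) (siftAux 2 qs idT) := siftP_matches _ _ _ _ matches_one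
  refine ⟨siftP 2 qs 1, siftP_mem _ _ _ M24.one_mem, hm, ?_, ?_⟩
  · rw [stabGood, List.mem_filter] at hT
    exact eq_of_eqT (matches_mul hm t0_matches) (matches_mul t0_matches hm) hT.2
  · exact matches_apply hm (i := 23) (j := 23) (by decide) (by decide) (stabGood_fix _ hT)

/-! ### Transitivity -/

/-- sift data of elements of the centralizer mapping the point `p` to `∞` -/
def transQ : List (List ℕ) :=
  [[0, 0, 22, 17, 4, 9, 17], [1, 22, 19, 16, 3, 9, 17], [2, 1, 6, 6, 19, 9, 14],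
   [3, 22, 8, 15, 8, 19, 14], [4, 1, 22, 12, 15, 6, 14], [5, 20, 19, 11, 16, 21, 17],
   [6, 8, 8, 14, 14, 10, 17], [7, 7, 15, 6, 3, 7, 14], [8, 9, 15, 16, 9, 7, 17],
   [9, 16, 12, 2, 8, 18, 5], [10, 2, 11, 3, 13, 11, 14], [11, 14, 20, 7, 10, 7, 14],
   [12, 10, 8, 18, 11, 12, 17], [13, 6, 16, 22, 21, 13, 17], [14, 22, 1, 8, 11, 16, 17],
   [15, 16, 13, 22, 19, 22, 14], [16, 17, 21, 14, 10, 11, 5], [17, 8, 8, 5, 22, 19, 17],
   [18, 4, 22, 22, 14, 12, 14], [19, 7, 21, 8, 6, 11, 5], [20, 22, 21, 20, 22, 11, 17],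
   [21, 1, 7, 10, 3, 19, 5], [22, 14, 16, 17, 14, 13, 14], [23, 0, 1, 2, 3, 4, 5]]

theorem trans_check : ∀ p < 24, (siftAux 0 (transQ.getD p []) idT).getD p 0 = 23 ∧
    commT (siftAux 0 (transQ.getD p []) idT) = true := by
  decide +kernel

theorem exists_trans (p : GolayPt) : ∃ K ∈ M24, K * t0 = t0 * K ∧ K p = bp 0 := by
  obtain ⟨h1, h2⟩ := trans_check (idx p) (idx_lt p)
  have hm : Matches (siftP 0 (transQ.getD (idx p) []) 1) (siftAux 0 (transQ.getD (idx p) []) idT) :=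
    siftP_matches _ _ _ _ matches_one
  refine ⟨siftP 0 (transQ.getD (idx p) []) 1, siftP_mem _ _ _ M24.one_mem, ?_, ?_⟩
  · exact eq_of_eqT (matches_mul hm t0_matches) (matches_mul t0_matches hm) h2
  · have := matches_apply hm (idx_lt p) (by decide : 23 < 24) h1
    rw [pt_idx] at this
    exact this

/-! ### The invariant sextet -/

/-- masks of the six tetrads -/
def S0L : List ℕ := [0x906, 0x2038, 0x84c0, 0x380200, 0x434000, 0x841001]

/-- a table permutes the six tetrads -/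
def sextOK (T : List ℕ) : Bool := S0L.all fun m => S0L.any fun m' => mapsInto T m m'

theorem S0_check : (S0L.all fun m => pc m == 4) = true ∧
    (S0L.all fun m => S0L.all fun m' => m == m' || isOctadMask (m ||| m')) = true ∧
    S0L.Nodup ∧ (∀ m ∈ S0L, m < 2 ^ 24) := by
  decide +kernel

theorem sextOK_check : sextOK t0T = true ∧ (stabGood.all sextOK) = true ∧
    (∀ p < 24, sextOK (siftAux 0 (transQ.getD p []) idT) = true) := by
  rw [stabGood_eq]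
  decide +kernel

end Cfsg.Agent.Lib.Helper89
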