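import Mathlib

/-!
# The centralizer of a transvection in `SL(5, 2)` (helper89)

The centralizer of `s = 1 + E₀₁` in `SL₅(𝔽₂)` acts faithfully on the affine hyperplane
`A5 = {x | x 1 = 1}` of `𝔽₂⁵`; the image consists of the permutations that preserve sums of three
points and commute with the translation by `e₀`; the centralizer has at most `21504` elements.
-/

set_option autoImplicit false

namespace Cfsg.Agent.Lib.Helper89.TransvCent

open Matrix

abbrev V5 : Type := Fin 5 → ZMod 2

/-- the affine hyperplane `x 1 = 1` -/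
abbrev A5 : Type := {x : V5 // x 1 = 1}

theorem zmod2_eq_one_of_ne_zero : ∀ a : ZMod 2, a ≠ 0 → a = 1 := by decide

theorem zmod2_eq_zero_of_ne_one : ∀ a : ZMod 2, a ≠ 1 → a = 0 := by decide

theorem v5_add_self (x : V5) : x + x = 0 := by
  funext i
  exact CharTwo.add_self_eq_zero (x i)

/-- the sum of three points of the hyperplane -/
def add3 (x y w : A5) : A5 :=
  ⟨x.1 + y.1 + w.1, by
    have hx := x.2; have hy := y.2; have hw := w.2
    simp only [Pi.add_apply, hx, hy, hw]
    decide⟩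

/-- translation by `e₀` -/
def addE0 (x : A5) : A5 :=
  ⟨x.1 + Pi.single 0 1, by
    have hx := x.2
    simp only [Pi.add_apply, hx]
    decide⟩

/-- permutations of the hyperplane preserving sums of three points and commuting with the
translation by `e₀` -/
def IsAffTr (π : Equiv.Perm A5) : Prop :=
  (∀ x y w : A5, (π (add3 x y w)).1 = (π x).1 + (π y).1 + (π w).1) ∧
    ∀ x : A5, (π (addE0 x)).1 = (π x).1 + Pi.single 0 1

/-- the base point `e₁` of the hyperplane -/
def a0 : A5 := ⟨Pi.single 1 1, by simp⟩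

/-- a vector with `x 1 = 0` shifted into the hyperplane -/
def shift (v : V5) (h : v 1 = 0) : A5 := ⟨v + Pi.single 1 1, by simp [h]⟩

theorem shift_add_a0 (v : V5) (h : v 1 = 0) : (shift v h).1 + a0.1 = v := by
  show v + Pi.single 1 1 + Pi.single 1 1 = v
  rw [add_assoc, v5_add_self, add_zero]

theorem v5_cancel (a b : V5) : a + b + b = a := by
  rw [add_assoc, v5_add_self, add_zero]

theorem v5_four (v w a : V5) : v + a + (w + a) + a = v + w + a := by
  rw [show v + a + (w + a) = v + w + (a + a) by abel, v5_add_self, add_zero]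

theorem v5_four' (x y a : V5) : x + a + (y + a) = x + y + (a + a) := by abel

/-- the additive extension of a permutation of the hyperplane to the whole space -/
noncomputable def extF (π : Equiv.Perm A5) (v : V5) : V5 :=
  if h : v 1 = 1 then (π ⟨v, h⟩).1
  else (π (shift v (zmod2_eq_zero_of_ne_one _ h))).1 + (π a0).1

theorem extF_mem (π : Equiv.Perm A5) (x : A5) : extF π x.1 = (π x).1 := by
  unfold extF
  rw [dif_pos x.2]

theorem extF_not (π : Equiv.Perm A5) (v : V5) (h : v 1 = 0) :
    extF π v = (π (shift v h)).1 + (π a0).1 := by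
  unfold extF
  have h1 : ¬ v 1 = 1 := by rw [h]; decide
  rw [dif_neg h1]

theorem extF_coord_one (π : Equiv.Perm A5) (v : V5) : extF π v 1 = v 1 := by
  by_cases hv : v 1 = 1
  · rw [extF_mem π ⟨v, hv⟩, hv]; exact (π ⟨v, hv⟩).2
  · have hv0 : v 1 = 0 := zmod2_eq_zero_of_ne_one _ hv
    rw [extF_not π v hv0, Pi.add_apply, (π (shift v hv0)).2, (π a0).2, hv0]
    decide

theorem extF_add {π : Equiv.Perm A5} (hπ : IsAffTr π) (v w : V5) :
    extF π (v + w) = extF π v + extF π w := by
  by_cases hv : v 1 = 1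
  · by_cases hw : w 1 = 1
    · -- both in the hyperplane
      have hvw : (v + w) 1 = 0 := by rw [Pi.add_apply, hv, hw]; decide
      have e : shift (v + w) hvw = add3 ⟨v, hv⟩ ⟨w, hw⟩ a0 := rfl
      rw [extF_not π _ hvw, e, hπ.1, extF_mem π ⟨v, hv⟩, extF_mem π ⟨w, hw⟩, v5_cancel]
    · have hw0 : w 1 = 0 := zmod2_eq_zero_of_ne_one _ hw
      have hvw : (v + w) 1 = 1 := by rw [Pi.add_apply, hv, hw0]; decide
      have e : (⟨v + w, hvw⟩ : A5) = add3 ⟨v, hv⟩ (shift w hw0) a0 := by
        apply Subtype.ext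
        show v + w = v + (w + Pi.single 1 1) + Pi.single 1 1
        rw [← add_assoc, v5_cancel]
      rw [extF_mem π ⟨v + w, hvw⟩, e, hπ.1, extF_mem π ⟨v, hv⟩, extF_not π w hw0, add_assoc]
  · have hv0 : v 1 = 0 := zmod2_eq_zero_of_ne_one _ hv
    by_cases hw : w 1 = 1
    · have hvw : (v + w) 1 = 1 := by rw [Pi.add_apply, hv0, hw]; decide
      have e : (⟨v + w, hvw⟩ : A5) = add3 ⟨w, hw⟩ (shift v hv0) a0 := by
        apply Subtype.ext
        show v + w = w + (v + Pi.single 1 1) + Pi.single 1 1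
        rw [← add_assoc, v5_cancel, add_comm]
      rw [extF_mem π ⟨v + w, hvw⟩, e, hπ.1, extF_mem π ⟨w, hw⟩, extF_not π v hv0]
      abel
    · have hw0 : w 1 = 0 := zmod2_eq_zero_of_ne_one _ hw
      have hvw : (v + w) 1 = 0 := by rw [Pi.add_apply, hv0, hw0]; decide
      have e : shift (v + w) hvw = add3 (shift v hv0) (shift w hw0) a0 := by
        apply Subtype.ext
        show v + w + Pi.single 1 1 = v + Pi.single 1 1 + (w + Pi.single 1 1) + Pi.single 1 1
        rw [v5_four]
      rw [extF_not π _ hvw, e, hπ.1, extF_not π v hv0, extF_not π w hw0, v5_cancel, v5_four',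
        v5_add_self, add_zero]

theorem extF_zero {π : Equiv.Perm A5} (hπ : IsAffTr π) : extF π 0 = 0 := by
  have h := extF_add hπ 0 0
  rw [add_zero] at h
  have h2 : extF π 0 + extF π 0 = extF π 0 + 0 := by rw [add_zero]; exact h.symm
  exact add_left_cancel h2

theorem extF_eq_zero {π : Equiv.Perm A5} {v : V5} (h : extF π v = 0) : v = 0 := by
  by_cases hv : v 1 = 1
  · exfalso
    have := extF_coord_one π v
    rw [h, hv] at this
    exact zero_ne_one this
  · have hv0 : v 1 = 0 := zmod2_eq_zero_of_ne_one _ hv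
    rw [extF_not π v hv0] at h
    have h2 : (π (shift v hv0)).1 = (π a0).1 := by
      have := congrArg (· + (π a0).1) h
      simp only [v5_cancel, zero_add] at this
      exact this
    have h3 : shift v hv0 = a0 := π.injective (Subtype.ext h2)
    have h4 := congrArg Subtype.val h3
    have h5 : v + Pi.single 1 1 = 0 + Pi.single 1 1 := by rw [zero_add]; exact h4
    exact add_right_cancel h5

theorem extF_injective {π : Equiv.Perm A5} (hπ : IsAffTr π) : Function.Injective (extF π) := by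
  intro v w hvw
  have h : extF π (v + w) = 0 := by rw [extF_add hπ, hvw, v5_add_self]
  have h2 := extF_eq_zero h
  have h3 : v + w + w = 0 + w := by rw [h2]
  rw [v5_cancel, zero_add] at h3
  exact h3

theorem extF_e0 {π : Equiv.Perm A5} (hπ : IsAffTr π) : extF π (Pi.single 0 1) = Pi.single 0 1 := by
  have h0 : (Pi.single 0 1 : V5) 1 = 0 := by simp
  have e : shift (Pi.single 0 1) h0 = addE0 a0 := by
    apply Subtype.ext
    show (Pi.single 0 1 : V5) + Pi.single 1 1 = Pi.single 1 1 + Pi.single 0 1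
    rw [add_comm]
  rw [extF_not π _ h0, e, hπ.2, add_comm (π a0).1, v5_cancel]

/-- the matrix of the additive extension -/
noncomputable def extM {π : Equiv.Perm A5} (hπ : IsAffTr π) : Matrix (Fin 5) (Fin 5) (ZMod 2) :=
  LinearMap.toMatrix' (AddMonoidHom.toZModLinearMap 2
    ({ toFun := extF π, map_zero' := extF_zero hπ, map_add' := extF_add hπ } : V5 →+ V5))

theorem extM_mulVec {π : Equiv.Perm A5} (hπ : IsAffTr π) (v : V5) : extM hπ *ᵥ v = extF π v := by
  unfold extM
  rw [LinearMap.toMatrix'_mulVec]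
  rfl

theorem extM_det {π : Equiv.Perm A5} (hπ : IsAffTr π) : (extM hπ).det = 1 := by
  have hinj : Function.Injective (extM hπ).mulVec := by
    intro v w hvw
    apply extF_injective hπ
    rw [← extM_mulVec hπ, ← extM_mulVec hπ]
    exact hvw
  have hu := Matrix.mulVec_injective_iff_isUnit.mp hinj
  rw [Matrix.isUnit_iff_isUnit_det] at hu
  exact zmod2_eq_one_of_ne_zero _ hu.ne_zero

/-- the element of `SL(5, 2)` extending an affine permutation -/
noncomputable def extG {π : Equiv.Perm A5} (hπ : IsAffTr π) :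
    Matrix.SpecialLinearGroup (Fin 5) (ZMod 2) := ⟨extM hπ, extM_det hπ⟩

theorem extG_coe {π : Equiv.Perm A5} (hπ : IsAffTr π) :
    ((extG hπ : Matrix.SpecialLinearGroup (Fin 5) (ZMod 2)) : Matrix (Fin 5) (Fin 5) (ZMod 2)) =
      extM hπ := rfl

section

variable {s : Matrix.SpecialLinearGroup (Fin 5) (ZMod 2)}
  (hs : (s : Matrix (Fin 5) (Fin 5) (ZMod 2)) = Matrix.transvection 0 1 1)

include hs

theorem comm_iff (g : Matrix.SpecialLinearGroup (Fin 5) (ZMod 2)) :
    g ∈ Subgroup.centralizer ({s} : Set (Matrix.SpecialLinearGroup (Fin 5) (ZMod 2))) ↔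
      (g : Matrix (Fin 5) (Fin 5) (ZMod 2)) * Matrix.single 0 1 1 =
        Matrix.single 0 1 1 * (g : Matrix (Fin 5) (Fin 5) (ZMod 2)) := by
  rw [Subgroup.mem_centralizer_iff]
  simp only [Set.mem_singleton_iff, forall_eq]
  have key : (s * g = g * s) ↔ ((s * g : Matrix.SpecialLinearGroup (Fin 5) (ZMod 2)) :
      Matrix (Fin 5) (Fin 5) (ZMod 2)) = ((g * s : Matrix.SpecialLinearGroup (Fin 5) (ZMod 2)) :
      Matrix (Fin 5) (Fin 5) (ZMod 2)) := Subtype.ext_iff
  rw [key]
  simp only [Matrix.SpecialLinearGroup.coe_mul, hs, Matrix.transvection, mul_add, add_mul,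
    mul_one, one_mul]
  constructor
  · intro h; exact (add_left_cancel h).symm
  · intro h; rw [h]

theorem cent_entries {g : Matrix.SpecialLinearGroup (Fin 5) (ZMod 2)}
    (hg : g ∈ Subgroup.centralizer ({s} : Set (Matrix.SpecialLinearGroup (Fin 5) (ZMod 2)))) :
    (∀ i : Fin 5, i ≠ 0 → (g : Matrix (Fin 5) (Fin 5) (ZMod 2)) i 0 = 0) ∧
      (∀ j : Fin 5, j ≠ 1 → (g : Matrix (Fin 5) (Fin 5) (ZMod 2)) 1 j = 0) ∧
      (g : Matrix (Fin 5) (Fin 5) (ZMod 2)) 0 0 = 1 ∧
      (g : Matrix (Fin 5) (Fin 5) (ZMod 2)) 1 1 = 1 := by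
  have h := (comm_iff hs g).mp hg
  have e : ∀ i j : Fin 5,
      ((g : Matrix (Fin 5) (Fin 5) (ZMod 2)) *
        (Matrix.single 0 1 1 : Matrix (Fin 5) (Fin 5) (ZMod 2))) i j =
      ((Matrix.single 0 1 1 : Matrix (Fin 5) (Fin 5) (ZMod 2)) *
        (g : Matrix (Fin 5) (Fin 5) (ZMod 2))) i j := fun i j => by rw [h]
  have h1 : ∀ i : Fin 5, i ≠ 0 → (g : Matrix (Fin 5) (Fin 5) (ZMod 2)) i 0 = 0 := by
    intro i hi
    have := e i 1
    simp only [Matrix.mul_apply, Fin.sum_univ_five, Matrix.single_apply] at this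
    fin_cases i <;> simp_all
  have h2 : ∀ j : Fin 5, j ≠ 1 → (g : Matrix (Fin 5) (Fin 5) (ZMod 2)) 1 j = 0 := by
    intro j hj
    have := e 0 j
    simp only [Matrix.mul_apply, Fin.sum_univ_five, Matrix.single_apply] at this
    fin_cases j <;> simp_all
  have h3 : (g : Matrix (Fin 5) (Fin 5) (ZMod 2)) 0 0 = (g : Matrix (Fin 5) (Fin 5) (ZMod 2)) 1 1 := by
    have := e 0 1
    simp only [Matrix.mul_apply, Fin.sum_univ_five, Matrix.single_apply] at this
    simpa using this
  have h4 : (g : Matrix (Fin 5) (Fin 5) (ZMod 2)) 1 1 = 1 := by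
    apply zmod2_eq_one_of_ne_zero
    intro h0
    have hdet : (g : Matrix (Fin 5) (Fin 5) (ZMod 2)).det = 0 := by
      apply Matrix.det_eq_zero_of_row_eq_zero 1
      intro j
      by_cases hj : j = 1
      · rw [hj]; exact h0
      · exact h2 j hj
    rw [g.2] at hdet
    exact one_ne_zero hdet
  exact ⟨h1, h2, h3.trans h4, h4⟩

theorem mulVec_coord_one {g : Matrix.SpecialLinearGroup (Fin 5) (ZMod 2)}
    (hg : g ∈ Subgroup.centralizer ({s} : Set (Matrix.SpecialLinearGroup (Fin 5) (ZMod 2))))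
    (x : V5) : ((g : Matrix (Fin 5) (Fin 5) (ZMod 2)) *ᵥ x) 1 = x 1 := by
  obtain ⟨_, h2, _, h4⟩ := cent_entries hs hg
  simp only [Matrix.mulVec, dotProduct, Fin.sum_univ_five]
  rw [h2 0 (by decide), h2 2 (by decide), h2 3 (by decide), h2 4 (by decide), h4]
  ring

/-- the centralizer of `s` -/
abbrev Cent (s : Matrix.SpecialLinearGroup (Fin 5) (ZMod 2)) :
    Subgroup (Matrix.SpecialLinearGroup (Fin 5) (ZMod 2)) :=
  Subgroup.centralizer ({s} : Set (Matrix.SpecialLinearGroup (Fin 5) (ZMod 2)))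

/-- the underlying matrix -/
def mat (g : ↥(Cent s)) : Matrix (Fin 5) (Fin 5) (ZMod 2) := g.1.1

omit hs in
theorem mat_mul (g h : ↥(Cent s)) : mat (g * h) = mat g * mat h := rfl

omit hs in
theorem mat_one : mat (1 : ↥(Cent s)) = 1 := rfl

omit hs in
theorem mat_injective : Function.Injective (mat : ↥(Cent s) → _) := by
  intro g h hgh
  exact Subtype.ext (Subtype.ext hgh)

theorem mat_mulVec_coord_one (g : ↥(Cent s)) (x : V5) : (mat g *ᵥ x) 1 = x 1 :=
  mulVec_coord_one hs g.2 x

/-- the action of an element of the centralizer on the hyperplane -/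
def actPerm (g : ↥(Cent s)) : Equiv.Perm A5 where
  toFun x := ⟨mat g *ᵥ x.1, by rw [mat_mulVec_coord_one hs]; exact x.2⟩
  invFun x := ⟨mat g⁻¹ *ᵥ x.1, by rw [mat_mulVec_coord_one hs]; exact x.2⟩
  left_inv x := by
    apply Subtype.ext
    simp only [Matrix.mulVec_mulVec]
    rw [← mat_mul, inv_mul_cancel, mat_one, Matrix.one_mulVec]
  right_inv x := by
    apply Subtype.ext
    simp only [Matrix.mulVec_mulVec]
    rw [← mat_mul, mul_inv_cancel, mat_one, Matrix.one_mulVec]

/-- the action on the hyperplane as a homomorphism -/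
def Phi : ↥(Cent s) →* Equiv.Perm A5 where
  toFun := actPerm hs
  map_one' := by
    apply Equiv.ext; intro x; apply Subtype.ext
    show mat (1 : ↥(Cent s)) *ᵥ x.1 = x.1
    rw [mat_one, Matrix.one_mulVec]
  map_mul' g h := by
    apply Equiv.ext; intro x; apply Subtype.ext
    show mat (g * h) *ᵥ x.1 = mat g *ᵥ (mat h *ᵥ x.1)
    rw [mat_mul, Matrix.mulVec_mulVec]

theorem Phi_apply (g : ↥(Cent s)) (x : A5) : (Phi hs g x).1 = mat g *ᵥ x.1 := rfl

theorem Phi_injective : Function.Injective (Phi hs) := by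
  rw [injective_iff_map_eq_one]
  intro g hg
  have hfix : ∀ x : A5, mat g *ᵥ x.1 = x.1 := by
    intro x
    rw [← Phi_apply hs, hg]; rfl
  have hall : ∀ v : V5, mat g *ᵥ v = v := by
    intro v
    by_cases hv : v 1 = 1
    · exact hfix ⟨v, hv⟩
    · have hv0 : v 1 = 0 := zmod2_eq_zero_of_ne_one _ hv
      have h1 := hfix (shift v hv0)
      have h2 := hfix a0
      calc mat g *ᵥ v = mat g *ᵥ ((shift v hv0).1 + a0.1) := by rw [shift_add_a0]
        _ = (shift v hv0).1 + a0.1 := by rw [Matrix.mulVec_add, h1, h2]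
        _ = v := shift_add_a0 v hv0
  apply mat_injective
  rw [mat_one]
  apply Matrix.mulVec_injective
  funext v
  rw [hall v, Matrix.one_mulVec]

/-- every permutation of the hyperplane preserving sums of three points and commuting with the
translation by `e₀` comes from the centralizer of `s` -/
theorem exists_of_isAffTr {π : Equiv.Perm A5} (hπ : IsAffTr π) :
    ∃ g : ↥(Cent s), Phi hs g = π := by
  have hG : extG hπ ∈ Cent s := by
    rw [comm_iff hs, extG_coe]
    apply Matrix.mulVec_injective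
    funext v
    rw [← Matrix.mulVec_mulVec, ← Matrix.mulVec_mulVec, Matrix.single_mulVec_eq,
      Matrix.single_mulVec_eq, extM_mulVec, extM_mulVec, extF_coord_one, one_mul]
    by_cases hv : v 1 = 1
    · rw [hv, one_smul, extF_e0 hπ]
    · rw [zmod2_eq_zero_of_ne_one _ hv, zero_smul, extF_zero hπ]
  refine ⟨⟨_, hG⟩, ?_⟩
  apply Equiv.ext
  intro x
  apply Subtype.ext
  rw [Phi_apply]
  show extM hπ *ᵥ x.1 = (π x).1
  rw [extM_mulVec, extF_mem]

/-! ### The order of the centralizer -/

/-- the indices of the lower right block -/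
def kk : Fin 3 → Fin 5 := ![2, 3, 4]

omit hs in
theorem kk_cases : ∀ i : Fin 5, i = 0 ∨ i = 1 ∨ ∃ a : Fin 3, i = kk a := by decide

omit hs in
theorem succ_cases : ∀ j : Fin 5, j = 0 ∨ ∃ b : Fin 4, j = b.succ := by decide

omit hs in
theorem kk_ne : ∀ a : Fin 3, kk a ≠ 0 ∧ kk a ≠ 1 := by decide

theorem mat_entries (g : ↥(Cent s)) :
    (∀ i : Fin 5, i ≠ 0 → mat g i 0 = 0) ∧ (∀ j : Fin 5, j ≠ 1 → mat g 1 j = 0) ∧
      mat g 0 0 = 1 ∧ mat g 1 1 = 1 := cent_entries hs g.2

/-- the lower right block as a homomorphism -/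
def blockHom : ↥(Cent s) →* Matrix (Fin 3) (Fin 3) (ZMod 2) where
  toFun g := Matrix.of fun i j => mat g (kk i) (kk j)
  map_one' := by
    ext i j
    rw [Matrix.of_apply, mat_one, Matrix.one_apply, Matrix.one_apply]
    have hk : ∀ i j : Fin 3, kk i = kk j ↔ i = j := by decide
    simp only [hk]
  map_mul' g h := by
    ext i j
    rw [Matrix.of_apply, mat_mul, Matrix.mul_apply, Matrix.mul_apply, Fin.sum_univ_five,
      Fin.sum_univ_three]
    simp only [Matrix.of_apply]
    rw [(mat_entries hs g).1 (kk i) (kk_ne i).1, (mat_entries hs h).2.1 (kk j) (kk_ne j).2]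
    simp [kk]

/-- the parameters of an element of the centralizer -/
def params (g : ↥(Cent s)) : (Fin 4 → ZMod 2) × (Fin 3 → ZMod 2) × GL (Fin 3) (ZMod 2) :=
  (fun j => mat g 0 j.succ, fun i => mat g (kk i) 1, (blockHom hs).toHomUnits g)

theorem params_injective : Function.Injective (params hs) := by
  intro g h hgh
  have h1 : ∀ j : Fin 4, mat g 0 j.succ = mat h 0 j.succ := fun j =>
    congrFun (congrArg Prod.fst hgh) j
  have h2 : ∀ i : Fin 3, mat g (kk i) 1 = mat h (kk i) 1 := fun i =>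
    congrFun (congrArg (fun t => t.2.1) hgh) i
  have h3 : ∀ i j : Fin 3, mat g (kk i) (kk j) = mat h (kk i) (kk j) := by
    intro i j
    have e := congrArg (fun t => ((t.2.2 : GL (Fin 3) (ZMod 2)) : Matrix (Fin 3) (Fin 3) (ZMod 2)))
      hgh
    exact congrFun (congrFun e i) j
  obtain ⟨g1, g2, g3, g4⟩ := mat_entries hs g
  obtain ⟨k1, k2, k3, k4⟩ := mat_entries hs h
  apply mat_injective
  ext i j
  rcases kk_cases i with rfl | rfl | ⟨a, rfl⟩
  · rcases succ_cases j with rfl | ⟨b, rfl⟩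
    · rw [g3, k3]
    · exact h1 b
  · by_cases hj : j = 1
    · rw [hj, g4, k4]
    · rw [g2 j hj, k2 j hj]
  · rcases kk_cases j with rfl | rfl | ⟨b, rfl⟩
    · rw [g1 _ (kk_ne a).1, k1 _ (kk_ne a).1]
    · exact h2 a
    · exact h3 a b

theorem card_cent_le : Nat.card ↥(Cent s) ≤ 21504 := by
  have h := Nat.card_le_card_of_injective (params hs) (params_injective hs)
  have hGL : Nat.card (GL (Fin 3) (ZMod 2)) = 168 := by
    rw [Matrix.card_GL_field, ZMod.card, Fin.prod_univ_three]
    norm_num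
  rw [Nat.card_prod, Nat.card_prod, hGL, Nat.card_fun, Nat.card_fun, Nat.card_zmod, Nat.card_fin,
    Nat.card_fin] at h
  norm_num at h
  exact h

end

end Cfsg.Agent.Lib.Helper89.TransvCent
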