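import Cfsg.Agent.Lib.Helper92.OctadSplit
import Cfsg.Agent.Lib.Helper89.TransvCent

/-!
# The centralizer in `M24` of an involution fixing an octad (helper89)

`zA = octStabElem 6` lies in the pointwise stabilizer `E` of the standard octad `octO`.  The sixteen
points outside `octO` are labelled by the affine hyperplane `x 1 = 1` of `𝔽₂⁵` so that `E` acts by
translations (and `zA` by the translation by `e₀`); since `E` is normal in the stabilizer of the octad
and regular outside it, the stabilizer acts by affine maps.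
-/

set_option autoImplicit false

namespace Cfsg.Agent.Lib.Helper89.M24CentA

open Cfsg Cfsg.Agent.Lib.Helper7 Cfsg.Agent.Lib.Helper92 Cfsg.Agent.Lib.Helper89.TransvCent
open scoped Pointwise

/-! ### Labels -/

/-- labels of the sixteen points outside `octO` (points of `octO` get `0`) -/
def labL : List ℕ :=
  [0, 0, 0, 0, 0, 0, 1, 2, 4, 8, 11, 10, 9, 14, 0, 6, 13, 0, 7, 15, 5, 12, 3, 0]

def labN (i : ℕ) : ℕ := labL.getD i 0

/-- a bit as an element of `ZMod 2` -/
def bitZ (n k : ℕ) : ZMod 2 := if n.testBit k then 1 else 0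

/-- the linear part of a label -/
def uvec (n : ℕ) : V5 := ![bitZ n 0, 0, bitZ n 1, bitZ n 2, bitZ n 3]

/-- the point of the hyperplane with a given label -/
def vecOf (n : ℕ) : V5 := ![bitZ n 0, 1, bitZ n 1, bitZ n 2, bitZ n 3]

theorem bitZ_xor (m n k : ℕ) : bitZ (m ^^^ n) k = bitZ m k + bitZ n k := by
  unfold bitZ
  rw [Nat.testBit_xor]
  cases m.testBit k <;> cases n.testBit k <;> decide

theorem uvec_xor (m n : ℕ) : uvec (m ^^^ n) = uvec m + uvec n := by
  funext i
  fin_cases i <;> simp [uvec, bitZ_xor]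

theorem vecOf_eq (n : ℕ) : vecOf n = uvec n + Pi.single 1 1 := by
  funext i
  fin_cases i <;> simp [uvec, vecOf]

theorem vecOf_one (n : ℕ) : vecOf n 1 = 1 := rfl

theorem labN_lt : ∀ i, labN i < 16 := by
  intro i
  by_cases hi : i < 24
  · revert i; decide
  · unfold labN
    rw [List.getD_eq_default _ _ (by simp [labL]; omega)]
    decide

theorem vecOf_inj : ∀ m < 16, ∀ n < 16, vecOf m = vecOf n → m = n := by decide

theorem labN_inj : ∀ i < 24, ∀ j < 24, octO.testBit i = false → octO.testBit j = false →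
    labN i = labN j → i = j := by decide

/-- the label vector of a point -/
def lamV (p : GolayPt) : V5 := vecOf (labN (idx p))

theorem lamV_one (p : GolayPt) : lamV p 1 = 1 := rfl

theorem not_mem_iff {p : GolayPt} : p ∉ setOf octO ↔ octO.testBit (idx p) = false := by
  rw [mem_setOf]; simp

theorem lamV_injOn {p q : GolayPt} (hp : p ∉ setOf octO) (hq : q ∉ setOf octO)
    (h : lamV p = lamV q) : p = q := by
  apply idx_injective
  exact labN_inj _ (idx_lt p) _ (idx_lt q) (not_mem_iff.mp hp) (not_mem_iff.mp hq)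
    (vecOf_inj _ (labN_lt _) _ (labN_lt _) h)

/-! ### The pointwise stabilizer of the octad acts by translations -/

/-- the table of `octStabElem q` translates the labels -/
def trOK (q : ℕ) : Bool :=
  (List.range 24).all fun i => octO.testBit i ||
    labN ((wComp q ((uT 5 q).getD 5 0)).getD i 0) ==
      labN i ^^^ labN ((wComp q ((uT 5 q).getD 5 0)).getD 4 0)

theorem tr_check : ∀ q < 24, orbitOK 5 q = true → trOK q = true := by
  decide +kernel

theorem matches_octStabElem (q : ℕ) :
    Matches (octStabElem q) (wComp q ((uT 5 q).getD 5 0)) := matches_wP q _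

/-- elements of the pointwise stabilizer of `octO` translate the labels -/
theorem translation {e : Equiv.Perm GolayPt} (he : e ∈ fixM24 (setOf octO)) {p : GolayPt}
    (hp : p ∉ setOf octO) : lamV (e p) = lamV p + uvec (labN (idx (e (pt 4)))) := by
  obtain ⟨q, hq, hok, rfl⟩ := eq_octStabElem_of_mem he
  have hm := matches_octStabElem q
  have hc := tr_check q hq hok
  simp only [trOK, List.all_eq_true, List.mem_range, Bool.or_eq_true, beq_iff_eq] at hc
  have h1 := hc (idx p) (idx_lt p)
  rw [not_mem_iff.mp hp] at h1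
  simp only [Bool.false_eq_true, false_or] at h1
  have e1 : idx (octStabElem q p) = (wComp q ((uT 5 q).getD 5 0)).getD (idx p) 0 := hm p
  have e2 : idx (octStabElem q (pt 4)) = (wComp q ((uT 5 q).getD 5 0)).getD 4 0 := by
    have := hm (pt 4)
    rwa [idx_pt (by norm_num)] at this
  unfold lamV
  rw [e1, e2, h1, vecOf_eq, vecOf_eq, uvec_xor]
  abel

theorem octO_mem : setOf octO ∈ octads := setOf_mem_octads isOctadMask_octO

theorem pt4_notMem : pt 4 ∉ setOf octO := pt4_notMem_octO

/-! ### The involution `zA` -/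

/-- an involution fixing `octO` pointwise and exchanging `pt 4` and `pt 6` -/
noncomputable def zA : Equiv.Perm GolayPt := octStabElem 6

theorem zA_spec : zA ∈ fixM24 (setOf octO) ∧ zA (pt 6) = pt 4 ∧ zA * zA = 1 :=
  octStabElem_spec (by norm_num) (by decide)

theorem zA_mem : zA ∈ M24 := (mem_fixM24.mp zA_spec.1).1

theorem zA_pt4 : zA (pt 4) = pt 6 := by
  have h := zA_spec.2.1
  have h2 : zA (zA (pt 6)) = pt 6 := by
    rw [← Equiv.Perm.mul_apply, zA_spec.2.2]; rfl
  rw [h] at h2
  exact h2

theorem uvec_one : uvec 1 = Pi.single 0 1 := by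
  decide

theorem zA_translation {p : GolayPt} (hp : p ∉ setOf octO) :
    lamV (zA p) = lamV p + Pi.single 0 1 := by
  rw [translation zA_spec.1 hp, zA_pt4, idx_pt (by norm_num)]
  show lamV p + uvec 1 = _
  rw [uvec_one]

theorem zA_fix_iff (p : GolayPt) : zA p = p ↔ p ∈ setOf octO := by
  constructor
  · intro h
    by_contra hp
    have := zA_translation hp
    rw [h] at this
    have h2 := congrFun this 0
    simp at h2
  · intro hp
    exact (mem_fixM24.mp zA_spec.1).2 p hp

theorem zA_ne_one : zA ≠ 1 := by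
  intro h
  have := zA_pt4
  rw [h] at this
  have h2 := congrArg idx this
  rw [Equiv.Perm.coe_one, id, idx_pt (by norm_num), idx_pt (by norm_num)] at h2
  exact absurd h2 (by decide)

/-! ### The stabilizer of the octad acts by affine maps -/

theorem v5_cancel_left (a b : V5) : a + (a + b) = b := by
  rw [← add_assoc, v5_add_self, zero_add]

theorem apply_notMem {σ : Equiv.Perm GolayPt} (hσ : σ ∈ stabM24 (setOf octO)) {p : GolayPt}
    (hp : p ∉ setOf octO) : σ p ∉ setOf octO := by
  rw [apply_mem_of_mem_stabM24 hσ]; exact hp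

theorem conj_mem_fix {σ e : Equiv.Perm GolayPt} (hσ : σ ∈ stabM24 (setOf octO))
    (he : e ∈ fixM24 (setOf octO)) : σ * e * σ⁻¹ ∈ fixM24 (setOf octO) := by
  obtain ⟨hσM, hσO⟩ := mem_stabM24.mp hσ
  have h : σ * e * σ⁻¹ ∈ fixM24 (σ • setOf octO) := by
    rw [conj_mem_fixM24 hσM]
    have : σ⁻¹ * (σ * e * σ⁻¹) * σ = e := by group
    rw [this]; exact he
  rwa [hσO] at h

/-- the stabilizer of the octad preserves sums of three labels -/
theorem aff_pt {σ : Equiv.Perm GolayPt} (hσ : σ ∈ stabM24 (setOf octO)) {x y w t : GolayPt}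
    (hx : x ∉ setOf octO) (hy : y ∉ setOf octO) (hw : w ∉ setOf octO) (ht : t ∉ setOf octO)
    (h : lamV t = lamV x + lamV y + lamV w) :
    lamV (σ t) = lamV (σ x) + lamV (σ y) + lamV (σ w) := by
  obtain ⟨e, he, hey⟩ := exists_fixM24_map octO_mem hw hy
  have hc : uvec (labN (idx (e (pt 4)))) = lamV y + lamV w := by
    have h1 := translation he hy
    rw [hey] at h1
    rw [h1, v5_cancel_left]
  have hex : e x = t := by
    have hex' : e x ∉ setOf octO := by
      rw [apply_mem_of_mem_stabM24 (fixM24_le_stabM24 _ he) x]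
      exact hx
    apply lamV_injOn hex' ht
    rw [translation he hx, hc, h, add_assoc]
  have he' := conj_mem_fix hσ he
  have a1 : (σ * e * σ⁻¹) (σ y) = σ w := by
    simp [Equiv.Perm.mul_apply, hey]
  have a2 : (σ * e * σ⁻¹) (σ x) = σ t := by
    simp [Equiv.Perm.mul_apply, hex]
  have h1 := translation he' (apply_notMem hσ hy)
  have h2 := translation he' (apply_notMem hσ hx)
  rw [a1] at h1
  rw [a2] at h2
  rw [h2, add_assoc, h1, v5_cancel_left]

/-! ### The centralizer of `zA` -/

/-- `zA` as an element of `M24` -/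
noncomputable def zM : ↥M24 := ⟨zA, zA_mem⟩

/-- the centralizer of `zA` in `M24` -/
noncomputable abbrev CA : Subgroup ↥M24 := Subgroup.centralizer ({zM} : Set ↥M24)

/-- the underlying permutation -/
def perm (σ : ↥CA) : Equiv.Perm GolayPt := σ.1.1

theorem perm_mul (σ τ : ↥CA) : perm (σ * τ) = perm σ * perm τ := rfl

theorem perm_one : perm (1 : ↥CA) = 1 := rfl

theorem perm_injective : Function.Injective perm := by
  intro σ τ h
  exact Subtype.ext (Subtype.ext h)

theorem perm_mem (σ : ↥CA) : perm σ ∈ M24 := σ.1.2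

theorem perm_comm (σ : ↥CA) : perm σ * zA = zA * perm σ := by
  have h := Subgroup.mem_centralizer_iff.mp σ.2 zM (Set.mem_singleton _)
  have h2 := congrArg (fun t : ↥M24 => (t : Equiv.Perm GolayPt)) h
  exact h2.symm

theorem perm_comm_apply (σ : ↥CA) (p : GolayPt) : perm σ (zA p) = zA (perm σ p) := by
  rw [← Equiv.Perm.mul_apply, ← Equiv.Perm.mul_apply, perm_comm]

theorem perm_mem_stab (σ : ↥CA) : perm σ ∈ stabM24 (setOf octO) := by
  rw [mem_stabM24]
  refine ⟨perm_mem σ, ?_⟩
  apply Finset.eq_of_subset_of_card_le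
  · intro p hp
    rw [Finset.mem_smul_finset] at hp
    obtain ⟨q, hq, rfl⟩ := hp
    rw [Equiv.Perm.smul_def, ← zA_fix_iff, ← perm_comm_apply, (zA_fix_iff q).mpr hq]
  · rw [card_perm_smul_finset]

/-! ### An element of `M24` fixing all points outside the octad is trivial -/

/-- for every point of `octO`, two octads meeting `octO` in two points and in that point only -/
def pairOcts : List (ℕ × ℕ × ℕ) :=
  [(0, 0x24f801, 0x159013), (1, 0x49f002, 0x159013), (2, 0x59280c, 0xac2814),
   (3, 0x6e3008, 0x59280c), (5, 0x713021, 0x1c3822), (14, 0x24f801, 0x49f002),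
   (17, 0xe3a800, 0x6e3008), (23, 0xe3a800, 0xac2814)]

/-- the complement of `octO` -/
def cMask : ℕ := allMask ^^^ octO

theorem pairOcts_check : ∀ i < 24, octO.testBit i = true → ∃ t ∈ pairOcts, t.1 = i ∧
    isOctadMask t.2.1 = true ∧ isOctadMask t.2.2 = true ∧ 5 ≤ pc (t.2.1 &&& cMask) ∧
    5 ≤ pc (t.2.2 &&& cMask) ∧ t.2.1 &&& (t.2.2 &&& octO) = 1 <<< i := by
  decide +kernel

theorem cMask_spec : ∀ i < 24, cMask.testBit i = true → octO.testBit i = false := by
  decide +kernel

theorem smul_eq_of_fixes_outside {σ : Equiv.Perm GolayPt} (hσ : σ ∈ M24)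
    (hfix : ∀ p : GolayPt, p ∉ setOf octO → σ p = p) {m : ℕ} (hm : isOctadMask m = true)
    (h5 : 5 ≤ pc (m &&& cMask)) : σ • setOf m = setOf m := by
  refine smul_octad_eq_of_fixes hσ (setOf_mem_octads hm) (s := setOf (m &&& cMask)) ?_ ?_ ?_
  · rw [setOf_and]; exact Finset.inter_subset_left
  · rw [card_setOf]; exact h5
  · intro p hp
    rw [setOf_and, Finset.mem_inter, mem_setOf, mem_setOf] at hp
    exact hfix p (not_mem_iff.mpr (cMask_spec _ (idx_lt p) hp.2))

theorem mem_fix_of_fixes_outside {σ : Equiv.Perm GolayPt} (hσ : σ ∈ stabM24 (setOf octO))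
    (hfix : ∀ p : GolayPt, p ∉ setOf octO → σ p = p) : σ ∈ fixM24 (setOf octO) := by
  obtain ⟨hσM, hσO⟩ := mem_stabM24.mp hσ
  rw [mem_fixM24]
  refine ⟨hσM, fun p hp => ?_⟩
  obtain ⟨t, _, hti, ho1, ho2, h51, h52, hint⟩ :=
    pairOcts_check (idx p) (idx_lt p) (mem_setOf.mp hp)
  have e1 := smul_eq_of_fixes_outside hσM hfix ho1 h51
  have e2 := smul_eq_of_fixes_outside hσM hfix ho2 h52
  have hp1 : p ∈ setOf (t.2.1 &&& (t.2.2 &&& octO)) := by
    rw [hint, mem_setOf, Nat.testBit_shiftLeft]
    simp
  have hq : σ p ∈ setOf (t.2.1 &&& (t.2.2 &&& octO)) := by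
    rw [setOf_and, setOf_and, Finset.mem_inter, Finset.mem_inter] at hp1 ⊢
    refine ⟨?_, ?_, ?_⟩
    · rw [← e1, apply_mem_perm_smul_finset]; exact hp1.1
    · rw [← e2, apply_mem_perm_smul_finset]; exact hp1.2.1
    · rw [← hσO, apply_mem_perm_smul_finset]; exact hp1.2.2
  rw [hint, mem_setOf, Nat.testBit_shiftLeft] at hq
  simp only [ge_iff_le, Nat.testBit_one_eq_true_iff_self_eq_zero, decide_eq_true_eq,
    Bool.and_eq_true] at hq
  apply idx_injective
  omega

/-! ### The labelling as an equivalence -/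

/-- the sixteen points outside the octad -/
abbrev Om : Type := {p : GolayPt // p ∉ setOf octO}

/-- the labelling -/
def lamA (p : Om) : A5 := ⟨lamV p.1, lamV_one p.1⟩

theorem lamA_bijective : Function.Bijective lamA := by
  rw [Fintype.bijective_iff_injective_and_card]
  constructor
  · intro p q h
    exact Subtype.ext (lamV_injOn p.2 q.2 (congrArg Subtype.val h))
  · have h1 : Fintype.card A5 = 16 := by decide
    have h2 : Fintype.card Om = 16 := by
      rw [Fintype.card_subtype_compl, Fintype.card_coe, card_setOf]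
      decide
    rw [h1, h2]

/-- the labelling as an equivalence -/
noncomputable def lam : Om ≃ A5 := Equiv.ofBijective lamA lamA_bijective

theorem lam_apply (p : Om) : (lam p).1 = lamV p.1 := rfl

/-- restriction of an element of the centralizer to the points outside the octad -/
def restr (σ : ↥CA) : Equiv.Perm Om :=
  (perm σ).subtypePerm fun p => by
    rw [apply_mem_of_mem_stabM24 (perm_mem_stab σ)]

theorem restr_apply (σ : ↥CA) (p : Om) : (restr σ p).1 = perm σ p.1 := rfl

/-- the action of the centralizer on the hyperplane -/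
noncomputable def Psi : ↥CA →* Equiv.Perm A5 where
  toFun σ := lam.permCongr (restr σ)
  map_one' := by
    apply Equiv.ext; intro X
    rw [Equiv.permCongr_apply]
    have : restr 1 (lam.symm X) = lam.symm X := Subtype.ext rfl
    rw [this, Equiv.apply_symm_apply]; rfl
  map_mul' σ τ := by
    apply Equiv.ext; intro X
    rw [Equiv.Perm.mul_apply, Equiv.permCongr_apply, Equiv.permCongr_apply, Equiv.permCongr_apply,
      Equiv.symm_apply_apply]
    rfl

theorem Psi_lam (σ : ↥CA) (p : Om) : (Psi σ (lam p)).1 = lamV (perm σ p.1) := by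
  show (lam.permCongr (restr σ) (lam p)).1 = _
  rw [Equiv.permCongr_apply, Equiv.symm_apply_apply, lam_apply, restr_apply]

theorem Psi_injective : Function.Injective Psi := by
  rw [injective_iff_map_eq_one]
  intro σ hσ
  apply perm_injective
  rw [perm_one]
  -- `perm σ` fixes every point outside the octad
  have hfix : ∀ p : GolayPt, p ∉ setOf octO → perm σ p = p := by
    intro p hp
    have h := Psi_lam σ ⟨p, hp⟩
    rw [hσ] at h
    exact lamV_injOn (apply_notMem (perm_mem_stab σ) hp) hp h.symm
  have hE : perm σ ∈ fixM24 (setOf octO) := mem_fix_of_fixes_outside (perm_mem_stab σ) hfix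
  exact eq_one_of_mem_fixM24 octO_mem pt4_notMem hE (hfix _ pt4_notMem)

theorem Psi_isAffTr (σ : ↥CA) : IsAffTr (Psi σ) := by
  constructor
  · intro X Y W
    obtain ⟨x, rfl⟩ := lam.surjective X
    obtain ⟨y, rfl⟩ := lam.surjective Y
    obtain ⟨w, rfl⟩ := lam.surjective W
    obtain ⟨t, ht⟩ := lam.surjective (add3 (lam x) (lam y) (lam w))
    rw [← ht, Psi_lam, Psi_lam, Psi_lam, Psi_lam]
    apply aff_pt (perm_mem_stab σ) x.2 y.2 w.2 t.2
    have := congrArg Subtype.val ht
    exact this
  · intro X
    obtain ⟨x, rfl⟩ := lam.surjective X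
    have hz : zA x.1 ∉ setOf octO := apply_notMem (fixM24_le_stabM24 _ zA_spec.1) x.2
    have e : addE0 (lam x) = lam ⟨zA x.1, hz⟩ := by
      apply Subtype.ext
      show (lam x).1 + Pi.single 0 1 = lamV (zA x.1)
      rw [zA_translation x.2]; rfl
    rw [e, Psi_lam, Psi_lam]
    show lamV (perm σ (zA x.1)) = _
    rw [perm_comm_apply, zA_translation (apply_notMem (perm_mem_stab σ) x.2)]

/-! ### The order of the centralizer is at least `21504` -/

theorem card_CA_ge : 21504 ≤ Nat.card ↥CA := by
  classical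
  let f : ↥(stabM24 (setOf octO)) →* ConjAct (Equiv.Perm GolayPt) :=
    (ConjAct.toConjAct (G := Equiv.Perm GolayPt)).toMonoidHom.comp (stabM24 (setOf octO)).subtype
  let _ : MulAction ↥(stabM24 (setOf octO)) (Equiv.Perm GolayPt) := MulAction.compHom _ f
  have smul_eq : ∀ (g : ↥(stabM24 (setOf octO))) (h : Equiv.Perm GolayPt),
      g • h = (g : Equiv.Perm GolayPt) * h * (g : Equiv.Perm GolayPt)⁻¹ := fun g h => rfl
  have hcard := Nat.card_congr (MulAction.orbitProdStabilizerEquivGroup
    ↥(stabM24 (setOf octO)) zA)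
  rw [Nat.card_prod, card_stabM24_octad octO_mem] at hcard
  have horb : Nat.card (MulAction.orbit ↥(stabM24 (setOf octO)) zA) ≤ 15 := by
    have hsub : MulAction.orbit ↥(stabM24 (setOf octO)) zA ⊆
        ((fixM24 (setOf octO) : Set (Equiv.Perm GolayPt)) \ {1}) := by
      rintro _ ⟨g, rfl⟩
      refine ⟨?_, ?_⟩
      · show g • zA ∈ fixM24 (setOf octO)
        rw [smul_eq]
        exact conj_mem_fix g.2 zA_spec.1
      · intro h
        rw [Set.mem_singleton_iff] at h
        have h' : g • zA = 1 := h
        rw [smul_eq] at h'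
        apply zA_ne_one
        calc zA = (g : Equiv.Perm GolayPt)⁻¹ * ((g : Equiv.Perm GolayPt) * zA *
              (g : Equiv.Perm GolayPt)⁻¹) * (g : Equiv.Perm GolayPt) := by group
          _ = 1 := by rw [h']; group
    have h16 : ((fixM24 (setOf octO) : Set (Equiv.Perm GolayPt))).ncard = 16 := by
      rw [← Nat.card_coe_set_eq]
      exact card_fixM24_octO
    calc Nat.card (MulAction.orbit ↥(stabM24 (setOf octO)) zA)
        = (MulAction.orbit ↥(stabM24 (setOf octO)) zA).ncard := Nat.card_coe_set_eq _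
      _ ≤ ((fixM24 (setOf octO) : Set (Equiv.Perm GolayPt)) \ {1}).ncard :=
          Set.ncard_le_ncard hsub (Set.toFinite _)
      _ = 15 := by
          rw [Set.ncard_sdiff_singleton_of_mem (one_mem (fixM24 (setOf octO))), h16]
  have hstab : Nat.card (MulAction.stabilizer ↥(stabM24 (setOf octO)) zA) ≤ Nat.card ↥CA := by
    have hmem : ∀ g : ↥(MulAction.stabilizer ↥(stabM24 (setOf octO)) zA),
        (⟨((g : ↥(stabM24 (setOf octO))) : Equiv.Perm GolayPt),
          (mem_stabM24.mp (g : ↥(stabM24 (setOf octO))).2).1⟩ : ↥M24) ∈ CA := by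
      intro g
      rw [Subgroup.mem_centralizer_iff]
      intro h hh
      rw [Set.mem_singleton_iff] at hh
      subst hh
      apply Subtype.ext
      show zA * ((g : ↥(stabM24 (setOf octO))) : Equiv.Perm GolayPt) =
        ((g : ↥(stabM24 (setOf octO))) : Equiv.Perm GolayPt) * zA
      have h1 : (g : ↥(stabM24 (setOf octO))) • zA = zA := MulAction.mem_stabilizer_iff.mp g.2
      rw [smul_eq] at h1
      calc zA * ((g : ↥(stabM24 (setOf octO))) : Equiv.Perm GolayPt)
          = (((g : ↥(stabM24 (setOf octO))) : Equiv.Perm GolayPt) * zA *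
              ((g : ↥(stabM24 (setOf octO))) : Equiv.Perm GolayPt)⁻¹) *
              ((g : ↥(stabM24 (setOf octO))) : Equiv.Perm GolayPt) := by rw [h1]
        _ = ((g : ↥(stabM24 (setOf octO))) : Equiv.Perm GolayPt) * zA := by group
    apply Nat.card_le_card_of_injective (fun g => (⟨_, hmem g⟩ : ↥CA))
    intro g h hgh
    have h1 := congrArg (fun t : ↥CA => perm t) hgh
    exact Subtype.ext (Subtype.ext h1)
  nlinarith

end Cfsg.Agent.Lib.Helper89.M24CentA





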