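import Cfsg.Agent.Lib.Helper26.Sextets
import Cfsg.Agent.Lib.Helper26.Trios
import Cfsg.Agent.Lib.Helper27.M24ClassesD
import Cfsg.Agent.S5601

/-!
# Counting the octads, dodecads, trios and sextets fixed by an element of `M24` (helper89)

Generic lemmas reducing `{X ∈ Fam | g • X = X}.ncard` to a count over a literal list, for the class
representatives of involutions (`S5394`) and of elements of order three (`S5601`).
-/

set_option autoImplicit false

namespace Cfsg.Agent.Lib.Helper89

open Cfsg Cfsg.Agent.Lib.Helper7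
open scoped Pointwise

/-- the image of a mask under the packed table of a permutation is a 24-bit mask -/
theorem applyP_lt {g : Equiv.Perm GolayPt} {T : ℕ} (h : Helper26.MatchesP g T) (m : ℕ) :
    Helper26.applyP T m < 2 ^ 24 := by
  apply Nat.lt_pow_two_of_testBit
  intro k hk
  by_contra hne
  rw [Bool.not_eq_false] at hne
  rw [Helper26.applyP, Helper26.testBit_goP] at hne
  rcases hne with h0 | ⟨i, hi, _, hli⟩
  · simp at h0
  · have h1 := h (pt i)
    rw [idx_pt hi] at h1
    have hlt := idx_lt (g (pt i))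
    omega

/-- fixed members of a family with a `FamSetup`, counted over the literal list -/
theorem ncard_fixed {Fam : Set (Finset (Finset GolayPt))} {w N : ℕ} {B : List ℕ} {j0 : ℕ}
    (hs : Helper26.FamSetup Fam w N B j0) {g : Equiv.Perm GolayPt} {T : ℕ}
    (hm : Helper26.MatchesP g T) :
    {X | X ∈ Fam ∧ g • X = X}.ncard = ((Finset.range N).filter (fun j =>
      Helper26.subF ((Helper26.getF w B j).map (Helper26.applyP T)) (Helper26.getF w B j)
        = true)).card := by
  classical
  have hset : {X | X ∈ Fam ∧ g • X = X} = ↑(((Finset.range N).filter (fun j =>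
      Helper26.subF ((Helper26.getF w B j).map (Helper26.applyP T)) (Helper26.getF w B j)
        = true)).image (fun j => Helper26.famOf (Helper26.getF w B j))) := by
    ext X
    simp only [Set.mem_ofPred_eq, Finset.coe_image, Set.mem_image, Finset.mem_coe,
      Finset.mem_filter, Finset.mem_range]
    constructor
    · rintro ⟨hX, hgX⟩
      obtain ⟨j, hj, rfl⟩ := hs.complete X hX
      refine ⟨j, ⟨hj, ?_⟩, rfl⟩
      rw [Helper26.subF, List.all_eq_true]
      intro m' hm'
      obtain ⟨m, hmem, rfl⟩ := List.mem_map.mp hm'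
      rw [List.contains_iff_mem]
      have h1 : g • setOf m ∈ g • Helper26.famOf (Helper26.getF w B j) :=
        Finset.smul_mem_smul_finset (Helper26.mem_famOf.2 ⟨m, hmem, rfl⟩)
      rw [hgX, Helper26.smul_setOf_eq_applyP hm] at h1
      obtain ⟨m2, hm2, he⟩ := Helper26.mem_famOf.1 h1
      have : m2 = Helper26.applyP T m :=
        Helper26.setOf7_injOn (Helper26.getF_lt _ _ _ m2 hm2) (applyP_lt hm m) he
      rw [← this]
      exact hm2
    · rintro ⟨j, ⟨hj, hsub⟩, rfl⟩
      refine ⟨hs.mem hj, ?_⟩
      apply Finset.eq_of_subset_of_card_le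
      · rw [Helper26.smul_famOf hm]
        exact Helper26.famOf_subset_of_subF hsub
      · rw [Finset.card_smul_finset]
  rw [hset, Set.ncard_coe_finset, Finset.card_image_of_injOn]
  intro i hi j hj h
  rw [Finset.mem_coe, Finset.mem_filter, Finset.mem_range] at hi hj
  exact hs.inj hi.1 hj.1 h

/-- the number of fixed members of an `M24`-invariant family is a class function -/
theorem ncard_fixed_conj {α : Type*} [MulAction (Equiv.Perm GolayPt) α] (Fam : Set α)
    (hinv : ∀ k ∈ M24, ∀ X ∈ Fam, k • X ∈ Fam) {g R k : Equiv.Perm GolayPt} (hk : k ∈ M24)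
    (h : k * g * k⁻¹ = R) :
    {X | X ∈ Fam ∧ g • X = X}.ncard = {X | X ∈ Fam ∧ R • X = X}.ncard := by
  have hg : g = k⁻¹ * R * k := by rw [← h]; group
  apply Set.ncard_congr (fun X _ => k • X)
  · rintro X ⟨hX, hgX⟩
    refine ⟨hinv k hk X hX, ?_⟩
    rw [← h, mul_smul, mul_smul, inv_smul_smul, hgX]
  · intro X Y _ _ hXY
    exact smul_left_cancel k hXY
  · rintro Y ⟨hY, hRY⟩
    refine ⟨k⁻¹ • Y, ⟨hinv _ (M24.inv_mem hk) Y hY, ?_⟩, smul_inv_smul k Y⟩
    rw [hg, mul_smul, mul_smul, smul_inv_smul, hRY]

/-- fixed octads, counted over the literal list of octad masks -/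
theorem ncard_fixed_octads {g : Equiv.Perm GolayPt} {T : ℕ} (hm : Helper26.MatchesP g T) :
    {o : Finset GolayPt | o ∈ octads ∧ g • o = o}.ncard =
      (Helper27.octL.filter fun m => Helper26.applyP T m == m).length := by
  apply Helper27.ncard_octads_filter (fun o => g • o = o)
  intro m hmem
  rw [Helper26.smul_setOf_eq_applyP hm, beq_iff_eq]
  constructor
  · intro h
    exact setOf_injOn (applyP_lt hm m) (Helper27.octL_lt hmem) h
  · intro h
    rw [h]

/-- fixed dodecads, counted over the literal list of dodecad masks -/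
theorem ncard_fixed_dodecads {g : Equiv.Perm GolayPt} {T : ℕ} (hm : Helper26.MatchesP g T) :
    {o : Finset GolayPt | o ∈ dodecads ∧ g • o = o}.ncard =
      (Helper27.dodL.filter fun m => Helper26.applyP T m == m).length := by
  apply Helper27.ncard_dodecads_filter (fun o => g • o = o)
  intro m hmem
  rw [Helper26.smul_setOf_eq_applyP hm, beq_iff_eq]
  constructor
  · intro h
    exact setOf_injOn (applyP_lt hm m) (Helper27.dodL_lt hmem) h
  · intro h
    rw [h]

/-- fixed sextets -/
theorem ncard_fixed_sextets {g : Equiv.Perm GolayPt} {T : ℕ} (hm : Helper26.MatchesP g T) :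
    {X | X ∈ sextets ∧ g • X = X}.ncard = Helper26.countRange (fun j => decide (j < 1771) &&
      Helper26.subF ((Helper26.getF 6 Helper26.sxB j).map (Helper26.applyP T))
        (Helper26.getF 6 Helper26.sxB j)) 12 0 := by
  rw [ncard_fixed Helper26.sextet_setup hm,
    Helper26.card_filter_range_eq_countRange _ (by decide)]

/-- fixed trios -/
theorem ncard_fixed_trios {g : Equiv.Perm GolayPt} {T : ℕ} (hm : Helper26.MatchesP g T) :
    {X | X ∈ trios ∧ g • X = X}.ncard = Helper26.countRange (fun j => decide (j < 3795) &&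
      Helper26.subF ((Helper26.getF 3 Helper26.trB j).map (Helper26.applyP T))
        (Helper26.getF 3 Helper26.trB j)) 12 0 := by
  rw [ncard_fixed Helper26.trio_setup hm,
    Helper26.card_filter_range_eq_countRange _ (by decide)]

theorem octads_inv : ∀ k ∈ M24, ∀ X ∈ octads, k • X ∈ octads := fun _ hk _ hX =>
  smul_mem_octads hk hX

theorem dodecads_inv : ∀ k ∈ M24, ∀ X ∈ dodecads, k • X ∈ dodecads := fun _ hk _ hX =>
  smul_mem_dodecads hk hX

/-! ### Packed tables of the class representatives -/

open Cfsg.Agent.S5394 Cfsg.Agent.S5601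

def pA2 : ℕ := 0xbbaab9bda595a2aa310939a0320820
def pB2 : ℕ := 0x5883388a1c8f5140b46cd317aed7
def pA3 : ℕ := 0xbc2b40d9327150d5c54c11de419813
def pB3 : ℕ := 0x89a93bcab24d161c4d57515283017

theorem packed_check : (∀ i < 24, (wordT wA).getD i 0 = Helper26.lookP pA2 i) ∧
    (∀ i < 24, (wordT [1]).getD i 0 = Helper26.lookP pB2 i) ∧
    (∀ i < 24, (wordT w3A).getD i 0 = Helper26.lookP pA3 i) ∧
    (∀ i < 24, (wordT w3B).getD i 0 = Helper26.lookP pB3 i) := by
  decide +kernel

theorem matchesP_A2 : Helper26.MatchesP (wordP wA) pA2 :=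
  Helper26.matchesP_of_matches (wordP_matches wA) pA2 packed_check.1

theorem matchesP_B2 : Helper26.MatchesP (wordP [1]) pB2 :=
  Helper26.matchesP_of_matches (wordP_matches [1]) pB2 packed_check.2.1

theorem matchesP_A3 : Helper26.MatchesP (wordP w3A) pA3 :=
  Helper26.matchesP_of_matches (wordP_matches w3A) pA3 packed_check.2.2.1

theorem matchesP_B3 : Helper26.MatchesP (wordP w3B) pB3 :=
  Helper26.matchesP_of_matches (wordP_matches w3B) pB3 packed_check.2.2.2

end Cfsg.Agent.Lib.Helper89
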