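import Cfsg.Agent.Lib.Helper7.M24OctStab
import Cfsg.Agent.Lib.Helper97.Cores
import Cfsg.Agent.S5394

/-!
# Involutions of `M24` fixing an octad (helper89)

The pointwise stabilizer `EO o` of an octad `o` (elementary abelian of order 16) lies in `O_2` of
the centralizer of every involution whose fixed point set is `o`; every non-trivial element of
`EO o` is such an involution.
-/

set_option autoImplicit false

namespace Cfsg.Agent.Lib.Helper89.M24OctInv

open Cfsg Cfsg.Agent.Lib.Helper7

/-- the pointwise stabilizer of a set of points, as a subgroup of `M24` -/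
def EO (o : Finset GolayPt) : Subgroup ↥M24 := (fixM24 o).subgroupOf M24

theorem mem_EO {o : Finset GolayPt} {e : ↥M24} :
    e ∈ EO o ↔ ∀ p ∈ o, (e : Equiv.Perm GolayPt) p = p := by
  unfold EO
  rw [Subgroup.mem_subgroupOf, mem_fixM24]
  constructor
  · intro h; exact h.2
  · intro h; exact ⟨e.2, h⟩

theorem fixM24_le (o : Finset GolayPt) : fixM24 o ≤ M24 := fun _ hg => (mem_fixM24.mp hg).1

theorem card_EO {o : Finset GolayPt} (ho : o ∈ octads) : Nat.card ↥(EO o) = 16 := by
  unfold EO
  rw [Nat.card_congr (Subgroup.subgroupOfEquivOfLe (fixM24_le o)).toEquiv]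
  exact (fixM24_octad ho).1

theorem EO_sq {o : Finset GolayPt} (ho : o ∈ octads) {e : ↥M24} (he : e ∈ EO o) : e * e = 1 := by
  apply Subtype.ext
  exact (fixM24_octad ho).2 _ he

theorem EO_comm {o : Finset GolayPt} (ho : o ∈ octads) {e f : ↥M24} (he : e ∈ EO o)
    (hf : f ∈ EO o) : e * f = f * e := by
  have h1 := EO_sq ho he
  have h2 := EO_sq ho hf
  have h3 := EO_sq ho ((EO o).mul_mem he hf)
  have he' : e⁻¹ = e := inv_eq_of_mul_eq_one_left h1
  have hf' : f⁻¹ = f := inv_eq_of_mul_eq_one_left h2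
  have hef : (e * f)⁻¹ = e * f := inv_eq_of_mul_eq_one_left h3
  calc e * f = (e * f)⁻¹ := hef.symm
    _ = f⁻¹ * e⁻¹ := mul_inv_rev e f
    _ = f * e := by rw [he', hf']

theorem perm_apply_inv {α : Type*} (c : Equiv.Perm α) (p : α) : c (c⁻¹ p) = p := by
  rw [← Equiv.Perm.mul_apply, mul_inv_cancel, Equiv.Perm.one_apply]

/-- `EO o` lies in `O_2` of the centralizer of an involution with fixed point set `o` -/
theorem EO_le_pCore {o : Finset GolayPt} (ho : o ∈ octads) (t : ↥M24)
    (hfx : ∀ p, (t : Equiv.Perm GolayPt) p = p ↔ p ∈ o) :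
    EO o ≤ (Cfsg.pCore 2 ↥(Subgroup.centralizer ({t} : Set ↥M24))).map
      (Subgroup.centralizer ({t} : Set ↥M24)).subtype := by
  have htE : t ∈ EO o := mem_EO.mpr fun p hp => (hfx p).mpr hp
  set C := Subgroup.centralizer ({t} : Set ↥M24) with hC
  have hEC : EO o ≤ C := by
    intro e he
    rw [hC, Subgroup.mem_centralizer_singleton_iff]
    exact EO_comm ho he htE
  have hN : ((EO o).subgroupOf C).Normal := by
    constructor
    intro n hn c
    rw [Subgroup.mem_subgroupOf] at hn ⊢
    rw [mem_EO] at hn ⊢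
    intro p hp
    have hct : (c : ↥M24) * t = t * c := Subgroup.mem_centralizer_singleton_iff.mp c.2
    have hct' : ∀ q, (c : Equiv.Perm GolayPt) ((t : Equiv.Perm GolayPt) q) =
        (t : Equiv.Perm GolayPt) ((c : Equiv.Perm GolayPt) q) := by
      intro q
      have := congrArg (fun x : ↥M24 => (x : Equiv.Perm GolayPt) q) hct
      exact this
    have hq : ((c : ↥M24)⁻¹ : Equiv.Perm GolayPt) p ∈ o := by
      rw [← hfx]
      apply (c : Equiv.Perm GolayPt).injective
      rw [hct']
      show (t : Equiv.Perm GolayPt) ((c : Equiv.Perm GolayPt) (((c : Equiv.Perm GolayPt)⁻¹) p)) =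
        (c : Equiv.Perm GolayPt) (((c : Equiv.Perm GolayPt)⁻¹) p)
      rw [perm_apply_inv]
      exact (hfx p).mpr hp
    show (c : Equiv.Perm GolayPt) ((n : Equiv.Perm GolayPt) (((c : ↥M24)⁻¹ : Equiv.Perm GolayPt) p)) = p
    rw [hn _ hq]
    show (c : Equiv.Perm GolayPt) (((c : Equiv.Perm GolayPt)⁻¹) p) = p
    rw [perm_apply_inv]
  have hP : IsPGroup 2 ↥((EO o).subgroupOf C) := by
    intro n
    refine ⟨1, ?_⟩
    apply Subtype.ext
    apply Subtype.ext
    have := EO_sq ho (Subgroup.mem_subgroupOf.mp n.2)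
    rw [pow_one, pow_two]
    exact this
  have hle := Cfsg.Agent.Lib.Helper97.le_pCore_of_normal hN hP
  intro e he
  exact ⟨⟨e, hEC he⟩, hle (Subgroup.mem_subgroupOf.mpr he), rfl⟩

/-- a non-trivial element of `EO o` fixes exactly `o` -/
theorem fix_iff_of_mem_EO {o : Finset GolayPt} (ho : o ∈ octads) {b : ↥M24} (hb : b ∈ EO o)
    (hb1 : b ≠ 1) (p : GolayPt) : (b : Equiv.Perm GolayPt) p = p ↔ p ∈ o := by
  have : Fact (Nat.Prime 2) := ⟨Nat.prime_two⟩
  have hord : orderOf (b : Equiv.Perm GolayPt) = 2 := by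
    rw [Subgroup.orderOf_coe]
    apply orderOf_eq_prime
    · rw [pow_two]; exact EO_sq ho hb
    · exact hb1
  have hne : o.Nonempty := by
    rw [← Finset.card_pos, ho.2]; norm_num
  obtain ⟨q, hq⟩ := hne
  rcases (Cfsg.Agent.S5394.result).1 _ b.2 hord with h | h
  · have hsub : o ⊆ Finset.univ.filter fun p => (b : Equiv.Perm GolayPt) p = p := by
      intro r hr
      rw [Finset.mem_filter]
      exact ⟨Finset.mem_univ _, mem_EO.mp hb r hr⟩
    have heq := Finset.eq_of_subset_of_card_le hsub (by rw [h.2, ho.2])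
    constructor
    · intro hp
      rw [heq, Finset.mem_filter]
      exact ⟨Finset.mem_univ _, hp⟩
    · intro hp
      exact mem_EO.mp hb p hp
  · exact absurd (mem_EO.mp hb q hq) (h q)

/-- `EO o` has more than two elements -/
theorem exists_third {o : Finset GolayPt} (ho : o ∈ octads) (z : ↥M24) :
    ∃ b ∈ EO o, b ≠ 1 ∧ b ≠ z := by
  by_contra hcon
  push Not at hcon
  have hsub : ((EO o : Subgroup ↥M24) : Set ↥M24) ⊆ {1, z} := by
    intro b hb
    by_cases h1 : b = 1
    · left; exact h1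
    · right; exact hcon b hb h1
  have h1 : ((EO o : Subgroup ↥M24) : Set ↥M24).ncard ≤ 2 :=
    (Set.ncard_le_ncard hsub (Set.toFinite _)).trans (Set.ncard_insert_le _ _ |>.trans (by
      rw [Set.ncard_singleton]))
  have h2 : ((EO o : Subgroup ↥M24) : Set ↥M24).ncard = 16 := by
    rw [← Nat.card_coe_set_eq]
    exact card_EO ho
  omega

end Cfsg.Agent.Lib.Helper89.M24OctInv
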