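import Mathlib
import Cfsg.Prelude.Def_LocalEven
import Cfsg.Agent.S0595
import Cfsg.Agent.Lib.Helper64.FaithfulAmbient

/-!
# No quadratic action when the acting simple group has Sylow 2-subgroups of exponent 2
(helper89, module [REE] of helper85's S2787)

`H` acts on the elementary abelian `p`-group `V` (`p` odd) with `H / C_H(V)` a non-abelian simple
group all of whose `2`-elements are involutions.  Then no subgroup of `H` acts quadratically and
non-trivially on `V`.  Route: pass to the semidirect product `V ⋊ N_G(V)/C(V)` (helper64's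
`FaithfulAmbient`) and use S0595.
-/

set_option autoImplicit false

namespace Cfsg.Agent.Lib.Helper89.NoQuad

open scoped commutatorElement
open SemidirectProduct Cfsg.Agent.Lib.Helper64.FaithfulAmbient

/-- a group in which every element of a subgroup squares to one is commutative on that subgroup -/
theorem isMulCommutative_of_sq {G : Type*} [Group G] (T : Subgroup G)
    (h : ∀ x ∈ T, x * x = 1) : IsMulCommutative T := by
  refine ⟨⟨?_⟩⟩
  rintro ⟨x, hx⟩ ⟨y, hy⟩
  apply Subtype.ext
  show x * y = y * x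
  have hxy := h (x * y) (T.mul_mem hx hy)
  have hx2 := h x hx
  have hy2 := h y hy
  have hxi : x⁻¹ = x := inv_eq_of_mul_eq_one_left hx2
  have hyi : y⁻¹ = y := inv_eq_of_mul_eq_one_left hy2
  have h1 : (x * y)⁻¹ = x * y := inv_eq_of_mul_eq_one_left hxy
  rw [mul_inv_rev, hxi, hyi] at h1
  exact h1.symm

/-- in a group whose Sylow 2-subgroups have exponent 2, every 2-element squares to one -/
theorem sq_eq_one_of_two_element {R : Type*} [Group R] [Finite R]
    (hsyl : ∀ S : Sylow 2 R, ∀ x ∈ S, x * x = 1) (y : R) (k : ℕ) (hy : y ^ 2 ^ k = 1) :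
    y * y = 1 := by
  have hp : IsPGroup 2 (Subgroup.zpowers y) := by
    rintro ⟨z, hz⟩
    obtain ⟨n, rfl⟩ := Subgroup.mem_zpowers_iff.mp hz
    refine ⟨k, ?_⟩
    apply Subtype.ext
    show (y ^ n) ^ 2 ^ k = 1
    rw [← zpow_natCast, ← zpow_mul, mul_comm, zpow_mul, zpow_natCast, hy, one_zpow]
  obtain ⟨S, hS⟩ := hp.exists_le_sylow
  exact hsyl S y (hS (Subgroup.mem_zpowers y))

/-- a non-commutative finite simple group has no non-trivial normal `p`-subgroup -/
theorem normal_pGroup_eq_bot {R : Type*} [Group R] [Finite R] (hsimple : IsSimpleGroup R)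
    (hnc : ¬ IsMulCommutative R) {p : ℕ} [Fact p.Prime] (P : Subgroup R) [hPn : P.Normal]
    (hP : IsPGroup p P) : P = ⊥ := by
  rcases hPn.eq_bot_or_eq_top with h | h
  · exact h
  · exfalso
    apply hnc
    have hR : IsPGroup p R := by
      intro x
      obtain ⟨k, hk⟩ := hP ⟨x, by rw [h]; trivial⟩
      exact ⟨k, congrArg Subtype.val hk⟩
    have : Nontrivial R := hsimple.toNontrivial
    have hZ : Nontrivial (Subgroup.center R) := hR.center_nontrivial
    have hZtop : Subgroup.center R = ⊤ := by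
      rcases (inferInstance : (Subgroup.center R).Normal).eq_bot_or_eq_top with h0 | h0
      · exfalso
        rw [Subgroup.nontrivial_iff_ne_bot] at hZ
        exact hZ h0
      · exact h0
    refine ⟨⟨fun x y => ?_⟩⟩
    have hy : y ∈ Subgroup.center R := by rw [hZtop]; trivial
    exact Subgroup.mem_center_iff.mp hy x

theorem no_quad_of_abelian_sylow_two {G : Type*} [Group G] [Finite G] {p : ℕ} [Fact p.Prime]
    (hp : p ≠ 2) (V H : Subgroup G)
    (hV : Cfsg.IsElementaryAbelian p V) (hHV : H ≤ Subgroup.normalizer (V : Set G))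
    [hn : ((Subgroup.centralizer (V : Set G)).subgroupOf H).Normal]
    (R : Type*) [Group R] (e : (↥H ⧸ (Subgroup.centralizer (V : Set G)).subgroupOf H) ≃* R)
    (hsimple : IsSimpleGroup R) (hnc : ¬ IsMulCommutative R)
    (hsyl : ∀ S : Sylow 2 R, ∀ x ∈ S, x * x = 1)
    (A : Subgroup G) (hA : A ≤ H) (hquad : ⁅⁅V, A⁆, A⁆ = ⊥) : ⁅V, A⁆ = ⊥ := by
  classical
  by_contra hne
  -- an element of `A` not centralizing `V`
  obtain ⟨a, haA, haC⟩ : ∃ a ∈ A, a ∉ Subgroup.centralizer (V : Set G) := by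
    by_contra hcon
    push Not at hcon
    apply hne
    rw [Subgroup.commutator_comm, Subgroup.commutator_eq_bot_iff_le_centralizer]
    exact hcon
  -- `[V,A]` commutes with `A`
  have hquad' : ∀ v ∈ V, ∀ b ∈ A, ∀ c ∈ A, c * ⁅v, b⁆ = ⁅v, b⁆ * c := by
    intro v hv b hb c hc
    have h1 : ⁅V, A⁆ ≤ Subgroup.centralizer (A : Set G) :=
      Subgroup.commutator_eq_bot_iff_le_centralizer.mp hquad
    exact Subgroup.mem_centralizer_iff.mp (h1 (Subgroup.commutator_mem_commutator hv hb)) c hc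
  -- the ambient group: the normalizer of `V`
  obtain ⟨N, hNdef⟩ : ∃ N : Subgroup G, N = Subgroup.normalizer (V : Set G) := ⟨_, rfl⟩
  have hVN : V ≤ N := by rw [hNdef]; exact Subgroup.le_normalizer
  have hHN : H ≤ N := by rw [hNdef]; exact hHV
  obtain ⟨V1, hV1def⟩ : ∃ V1 : Subgroup N, V1 = V.subgroupOf N := ⟨_, rfl⟩
  have hV1n : V1.Normal := by
    rw [hV1def, hNdef]
    exact Subgroup.normal_in_normalizer
  have hV1mem : ∀ x : N, x ∈ V1 ↔ (x : G) ∈ V := by
    intro x
    rw [hV1def, Subgroup.mem_subgroupOf]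
  have hV1 : Cfsg.IsElementaryAbelian p V1 := by
    obtain ⟨hc, hpow⟩ := hV
    refine ⟨⟨⟨?_⟩⟩, ?_⟩
    · rintro ⟨x, hx⟩ ⟨y, hy⟩
      apply Subtype.ext
      apply Subtype.ext
      have h1 := hc.is_comm.comm ⟨(x : G), (hV1mem x).mp hx⟩ ⟨(y : G), (hV1mem y).mp hy⟩
      have h2 : (x : G) * (y : G) = (y : G) * (x : G) := congrArg Subtype.val h1
      exact h2
    · intro x hx
      apply Subtype.ext
      exact hpow (x : G) ((hV1mem x).mp hx)
  -- the homomorphism `H → Amb`
  obtain ⟨ψ, hψdef⟩ : ∃ ψ : ↥H →* Amb V1, ψ = (inr : _ →* Amb V1).comp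
      ((QuotientGroup.mk' (Subgroup.centralizer (V1 : Set N))).comp (Subgroup.inclusion hHN)) :=
    ⟨_, rfl⟩
  have hψapp : ∀ x : H, ψ x = inr (QuotientGroup.mk (Subgroup.inclusion hHN x)) := by
    intro x
    rw [hψdef]
    rfl
  -- membership in the centralizer of `V1`
  have hcent : ∀ g : N, g ∈ Subgroup.centralizer (V1 : Set N) ↔
      (g : G) ∈ Subgroup.centralizer (V : Set G) := by
    intro g
    rw [Subgroup.mem_centralizer_iff, Subgroup.mem_centralizer_iff]
    constructor
    · intro h v hv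
      have h1 := h ⟨v, hVN hv⟩ ((hV1mem _).mpr hv)
      exact congrArg Subtype.val h1
    · intro h v hv
      apply Subtype.ext
      exact h (v : G) ((hV1mem v).mp hv)
  have hker : ψ.ker = (Subgroup.centralizer (V : Set G)).subgroupOf H := by
    ext x
    rw [MonoidHom.mem_ker, hψapp, Subgroup.mem_subgroupOf]
    constructor
    · intro h
      have h1 : (QuotientGroup.mk (Subgroup.inclusion hHN x) :
          N ⧸ Subgroup.centralizer (V1 : Set N)) = 1 := by
        apply inr_injective (φ := act V1)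
        rw [h, map_one]
      rw [QuotientGroup.eq_one_iff, hcent] at h1
      exact h1
    · intro h
      have h1 : (QuotientGroup.mk (Subgroup.inclusion hHN x) :
          N ⧸ Subgroup.centralizer (V1 : Set N)) = 1 := by
        rw [QuotientGroup.eq_one_iff, hcent]
        exact h
      rw [h1, map_one]
  -- the isomorphism `ψ.range ≃* R`
  obtain ⟨f⟩ : Nonempty (↥ψ.range ≃* R) :=
    ⟨(QuotientGroup.quotientKerEquivRange ψ).symm.trans
      ((QuotientGroup.quotientMulEquivOfEq hker).trans e)⟩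
  have : Finite R := Finite.of_equiv _ f.toEquiv
  -- the element `a'`
  have haH : a ∈ H := hA haA
  obtain ⟨a', ha'def⟩ : ∃ a' : Amb V1, a' = ψ ⟨a, haH⟩ := ⟨_, rfl⟩
  have ha'range : a' ∈ ψ.range := ⟨⟨a, haH⟩, ha'def.symm⟩
  have ha'ne : a' ≠ 1 := by
    intro h1
    apply haC
    have h2 : (⟨a, haH⟩ : H) ∈ ψ.ker := by rw [MonoidHom.mem_ker, ← ha'def, h1]
    rw [hker, Subgroup.mem_subgroupOf] at h2
    exact h2
  -- `pCore p ψ.range = ⊥`
  have hcore : Cfsg.pCore p ↥ψ.range = ⊥ := by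
    have hn1 : (Cfsg.pCore p ↥ψ.range).Normal := Subgroup.sSup_normal _ (fun _ h => h.1)
    have hp1 : IsPGroup p (Cfsg.pCore p ↥ψ.range) := Cfsg.Agent.Lib.Helper76.pCore_isPGroup p
    have hn2 : ((Cfsg.pCore p ↥ψ.range).map f.toMonoidHom).Normal :=
      hn1.map f.toMonoidHom f.surjective
    have hp2 : IsPGroup p ((Cfsg.pCore p ↥ψ.range).map f.toMonoidHom) := hp1.map f.toMonoidHom
    have h3 := normal_pGroup_eq_bot hsimple hnc _ hp2
    rw [Subgroup.map_eq_bot_iff_of_injective _ f.injective] at h3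
    exact h3
  -- Sylow 2-subgroups of `ψ.range` are commutative
  have hT : ∀ T : Sylow 2 ↥ψ.range, IsMulCommutative T := by
    intro T
    apply isMulCommutative_of_sq
    intro x hx
    obtain ⟨k, hk⟩ := T.isPGroup' ⟨x, hx⟩
    have hk' : x ^ 2 ^ k = 1 := congrArg Subtype.val hk
    have h1 : f x * f x = 1 := by
      apply sq_eq_one_of_two_element hsyl (f x) k
      rw [← map_pow, hk', map_one]
    apply f.injective
    rw [map_mul, h1, map_one]
  -- apply S0595 in the ambient group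
  have hrange_le : ψ.range ≤ H' V1 := by
    rintro _ ⟨x, rfl⟩
    rw [hψapp]
    exact ⟨_, rfl⟩
  have hfaith : ψ.range ⊓ Subgroup.centralizer ((V' V1 : Subgroup (Amb V1)) : Set (Amb V1)) = ⊥ := by
    rw [eq_bot_iff, ← H'_inf_centralizer V1]
    exact inf_le_inf_right _ hrange_le
  have hnormalizer : ψ.range ≤
      Subgroup.normalizer ((V' V1 : Subgroup (Amb V1)) : Set (Amb V1)) :=
    hrange_le.trans (H'_le_normalizer V1)
  -- the quadratic action in the ambient group
  have ha'eq : a' = inr (QuotientGroup.mk (⟨a, hHN haH⟩ : N)) := by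
    rw [ha'def, hψapp]
    rfl
  have hq : ⁅⁅V' V1, Subgroup.zpowers a'⁆, Subgroup.zpowers a'⁆ = ⊥ := by
    rw [Subgroup.commutator_eq_bot_iff_le_centralizer, Subgroup.commutator_le]
    rintro _ ⟨v, rfl⟩ y hy
    obtain ⟨n, rfl⟩ := Subgroup.mem_zpowers_iff.mp hy
    -- `y = a' ^ n = inr (mk (a1 ^ n))`
    have hy' : a' ^ n = inr (QuotientGroup.mk ((⟨a, hHN haH⟩ : N) ^ n)) := by
      rw [ha'eq, ← map_zpow, ← QuotientGroup.mk_zpow]
    -- the commutator is `inl w`
    obtain ⟨w, hw⟩ : ∃ w : V1, w = v * (act V1 (QuotientGroup.mk ((⟨a, hHN haH⟩ : N) ^ n)) v)⁻¹ :=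
      ⟨_, rfl⟩
    have hcomm : ⁅(inl v : Amb V1), a' ^ n⁆ = inl w := by
      rw [commutatorElement_def, hy', hw, map_mul, map_inv, mul_assoc, mul_assoc]
      congr 1
      have h1 := conj_inr_inl V1 (QuotientGroup.mk ((⟨a, hHN haH⟩ : N) ^ n)) v
      rw [← map_inv (inl : V1 →* Amb V1) v, ← mul_assoc, ]
      have h2 := conj_inr_inl V1 (QuotientGroup.mk ((⟨a, hHN haH⟩ : N) ^ n)) v⁻¹
      rw [h2, mul_assoc, mul_inv_cancel, mul_one, map_inv, map_inv]
    rw [hcomm]
    -- `w` as an element of `G` is `⁅v, a ^ n⁆`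
    have hwG : ((w : N) : G) = ⁅((v : N) : G), a ^ n⁆ := by
      rw [hw, commutatorElement_def]
      have h1 := act_mk V1 ((⟨a, hHN haH⟩ : N) ^ n) v
      have h2 : (((v * (act V1 (QuotientGroup.mk ((⟨a, hHN haH⟩ : N) ^ n)) v)⁻¹ : V1) : N) : G) =
          ((v : N) : G) * ((((act V1 (QuotientGroup.mk ((⟨a, hHN haH⟩ : N) ^ n)) v : V1) : N) :
            G))⁻¹ := rfl
      rw [h2, h1]
      show ((v : N) : G) * (a ^ n * ((v : N) : G) * (a ^ n)⁻¹)⁻¹ = _
      group
    -- `a` commutes with `w`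
    have hvV : ((v : N) : G) ∈ V := (hV1mem _).mp v.2
    have hcw : a * ((w : N) : G) = ((w : N) : G) * a := by
      rw [hwG]
      exact hquad' _ hvV _ (A.zpow_mem haA n) a haA
    -- hence `a'` commutes with `inl w`
    have hcw' : a' * inl w = inl w * a' := by
      rw [ha'eq, conj_inr_inl]
      congr 2
      apply Subtype.ext
      apply Subtype.ext
      rw [act_mk]
      show a * ((w : N) : G) * a⁻¹ = ((w : N) : G)
      rw [hcw]
      group
    rw [Subgroup.mem_centralizer_iff]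
    intro z hz
    obtain ⟨m, rfl⟩ := Subgroup.mem_zpowers_iff.mp hz
    have hc : Commute a' (inl w : Amb V1) := hcw'
    exact (hc.zpow_left m).eq
  have hna : a' ∉ (Cfsg.pCore p ↥ψ.range).map ψ.range.subtype := by
    rw [hcore, Subgroup.map_bot, Subgroup.mem_bot]
    exact ha'ne
  obtain ⟨T⟩ : Nonempty (Sylow 2 ↥ψ.range) := inferInstance
  exact Cfsg.Agent.S0595.result hp (V' V1) ψ.range (isElementaryAbelian_V' V1 hV1) hnormalizer hfaith
    a' ha'range hq hna T (hT T)

end Cfsg.Agent.Lib.Helper89.NoQuad
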