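import Cfsg.Agent.Lib.Helper89.QuadF2
import Cfsg.Prelude.Def_Classical

/-!
# Classification of nondegenerate quadratic forms over the field with two elements (helper89)

`QT R m` is the form `Σ_{i<m} x_i y_i + R(t)` on `(Fin m ⊕ Fin m) ⊕ T → ZMod 2`.
* `plus_classify`: a nondegenerate quadratic space of order `2^(2n)` with a totally singular subgroup of order at
  least `2^n` is isometric to `QT 0 n` with `T = Empty`.
* `minus_classify`: a nondegenerate quadratic space of order `2^(2(n+1))` without totally singular subgroup of order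
  `2^(n+1)` is isometric to `QT R2 n` with `T = Fin 2`, `R2 = z₁² + z₁ z₂ + z₂²`.
-/

set_option autoImplicit false
set_option linter.unusedSectionVars false

namespace Cfsg.Agent.Lib.Helper89.QuadF2

universe u

/-- the form `Σ_{i<m} x_i y_i + R(t)` -/
def QT {T : Type} (R : (T → ZMod 2) → ZMod 2) (m : ℕ) (v : (Fin m ⊕ Fin m) ⊕ T → ZMod 2) : ZMod 2 :=
  (∑ i : Fin m, v (Sum.inl (Sum.inl i)) * v (Sum.inl (Sum.inr i))) + R (fun t => v (Sum.inr t))

/-- prepend a hyperbolic plane -/
def consFun {T : Type} (m : ℕ) (p : (ZMod 2 × ZMod 2) × ((Fin m ⊕ Fin m) ⊕ T → ZMod 2)) :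
    (Fin (m + 1) ⊕ Fin (m + 1)) ⊕ T → ZMod 2 :=
  Sum.elim (Sum.elim (Fin.cases p.1.1 (fun j => p.2 (Sum.inl (Sum.inl j))))
    (Fin.cases p.1.2 (fun j => p.2 (Sum.inl (Sum.inr j))))) (fun t => p.2 (Sum.inr t))

def unconsFun {T : Type} (m : ℕ) (g : (Fin (m + 1) ⊕ Fin (m + 1)) ⊕ T → ZMod 2) :
    (ZMod 2 × ZMod 2) × ((Fin m ⊕ Fin m) ⊕ T → ZMod 2) :=
  ((g (Sum.inl (Sum.inl 0)), g (Sum.inl (Sum.inr 0))),
    Sum.elim (Sum.elim (fun j => g (Sum.inl (Sum.inl j.succ))) (fun j => g (Sum.inl (Sum.inr j.succ))))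
      (fun t => g (Sum.inr t)))

def consEquiv (T : Type) (m : ℕ) :
    (ZMod 2 × ZMod 2) × ((Fin m ⊕ Fin m) ⊕ T → ZMod 2) ≃+ ((Fin (m + 1) ⊕ Fin (m + 1)) ⊕ T → ZMod 2) where
  toFun := consFun m
  invFun := unconsFun m
  left_inv p := by
    obtain ⟨⟨a, b⟩, g⟩ := p
    refine Prod.ext (Prod.ext rfl rfl) ?_
    funext k
    rcases k with (j | j) | t <;> rfl
  right_inv g := by
    funext k
    rcases k with (j | j) | t
    · refine Fin.cases ?_ (fun i => ?_) j <;> rfl
    · refine Fin.cases ?_ (fun i => ?_) j <;> rfl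
    · rfl
  map_add' p p' := by
    funext k
    rcases k with (j | j) | t
    · refine Fin.cases ?_ (fun i => ?_) j <;> rfl
    · refine Fin.cases ?_ (fun i => ?_) j <;> rfl
    · rfl

theorem QT_cons {T : Type} (R : (T → ZMod 2) → ZMod 2) (m : ℕ)
    (p : (ZMod 2 × ZMod 2) × ((Fin m ⊕ Fin m) ⊕ T → ZMod 2)) :
    QT R (m + 1) (consEquiv T m p) = p.1.1 * p.1.2 + QT R m p.2 := by
  unfold QT
  rw [Fin.sum_univ_succ, add_assoc]
  rfl

section step

variable {V : Type u} [AddCommGroup V] {q : V → ZMod 2} (h : IsQuad q) {e f : V} (hp : IsHypPair q e f)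

include h hp

theorem step {T : Type} (R : (T → ZMod 2) → ZMod 2) (m : ℕ)
    (eW : ↥(perp2 q h e f) ≃+ ((Fin m ⊕ Fin m) ⊕ T → ZMod 2))
    (heW : ∀ w, QT R m (eW w) = qPerp q h e f w) :
    ∃ eV : V ≃+ ((Fin (m + 1) ⊕ Fin (m + 1)) ⊕ T → ZMod 2), ∀ v, QT R (m + 1) (eV v) = q v := by
  refine ⟨((splitEquiv h hp).trans ((AddEquiv.refl (ZMod 2 × ZMod 2)).prodCongr eW)).trans
    (consEquiv T m), fun v => ?_⟩
  rw [AddEquiv.trans_apply, QT_cons, AddEquiv.trans_apply, splitEquiv_apply]
  show pol q v f * pol q v e + QT R m (eW ⟨proj q e f v, proj_mem h hp v⟩) = q v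
  rw [heW, q_eq_split h hp v]
  rfl

end step

section exist

variable {V : Type u} [AddCommGroup V] {q : V → ZMod 2} (h : IsQuad q)

include h

theorem exists_partner {e : V} (he : e ≠ 0) (qe : q e = 0) : ∃ f, IsHypPair q e f := by
  have h1 : ∃ w, pol q e w ≠ 0 := by
    by_contra hcon
    push Not at hcon
    exact he (h.nondeg e hcon)
  obtain ⟨w, hw⟩ := h1
  have hw1 : pol q e w = 1 := zmod2_eq_one_of_ne_zero hw
  refine ⟨w + sm (q w) e, qe, ?_, ?_⟩
  · rw [h.q_add, h.q_sm, qe, h.pol_sm_right, pol_comm q w e, hw1]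
    have : ∀ a : ZMod 2, a + a * 0 + a * 1 = 0 := by decide
    exact this _
  · rw [h.add_right, h.pol_sm_right, h.pol_self, mul_zero, add_zero, hw1]

/-- the polar form with one argument fixed, as a homomorphism -/
def polHom (q : V → ZMod 2) (h : IsQuad q) (x : V) : V →+ ZMod 2 where
  toFun v := pol q x v
  map_zero' := h.pol_zero_right x
  map_add' u v := h.add_right x u v

omit h in
theorem card_le_two_mul_ker [Finite V] (φ : V →+ ZMod 2) : Nat.card V ≤ 2 * Nat.card φ.ker := by
  have h1 := AddSubgroup.card_mul_index φ.ker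
  rw [AddSubgroup.index_ker] at h1
  have h2 : Nat.card φ.range ≤ 2 := by
    have := Nat.card_le_card_of_injective (fun x : φ.range => (x : ZMod 2)) Subtype.coe_injective
    rwa [Nat.card_zmod] at this
  have h3 : 0 < Nat.card φ.ker := Nat.card_pos
  nlinarith

theorem exists_singular [Finite V] (hcard : 8 ≤ Nat.card V) : ∃ e : V, e ≠ 0 ∧ q e = 0 := by
  have hnt : Nontrivial V := by
    rw [← Finite.one_lt_card_iff_nontrivial]
    omega
  obtain ⟨x, hx⟩ := exists_ne (0 : V)
  by_cases hqx : q x = 0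
  · exact ⟨x, hx, hqx⟩
  have hqx1 : q x = 1 := zmod2_eq_one_of_ne_zero hqx
  have hK := card_le_two_mul_ker (polHom q h x)
  have hK4 : 4 ≤ Nat.card (polHom q h x).ker := by omega
  -- an element of the kernel different from `0` and `x`
  have h3 : ∃ y ∈ (polHom q h x).ker, y ≠ 0 ∧ y ≠ x := by
    by_contra hcon
    push Not at hcon
    have hsub : ((polHom q h x).ker : Set V) ⊆ {0, x} := by
      intro y hy
      by_cases hy0 : y = 0
      · left; exact hy0
      · right; exact hcon y hy hy0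
    have h4 : Nat.card (polHom q h x).ker ≤ 2 := by
      have h5 : Nat.card ((polHom q h x).ker : Set V) = ((polHom q h x).ker : Set V).ncard :=
        Nat.card_coe_set_eq _
      have h6 := Set.ncard_le_ncard hsub (Set.toFinite _)
      have h7 : ({0, x} : Set V).ncard ≤ 2 := Set.ncard_insert_le _ _ |>.trans (by simp)
      calc Nat.card (polHom q h x).ker = ((polHom q h x).ker : Set V).ncard := h5
        _ ≤ 2 := h6.trans h7
    omega
  obtain ⟨y, hy, hy0, hyx⟩ := h3
  have hxy : pol q x y = 0 := hy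
  by_cases hqy : q y = 0
  · exact ⟨y, hy0, hqy⟩
  have hqy1 : q y = 1 := zmod2_eq_one_of_ne_zero hqy
  refine ⟨x + y, ?_, ?_⟩
  · intro h0
    apply hyx
    have := eq_neg_of_add_eq_zero_right h0
    rw [this, h.neg_eq]
  · rw [h.q_add, hqx1, hqy1, hxy]
    decide

theorem exists_hypPair [Finite V] (hcard : 8 ≤ Nat.card V) : ∃ e f : V, IsHypPair q e f := by
  obtain ⟨e, he, qe⟩ := exists_singular h hcard
  obtain ⟨f, hf⟩ := exists_partner h he qe
  exact ⟨e, f, hf⟩

end exist

section plus

theorem plus_classify (n : ℕ) : ∀ (V : Type u) [AddCommGroup V] [Finite V] (q : V → ZMod 2), IsQuad q →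
    Nat.card V = 2 ^ (2 * n) → (∃ U : AddSubgroup V, (∀ u ∈ U, q u = 0) ∧ 2 ^ n ≤ Nat.card U) →
    ∃ e : V ≃+ ((Fin n ⊕ Fin n) ⊕ Empty → ZMod 2), ∀ v, QT (fun _ => 0) n (e v) = q v := by
  induction n with
  | zero =>
    intro V _ _ q h hcard _
    rw [Nat.mul_zero, pow_zero] at hcard
    obtain ⟨hs, hn⟩ := Nat.card_eq_one_iff_unique.1 hcard
    haveI : Unique V := ⟨⟨0⟩, fun a => Subsingleton.elim _ _⟩
    have : IsEmpty ((Fin 0 ⊕ Fin 0) ⊕ Empty) := by
      constructor
      rintro ((j | j) | t)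
      · exact j.elim0
      · exact j.elim0
      · exact t.elim
    haveI : Unique ((Fin 0 ⊕ Fin 0) ⊕ Empty → ZMod 2) := Pi.uniqueOfIsEmpty _
    refine ⟨AddEquiv.ofUnique, fun v => ?_⟩
    rw [Subsingleton.elim v 0, h.q_zero]
    unfold QT
    simp
  | succ n ih =>
    intro V _ _ q h hcard hU
    obtain ⟨U, hU, hUc⟩ := hU
    -- a nonzero element of `U`
    have hne : ∃ e ∈ U, e ≠ 0 := by
      by_contra hcon
      push Not at hcon
      have hbot : U = ⊥ := by
        rw [eq_bot_iff]
        intro x hx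
        exact hcon x hx
      rw [hbot, AddSubgroup.card_bot] at hUc
      have : 2 ≤ 2 ^ (n + 1) := by
        calc 2 = 2 ^ 1 := by norm_num
          _ ≤ 2 ^ (n + 1) := Nat.pow_le_pow_right (by norm_num) (by omega)
      omega
    obtain ⟨e, heU, he⟩ := hne
    obtain ⟨f, hp⟩ := exists_partner h he (hU e heU)
    have hWcard : Nat.card ↥(perp2 q h e f) = 2 ^ (2 * n) := by
      have h1 := card_split h hp
      rw [hcard] at h1
      have h2 : 2 ^ (2 * (n + 1)) = 4 * 2 ^ (2 * n) := by
        rw [show 2 * (n + 1) = 2 * n + 2 by ring, pow_add]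
        ring
      omega
    -- the totally singular subgroup of `{e, f}^⊥`
    have hpolU : ∀ u ∈ U, ∀ v ∈ U, pol q u v = 0 := by
      intro u hu v hv
      unfold pol
      rw [hU _ (U.add_mem hu hv), hU u hu, hU v hv]
      rfl
    have hsmU : ∀ a : ZMod 2, sm a e ∈ U := by
      intro a
      rcases zmod2_cases a with rfl | rfl
      · rw [sm_zero]; exact U.zero_mem
      · rw [sm_one]; exact heU
    have hmemW : ∀ u ∈ U, u + sm (pol q u f) e ∈ perp2 q h e f := by
      intro u hu
      rw [mem_perp2]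
      constructor
      · rw [h.add_left, h.pol_sm_left, h.pol_self, mul_zero, add_zero]
        exact hpolU u hu e heU
      · rw [h.add_left, h.pol_sm_left, hp.ef, mul_one, zmod2_add_self]
    let U' : AddSubgroup ↥(perp2 q h e f) := U.comap (perp2 q h e f).subtype
    have hU'ts : ∀ u ∈ U', qPerp q h e f u = 0 := fun u hu => hU _ hu
    have hU'c : 2 ^ n ≤ Nat.card U' := by
      let ι : ↥U → ZMod 2 × ↥U' := fun u =>
        (pol q (u : V) f, ⟨⟨(u : V) + sm (pol q (u : V) f) e, hmemW u u.2⟩,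
          U.add_mem u.2 (hsmU _)⟩)
      have hinj : Function.Injective ι := by
        intro u u' huu
        have h1 : pol q (u : V) f = pol q (u' : V) f := congrArg Prod.fst huu
        have h2 : (u : V) + sm (pol q (u : V) f) e = (u' : V) + sm (pol q (u' : V) f) e :=
          congrArg (fun p : ZMod 2 × ↥U' => ((p.2 : ↥(perp2 q h e f)) : V)) huu
        rw [h1] at h2
        exact Subtype.ext (add_right_cancel h2)
      have h3 := Nat.card_le_card_of_injective ι hinj
      rw [Nat.card_prod, Nat.card_zmod] at h3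
      have h4 : 2 ^ (n + 1) = 2 * 2 ^ n := by ring
      omega
    obtain ⟨eW, heW⟩ := ih ↥(perp2 q h e f) (qPerp q h e f) (isQuad_qPerp h hp) hWcard
      ⟨U', hU'ts, hU'c⟩
    exact step h hp _ n eW heW

end plus

section minus

/-- the anisotropic binary form `z₁² + z₁ z₂ + z₂²` -/
def R2 (w : Fin 2 → ZMod 2) : ZMod 2 := w 0 ^ 2 + 1 * w 0 * w 1 + 1 * w 1 ^ 2

/-- the subgroup `{0, v}` -/
def pairSub {V : Type u} [AddCommGroup V] {q : V → ZMod 2} (h : IsQuad q) (v : V) : AddSubgroup V where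
  carrier := {0, v}
  zero_mem' := Or.inl rfl
  add_mem' := by
    rintro a b (rfl | rfl) (rfl | rfl)
    · left; rw [add_zero]
    · right; rw [zero_add]; rfl
    · right; rw [add_zero]; rfl
    · left; exact h.add_self _
  neg_mem' := by
    rintro a (rfl | rfl)
    · left; exact neg_zero
    · right; exact h.neg_eq _

theorem card_pairSub {V : Type u} [AddCommGroup V] {q : V → ZMod 2} (h : IsQuad q) {v : V} (hv : v ≠ 0) :
    Nat.card ↥(pairSub h v) = 2 := by
  show Nat.card (({0, v} : Set V)) = 2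
  rw [Nat.card_coe_set_eq, Set.ncard_pair (Ne.symm hv)]

/-- extend a totally singular subgroup of `{e, f}^⊥` by `e` -/
def extSub {V : Type u} [AddCommGroup V] {q : V → ZMod 2} (h : IsQuad q) (e f : V)
    (U : AddSubgroup ↥(perp2 q h e f)) : AddSubgroup V where
  carrier := {v | ∃ a : ZMod 2, ∃ w : ↥(perp2 q h e f), w ∈ U ∧ v = sm a e + (w : V)}
  zero_mem' := ⟨0, 0, U.zero_mem, by rw [sm_zero, AddSubgroup.coe_zero, add_zero]⟩
  add_mem' := by
    rintro _ _ ⟨a, w, hw, rfl⟩ ⟨b, w', hw', rfl⟩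
    refine ⟨a + b, w + w', U.add_mem hw hw', ?_⟩
    rw [h.sm_add, AddSubgroup.coe_add]
    abel
  neg_mem' := by
    rintro _ ⟨a, w, hw, rfl⟩
    rw [h.neg_eq]
    exact ⟨a, w, hw, rfl⟩

theorem extSub_singular {V : Type u} [AddCommGroup V] {q : V → ZMod 2} (h : IsQuad q) {e f : V}
    (hp : IsHypPair q e f) (U : AddSubgroup ↥(perp2 q h e f)) (hU : ∀ u ∈ U, qPerp q h e f u = 0) :
    ∀ v ∈ extSub h e f U, q v = 0 := by
  rintro _ ⟨a, w, hw, rfl⟩
  have hw' := (mem_perp2 h).1 w.2
  rw [h.q_add, h.q_sm, hp.qe, h.pol_sm_left, pol_comm q e w, hw'.1, mul_zero, zero_add, add_zero]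
  exact hU w hw

theorem card_extSub {V : Type u} [AddCommGroup V] [Finite V] {q : V → ZMod 2} (h : IsQuad q) {e f : V}
    (hp : IsHypPair q e f) (U : AddSubgroup ↥(perp2 q h e f)) :
    Nat.card ↥(extSub h e f U) = 2 * Nat.card ↥U := by
  let φ : ZMod 2 × ↥U → ↥(extSub h e f U) := fun p =>
    ⟨sm p.1 e + ((p.2 : ↥(perp2 q h e f)) : V), p.1, p.2, p.2.2, rfl⟩
  have hbij : Function.Bijective φ := by
    constructor
    · rintro ⟨a, w⟩ ⟨b, w'⟩ hab
      have h1 : sm a e + ((w : ↥(perp2 q h e f)) : V) = sm b e + ((w' : ↥(perp2 q h e f)) : V) :=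
        congrArg Subtype.val hab
      have h2 : pol q (sm a e + ((w : ↥(perp2 q h e f)) : V)) f =
          pol q (sm b e + ((w' : ↥(perp2 q h e f)) : V)) f := congrArg (fun v => pol q v f) h1
      have hw := (mem_perp2 h).1 (w : ↥(perp2 q h e f)).2
      have hw' := (mem_perp2 h).1 (w' : ↥(perp2 q h e f)).2
      rw [h.add_left, h.add_left, h.pol_sm_left, h.pol_sm_left, hp.ef, hw.2, hw'.2, mul_one, mul_one,
        add_zero, add_zero] at h2
      subst h2
      have h3 := add_left_cancel h1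
      have h4 : w = w' := Subtype.ext (Subtype.ext h3)
      rw [h4]
    · rintro ⟨_, a, w, hw, rfl⟩
      exact ⟨(a, ⟨w, hw⟩), rfl⟩
  rw [← Nat.card_congr (Equiv.ofBijective φ hbij), Nat.card_prod, Nat.card_zmod]

theorem minus_classify (n : ℕ) : ∀ (V : Type u) [AddCommGroup V] [Finite V] (q : V → ZMod 2), IsQuad q →
    Nat.card V = 2 ^ (2 * (n + 1)) →
    (¬ ∃ U : AddSubgroup V, (∀ u ∈ U, q u = 0) ∧ Nat.card U = 2 ^ (n + 1)) →
    ∃ e : V ≃+ ((Fin n ⊕ Fin n) ⊕ Fin 2 → ZMod 2), ∀ v, QT R2 n (e v) = q v := by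
  induction n with
  | zero =>
    intro V _ _ q h hcard hno
    have hcard4 : Nat.card V = 4 := by rw [hcard]; norm_num
    -- anisotropic
    have haniso : ∀ v : V, v ≠ 0 → q v = 1 := by
      intro v hv
      by_contra hq
      have hq0 : q v = 0 := by
        rcases zmod2_cases (q v) with h0 | h1
        · exact h0
        · exact absurd h1 hq
      apply hno
      refine ⟨pairSub h v, ?_, by rw [card_pairSub h hv]; norm_num⟩
      rintro u (rfl | rfl)
      · exact h.q_zero
      · exact hq0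
    have hnt : Nontrivial V := by
      rw [← Finite.one_lt_card_iff_nontrivial]
      omega
    obtain ⟨a, ha⟩ := exists_ne (0 : V)
    have h1 : ∃ w, pol q a w ≠ 0 := by
      by_contra hcon
      push Not at hcon
      exact ha (h.nondeg a hcon)
    obtain ⟨b, hb⟩ := h1
    have hab : pol q a b = 1 := zmod2_eq_one_of_ne_zero hb
    have hba : pol q b a = 1 := by rw [pol_comm]; exact hab
    have hb0 : b ≠ 0 := by
      rintro rfl
      rw [h.pol_zero_right] at hab
      exact zero_ne_one hab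
    let φ : V → ZMod 2 × ZMod 2 := fun v => (pol q v b, pol q v a)
    have hφval : ∀ x y : ZMod 2, φ (sm x a + sm y b) = (x, y) := by
      intro x y
      show (pol q (sm x a + sm y b) b, pol q (sm x a + sm y b) a) = (x, y)
      rw [h.add_left, h.add_left, h.pol_sm_left, h.pol_sm_left, h.pol_sm_left, h.pol_sm_left, hab, hba,
        h.pol_self, h.pol_self]
      simp
    have hφsurj : Function.Surjective φ := by
      rintro ⟨x, y⟩
      exact ⟨_, hφval x y⟩
    have hφbij : Function.Bijective φ := hφsurj.bijective_of_nat_card_le (by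
      rw [hcard4, Nat.card_prod, Nat.card_zmod])
    have hv_eq : ∀ v : V, v = sm (pol q v b) a + sm (pol q v a) b := by
      intro v
      apply hφbij.1
      rw [hφval]
    let c : V →+ ((Fin 0 ⊕ Fin 0) ⊕ Fin 2 → ZMod 2) :=
      { toFun := fun v => Sum.elim (Sum.elim (fun j => j.elim0) (fun j => j.elim0)) ![pol q v b, pol q v a]
        map_zero' := by
          funext k
          rcases k with (j | j) | t
          · exact j.elim0
          · exact j.elim0
          · fin_cases t
            · exact h.pol_zero_left b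
            · exact h.pol_zero_left a
        map_add' := by
          intro u v
          funext k
          rcases k with (j | j) | t
          · exact j.elim0
          · exact j.elim0
          · fin_cases t
            · exact h.add_left u v b
            · exact h.add_left u v a }
    have hc0 : ∀ v, c v (Sum.inr 0) = pol q v b := fun v => rfl
    have hc1 : ∀ v, c v (Sum.inr 1) = pol q v a := fun v => rfl
    have hcbij : Function.Bijective c := by
      constructor
      · intro u v huv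
        apply hφbij.1
        show (pol q u b, pol q u a) = (pol q v b, pol q v a)
        rw [← hc0, ← hc1, ← hc0, ← hc1, huv]
      · intro g
        obtain ⟨v, hv⟩ := hφsurj (g (Sum.inr 0), g (Sum.inr 1))
        refine ⟨v, ?_⟩
        have hv1 : pol q v b = g (Sum.inr 0) := congrArg Prod.fst hv
        have hv2 : pol q v a = g (Sum.inr 1) := congrArg Prod.snd hv
        funext k
        rcases k with (j | j) | t
        · exact j.elim0
        · exact j.elim0
        · fin_cases t
          · exact hv1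
          · exact hv2
    refine ⟨AddEquiv.ofBijective c hcbij, fun v => ?_⟩
    show QT R2 0 (c v) = q v
    unfold QT R2
    beta_reduce
    rw [Finset.univ_eq_empty, Finset.sum_empty, zero_add, hc0, hc1]
    conv_rhs => rw [hv_eq v]
    rw [h.q_add, h.q_sm, h.q_sm, h.pol_sm_left, h.pol_sm_right, hab, haniso a ha, haniso b hb0]
    have : ∀ x y : ZMod 2, x ^ 2 + 1 * x * y + 1 * y ^ 2 = x * 1 + y * 1 + x * (y * 1) := by decide
    exact this _ _
  | succ n ih =>
    intro V _ _ q h hcard hno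
    have h16 : 8 ≤ Nat.card V := by
      rw [hcard]
      calc 8 ≤ 2 ^ 4 := by norm_num
        _ ≤ 2 ^ (2 * (n + 1 + 1)) := Nat.pow_le_pow_right (by norm_num) (by omega)
    obtain ⟨e, f, hp⟩ := exists_hypPair h h16
    have hWcard : Nat.card ↥(perp2 q h e f) = 2 ^ (2 * (n + 1)) := by
      have h1 := card_split h hp
      rw [hcard] at h1
      have h2 : 2 ^ (2 * (n + 1 + 1)) = 4 * 2 ^ (2 * (n + 1)) := by
        rw [show 2 * (n + 1 + 1) = 2 * (n + 1) + 2 by ring, pow_add]
        ring
      omega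
    have hnoW : ¬ ∃ U : AddSubgroup ↥(perp2 q h e f), (∀ u ∈ U, qPerp q h e f u = 0) ∧
        Nat.card U = 2 ^ (n + 1) := by
      rintro ⟨U, hU, hUc⟩
      apply hno
      refine ⟨extSub h e f U, extSub_singular h hp U hU, ?_⟩
      rw [card_extSub h hp U, hUc]
      ring
    obtain ⟨eW, heW⟩ := ih ↥(perp2 q h e f) (qPerp q h e f) (isQuad_qPerp h hp) hWcard hnoW
    exact step h hp _ n eW heW

end minus

section final

variable {V : Type u} [AddCommGroup V] [Finite V] {q : V → ZMod 2} (h : IsQuad q)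

include h

/-- plus type: a totally singular subgroup of order at least `2^n` forces the hyperbolic form -/
theorem plus_final (n : ℕ) (hcard : Nat.card V = 2 ^ (2 * n))
    (hU : ∃ U : AddSubgroup V, (∀ u ∈ U, q u = 0) ∧ 2 ^ n ≤ Nat.card U) :
    ∃ e : V ≃+ (Fin n ⊕ Fin n → ZMod 2), ∀ v, Cfsg.quadFormPlus n (ZMod 2) (e v) = q v := by
  obtain ⟨e, he⟩ := plus_classify n V q h hcard hU
  let r : ((Fin n ⊕ Fin n) ⊕ Empty → ZMod 2) ≃+ (Fin n ⊕ Fin n → ZMod 2) :=
    { toFun := fun g k => g (Sum.inl k)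
      invFun := fun g => Sum.elim g (fun t => t.elim)
      left_inv := by
        intro g
        funext k
        rcases k with k | t
        · rfl
        · exact t.elim
      right_inv := fun g => rfl
      map_add' := fun g g' => rfl }
  refine ⟨e.trans r, fun v => ?_⟩
  rw [← he v]
  unfold QT Cfsg.quadFormPlus
  rw [add_zero]
  rfl

/-- minus type -/
theorem minus_final (n : ℕ) (hcard : Nat.card V = 2 ^ (2 * (n + 1)))
    (hU : ¬ ∃ U : AddSubgroup V, (∀ u ∈ U, q u = 0) ∧ Nat.card U = 2 ^ (n + 1)) :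
    ∃ e : V ≃+ ((Fin n ⊕ Fin n) ⊕ Fin 2 → ZMod 2),
      ∀ v, Cfsg.quadFormMinus n (ZMod 2) 1 1 (e v) = q v := by
  obtain ⟨e, he⟩ := minus_classify n V q h hcard hU
  refine ⟨e, fun v => ?_⟩
  rw [← he v]
  rfl

end final

end Cfsg.Agent.Lib.Helper89.QuadF2
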