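import Cfsg.Agent.Lib.Helper89.QuadF2Class

/-!
# Plus-type quadratic spaces with three distinguished hyperbolic planes (helper89)

`plus_classify3`: a nondegenerate quadratic space of order `2^(2(n+3))` over the field with two elements with a
totally singular subgroup of order at least `2^(n+3)` is isometric to
`Σ_{i<n} x_i y_i + quadFormPlus 3 (t)` on `(Fin n ⊕ Fin n) ⊕ (Fin 3 ⊕ Fin 3) → ZMod 2`.
-/

set_option autoImplicit false
set_option linter.unusedSectionVars false

namespace Cfsg.Agent.Lib.Helper89.QuadF2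

universe u

/-- one step of the Witt decomposition of a plus-type space -/
theorem plus_step {V : Type u} [AddCommGroup V] [Finite V] {q : V → ZMod 2} (h : IsQuad q) (k : ℕ)
    (hcard : Nat.card V = 2 ^ (2 * (k + 1)))
    (hU : ∃ U : AddSubgroup V, (∀ u ∈ U, q u = 0) ∧ 2 ^ (k + 1) ≤ Nat.card U) :
    ∃ (e f : V) (hp : IsHypPair q e f), Nat.card ↥(perp2 q h e f) = 2 ^ (2 * k) ∧
      ∃ U' : AddSubgroup ↥(perp2 q h e f), (∀ u ∈ U', qPerp q h e f u = 0) ∧ 2 ^ k ≤ Nat.card U' := by
  obtain ⟨U, hU, hUc⟩ := hU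
  have hne : ∃ e ∈ U, e ≠ 0 := by
    by_contra hcon
    push Not at hcon
    have hbot : U = ⊥ := by
      rw [eq_bot_iff]
      intro x hx
      exact hcon x hx
    rw [hbot, AddSubgroup.card_bot] at hUc
    have : 2 ≤ 2 ^ (k + 1) := by
      calc 2 = 2 ^ 1 := by norm_num
        _ ≤ 2 ^ (k + 1) := Nat.pow_le_pow_right (by norm_num) (by omega)
    omega
  obtain ⟨e, heU, he⟩ := hne
  obtain ⟨f, hp⟩ := exists_partner h he (hU e heU)
  have hWcard : Nat.card ↥(perp2 q h e f) = 2 ^ (2 * k) := by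
    have h1 := card_split h hp
    rw [hcard] at h1
    have h2 : 2 ^ (2 * (k + 1)) = 4 * 2 ^ (2 * k) := by
      rw [show 2 * (k + 1) = 2 * k + 2 by ring, pow_add]
      ring
    omega
  have hpolU : ∀ u ∈ U, ∀ v ∈ U, pol q u v = 0 := by
    intro u hu v hv
    unfold pol
    rw [hU _ (U.add_mem hu hv), hU u hu, hU v hv]
    rfl
  have hsmU : ∀ a : ZMod 2, sm a e ∈ U := by
    intro a
    rcases zmod2_cases a with rfl | rfl
    · rw [sm_zero]; exact U.zero_mem
    · rw [sm_one]; exact heU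
  have hmemW : ∀ u ∈ U, u + sm (pol q u f) e ∈ perp2 q h e f := by
    intro u hu
    rw [mem_perp2]
    constructor
    · rw [h.add_left, h.pol_sm_left, h.pol_self, mul_zero, add_zero]
      exact hpolU u hu e heU
    · rw [h.add_left, h.pol_sm_left, hp.ef, mul_one, zmod2_add_self]
  refine ⟨e, f, hp, hWcard, U.comap (perp2 q h e f).subtype, fun u hu => hU _ hu, ?_⟩
  let ι : ↥U → ZMod 2 × ↥(U.comap (perp2 q h e f).subtype) := fun u =>
    (pol q (u : V) f, ⟨⟨(u : V) + sm (pol q (u : V) f) e, hmemW u u.2⟩,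
      U.add_mem u.2 (hsmU _)⟩)
  have hinj : Function.Injective ι := by
    intro u u' huu
    have h1 : pol q (u : V) f = pol q (u' : V) f := congrArg Prod.fst huu
    have h2 : (u : V) + sm (pol q (u : V) f) e = (u' : V) + sm (pol q (u' : V) f) e :=
      congrArg (fun p : ZMod 2 × ↥(U.comap (perp2 q h e f).subtype) =>
        ((p.2 : ↥(perp2 q h e f)) : V)) huu
    rw [h1] at h2
    exact Subtype.ext (add_right_cancel h2)
  have h3 := Nat.card_le_card_of_injective ι hinj
  rw [Nat.card_prod, Nat.card_zmod] at h3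
  have h4 : 2 ^ (k + 1) = 2 * 2 ^ k := by ring
  omega

theorem plus_classify3 (n : ℕ) : ∀ (V : Type u) [AddCommGroup V] [Finite V] (q : V → ZMod 2), IsQuad q →
    Nat.card V = 2 ^ (2 * (n + 3)) →
    (∃ U : AddSubgroup V, (∀ u ∈ U, q u = 0) ∧ 2 ^ (n + 3) ≤ Nat.card U) →
    ∃ e : V ≃+ ((Fin n ⊕ Fin n) ⊕ (Fin 3 ⊕ Fin 3) → ZMod 2),
      ∀ v, QT (Cfsg.quadFormPlus 3 (ZMod 2)) n (e v) = q v := by
  induction n with
  | zero =>
    intro V _ _ q h hcard hU
    obtain ⟨e0, he0⟩ := plus_final h 3 hcard hU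
    let r : (Fin 3 ⊕ Fin 3 → ZMod 2) ≃+ ((Fin 0 ⊕ Fin 0) ⊕ (Fin 3 ⊕ Fin 3) → ZMod 2) :=
      { toFun := fun g => Sum.elim (Sum.elim (fun j => j.elim0) (fun j => j.elim0)) g
        invFun := fun g t => g (Sum.inr t)
        left_inv := fun g => rfl
        right_inv := by
          intro g
          funext k
          rcases k with (j | j) | t
          · exact j.elim0
          · exact j.elim0
          · rfl
        map_add' := by
          intro g g'
          funext k
          rcases k with (j | j) | t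
          · exact j.elim0
          · exact j.elim0
          · rfl }
    refine ⟨e0.trans r, fun v => ?_⟩
    rw [← he0 v]
    unfold QT
    rw [Finset.univ_eq_empty, Finset.sum_empty, zero_add]
    rfl
  | succ n ih =>
    intro V _ _ q h hcard hU
    obtain ⟨e, f, hp, hWcard, hU'⟩ := plus_step h (n + 3) hcard hU
    obtain ⟨eW, heW⟩ := ih ↥(perp2 q h e f) (qPerp q h e f) (isQuad_qPerp h hp) hWcard hU'
    exact step h hp _ n eW heW

end Cfsg.Agent.Lib.Helper89.QuadF2
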