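/-
helper89: generic tools for the Conway–Wales (Rudvalis) lattice `ruLattice ⊂ ℤ[i]²⁸`:
raw list computations, the span of a raw basis, parity checks modulo `1 + i`.
-/
import Mathlib
import Cfsg.Prelude.Def_Spor_Ru

set_option autoImplicit false
open Cfsg Cfsg.Spor

namespace Cfsg.Agent.Lib.Helper89.RuLat

/-- the Gaussian integers -/
abbrev Gi := GaussianInt

/-! ### reduction modulo `1 + i` -/

/-- reduction of a Gaussian integer modulo `1 + i` -/
def rho (z : Gi) : ZMod 2 := ((z.re + z.im : ℤ) : ZMod 2)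

theorem two_eq_zero : (2 : ZMod 2) = 0 := rfl

theorem rho_zero : rho 0 = 0 := by simp [rho]

theorem rho_one : rho 1 = 1 := by simp [rho]

theorem rho_add (z w : Gi) : rho (z + w) = rho z + rho w := by
  simp only [rho, Zsqrtd.re_add, Zsqrtd.im_add]; push_cast; ring

theorem rho_mul (z w : Gi) : rho (z * w) = rho z * rho w := by
  simp only [rho, Zsqrtd.re_mul, Zsqrtd.im_mul]; push_cast
  linear_combination (-((z.im : ZMod 2) * w.im)) * two_eq_zero

theorem rho_star (z : Gi) : rho (star z) = rho z := by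
  simp only [rho, Zsqrtd.re_star, Zsqrtd.im_star]; push_cast
  linear_combination (-(z.im : ZMod 2)) * two_eq_zero

/-- `rho` as a ring homomorphism -/
def rhoHom : Gi →+* ZMod 2 where
  toFun := rho
  map_one' := rho_one
  map_mul' := rho_mul
  map_zero' := rho_zero
  map_add' := rho_add

theorem rhoHom_apply (z : Gi) : rhoHom z = rho z := rfl

theorem rho_eq_norm (z : Gi) : rho z = ((z.norm : ℤ) : ZMod 2) := by
  have sq : ∀ a : ZMod 2, a * a = a := by decide
  simp only [rho, Zsqrtd.norm_def]; push_cast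
  rw [sq, neg_one_mul, neg_mul, sub_neg_eq_add, sq]

/-- the prime `1 + i` -/
def gPi : Gi := ⟨1, 1⟩

theorem gPi_norm : gPi.norm = 2 := by decide

theorem rho_gPi : rho gPi = 0 := by decide

theorem exists_of_rho_zero (z : Gi) (h : rho z = 0) : ∃ y, z = gPi * y := by
  rw [rho, ZMod.intCast_zmod_eq_zero_iff_dvd] at h
  obtain ⟨m, hm⟩ := h
  refine ⟨⟨m, m - z.re⟩, ?_⟩
  apply Zsqrtd.ext
  · simp only [gPi, Zsqrtd.re_mul]; push_cast at hm ⊢; linarith
  · simp only [gPi, Zsqrtd.im_mul]; push_cast at hm ⊢; linarith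

theorem norm_nonneg' (z : Gi) : 0 ≤ z.norm := Zsqrtd.norm_nonneg (by norm_num) z

theorem norm_pos_of_rho (z : Gi) (h : rho z ≠ 0) : 1 ≤ z.norm := by
  have h0 : z.norm ≠ 0 := by
    intro h0
    apply h
    rw [rho_eq_norm, h0]; simp
  have := norm_nonneg' z
  omega

theorem rho_val_le_norm (z : Gi) : ((rho z).val : ℤ) ≤ z.norm := by
  by_cases h : rho z = 0
  · rw [h]; simpa using norm_nonneg' z
  · have h1 : rho z = 1 := by
      have : ∀ a : ZMod 2, a ≠ 0 → a = 1 := by decide
      exact this _ h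
    rw [h1]
    have h2 : ((1 : ZMod 2).val : ℤ) = 1 := by decide
    rw [h2]
    exact norm_pos_of_rho z h

theorem rho_zero_of_two_dvd_norm (s : Gi) (h : (2 : ℤ) ∣ s.norm) : rho s = 0 := by
  rw [rho_eq_norm, ZMod.intCast_zmod_eq_zero_iff_dvd]
  exact_mod_cast h

/-- core of the parity argument -/
theorem rho_zero_of_dvd (c s : Gi) (hc : c.norm ∣ 8) (h : (4 : Gi) ∣ c * s) : rho s = 0 := by
  obtain ⟨t, ht⟩ := h
  obtain ⟨q, hq⟩ := hc
  have h16 : (4 : Gi).norm = 16 := by decide
  have hn := congrArg Zsqrtd.norm ht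
  rw [Zsqrtd.norm_mul, Zsqrtd.norm_mul, h16] at hn
  have hc0 : c.norm ≠ 0 := by
    intro h0; rw [h0] at hq; omega
  apply rho_zero_of_two_dvd_norm
  refine ⟨q * t.norm, ?_⟩
  apply mul_left_cancel₀ hc0
  rw [hn]
  have : (16 : ℤ) = 2 * (c.norm * q) := by rw [← hq]; norm_num
  rw [this]; ring

/-! ### vectors, the Hermitian form, norms -/

/-- position of an index in a raw list of 28 entries -/
def idx (p : RuIdx) : ℕ := p.2.val + 4 * p.1.val

theorem sum_idx {M : Type*} [AddCommMonoid M] (g : ℕ → M) :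
    ∑ p : RuIdx, g (idx p) = ∑ n ∈ Finset.range 28, g n := by
  have h1 := Fin.sum_univ_eq_sum_range g (7 * 4)
  have h2 := Equiv.sum_comp (finProdFinEquiv : Fin 7 × Fin 4 ≃ Fin (7 * 4)) (fun i => g i.val)
  rw [← h1, ← h2]
  rfl

/-- the vector given by a raw list -/
def toVec (l : List Gi) : RuVec := fun p => l.getD (idx p) 0

/-- the Hermitian form -/
def herm (x d : RuVec) : Gi := ∑ p, x p * star (d p)

/-- the Hermitian form on raw lists -/
def rherm : List Gi → List Gi → Gi
  | a :: l, b :: l' => a * star b + rherm l l'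
  | _, _ => 0

theorem sum_range_getD (a b : List Gi) (N : ℕ) (h : a.length ≤ N) :
    ∑ n ∈ Finset.range N, a.getD n 0 * star (b.getD n 0) = rherm a b := by
  induction a generalizing b N with
  | nil => simp [rherm]
  | cons x a ih =>
    cases N with
    | zero => simp at h
    | succ N =>
      rw [Finset.sum_range_succ']
      cases b with
      | nil => simp [rherm]
      | cons y b =>
        simp only [List.getD_cons_succ, List.getD_cons_zero, rherm]
        rw [ih b N (by simpa using h)]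
        ring

theorem herm_toVec (a b : List Gi) (h : a.length ≤ 28) :
    herm (toVec a) (toVec b) = rherm a b := by
  unfold herm toVec
  rw [sum_idx (fun n => a.getD n 0 * star (b.getD n 0))]
  exact sum_range_getD a b 28 h

theorem herm_add_left (x y d : RuVec) : herm (x + y) d = herm x d + herm y d := by
  simp only [herm, Pi.add_apply, add_mul, Finset.sum_add_distrib]

theorem herm_smul_left (c : Gi) (x d : RuVec) : herm (c • x) d = c * herm x d := by
  simp only [herm, Pi.smul_apply, smul_eq_mul, Finset.mul_sum, mul_assoc]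

theorem herm_add_right (x d e : RuVec) : herm x (d + e) = herm x d + herm x e := by
  simp only [herm, Pi.add_apply, star_add, mul_add, Finset.sum_add_distrib]

theorem herm_smul_right (c : Gi) (x d : RuVec) : herm x (c • d) = star c * herm x d := by
  simp only [herm, Pi.smul_apply, smul_eq_mul, Finset.mul_sum, star_mul]
  refine Finset.sum_congr rfl (fun p _ => ?_)
  ring

theorem herm_zero_left (d : RuVec) : herm 0 d = 0 := by simp [herm]

theorem herm_zero_right (x : RuVec) : herm x 0 = 0 := by simp [herm]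

theorem re_sum {ι : Type*} (s : Finset ι) (f : ι → Gi) : (∑ i ∈ s, f i).re = ∑ i ∈ s, (f i).re := by
  classical
  induction s using Finset.induction_on with
  | empty => simp
  | insert a s ha ih => rw [Finset.sum_insert ha, Finset.sum_insert ha, Zsqrtd.re_add, ih]

theorem norm_eq_re (z : Gi) : z.norm = (z * star z).re := by
  simp only [Zsqrtd.norm_def, Zsqrtd.re_mul, Zsqrtd.re_star, Zsqrtd.im_star]; ring

theorem ruNorm_eq_herm (x : RuVec) : ruNorm x = (herm x x).re := by
  unfold ruNorm herm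
  rw [re_sum]
  exact Finset.sum_congr rfl (fun p _ => norm_eq_re _)

theorem ruNorm_smul (c : Gi) (x : RuVec) : ruNorm (c • x) = c.norm * ruNorm x := by
  unfold ruNorm
  rw [Finset.mul_sum]
  exact Finset.sum_congr rfl (fun _ _ => by rw [Pi.smul_apply, smul_eq_mul, Zsqrtd.norm_mul])

theorem ruNorm_add (x y : RuVec) : ruNorm (x + y) = ruNorm x + ruNorm y + 2 * (herm x y).re := by
  unfold ruNorm herm
  rw [re_sum, Finset.mul_sum, ← Finset.sum_add_distrib, ← Finset.sum_add_distrib]
  refine Finset.sum_congr rfl (fun p _ => ?_)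
  simp only [Pi.add_apply, Zsqrtd.norm_def, Zsqrtd.re_add, Zsqrtd.im_add, Zsqrtd.re_mul,
    Zsqrtd.re_star, Zsqrtd.im_star]
  ring

theorem ruNorm_nonneg (x : RuVec) : 0 ≤ ruNorm x :=
  Finset.sum_nonneg (fun p _ => norm_nonneg' _)

theorem eq_zero_of_ruNorm (x : RuVec) (h : ruNorm x = 0) : x = 0 := by
  funext p
  have h1 := (Finset.sum_eq_zero_iff_of_nonneg (fun p _ => norm_nonneg' (x p))).mp h p
    (Finset.mem_univ p)
  exact (Zsqrtd.norm_eq_zero_iff (by norm_num) (x p)).mp h1

/-! ### divisibility by four -/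

theorem four_dvd_iff (z : Gi) : (4 : Gi) ∣ z ↔ (4 : ℤ) ∣ z.re ∧ (4 : ℤ) ∣ z.im := by
  have h := Zsqrtd.intCast_dvd (d := -1) 4 z
  simpa using h

instance (z : Gi) : Decidable ((4 : Gi) ∣ z) := decidable_of_iff _ (four_dvd_iff z).symm

/-! ### the span of a raw basis -/

/-- the `ℤ[i]`-span of the vectors of a raw basis -/
def Lsp (B : List (List Gi)) : Submodule Gi RuVec :=
  Submodule.span Gi {x | ∃ u ∈ B, x = toVec u}

theorem toVec_mem (B : List (List Gi)) {u : List Gi} (hu : u ∈ B) : toVec u ∈ Lsp B :=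
  Submodule.subset_span ⟨u, hu, rfl⟩

/-- a vector all of whose products with the basis are divisible by four -/
def IsChk (B : List (List Gi)) (d : RuVec) : Prop := ∀ u ∈ B, (4 : Gi) ∣ herm (toVec u) d

theorem dvd_herm_of_mem {B : List (List Gi)} {x d : RuVec} (hx : x ∈ Lsp B) (hd : IsChk B d) :
    (4 : Gi) ∣ herm x d := by
  unfold Lsp at hx
  induction hx using Submodule.span_induction with
  | mem x hx =>
    obtain ⟨u, hu, rfl⟩ := hx
    exact hd u hu
  | zero => rw [herm_zero_left]; exact dvd_zero _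
  | add x y _ _ hx hy => rw [herm_add_left]; exact dvd_add hx hy
  | smul c x _ hx => rw [herm_smul_left]; exact Dvd.dvd.mul_left hx c

theorem isChk_smul {B : List (List Gi)} {d : RuVec} (hd : IsChk B d) (c : Gi) : IsChk B (c • d) := by
  intro u hu
  rw [herm_smul_right]
  exact Dvd.dvd.mul_left (hd u hu) _

/-- raw test for `IsChk` -/
def chkRaw (B : List (List Gi)) (d : List Gi) : Bool :=
  B.all (fun u => decide ((4 : Gi) ∣ rherm u d))

theorem isChk_of_chkRaw {B : List (List Gi)} (hB : ∀ u ∈ B, u.length ≤ 28) {d : List Gi}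
    (h : chkRaw B d = true) : IsChk B (toVec d) := by
  intro u hu
  rw [herm_toVec u d (hB u hu)]
  have := List.all_eq_true.mp h u hu
  simpa using this

/-- the Gram matrix of the basis is divisible by four -/
def gramRaw (B : List (List Gi)) : Bool := B.all (fun d => chkRaw B d)

theorem dvd_herm_mem_mem {B : List (List Gi)} (hB : ∀ u ∈ B, u.length ≤ 28)
    (hg : gramRaw B = true) {x y : RuVec} (hx : x ∈ Lsp B) (hy : y ∈ Lsp B) :
    (4 : Gi) ∣ herm x y := by
  unfold Lsp at hy
  induction hy using Submodule.span_induction with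
  | mem y hy =>
    obtain ⟨u, hu, rfl⟩ := hy
    exact dvd_herm_of_mem hx (isChk_of_chkRaw hB (List.all_eq_true.mp hg u hu))
  | zero => rw [herm_zero_right]; exact dvd_zero _
  | add y z _ _ hy hz => rw [herm_add_right]; exact dvd_add hy hz
  | smul c y _ hy => rw [herm_smul_right]; exact Dvd.dvd.mul_left hy _

/-- the norms of the basis vectors are divisible by eight -/
def normRaw (B : List (List Gi)) : Bool := B.all (fun u => decide ((8 : ℤ) ∣ (rherm u u).re))

theorem eight_dvd_ruNorm {B : List (List Gi)} (hB : ∀ u ∈ B, u.length ≤ 28)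
    (hg : gramRaw B = true) (hn : normRaw B = true) {x : RuVec} (hx : x ∈ Lsp B) :
    (8 : ℤ) ∣ ruNorm x := by
  have hx' := hx
  unfold Lsp at hx'
  induction hx' using Submodule.span_induction with
  | mem x hx1 =>
    obtain ⟨u, hu, rfl⟩ := hx1
    rw [ruNorm_eq_herm, herm_toVec u u (hB u hu)]
    have := List.all_eq_true.mp hn u hu
    simpa using this
  | zero => simp [ruNorm]
  | add x y hx1 hy1 hx2 hy2 =>
    have hxm : x ∈ Lsp B := hx1
    have hym : y ∈ Lsp B := hy1
    rw [ruNorm_add]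
    have h4 := dvd_herm_mem_mem hB hg hxm hym
    have h4' := ((four_dvd_iff _).mp h4).1
    have h8 : (8 : ℤ) ∣ 2 * (herm x y).re := by
      obtain ⟨t, ht⟩ := h4'
      exact ⟨t, by rw [ht]; ring⟩
    exact dvd_add (dvd_add (hx2 hxm) (hy2 hym)) h8
  | smul c x hx1 hx2 =>
    have hxm : x ∈ Lsp B := hx1
    rw [ruNorm_smul]
    exact Dvd.dvd.mul_left (hx2 hxm) _

/-! ### raw linear combinations -/

/-- raw addition (the longer list wins) -/
def radd : List Gi → List Gi → List Gi
  | [], v => v
  | u, [] => u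
  | a :: u, b :: v => (a + b) :: radd u v

/-- raw scalar multiplication -/
def rsmul (c : Gi) (u : List Gi) : List Gi := u.map (fun a => c * a)

/-- raw linear combination of the vectors of `us` with the coefficients `cs` -/
def lincomb : List Gi → List (List Gi) → List Gi
  | c :: cs, u :: us => if c = 0 then lincomb cs us else radd (rsmul c u) (lincomb cs us)
  | _, _ => []

theorem getD_radd (u v : List Gi) (n : ℕ) : (radd u v).getD n 0 = u.getD n 0 + v.getD n 0 := by
  induction u generalizing v n with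
  | nil => simp [radd]
  | cons a u ih =>
    cases v with
    | nil => simp [radd]
    | cons b v =>
      cases n with
      | zero => simp [radd]
      | succ n =>
        simp only [radd, List.getD_cons_succ]
        exact ih v n

theorem toVec_radd (u v : List Gi) : toVec (radd u v) = toVec u + toVec v := by
  funext p
  simp only [toVec, Pi.add_apply, getD_radd]

theorem toVec_rsmul (c : Gi) (u : List Gi) : toVec (rsmul c u) = c • toVec u := by
  funext p
  simp only [toVec, rsmul, Pi.smul_apply, smul_eq_mul]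
  have h := List.getD_map (f := fun a => c * a) (l := u) (d := (0 : Gi)) (n := idx p)
  simpa using h

theorem toVec_nil : toVec [] = 0 := by
  funext p
  simp [toVec]

theorem lincomb_mem (M : Submodule Gi RuVec) (cs : List Gi) (us : List (List Gi))
    (h : ∀ u ∈ us, toVec u ∈ M) : toVec (lincomb cs us) ∈ M := by
  induction cs generalizing us with
  | nil => simp only [lincomb, toVec_nil]; exact M.zero_mem
  | cons c cs ih =>
    cases us with
    | nil => simp only [lincomb, toVec_nil]; exact M.zero_mem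
    | cons u us =>
      have h1 := ih us (fun v hv => h v (List.mem_cons_of_mem _ hv))
      simp only [lincomb]
      split
      · exact h1
      · rw [toVec_radd, toVec_rsmul]
        exact M.add_mem (M.smul_mem c (h u List.mem_cons_self)) h1

theorem lincomb_mem_Lsp (B : List (List Gi)) (cs : List Gi) : toVec (lincomb cs B) ∈ Lsp B :=
  lincomb_mem (Lsp B) cs B (fun _ hu => toVec_mem B hu)

/-! ### the four monomial maps are linear -/

theorem ruRj_add (x y : RuVec) : ruRj (x + y) = ruRj x + ruRj y := by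
  funext ⟨n, t⟩
  fin_cases t <;> simp [ruRj, mul_add] <;> ring

theorem ruRj_smul (c : Gi) (x : RuVec) : ruRj (c • x) = c • ruRj x := by
  funext ⟨n, t⟩
  fin_cases t <;> simp [ruRj] <;> ring

theorem ruRk_add (x y : RuVec) : ruRk (x + y) = ruRk x + ruRk y := by
  funext ⟨n, t⟩
  fin_cases t <;> simp [ruRk, mul_add] <;> ring

theorem ruRk_smul (c : Gi) (x : RuVec) : ruRk (c • x) = c • ruRk x := by
  funext ⟨n, t⟩
  fin_cases t <;> simp [ruRk] <;> ring

theorem ruSign_add (x y : RuVec) : ruSign (x + y) = ruSign x + ruSign y := by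
  funext p
  simp only [ruSign, Pi.add_apply]
  split <;> ring

theorem ruSign_smul (c : Gi) (x : RuVec) : ruSign (c • x) = c • ruSign x := by
  funext p
  simp only [ruSign, Pi.smul_apply, smul_eq_mul]
  split <;> ring

theorem ruShift_add (x y : RuVec) : ruShift (x + y) = ruShift x + ruShift y := rfl

theorem ruShift_smul (c : Gi) (x : RuVec) : ruShift (c • x) = c • ruShift x := rfl

theorem map_mem_of_gen (B : List (List Gi)) (f : RuVec → RuVec)
    (hadd : ∀ x y, f (x + y) = f x + f y) (hsmul : ∀ (c : Gi) x, f (c • x) = c • f x)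
    (hgen : ∀ u ∈ B, f (toVec u) ∈ Lsp B) {x : RuVec} (hx : x ∈ Lsp B) : f x ∈ Lsp B := by
  unfold Lsp at hx
  induction hx using Submodule.span_induction with
  | mem x hx =>
    obtain ⟨u, hu, rfl⟩ := hx
    exact hgen u hu
  | zero =>
    have h0 : f 0 = 0 := by
      have := hsmul 0 0
      simpa using this
    rw [h0]; exact (Lsp B).zero_mem
  | add x y _ _ hx hy => rw [hadd]; exact (Lsp B).add_mem hx hy
  | smul c x _ hx => rw [hsmul]; exact (Lsp B).smul_mem c hx

theorem ruLattice_le (B : List (List Gi)) (htab : ∀ v ∈ ruTable, v ∈ Lsp B)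
    (hRj : ∀ u ∈ B, ruRj (toVec u) ∈ Lsp B) (hRk : ∀ u ∈ B, ruRk (toVec u) ∈ Lsp B)
    (hSign : ∀ u ∈ B, ruSign (toVec u) ∈ Lsp B) (hShift : ∀ u ∈ B, ruShift (toVec u) ∈ Lsp B)
    {x : RuVec} (hx : x ∈ ruLattice) : x ∈ Lsp B := by
  have hmem : (Lsp B).toAddSubgroup ∈ ruClosed := by
    refine ⟨htab, fun v hv => ⟨?_, ?_, ?_, ?_, ?_⟩⟩
    · exact (Lsp B).smul_mem gI hv
    · exact map_mem_of_gen B ruRj ruRj_add ruRj_smul hRj hv
    · exact map_mem_of_gen B ruRk ruRk_add ruRk_smul hRk hv
    · exact map_mem_of_gen B ruSign ruSign_add ruSign_smul hSign hv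
    · exact map_mem_of_gen B ruShift ruShift_add ruShift_smul hShift hv
  have := (AddSubgroup.mem_sInf.mp hx) _ hmem
  exact this

/-! ### the parity argument -/

/-- the reduction of a vector modulo `1 + i` -/
def rhoV (z : RuVec) : RuIdx → ZMod 2 := fun p => rho (z p)

theorem rho_herm (z y : RuVec) : rho (herm z y) = ∑ p, rhoV z p * rhoV y p := by
  unfold herm rhoV
  rw [← rhoHom_apply, map_sum]
  exact Finset.sum_congr rfl (fun p _ => by rw [rhoHom_apply, rho_mul, rho_star])

theorem parity {B : List (List Gi)} {c β : Gi} {z y : RuVec} (hx : c • z ∈ Lsp B)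
    (hy : IsChk B (β • y)) (hn : c.norm * β.norm ∣ 8) : ∑ p, rhoV z p * rhoV y p = 0 := by
  have h := dvd_herm_of_mem hx hy
  rw [herm_smul_left, herm_smul_right, ← mul_assoc] at h
  rw [← rho_herm]
  apply rho_zero_of_dvd (c * star β) _ _ h
  rw [Zsqrtd.norm_mul, Zsqrtd.norm_conj]
  exact hn

/-- the number of coordinates not divisible by `1 + i` -/
def wt (v : RuIdx → ZMod 2) : ℕ := ∑ p, (v p).val

theorem wt_le_ruNorm (z : RuVec) : (wt (rhoV z) : ℤ) ≤ ruNorm z := by
  unfold wt ruNorm rhoV
  push_cast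
  exact Finset.sum_le_sum (fun p _ => rho_val_le_norm (z p))

theorem norm_eq_of_wt_eq (z : RuVec) (h : (wt (rhoV z) : ℤ) = ruNorm z) (p : RuIdx) :
    (z p).norm = ((rhoV z p).val : ℤ) := by
  unfold wt ruNorm rhoV at h
  push_cast at h
  have := (Finset.sum_eq_sum_iff_of_le (fun p _ => rho_val_le_norm (z p))).mp h p (Finset.mem_univ p)
  exact this.symm

theorem exists_of_rhoV_zero (z : RuVec) (h : ∀ p, rhoV z p = 0) : ∃ z' : RuVec, z = gPi • z' := by
  choose z' hz' using fun p => exists_of_rho_zero (z p) (h p)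
  exact ⟨z', funext fun p => by rw [Pi.smul_apply, smul_eq_mul]; exact hz' p⟩

/-! ### binary words as bit masks -/

/-- the binary word with the given bit mask -/
def w2 (m : ℕ) : RuIdx → ZMod 2 := fun p => if m.testBit (idx p) then 1 else 0

theorem w2_zero : w2 0 = 0 := by
  funext p
  simp [w2]

theorem w2_xor (a b : ℕ) (p : RuIdx) : w2 (a ^^^ b) p = w2 a p + w2 b p := by
  simp only [w2, Nat.testBit_xor]
  cases a.testBit (idx p) <;> cases b.testBit (idx p) <;> decide

/-- the number of ones among the first 28 bits -/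
def pc28 (m : ℕ) : ℕ := ∑ n ∈ Finset.range 28, if m.testBit n then 1 else 0

theorem wt_w2 (m : ℕ) : wt (w2 m) = pc28 m := by
  unfold wt pc28 w2
  rw [← sum_idx (fun n => if m.testBit n then 1 else 0)]
  refine Finset.sum_congr rfl (fun p _ => ?_)
  split <;> rfl

/-- the xor of the masks selected by a list of booleans -/
def xorSel : List Bool → List ℕ → ℕ
  | b :: bs, m :: ms => (if b then m else 0) ^^^ xorSel bs ms
  | _, _ => 0

theorem sum_eq_w2_xorSel (ms : List ℕ) (n : ℕ) (u : Fin n → ZMod 2) (hn : n = ms.length)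
    (p : RuIdx) :
    ∑ j, u j * w2 (ms.getD j 0) p = w2 (xorSel (List.ofFn fun j => decide (u j = 1)) ms) p := by
  induction ms generalizing n with
  | nil =>
    subst hn
    simp [xorSel, w2]
  | cons m ms ih =>
    cases n with
    | zero => simp at hn
    | succ n =>
      rw [Fin.sum_univ_succ]
      simp only [List.ofFn_succ, xorSel, w2_xor]
      congr 1
      · have h01 : ∀ a : ZMod 2, a = 0 ∨ a = 1 := by decide
        rcases h01 (u 0) with h | h
        · simp [h, w2]
        · simp [h]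
      · have := ih n (fun j => u j.succ) (by simpa using hn)
        simpa using this

/-- all lists of booleans of a given length -/
def boolLists : ℕ → List (List Bool)
  | 0 => [[]]
  | n + 1 => (boolLists n).flatMap (fun l => [false :: l, true :: l])

theorem mem_boolLists (l : List Bool) : l ∈ boolLists l.length := by
  induction l with
  | nil => simp [boolLists]
  | cons b l ih =>
    simp only [List.length_cons, boolLists, List.mem_flatMap]
    refine ⟨l, ih, ?_⟩
    cases b <;> simp

/-! ### systematic form -/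

theorem sys_lemma {m n : ℕ} (H : Fin m → RuIdx → ZMod 2) (G : Fin n → RuIdx → ZMod 2)
    (piv : Fin m → RuIdx) (fr : Fin n → RuIdx)
    (hcov : ∀ p, (∃ i, p = piv i) ∨ (∃ j, p = fr j))
    (hH : ∀ i i', H i (piv i') = if i = i' then 1 else 0)
    (hG : ∀ j j', G j (fr j') = if j = j' then 1 else 0)
    (hGH : ∀ j i, ∑ p, G j p * H i p = 0)
    (v : RuIdx → ZMod 2) (hv : ∀ i, ∑ p, v p * H i p = 0) (p : RuIdx) :
    v p = ∑ j, v (fr j) * G j p := by
  set w : RuIdx → ZMod 2 := fun p => v p - ∑ j, v (fr j) * G j p with hw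
  have hwfr : ∀ j', w (fr j') = 0 := by
    intro j'
    simp only [hw, hG]
    rw [Finset.sum_eq_single j']
    · simp
    · intro j _ hj; simp [hj]
    · intro h; exact absurd (Finset.mem_univ _) h
  have hwker : ∀ i, ∑ p, w p * H i p = 0 := by
    intro i
    simp only [hw, sub_mul, Finset.sum_sub_distrib, hv i, Finset.sum_mul, zero_sub, neg_eq_zero]
    rw [Finset.sum_comm]
    apply Finset.sum_eq_zero
    intro j _
    simp only [mul_assoc, ← Finset.mul_sum, hGH j i, mul_zero]
  have hwpiv : ∀ i, w (piv i) = 0 := by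
    intro i
    have h := hwker i
    rw [Finset.sum_eq_single (piv i)] at h
    · simpa [hH] using h
    · intro q _ hq
      rcases hcov q with ⟨i', rfl⟩ | ⟨j, rfl⟩
      · have : i ≠ i' := fun h => hq (by rw [h])
        simp [hH, this]
      · simp [hwfr]
    · intro h; exact absurd (Finset.mem_univ _) h
  have hw0 : w p = 0 := by
    rcases hcov p with ⟨i, rfl⟩ | ⟨j, rfl⟩
    · exact hwpiv i
    · exact hwfr j
  have := sub_eq_zero.mp hw0
  exact this

/-! ### words of weight at most two -/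

theorem low_lemma {m : ℕ} (Hs : Fin m → RuIdx → ZMod 2) (cov : ∀ p, ∃ i, Hs i p = 1)
    (dist : ∀ p q, p ≠ q → ∃ i, Hs i p ≠ Hs i q) (v : RuIdx → ZMod 2)
    (hv : ∀ i, ∑ p, v p * Hs i p = 0) (hw : wt v ≤ 2) (p : RuIdx) : v p = 0 := by
  have h01 : ∀ a : ZMod 2, a ≠ 0 → a = 1 := by decide
  have hne : ∀ a b : ZMod 2, a ≠ b → a + b ≠ 0 := by decide
  by_contra hp
  have hp1 := h01 _ hp
  by_cases hq : ∃ q, q ≠ p ∧ v q ≠ 0
  · obtain ⟨q, hqp, hq0⟩ := hq
    have hq1 := h01 _ hq0
    have hrest : ∀ r, r ≠ p → r ≠ q → v r = 0 := by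
      intro r hrp hrq
      by_contra hr0
      have hr1 := h01 _ hr0
      have hsub : ∑ s ∈ ({p, q, r} : Finset RuIdx), (v s).val ≤ wt v :=
        Finset.sum_le_sum_of_subset (Finset.subset_univ _)
      rw [Finset.sum_insert (by simp [hqp.symm, hrp.symm]), Finset.sum_insert (by simp [hrq.symm]),
        Finset.sum_singleton, hp1, hq1, hr1] at hsub
      have h1 : (1 : ZMod 2).val = 1 := by decide
      rw [h1] at hsub
      omega
    obtain ⟨i, hi⟩ := dist p q hqp.symm
    have hsum := hv i
    rw [Finset.sum_eq_add p q hqp.symm] at hsum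
    · rw [hp1, hq1, one_mul, one_mul] at hsum
      exact hne _ _ hi hsum
    · intro r _ hr
      rw [hrest r hr.1 hr.2, zero_mul]
    · intro h; exact absurd (Finset.mem_univ _) h
    · intro h; exact absurd (Finset.mem_univ _) h
  · push Not at hq
    obtain ⟨i, hi⟩ := cov p
    have hsum := hv i
    rw [Finset.sum_eq_single p] at hsum
    · rw [hp1, hi, one_mul] at hsum
      exact one_ne_zero hsum
    · intro r _ hr
      rw [hq r hr, zero_mul]
    · intro h; exact absurd (Finset.mem_univ _) h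

/-! ### killing a vector with a check vector -/

theorem kill_lemma {B : List (List Gi)} {c : Gi} {z d : RuVec} (hx : c • z ∈ Lsp B)
    (hc : c.norm = 1 ∨ c.norm = 2) (hd : IsChk B d) (p0 : RuIdx) (hd0 : d p0 = 2)
    (hsupp : ∀ p, p ≠ p0 → z p = 0 ∨ d p = 0) (hz : (z p0).norm = 1) : False := by
  have h := dvd_herm_of_mem hx hd
  rw [herm_smul_left] at h
  have hs : herm z d = z p0 * 2 := by
    unfold herm
    rw [Finset.sum_eq_single p0]
    · rw [hd0]; simp
    · intro p _ hp
      rcases hsupp p hp with h0 | h0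
      · rw [h0, zero_mul]
      · rw [h0, star_zero, mul_zero]
    · intro h; exact absurd (Finset.mem_univ _) h
  rw [hs] at h
  obtain ⟨t, ht⟩ := h
  have hn := congrArg Zsqrtd.norm ht
  have h16 : (4 : Gi).norm = 16 := by decide
  have h4 : (2 : Gi).norm = 4 := by decide
  rw [Zsqrtd.norm_mul, Zsqrtd.norm_mul, Zsqrtd.norm_mul, h16, h4, hz] at hn
  rcases hc with hc | hc <;> rw [hc] at hn <;> omega

/-! ### the levels of the descent -/

/-- the kill data fit the mask `M` -/
def fits (M : ℕ) (t : ℕ × RuIdx × List Gi) : Prop :=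
  M.testBit (idx t.2.1) = true ∧ M &&& t.1 = M

instance (M : ℕ) (t : ℕ × RuIdx × List Gi) : Decidable (fits M t) := by
  unfold fits; infer_instance

/-- the kill data are valid -/
def killOK (B : List (List Gi)) (t : ℕ × RuIdx × List Gi) : Prop :=
  chkRaw B t.2.2 = true ∧ toVec t.2.2 t.2.1 = 2 ∧
    ∀ p, p ≠ t.2.1 → t.1.testBit (idx p) = true → toVec t.2.2 p = 0

instance (B : List (List Gi)) (t : ℕ × RuIdx × List Gi) : Decidable (killOK B t) := by
  unfold killOK; infer_instance

/-- the enumeration test of a systematic level -/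
def enumOK (Gm : List ℕ) (N : ℕ) (KL : List (ℕ × RuIdx × List Gi)) : Prop :=
  ∀ l ∈ boolLists Gm.length,
    pc28 (xorSel l Gm) ≤ N →
      xorSel l Gm = 0 ∨ (pc28 (xorSel l Gm) = N ∧ ∃ t ∈ KL, fits (xorSel l Gm) t)

instance (Gm : List ℕ) (N : ℕ) (KL : List (ℕ × RuIdx × List Gi)) : Decidable (enumOK Gm N KL) := by
  unfold enumOK; infer_instance

theorem level_sys (B : List (List Gi)) (hB : ∀ u ∈ B, u.length ≤ 28) (c β : Gi)
    (hn : c.norm * β.norm ∣ 8) (hc : c.norm = 1 ∨ c.norm = 2)
    (Ys : List (List Gi)) (Hm : List ℕ) (piv : List RuIdx) (Gm : List ℕ) (fr : List RuIdx)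
    (N : ℕ) (KL : List (ℕ × RuIdx × List Gi))
    (h1 : ∀ i : Fin Hm.length, chkRaw B (rsmul β (Ys.getD i [])) = true)
    (h2 : ∀ i : Fin Hm.length, ∀ p, rho (toVec (Ys.getD i []) p) = w2 (Hm.getD i 0) p)
    (h3 : ∀ p, (∃ i : Fin Hm.length, p = piv.getD i (0, 0)) ∨
      (∃ j : Fin Gm.length, p = fr.getD j (0, 0)))
    (h4 : ∀ i i' : Fin Hm.length, w2 (Hm.getD i 0) (piv.getD i' (0, 0)) = if i = i' then 1 else 0)
    (h5 : ∀ j j' : Fin Gm.length, w2 (Gm.getD j 0) (fr.getD j' (0, 0)) = if j = j' then 1 else 0)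
    (h6 : ∀ (j : Fin Gm.length) (i : Fin Hm.length),
      ∑ p, w2 (Gm.getD j 0) p * w2 (Hm.getD i 0) p = 0)
    (h7 : enumOK Gm N KL) (h8 : ∀ t ∈ KL, killOK B t)
    (z : RuVec) (hz : c • z ∈ Lsp B) (hN : ruNorm z = N) (p : RuIdx) : rhoV z p = 0 := by
  have hker : ∀ i : Fin Hm.length, ∑ q, rhoV z q * w2 (Hm.getD i 0) q = 0 := by
    intro i
    have hchk : IsChk B (β • toVec (Ys.getD i [])) := by
      rw [← toVec_rsmul]
      exact isChk_of_chkRaw hB (h1 i)
    have := parity hz hchk hn
    rw [← this]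
    exact Finset.sum_congr rfl (fun q _ => by rw [← h2 i q]; rfl)
  have hsys := sys_lemma (fun i : Fin Hm.length => w2 (Hm.getD i 0))
    (fun j : Fin Gm.length => w2 (Gm.getD j 0)) (fun i => piv.getD i (0, 0))
    (fun j => fr.getD j (0, 0)) h3 h4 h5 h6 (rhoV z) hker
  set l : List Bool := List.ofFn fun j : Fin Gm.length => decide (rhoV z (fr.getD j (0, 0)) = 1)
    with hl
  have hv : ∀ q, rhoV z q = w2 (xorSel l Gm) q := by
    intro q
    rw [hsys q]
    exact sum_eq_w2_xorSel Gm Gm.length (fun j => rhoV z (fr.getD j (0, 0))) rfl q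
  have hlmem : l ∈ boolLists Gm.length := by
    have := mem_boolLists l
    rwa [hl, List.length_ofFn] at this
  have hveq : rhoV z = w2 (xorSel l Gm) := funext hv
  have hwt : wt (rhoV z) = pc28 (xorSel l Gm) := by rw [hveq, wt_w2]
  have hle : pc28 (xorSel l Gm) ≤ N := by
    have := wt_le_ruNorm z
    rw [hwt, hN] at this
    exact_mod_cast this
  rcases h7 l hlmem hle with h0 | ⟨hpc, t, ht, hfit1, hfit2⟩
  · rw [hv p, h0, w2_zero]; rfl
  · exfalso
    have hnorm := norm_eq_of_wt_eq z (by rw [hwt, hpc, hN])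
    obtain ⟨hk1, hk2, hk3⟩ := h8 t ht
    refine kill_lemma hz hc (isChk_of_chkRaw hB hk1) t.2.1 hk2 ?_ ?_
    · intro q hq
      by_cases hbit : (xorSel l Gm).testBit (idx q) = true
      · right
        apply hk3 q hq
        have := congrArg (fun M => Nat.testBit M (idx q)) hfit2
        simp only [Nat.testBit_and, hbit, Bool.true_and] at this
        exact this
      · left
        have h0 : rhoV z q = 0 := by
          rw [hv q]; simp [w2, hbit]
        have := hnorm q
        rw [h0] at this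
        simp only [ZMod.val_zero, Nat.cast_zero] at this
        exact (Zsqrtd.norm_eq_zero_iff (by norm_num) (z q)).mp this
    · have h1' : rhoV z t.2.1 = 1 := by
        rw [hv t.2.1]; simp [w2, hfit1]
      have := hnorm t.2.1
      rw [h1'] at this
      rw [this]; decide

theorem level_low (B : List (List Gi)) (hB : ∀ u ∈ B, u.length ≤ 28) (c β : Gi)
    (hn : c.norm * β.norm ∣ 8) (Ys : List (List Gi))
    (h1 : ∀ i : Fin Ys.length, chkRaw B (rsmul β (Ys.getD i [])) = true)
    (cov : ∀ p, ∃ i : Fin Ys.length, rho (toVec (Ys.getD i []) p) = 1)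
    (dist : ∀ p q, p ≠ q → ∃ i : Fin Ys.length,
      rho (toVec (Ys.getD i []) p) ≠ rho (toVec (Ys.getD i []) q))
    (z : RuVec) (hz : c • z ∈ Lsp B) (hN : ruNorm z ≤ 2) (p : RuIdx) : rhoV z p = 0 := by
  apply low_lemma (fun i : Fin Ys.length => rhoV (toVec (Ys.getD i []))) cov dist (rhoV z)
  · intro i
    have hchk : IsChk B (β • toVec (Ys.getD i [])) := by
      rw [← toVec_rsmul]
      exact isChk_of_chkRaw hB (h1 i)
    exact parity hz hchk hn
  · have := wt_le_ruNorm z
    omega

/-! ### membership certificates -/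

theorem mem_of_cert (B : List (List Gi)) (vs : List RuVec) (cw : List (List Gi × List Gi))
    (h : ∀ i : Fin vs.length, lincomb (cw.getD i ([], [])).1 B = (cw.getD i ([], [])).2 ∧
      ∀ p, vs.getD i 0 p = toVec (cw.getD i ([], [])).2 p) : ∀ v ∈ vs, v ∈ Lsp B := by
  intro v hv
  obtain ⟨i, hi, rfl⟩ := List.mem_iff_getElem.mp hv
  obtain ⟨h1, h2⟩ := h ⟨i, hi⟩
  have h3 : vs[i] = toVec (cw.getD i ([], [])).2 := by
    funext p
    have := h2 p
    rw [show vs.getD (⟨i, hi⟩ : Fin vs.length).val 0 = vs[i] from List.getD_eq_getElem _ _ hi] at this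
    exact this
  rw [h3, ← h1]
  exact lincomb_mem_Lsp B _

theorem map_cert (B : List (List Gi)) (f : RuVec → RuVec) (cw : List (List Gi × List Gi))
    (h : ∀ i : Fin (B.map fun u => f (toVec u)).length,
      lincomb (cw.getD i ([], [])).1 B = (cw.getD i ([], [])).2 ∧
      ∀ p, (B.map fun u => f (toVec u)).getD i 0 p = toVec (cw.getD i ([], [])).2 p) :
    ∀ u ∈ B, f (toVec u) ∈ Lsp B := by
  intro u hu
  exact mem_of_cert B _ cw h _ (List.mem_map_of_mem hu)

/-! ### the descent -/

theorem rootless (B : List (List Gi))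
    (L0 : ∀ z : RuVec, (1 : Gi) • z ∈ Lsp B → ruNorm z = 8 → ∀ p, rhoV z p = 0)
    (L1 : ∀ z : RuVec, gPi • z ∈ Lsp B → ruNorm z = 4 → ∀ p, rhoV z p = 0)
    (L2 : ∀ z : RuVec, (gPi * gPi) • z ∈ Lsp B → ruNorm z = 2 → ∀ p, rhoV z p = 0)
    (L3 : ∀ z : RuVec, (gPi * gPi * gPi) • z ∈ Lsp B → ruNorm z = 1 → ∀ p, rhoV z p = 0)
    (x : RuVec) (hx : x ∈ Lsp B) : ruNorm x ≠ 8 := by
  intro h8
  obtain ⟨z1, rfl⟩ := exists_of_rhoV_zero x (L0 x (by rwa [one_smul]) h8)
  rw [ruNorm_smul, gPi_norm] at h8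
  have h4 : ruNorm z1 = 4 := by omega
  obtain ⟨z2, rfl⟩ := exists_of_rhoV_zero z1 (L1 z1 hx h4)
  rw [ruNorm_smul, gPi_norm] at h4
  have h2 : ruNorm z2 = 2 := by omega
  rw [smul_smul] at hx
  obtain ⟨z3, rfl⟩ := exists_of_rhoV_zero z2 (L2 z2 hx h2)
  rw [ruNorm_smul, gPi_norm] at h2
  have h1 : ruNorm z3 = 1 := by omega
  rw [smul_smul] at hx
  obtain ⟨z4, rfl⟩ := exists_of_rhoV_zero z3 (L3 z3 hx h1)
  rw [ruNorm_smul, gPi_norm] at h1
  omega

end Cfsg.Agent.Lib.Helper89.RuLat
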