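/-
helper89: data for the Conway–Wales (Rudvalis) lattice: a triangular basis, membership certificates,
parity check vectors; the lattice is even and has no vectors of norm 8 (GENERATED FILE).
-/
import Mathlib
import Cfsg.Prelude.Def_Spor_Ru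
import Cfsg.Agent.Lib.Helper89.RuLat

set_option autoImplicit false
set_option maxRecDepth 1000000
open Cfsg Cfsg.Spor Cfsg.Agent.Lib.Helper89.RuLat

namespace Cfsg.Agent.Lib.Helper89.RuLatData

/-- a triangular basis of the lattice -/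
def B : List (List Gi) := [
  [⟨1, 0⟩, ⟨0, 0⟩, ⟨0, 0⟩, ⟨1, 0⟩, ⟨0, 0⟩, ⟨0, 0⟩, ⟨0, 1⟩, ⟨-1, 2⟩, ⟨0, 0⟩, ⟨0, 0⟩, ⟨0, -1⟩, ⟨2, -1⟩, ⟨0, 0⟩, ⟨0, -1⟩, ⟨0, 0⟩, ⟨1, 2⟩, ⟨0, 0⟩, ⟨1, 0⟩, ⟨1, 0⟩, ⟨2, 0⟩, ⟨0, 0⟩, ⟨1, 0⟩, ⟨2, 0⟩, ⟨-1, 2⟩, ⟨1, 0⟩, ⟨2, 1⟩, ⟨-1, 0⟩, ⟨2, 1⟩],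
  [⟨0, 0⟩, ⟨1, 0⟩, ⟨0, 0⟩, ⟨-1, 0⟩, ⟨0, 0⟩, ⟨0, 0⟩, ⟨1, -1⟩, ⟨2, 2⟩, ⟨0, 0⟩, ⟨0, -1⟩, ⟨1, 0⟩, ⟨2, 0⟩, ⟨0, 0⟩, ⟨-1, 1⟩, ⟨1, 0⟩, ⟨-1, 2⟩, ⟨0, 0⟩, ⟨-1, -1⟩, ⟨0, -1⟩, ⟨-1, 2⟩, ⟨0, 0⟩, ⟨1, 0⟩, ⟨-1, -1⟩, ⟨1, 0⟩, ⟨0, 0⟩, ⟨0, 1⟩, ⟨0, 1⟩, ⟨2, 2⟩],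
  [⟨0, 0⟩, ⟨0, 0⟩, ⟨0, 0⟩, ⟨-1, 1⟩, ⟨1, 0⟩, ⟨0, 0⟩, ⟨0, 0⟩, ⟨-1, 0⟩, ⟨0, 0⟩, ⟨-1, 1⟩, ⟨1, 0⟩, ⟨1, 0⟩, ⟨0, 0⟩, ⟨1, 1⟩, ⟨0, -1⟩, ⟨1, 0⟩, ⟨0, 0⟩, ⟨0, -1⟩, ⟨-1, -1⟩, ⟨0, 1⟩, ⟨0, 0⟩, ⟨0, 1⟩, ⟨2, 1⟩, ⟨2, 2⟩, ⟨-1, 0⟩, ⟨2, 2⟩, ⟨0, -1⟩, ⟨0, 0⟩],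
  [⟨0, 0⟩, ⟨0, 0⟩, ⟨1, 0⟩, ⟨0, -1⟩, ⟨0, 0⟩, ⟨0, 0⟩, ⟨-1, 0⟩, ⟨-1, 0⟩, ⟨0, 0⟩, ⟨0, 1⟩, ⟨1, 1⟩, ⟨2, -1⟩, ⟨0, 0⟩, ⟨0, -1⟩, ⟨0, -1⟩, ⟨0, 2⟩, ⟨0, 0⟩, ⟨0, -1⟩, ⟨1, -1⟩, ⟨-1, 0⟩, ⟨0, 0⟩, ⟨0, 0⟩, ⟨2, 0⟩, ⟨1, -1⟩, ⟨0, 0⟩, ⟨0, -1⟩, ⟨0, -1⟩, ⟨-1, 1⟩],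
  [⟨0, 0⟩, ⟨0, 0⟩, ⟨0, 0⟩, ⟨2, 0⟩, ⟨0, 0⟩, ⟨0, 0⟩, ⟨1, -1⟩, ⟨-1, -1⟩, ⟨0, 0⟩, ⟨-1, -1⟩, ⟨0, 0⟩, ⟨-1, -1⟩, ⟨1, 0⟩, ⟨-1, 0⟩, ⟨1, 0⟩, ⟨0, 1⟩, ⟨0, 0⟩, ⟨1, -1⟩, ⟨0, 0⟩, ⟨-1, 1⟩, ⟨0, 0⟩, ⟨1, 1⟩, ⟨-1, -1⟩, ⟨0, 0⟩, ⟨-1, 0⟩, ⟨0, 1⟩, ⟨-1, 0⟩, ⟨1, 2⟩],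
  [⟨0, 0⟩, ⟨0, 0⟩, ⟨0, 0⟩, ⟨1, -1⟩, ⟨0, 0⟩, ⟨1, 0⟩, ⟨1, 0⟩, ⟨-1, -1⟩, ⟨0, 0⟩, ⟨0, 0⟩, ⟨0, 1⟩, ⟨1, 0⟩, ⟨0, 0⟩, ⟨0, 0⟩, ⟨0, -1⟩, ⟨0, -1⟩, ⟨0, 0⟩, ⟨-1, 0⟩, ⟨-1, 1⟩, ⟨-1, 0⟩, ⟨0, 0⟩, ⟨-1, 0⟩, ⟨-1, 0⟩, ⟨0, 2⟩, ⟨0, 0⟩, ⟨1, 0⟩, ⟨1, 1⟩, ⟨0, -1⟩],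
  [⟨0, 0⟩, ⟨0, 0⟩, ⟨0, 0⟩, ⟨0, 0⟩, ⟨0, 0⟩, ⟨0, 0⟩, ⟨0, 0⟩, ⟨0, 2⟩, ⟨1, 0⟩, ⟨-1, 0⟩, ⟨1, 0⟩, ⟨0, -1⟩, ⟨0, 0⟩, ⟨0, 0⟩, ⟨0, 0⟩, ⟨0, 2⟩, ⟨0, 0⟩, ⟨-1, 1⟩, ⟨0, 0⟩, ⟨-1, -1⟩, ⟨0, 0⟩, ⟨1, 1⟩, ⟨1, -1⟩, ⟨2, 0⟩, ⟨0, 1⟩, ⟨2, -1⟩, ⟨-1, 0⟩, ⟨0, 1⟩],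
  [⟨0, 0⟩, ⟨0, 0⟩, ⟨0, 0⟩, ⟨0, 2⟩, ⟨0, 0⟩, ⟨0, 0⟩, ⟨0, 0⟩, ⟨0, 2⟩, ⟨0, 0⟩, ⟨1, 1⟩, ⟨0, 0⟩, ⟨-1, -1⟩, ⟨0, 0⟩, ⟨0, 0⟩, ⟨0, 0⟩, ⟨2, 2⟩, ⟨1, 0⟩, ⟨-1, 0⟩, ⟨0, 1⟩, ⟨-1, 0⟩, ⟨0, 0⟩, ⟨0, 0⟩, ⟨-1, -1⟩, ⟨1, -1⟩, ⟨0, 1⟩, ⟨-1, 2⟩, ⟨2, 1⟩, ⟨0, 1⟩],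
  [⟨0, 0⟩, ⟨0, 0⟩, ⟨0, 0⟩, ⟨0, 2⟩, ⟨0, 0⟩, ⟨0, 0⟩, ⟨0, 0⟩, ⟨2, 2⟩, ⟨0, 0⟩, ⟨-1, 1⟩, ⟨-1, 1⟩, ⟨0, 2⟩, ⟨0, 0⟩, ⟨0, 0⟩, ⟨0, 0⟩, ⟨0, 2⟩, ⟨0, 0⟩, ⟨0, 0⟩, ⟨1, 1⟩, ⟨-1, -1⟩, ⟨1, 0⟩, ⟨0, -1⟩, ⟨1, 0⟩, ⟨1, 2⟩, ⟨0, 1⟩, ⟨0, -1⟩, ⟨0, -1⟩, ⟨-1, 0⟩],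
  [⟨0, 0⟩, ⟨0, 0⟩, ⟨0, 0⟩, ⟨0, 2⟩, ⟨0, 0⟩, ⟨0, 0⟩, ⟨0, 0⟩, ⟨2, 0⟩, ⟨0, 0⟩, ⟨0, 0⟩, ⟨0, 0⟩, ⟨0, 2⟩, ⟨0, 0⟩, ⟨0, 0⟩, ⟨0, 0⟩, ⟨2, 0⟩, ⟨0, 0⟩, ⟨0, 0⟩, ⟨0, 0⟩, ⟨0, 2⟩, ⟨0, 0⟩, ⟨0, 0⟩, ⟨2, 0⟩, ⟨0, 0⟩, ⟨1, 1⟩, ⟨-1, 1⟩, ⟨-1, -1⟩, ⟨1, -1⟩],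
  [⟨0, 0⟩, ⟨0, 0⟩, ⟨0, 0⟩, ⟨0, 0⟩, ⟨0, 0⟩, ⟨0, 0⟩, ⟨0, 2⟩, ⟨0, 2⟩, ⟨0, 0⟩, ⟨0, 0⟩, ⟨0, 0⟩, ⟨0, 0⟩, ⟨0, 0⟩, ⟨0, 0⟩, ⟨0, 0⟩, ⟨0, 0⟩, ⟨0, 0⟩, ⟨0, 0⟩, ⟨0, 0⟩, ⟨0, 0⟩, ⟨0, 0⟩, ⟨0, 0⟩, ⟨0, 0⟩, ⟨2, 2⟩, ⟨0, 0⟩, ⟨2, 0⟩, ⟨2, 0⟩, ⟨2, 2⟩],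
  [⟨0, 0⟩, ⟨0, 0⟩, ⟨0, 0⟩, ⟨0, 0⟩, ⟨0, 0⟩, ⟨0, 0⟩, ⟨0, 0⟩, ⟨0, 0⟩, ⟨0, 0⟩, ⟨0, 2⟩, ⟨0, 0⟩, ⟨0, 2⟩, ⟨0, 0⟩, ⟨0, 0⟩, ⟨0, 0⟩, ⟨2, 2⟩, ⟨0, 0⟩, ⟨0, 0⟩, ⟨0, 0⟩, ⟨0, 0⟩, ⟨0, 0⟩, ⟨0, 0⟩, ⟨2, 0⟩, ⟨0, 2⟩, ⟨0, 0⟩, ⟨2, 2⟩, ⟨0, 0⟩, ⟨2, 2⟩],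
  [⟨0, 0⟩, ⟨0, 0⟩, ⟨0, 0⟩, ⟨0, 0⟩, ⟨0, 0⟩, ⟨0, 0⟩, ⟨0, 0⟩, ⟨0, 0⟩, ⟨0, 0⟩, ⟨0, 0⟩, ⟨0, 0⟩, ⟨0, 0⟩, ⟨0, 0⟩, ⟨0, 2⟩, ⟨0, 0⟩, ⟨0, 2⟩, ⟨0, 0⟩, ⟨0, 0⟩, ⟨0, 0⟩, ⟨2, 2⟩, ⟨0, 0⟩, ⟨0, 0⟩, ⟨2, 2⟩, ⟨2, 2⟩, ⟨0, 0⟩, ⟨0, 0⟩, ⟨0, 2⟩, ⟨2, 0⟩],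
  [⟨0, 0⟩, ⟨0, 0⟩, ⟨0, 0⟩, ⟨0, 0⟩, ⟨0, 0⟩, ⟨0, 0⟩, ⟨0, 0⟩, ⟨0, 0⟩, ⟨0, 0⟩, ⟨0, 0⟩, ⟨0, 0⟩, ⟨2, 2⟩, ⟨0, 0⟩, ⟨0, 0⟩, ⟨0, 2⟩, ⟨2, 0⟩, ⟨0, 0⟩, ⟨0, 0⟩, ⟨0, 0⟩, ⟨2, 2⟩, ⟨0, 0⟩, ⟨0, 0⟩, ⟨0, 2⟩, ⟨0, 2⟩, ⟨0, 0⟩, ⟨0, 0⟩, ⟨0, 2⟩, ⟨2, 0⟩],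
  [⟨0, 0⟩, ⟨0, 0⟩, ⟨0, 0⟩, ⟨0, 0⟩, ⟨0, 0⟩, ⟨0, 0⟩, ⟨0, 0⟩, ⟨0, 0⟩, ⟨0, 0⟩, ⟨0, 0⟩, ⟨0, 0⟩, ⟨2, 2⟩, ⟨0, 0⟩, ⟨0, 0⟩, ⟨0, 0⟩, ⟨2, 2⟩, ⟨0, 0⟩, ⟨0, 2⟩, ⟨0, 0⟩, ⟨0, 2⟩, ⟨0, 0⟩, ⟨0, 0⟩, ⟨0, 2⟩, ⟨0, 2⟩, ⟨0, 0⟩, ⟨2, 0⟩, ⟨0, 2⟩, ⟨0, 0⟩],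
  [⟨0, 0⟩, ⟨0, 0⟩, ⟨0, 0⟩, ⟨0, 0⟩, ⟨0, 0⟩, ⟨0, 0⟩, ⟨0, 0⟩, ⟨2, 2⟩, ⟨0, 0⟩, ⟨0, 0⟩, ⟨0, 2⟩, ⟨0, 2⟩, ⟨0, 0⟩, ⟨0, 0⟩, ⟨0, 0⟩, ⟨2, 2⟩, ⟨0, 0⟩, ⟨0, 0⟩, ⟨0, 0⟩, ⟨2, 2⟩, ⟨0, 0⟩, ⟨0, 0⟩, ⟨0, 0⟩, ⟨2, 2⟩, ⟨0, 0⟩, ⟨2, 0⟩, ⟨2, 2⟩, ⟨2, 0⟩],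
  [⟨0, 0⟩, ⟨0, 0⟩, ⟨0, 0⟩, ⟨0, 0⟩, ⟨0, 0⟩, ⟨0, 0⟩, ⟨0, 0⟩, ⟨0, 0⟩, ⟨0, 0⟩, ⟨0, 0⟩, ⟨0, 0⟩, ⟨2, 2⟩, ⟨0, 0⟩, ⟨0, 0⟩, ⟨0, 0⟩, ⟨0, 0⟩, ⟨0, 0⟩, ⟨0, 0⟩, ⟨0, 2⟩, ⟨2, 0⟩, ⟨0, 0⟩, ⟨0, 0⟩, ⟨0, 2⟩, ⟨0, 2⟩, ⟨0, 0⟩, ⟨2, 0⟩, ⟨2, 2⟩, ⟨2, 0⟩],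
  [⟨0, 0⟩, ⟨0, 0⟩, ⟨0, 0⟩, ⟨0, 0⟩, ⟨0, 0⟩, ⟨0, 0⟩, ⟨0, 0⟩, ⟨2, 2⟩, ⟨0, 0⟩, ⟨0, 0⟩, ⟨0, 0⟩, ⟨0, 0⟩, ⟨0, 0⟩, ⟨0, 0⟩, ⟨0, 0⟩, ⟨0, 0⟩, ⟨0, 0⟩, ⟨0, 0⟩, ⟨0, 0⟩, ⟨0, 0⟩, ⟨0, 0⟩, ⟨0, 2⟩, ⟨2, 2⟩, ⟨0, 2⟩, ⟨0, 0⟩, ⟨0, 2⟩, ⟨0, 2⟩, ⟨0, 0⟩],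
  [⟨0, 0⟩, ⟨0, 0⟩, ⟨0, 0⟩, ⟨2, -2⟩, ⟨0, 0⟩, ⟨0, 0⟩, ⟨0, 0⟩, ⟨2, -2⟩, ⟨0, 0⟩, ⟨0, 0⟩, ⟨0, 0⟩, ⟨2, -2⟩, ⟨0, 0⟩, ⟨0, 0⟩, ⟨0, 0⟩, ⟨2, -2⟩, ⟨0, 0⟩, ⟨0, 0⟩, ⟨0, 0⟩, ⟨2, -2⟩, ⟨0, 0⟩, ⟨0, 0⟩, ⟨0, 0⟩, ⟨2, -2⟩, ⟨0, 0⟩, ⟨0, 0⟩, ⟨0, 0⟩, ⟨2, -2⟩],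
  [⟨0, 0⟩, ⟨0, 0⟩, ⟨0, 0⟩, ⟨0, 0⟩, ⟨0, 0⟩, ⟨0, 0⟩, ⟨0, 0⟩, ⟨4, 0⟩, ⟨0, 0⟩, ⟨0, 0⟩, ⟨0, 0⟩, ⟨0, 0⟩, ⟨0, 0⟩, ⟨0, 0⟩, ⟨0, 0⟩, ⟨0, 0⟩, ⟨0, 0⟩, ⟨0, 0⟩, ⟨0, 0⟩, ⟨0, 0⟩, ⟨0, 0⟩, ⟨0, 0⟩, ⟨0, 0⟩, ⟨0, 0⟩, ⟨0, 0⟩, ⟨0, 0⟩, ⟨0, 0⟩, ⟨0, 0⟩],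
  [⟨0, 0⟩, ⟨0, 0⟩, ⟨0, 0⟩, ⟨0, 0⟩, ⟨0, 0⟩, ⟨0, 0⟩, ⟨0, 0⟩, ⟨0, 0⟩, ⟨0, 0⟩, ⟨0, 0⟩, ⟨0, 0⟩, ⟨4, 0⟩, ⟨0, 0⟩, ⟨0, 0⟩, ⟨0, 0⟩, ⟨0, 0⟩, ⟨0, 0⟩, ⟨0, 0⟩, ⟨0, 0⟩, ⟨0, 0⟩, ⟨0, 0⟩, ⟨0, 0⟩, ⟨0, 0⟩, ⟨0, 0⟩, ⟨0, 0⟩, ⟨0, 0⟩, ⟨0, 0⟩, ⟨0, 0⟩],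
  [⟨0, 0⟩, ⟨0, 0⟩, ⟨0, 0⟩, ⟨0, 0⟩, ⟨0, 0⟩, ⟨0, 0⟩, ⟨0, 0⟩, ⟨0, 0⟩, ⟨0, 0⟩, ⟨0, 0⟩, ⟨0, 0⟩, ⟨0, 0⟩, ⟨0, 0⟩, ⟨0, 0⟩, ⟨0, 0⟩, ⟨4, 0⟩, ⟨0, 0⟩, ⟨0, 0⟩, ⟨0, 0⟩, ⟨0, 0⟩, ⟨0, 0⟩, ⟨0, 0⟩, ⟨0, 0⟩, ⟨0, 0⟩, ⟨0, 0⟩, ⟨0, 0⟩, ⟨0, 0⟩, ⟨0, 0⟩],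
  [⟨0, 0⟩, ⟨0, 0⟩, ⟨0, 0⟩, ⟨0, 0⟩, ⟨0, 0⟩, ⟨0, 0⟩, ⟨0, 0⟩, ⟨0, 0⟩, ⟨0, 0⟩, ⟨0, 0⟩, ⟨0, 0⟩, ⟨0, 0⟩, ⟨0, 0⟩, ⟨0, 0⟩, ⟨0, 0⟩, ⟨0, 0⟩, ⟨0, 0⟩, ⟨0, 0⟩, ⟨0, 0⟩, ⟨4, 0⟩, ⟨0, 0⟩, ⟨0, 0⟩, ⟨0, 0⟩, ⟨0, 0⟩, ⟨0, 0⟩, ⟨0, 0⟩, ⟨0, 0⟩, ⟨0, 0⟩],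
  [⟨0, 0⟩, ⟨0, 0⟩, ⟨0, 0⟩, ⟨0, 0⟩, ⟨0, 0⟩, ⟨0, 0⟩, ⟨0, 0⟩, ⟨0, 0⟩, ⟨0, 0⟩, ⟨0, 0⟩, ⟨0, 0⟩, ⟨0, 0⟩, ⟨0, 0⟩, ⟨0, 0⟩, ⟨0, 0⟩, ⟨0, 0⟩, ⟨0, 0⟩, ⟨0, 0⟩, ⟨0, 0⟩, ⟨0, 0⟩, ⟨0, 0⟩, ⟨0, 0⟩, ⟨4, 0⟩, ⟨0, 0⟩, ⟨0, 0⟩, ⟨0, 0⟩, ⟨0, 0⟩, ⟨0, 0⟩],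
  [⟨0, 0⟩, ⟨0, 0⟩, ⟨0, 0⟩, ⟨0, 0⟩, ⟨0, 0⟩, ⟨0, 0⟩, ⟨0, 0⟩, ⟨0, 0⟩, ⟨0, 0⟩, ⟨0, 0⟩, ⟨0, 0⟩, ⟨0, 0⟩, ⟨0, 0⟩, ⟨0, 0⟩, ⟨0, 0⟩, ⟨0, 0⟩, ⟨0, 0⟩, ⟨0, 0⟩, ⟨0, 0⟩, ⟨0, 0⟩, ⟨0, 0⟩, ⟨0, 0⟩, ⟨0, 0⟩, ⟨4, 0⟩, ⟨0, 0⟩, ⟨0, 0⟩, ⟨0, 0⟩, ⟨0, 0⟩],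
  [⟨0, 0⟩, ⟨0, 0⟩, ⟨0, 0⟩, ⟨0, 0⟩, ⟨0, 0⟩, ⟨0, 0⟩, ⟨0, 0⟩, ⟨0, 0⟩, ⟨0, 0⟩, ⟨0, 0⟩, ⟨0, 0⟩, ⟨0, 0⟩, ⟨0, 0⟩, ⟨0, 0⟩, ⟨0, 0⟩, ⟨0, 0⟩, ⟨0, 0⟩, ⟨0, 0⟩, ⟨0, 0⟩, ⟨0, 0⟩, ⟨0, 0⟩, ⟨0, 0⟩, ⟨0, 0⟩, ⟨0, 0⟩, ⟨0, 0⟩, ⟨4, 0⟩, ⟨0, 0⟩, ⟨0, 0⟩],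
  [⟨0, 0⟩, ⟨0, 0⟩, ⟨0, 0⟩, ⟨0, 0⟩, ⟨0, 0⟩, ⟨0, 0⟩, ⟨0, 0⟩, ⟨0, 0⟩, ⟨0, 0⟩, ⟨0, 0⟩, ⟨0, 0⟩, ⟨0, 0⟩, ⟨0, 0⟩, ⟨0, 0⟩, ⟨0, 0⟩, ⟨0, 0⟩, ⟨0, 0⟩, ⟨0, 0⟩, ⟨0, 0⟩, ⟨0, 0⟩, ⟨0, 0⟩, ⟨0, 0⟩, ⟨0, 0⟩, ⟨0, 0⟩, ⟨0, 0⟩, ⟨0, 0⟩, ⟨4, 0⟩, ⟨0, 0⟩],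
  [⟨0, 0⟩, ⟨0, 0⟩, ⟨0, 0⟩, ⟨0, 0⟩, ⟨0, 0⟩, ⟨0, 0⟩, ⟨0, 0⟩, ⟨0, 0⟩, ⟨0, 0⟩, ⟨0, 0⟩, ⟨0, 0⟩, ⟨0, 0⟩, ⟨0, 0⟩, ⟨0, 0⟩, ⟨0, 0⟩, ⟨0, 0⟩, ⟨0, 0⟩, ⟨0, 0⟩, ⟨0, 0⟩, ⟨0, 0⟩, ⟨0, 0⟩, ⟨0, 0⟩, ⟨0, 0⟩, ⟨0, 0⟩, ⟨0, 0⟩, ⟨0, 0⟩, ⟨0, 0⟩, ⟨4, 0⟩]]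

theorem hB : ∀ u ∈ B, u.length ≤ 28 := by decide +kernel

theorem gramB : gramRaw B = true := by decide +kernel

theorem normB : normRaw B = true := by decide +kernel

def tabCW : List (List Gi × List Gi) := [
  ([⟨4, 0⟩, ⟨0, 0⟩, ⟨0, 0⟩, ⟨0, 0⟩, ⟨0, 0⟩, ⟨0, 0⟩, ⟨0, 0⟩, ⟨0, 0⟩, ⟨0, 0⟩, ⟨-2, 2⟩, ⟨-2, 0⟩, ⟨0, 0⟩, ⟨2, 0⟩, ⟨0, 0⟩, ⟨0, 2⟩, ⟨2, 0⟩, ⟨0, 2⟩, ⟨0, 2⟩, ⟨-1, 1⟩, ⟨2, -5⟩, ⟨1, -2⟩, ⟨0, -7⟩, ⟨-2, -3⟩, ⟨1, -3⟩, ⟨3, -4⟩, ⟨-1, -2⟩,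 ⟨3, -3⟩, ⟨-3, -3⟩],
   [⟨4, 0⟩, ⟨0, 0⟩, ⟨0, 0⟩, ⟨0, 0⟩, ⟨0, 0⟩, ⟨0, 0⟩, ⟨0, 0⟩, ⟨0, 0⟩, ⟨0, 0⟩, ⟨0, 0⟩, ⟨0, 0⟩, ⟨0, 0⟩, ⟨0, 0⟩, ⟨0, 0⟩, ⟨0, 0⟩, ⟨0, 0⟩, ⟨0, 0⟩, ⟨0, 0⟩, ⟨0, 0⟩, ⟨0, 0⟩, ⟨0, 0⟩, ⟨0, 0⟩, ⟨0, 0⟩, ⟨0, 0⟩, ⟨0, 0⟩, ⟨0, 0⟩, ⟨0, 0⟩, ⟨0, 0⟩]),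
  ([⟨0, -1⟩, ⟨1, 0⟩, ⟨0, 0⟩, ⟨1, 0⟩, ⟨1, 0⟩, ⟨0, 0⟩, ⟨0, 0⟩, ⟨0, 0⟩, ⟨1, 0⟩, ⟨1, -1⟩, ⟨1, 1⟩, ⟨0, -1⟩, ⟨0, -2⟩, ⟨1, 1⟩, ⟨2, 0⟩, ⟨-1, 0⟩, ⟨1, 1⟩, ⟨1, 1⟩, ⟨0, -1⟩, ⟨0, -1⟩, ⟨-2, -2⟩, ⟨-3, -1⟩, ⟨0, -1⟩, ⟨-1, 0⟩, ⟨0, -2⟩, ⟨-2, -1⟩, ⟨1, -3⟩, ⟨-1, 0⟩],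
   [⟨0, -1⟩, ⟨1, 0⟩, ⟨1, 0⟩, ⟨1, 0⟩, ⟨0, 0⟩, ⟨0, 0⟩, ⟨0, 0⟩, ⟨0, 0⟩, ⟨0, 0⟩, ⟨0, 0⟩, ⟨0, 0⟩, ⟨0, 0⟩, ⟨1, 0⟩, ⟨1, 0⟩, ⟨0, 1⟩, ⟨-1, 0⟩, ⟨0, 0⟩, ⟨0, 0⟩, ⟨0, 0⟩, ⟨0, 0⟩, ⟨1, 0⟩, ⟨0, 1⟩, ⟨-1, 0⟩, ⟨1, 0⟩, ⟨1, 0⟩, ⟨-1, 0⟩, ⟨1, 0⟩, ⟨0, 1⟩]),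
  ([⟨0, -1⟩, ⟨1, 0⟩, ⟨0, 0⟩, ⟨-1, 0⟩, ⟨1, 0⟩, ⟨0, 0⟩, ⟨0, 0⟩, ⟨0, 0⟩, ⟨1, 0⟩, ⟨1, -1⟩, ⟨1, 2⟩, ⟨1, -1⟩, ⟨-1, -1⟩, ⟨0, 1⟩, ⟨1, 0⟩, ⟨0, -1⟩, ⟨0, 0⟩, ⟨0, 1⟩, ⟨0, -2⟩, ⟨0, 0⟩, ⟨0, -1⟩, ⟨-2, 1⟩, ⟨1, 1⟩, ⟨1, 2⟩, ⟨1, -1⟩, ⟨-2, -1⟩, ⟨0, -1⟩],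
   [⟨0, -1⟩, ⟨1, 0⟩, ⟨-1, 0⟩, ⟨-1, 0⟩, ⟨0, 0⟩, ⟨0, 0⟩, ⟨0, 0⟩, ⟨0, 0⟩, ⟨0, 0⟩, ⟨0, 0⟩, ⟨0, 0⟩, ⟨0, 0⟩, ⟨1, 0⟩, ⟨-1, 0⟩, ⟨0, 1⟩, ⟨1, 0⟩, ⟨0, 0⟩, ⟨0, 0⟩, ⟨0, 0⟩, ⟨0, 0⟩, ⟨1, 0⟩, ⟨0, -1⟩, ⟨1, 0⟩, ⟨1, 0⟩, ⟨1, 0⟩, ⟨-1, 0⟩, ⟨-1, 0⟩, ⟨0, -1⟩]),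
  ([⟨0, -1⟩, ⟨-1, 0⟩, ⟨0, 0⟩, ⟨1, 0⟩, ⟨1, 0⟩, ⟨0, 0⟩, ⟨0, 0⟩, ⟨0, 0⟩, ⟨1, 0⟩, ⟨1, -1⟩, ⟨0, 0⟩, ⟨-1, -1⟩, ⟨1, -1⟩, ⟨0, 0⟩, ⟨1, 1⟩, ⟨-1, -1⟩, ⟨0, 1⟩, ⟨0, 0⟩, ⟨-1, -2⟩, ⟨1, 2⟩, ⟨1, 0⟩, ⟨0, 1⟩, ⟨1, 1⟩, ⟨-1, 1⟩, ⟨0, 1⟩, ⟨0, 1⟩, ⟨1, 0⟩, ⟨2, 3⟩],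
   [⟨0, -1⟩, ⟨-1, 0⟩, ⟨1, 0⟩, ⟨-1, 0⟩, ⟨0, 0⟩, ⟨0, 0⟩, ⟨0, 0⟩, ⟨0, 0⟩, ⟨0, 0⟩, ⟨0, 0⟩, ⟨0, 0⟩, ⟨0, 0⟩, ⟨1, 0⟩, ⟨1, 0⟩, ⟨0, -1⟩, ⟨1, 0⟩, ⟨0, 0⟩, ⟨0, 0⟩, ⟨0, 0⟩, ⟨0, 0⟩, ⟨1, 0⟩, ⟨0, -1⟩, ⟨-1, 0⟩, ⟨-1, 0⟩, ⟨1, 0⟩, ⟨1, 0⟩, ⟨-1, 0⟩, ⟨0, 1⟩]),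
  ([⟨0, -1⟩, ⟨-1, 0⟩, ⟨0, 0⟩, ⟨-1, 0⟩, ⟨1, 0⟩, ⟨0, 0⟩, ⟨0, 0⟩, ⟨0, 0⟩, ⟨1, 0⟩, ⟨1, -1⟩, ⟨0, 1⟩, ⟨0, -1⟩, ⟨0, 0⟩, ⟨-1, 0⟩, ⟨0, 1⟩, ⟨0, -2⟩, ⟨-1, 0⟩, ⟨1, 0⟩, ⟨0, -2⟩, ⟨-1, 2⟩, ⟨2, 1⟩, ⟨-1, 3⟩, ⟨1, 3⟩, ⟨0, 2⟩, ⟨0, 1⟩, ⟨0, 0⟩, ⟨1, 1⟩, ⟨2, 3⟩],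
   [⟨0, -1⟩, ⟨-1, 0⟩, ⟨-1, 0⟩, ⟨1, 0⟩, ⟨0, 0⟩, ⟨0, 0⟩, ⟨0, 0⟩, ⟨0, 0⟩, ⟨0, 0⟩, ⟨0, 0⟩, ⟨0, 0⟩, ⟨0, 0⟩, ⟨1, 0⟩, ⟨-1, 0⟩, ⟨0, -1⟩, ⟨-1, 0⟩, ⟨0, 0⟩, ⟨0, 0⟩, ⟨0, 0⟩, ⟨0, 0⟩, ⟨1, 0⟩, ⟨0, 1⟩, ⟨1, 0⟩, ⟨-1, 0⟩, ⟨1, 0⟩, ⟨1, 0⟩, ⟨1, 0⟩, ⟨0, -1⟩]),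
  ([⟨1, 0⟩, ⟨1, 0⟩, ⟨1, 0⟩, ⟨1, 0⟩, ⟨0, 0⟩, ⟨0, 0⟩, ⟨1, 0⟩, ⟨1, 0⟩, ⟨0, 0⟩, ⟨-1, -1⟩, ⟨0, 0⟩, ⟨-1, 0⟩, ⟨0, 0⟩, ⟨1, 1⟩, ⟨1, -1⟩, ⟨0, 2⟩, ⟨1, 1⟩, ⟨-1, 2⟩, ⟨0, 0⟩, ⟨3, -3⟩, ⟨-2, 0⟩, ⟨0, -3⟩, ⟨0, -3⟩, ⟨2, -1⟩, ⟨1, -2⟩, ⟨-1, -1⟩, ⟨2, -3⟩, ⟨-1, -3⟩],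
   [⟨1, 0⟩, ⟨1, 0⟩, ⟨1, 0⟩, ⟨1, 0⟩, ⟨1, 0⟩, ⟨0, 0⟩, ⟨0, 0⟩, ⟨-1, 0⟩, ⟨1, 0⟩, ⟨-1, 0⟩, ⟨0, 0⟩, ⟨0, 0⟩, ⟨0, 0⟩, ⟨0, 0⟩, ⟨-1, 0⟩, ⟨1, 0⟩, ⟨1, 0⟩, ⟨0, 0⟩, ⟨-1, 0⟩, ⟨0, 0⟩, ⟨0, 0⟩, ⟨-1, 0⟩, ⟨1, 0⟩, ⟨0, 0⟩, ⟨0, 0⟩, ⟨1, 0⟩, ⟨0, 0⟩, ⟨-1, 0⟩]),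
  ([⟨1, 0⟩, ⟨1, 0⟩, ⟨0, 0⟩, ⟨1, 0⟩, ⟨-1, 0⟩, ⟨-1, 0⟩, ⟨0, 0⟩, ⟨0, 0⟩, ⟨-1, 0⟩, ⟨-1, 2⟩, ⟨0, -1⟩, ⟨0, 1⟩, ⟨1, 0⟩, ⟨0, 0⟩, ⟨1, 0⟩, ⟨1, 2⟩, ⟨2, 1⟩, ⟨0, 1⟩, ⟨1, 3⟩, ⟨-1, -5⟩, ⟨-2, -2⟩, ⟨-1, -6⟩, ⟨-3, -4⟩, ⟨0, -4⟩, ⟨-1, -3⟩, ⟨-1, -1⟩, ⟨0, -3⟩, ⟨-5, -4⟩],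
   [⟨1, 0⟩, ⟨1, 0⟩, ⟨1, 0⟩, ⟨1, 0⟩, ⟨0, 0⟩, ⟨-1, 0⟩, ⟨0, 1⟩, ⟨0, 0⟩, ⟨0, 0⟩, ⟨0, 0⟩, ⟨-1, 0⟩, ⟨0, 1⟩, ⟨-1, 0⟩, ⟨0, 1⟩, ⟨0, 0⟩, ⟨0, 0⟩, ⟨0, 0⟩, ⟨0, 1⟩, ⟨0, 0⟩, ⟨-1, 0⟩, ⟨-1, 0⟩, ⟨0, 0⟩, ⟨0, 0⟩, ⟨0, 1⟩, ⟨-1, 0⟩, ⟨0, 0⟩, ⟨0, 1⟩, ⟨0, 0⟩]),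
  ([⟨1, 0⟩, ⟨1, 0⟩, ⟨0, 0⟩, ⟨1, 0⟩, ⟨0, 1⟩, ⟨0, 1⟩, ⟨0, 0⟩, ⟨0, 0⟩, ⟨0, 1⟩, ⟨1, 1⟩, ⟨-1, 1⟩, ⟨1, 0⟩, ⟨1, 0⟩, ⟨0, 1⟩, ⟨1, 1⟩, ⟨1, 0⟩, ⟨1, 0⟩, ⟨0, 1⟩, ⟨2, 0⟩, ⟨-1, -1⟩, ⟨-2, -2⟩, ⟨-2, -4⟩, ⟨-1, -1⟩, ⟨-1, -2⟩, ⟨1, -2⟩, ⟨-1, -2⟩, ⟨1, -2⟩, ⟨-3, -1⟩],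
   [⟨1, 0⟩, ⟨1, 0⟩, ⟨1, 0⟩, ⟨1, 0⟩, ⟨0, 0⟩, ⟨0, 1⟩, ⟨-1, 0⟩, ⟨0, 0⟩, ⟨0, 0⟩, ⟨0, 0⟩, ⟨0, 1⟩, ⟨-1, 0⟩, ⟨0, 1⟩, ⟨-1, 0⟩, ⟨0, 0⟩, ⟨0, 0⟩, ⟨0, 0⟩, ⟨-1, 0⟩, ⟨0, 0⟩, ⟨0, 1⟩, ⟨0, 1⟩, ⟨0, 0⟩, ⟨0, 0⟩, ⟨-1, 0⟩, ⟨0, 1⟩, ⟨0, 0⟩, ⟨-1, 0⟩, ⟨0, 0⟩]),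
  ([⟨1, 0⟩, ⟨1, 0⟩, ⟨0, 0⟩, ⟨-1, 0⟩, ⟨-1, 0⟩, ⟨1, 0⟩, ⟨0, 0⟩, ⟨0, -1⟩, ⟨0, 0⟩, ⟨-2, 1⟩, ⟨0, 1⟩, ⟨1, 1⟩, ⟨-1, 0⟩, ⟨0, 0⟩, ⟨-1, -1⟩, ⟨1, 0⟩, ⟨-1, 0⟩, ⟨0, 0⟩, ⟨-1, 1⟩, ⟨0, -3⟩, ⟨1, 0⟩, ⟨0, -1⟩, ⟨0, 0⟩, ⟨1, 0⟩, ⟨1, -2⟩, ⟨-1, -1⟩, ⟨-2, 0⟩, ⟨0, -3⟩],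
   [⟨1, 0⟩, ⟨1, 0⟩, ⟨-1, 0⟩, ⟨-1, 0⟩, ⟨0, 0⟩, ⟨1, 0⟩, ⟨0, 1⟩, ⟨0, 0⟩, ⟨0, 0⟩, ⟨0, 0⟩, ⟨0, 1⟩, ⟨1, 0⟩, ⟨-1, 0⟩, ⟨0, -1⟩, ⟨0, 0⟩, ⟨0, 0⟩, ⟨0, -1⟩, ⟨0, 0⟩, ⟨0, -1⟩, ⟨0, 0⟩, ⟨0, 0⟩, ⟨0, -1⟩, ⟨0, -1⟩, ⟨0, 0⟩, ⟨0, -1⟩, ⟨0, 0⟩, ⟨-1, 0⟩, ⟨0, 0⟩]),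
  ([⟨1, 0⟩, ⟨1, 0⟩, ⟨0, 0⟩, ⟨-1, 0⟩, ⟨0, 1⟩, ⟨0, -1⟩, ⟨0, 0⟩, ⟨-1, 0⟩, ⟨0, 0⟩, ⟨0, 2⟩, ⟨0, 2⟩, ⟨2, 0⟩, ⟨0, -1⟩, ⟨-1, 0⟩, ⟨-1, 1⟩, ⟨1, 1⟩, ⟨0, 0⟩, ⟨-1, 0⟩, ⟨1, 1⟩, ⟨0, -2⟩, ⟨1, -1⟩, ⟨0, -3⟩, ⟨0, 0⟩, ⟨-1, 1⟩, ⟨0, -2⟩, ⟨-1, -2⟩, ⟨0, 0⟩, ⟨-2, -3⟩],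
   [⟨1, 0⟩, ⟨1, 0⟩, ⟨-1, 0⟩, ⟨-1, 0⟩, ⟨0, 0⟩, ⟨0, -1⟩, ⟨-1, 0⟩, ⟨0, 0⟩, ⟨0, 0⟩, ⟨0, 0⟩, ⟨-1, 0⟩, ⟨0, -1⟩, ⟨0, 1⟩, ⟨1, 0⟩, ⟨0, 0⟩, ⟨0, 0⟩, ⟨-1, 0⟩, ⟨0, 0⟩, ⟨1, 0⟩, ⟨0, 0⟩, ⟨0, 0⟩, ⟨1, 0⟩, ⟨-1, 0⟩, ⟨0, 0⟩, ⟨-1, 0⟩, ⟨0, 0⟩, ⟨0, -1⟩, ⟨0, 0⟩]),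
  ([⟨1, 0⟩, ⟨1, 0⟩, ⟨1, 0⟩, ⟨-1, 0⟩, ⟨0, 0⟩, ⟨0, 0⟩, ⟨0, -1⟩, ⟨0, 0⟩, ⟨0, 1⟩, ⟨0, 0⟩, ⟨0, 1⟩, ⟨1, -1⟩, ⟨-1, 0⟩, ⟨0, 0⟩, ⟨0, 1⟩, ⟨2, 0⟩, ⟨0, -1⟩, ⟨0, 2⟩, ⟨1, 0⟩, ⟨0, -3⟩, ⟨-1, -1⟩, ⟨-2, -1⟩, ⟨-1, 0⟩, ⟨1, 0⟩, ⟨0, -2⟩, ⟨-2, -1⟩, ⟨0, -1⟩, ⟨-3, 0⟩],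
   [⟨1, 0⟩, ⟨1, 0⟩, ⟨-1, 0⟩, ⟨-1, 0⟩, ⟨1, 0⟩, ⟨0, 0⟩, ⟨0, 0⟩, ⟨1, 0⟩, ⟨0, -1⟩, ⟨0, 1⟩, ⟨0, 0⟩, ⟨0, 0⟩, ⟨0, 0⟩, ⟨0, 0⟩, ⟨1, 0⟩, ⟨1, 0⟩, ⟨0, 0⟩, ⟨-1, 0⟩, ⟨0, 0⟩, ⟨0, 1⟩, ⟨0, 1⟩, ⟨0, 0⟩, ⟨0, 0⟩, ⟨-1, 0⟩, ⟨0, 0⟩, ⟨0, 1⟩, ⟨0, 0⟩, ⟨0, -1⟩]),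
  ([⟨1, 0⟩, ⟨1, 0⟩, ⟨0, -1⟩, ⟨-1, 0⟩, ⟨0, 0⟩, ⟨0, 0⟩, ⟨1, 0⟩, ⟨0, 0⟩, ⟨1, 0⟩, ⟨-2, -1⟩, ⟨0, 1⟩, ⟨0, -1⟩, ⟨0, 0⟩, ⟨0, 0⟩, ⟨-1, -1⟩, ⟨1, 0⟩, ⟨-1, 0⟩, ⟨0, 2⟩, ⟨-1, -1⟩, ⟨2, -3⟩, ⟨0, 2⟩, ⟨1, 0⟩, ⟨0, 1⟩, ⟨1, 2⟩, ⟨0, -1⟩, ⟨-1, 1⟩, ⟨1, -1⟩, ⟨1, -1⟩],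
   [⟨1, 0⟩, ⟨1, 0⟩, ⟨-1, 0⟩, ⟨-1, 0⟩, ⟨0, -1⟩, ⟨0, 0⟩, ⟨0, 0⟩, ⟨0, 1⟩, ⟨1, 0⟩, ⟨1, 0⟩, ⟨0, 0⟩, ⟨0, 0⟩, ⟨0, 0⟩, ⟨0, 0⟩, ⟨0, 1⟩, ⟨0, -1⟩, ⟨0, 0⟩, ⟨0, -1⟩, ⟨0, 0⟩, ⟨1, 0⟩, ⟨1, 0⟩, ⟨0, 0⟩, ⟨0, 0⟩, ⟨0, -1⟩, ⟨0, 0⟩, ⟨1, 0⟩, ⟨0, 0⟩, ⟨1, 0⟩]),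
  ([⟨1, 0⟩, ⟨-1, 0⟩, ⟨0, -1⟩, ⟨1, 0⟩, ⟨0, 0⟩, ⟨0, 0⟩, ⟨0, 0⟩, ⟨0, 0⟩, ⟨0, -1⟩, ⟨-2, 1⟩, ⟨-1, -1⟩, ⟨-2, 1⟩, ⟨2, 1⟩, ⟨0, -1⟩, ⟨0, 0⟩, ⟨0, 0⟩, ⟨0, 1⟩, ⟨0, 0⟩, ⟨-2, 0⟩, ⟨2, -1⟩, ⟨1, 2⟩, ⟨3, -2⟩, ⟨0, -1⟩, ⟨0, -2⟩, ⟨0, 0⟩, ⟨1, 2⟩, ⟨1, -1⟩, ⟨2, -1⟩],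
   [⟨1, 0⟩, ⟨-1, 0⟩, ⟨1, 0⟩, ⟨-1, 0⟩, ⟨0, -1⟩, ⟨0, 0⟩, ⟨0, 0⟩, ⟨0, -1⟩, ⟨0, 0⟩, ⟨0, 0⟩, ⟨1, 0⟩, ⟨0, 1⟩, ⟨0, 0⟩, ⟨0, 0⟩, ⟨0, -1⟩, ⟨0, -1⟩, ⟨0, 0⟩, ⟨1, 0⟩, ⟨0, 0⟩, ⟨0, 1⟩, ⟨0, -1⟩, ⟨0, 0⟩, ⟨0, 0⟩, ⟨-1, 0⟩, ⟨-1, 0⟩, ⟨0, 0⟩, ⟨0, -1⟩, ⟨0, 0⟩]),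
  ([⟨1, 0⟩, ⟨-1, 0⟩, ⟨-1, 0⟩, ⟨1, 0⟩, ⟨0, 0⟩, ⟨0, 0⟩, ⟨0, 0⟩, ⟨0, 0⟩, ⟨-1, 0⟩, ⟨0, 2⟩, ⟨-1, -1⟩, ⟨0, 1⟩, ⟨2, 0⟩, ⟨0, -1⟩, ⟨-1, 1⟩, ⟨0, 0⟩, ⟨0, 1⟩, ⟨0, 0⟩, ⟨-1, 1⟩, ⟨1, -1⟩, ⟨2, 0⟩, ⟨1, -3⟩, ⟨-1, -1⟩, ⟨-1, -2⟩, ⟨1, 0⟩, ⟨2, 0⟩, ⟨1, 0⟩, ⟨-1, -1⟩],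
   [⟨1, 0⟩, ⟨-1, 0⟩, ⟨1, 0⟩, ⟨-1, 0⟩, ⟨-1, 0⟩, ⟨0, 0⟩, ⟨0, 0⟩, ⟨1, 0⟩, ⟨0, 0⟩, ⟨0, 0⟩, ⟨0, -1⟩, ⟨-1, 0⟩, ⟨0, 0⟩, ⟨0, 0⟩, ⟨1, 0⟩, ⟨-1, 0⟩, ⟨0, 0⟩, ⟨0, -1⟩, ⟨0, 0⟩, ⟨-1, 0⟩, ⟨-1, 0⟩, ⟨0, 0⟩, ⟨0, 0⟩, ⟨0, -1⟩, ⟨0, 1⟩, ⟨0, 0⟩, ⟨1, 0⟩, ⟨0, 0⟩]),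
  ([⟨1, 0⟩, ⟨-1, 0⟩, ⟨0, 0⟩, ⟨1, 0⟩, ⟨0, 1⟩, ⟨0, 1⟩, ⟨1, 0⟩, ⟨0, -1⟩, ⟨0, 0⟩, ⟨-1, 1⟩, ⟨-2, 0⟩, ⟨0, 0⟩, ⟨2, 1⟩, ⟨0, 0⟩, ⟨-1, 1⟩, ⟨0, 0⟩, ⟨1, 1⟩, ⟨-1, 0⟩, ⟨-1, -1⟩, ⟨2, 1⟩, ⟨2, 0⟩, ⟨2, -2⟩, ⟨1, 0⟩, ⟨0, -1⟩, ⟨3, 0⟩, ⟨0, 0⟩, ⟨2, 0⟩, ⟨1, -1⟩],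
   [⟨1, 0⟩, ⟨-1, 0⟩, ⟨1, 0⟩, ⟨-1, 0⟩, ⟨0, 0⟩, ⟨0, 1⟩, ⟨-1, 0⟩, ⟨0, 0⟩, ⟨1, 0⟩, ⟨1, 0⟩, ⟨0, 0⟩, ⟨0, 0⟩, ⟨0, 1⟩, ⟨-1, 0⟩, ⟨0, 0⟩, ⟨0, 0⟩, ⟨0, -1⟩, ⟨0, 0⟩, ⟨0, 1⟩, ⟨0, 0⟩, ⟨0, 0⟩, ⟨0, -1⟩, ⟨0, 1⟩, ⟨0, 0⟩, ⟨0, 0⟩, ⟨1, 0⟩, ⟨0, 0⟩, ⟨1, 0⟩]),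
  ([⟨1, 0⟩, ⟨-1, 0⟩, ⟨0, 0⟩, ⟨1, 0⟩, ⟨1, 0⟩, ⟨1, 0⟩, ⟨0, -1⟩, ⟨1, 0⟩, ⟨0, 0⟩, ⟨-1, 0⟩, ⟨-1, 0⟩, ⟨-1, 0⟩, ⟨1, 0⟩, ⟨1, 0⟩, ⟨0, 1⟩, ⟨0, 0⟩, ⟨-1, 0⟩, ⟨0, 0⟩, ⟨-2, -1⟩, ⟨3, 0⟩, ⟨2, 1⟩, ⟨1, -2⟩, ⟨2, -1⟩, ⟨1, 0⟩, ⟨2, 0⟩, ⟨1, 0⟩, ⟨1, -1⟩, ⟨2, 0⟩],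
   [⟨1, 0⟩, ⟨-1, 0⟩, ⟨1, 0⟩, ⟨-1, 0⟩, ⟨0, 0⟩, ⟨1, 0⟩, ⟨0, -1⟩, ⟨0, 0⟩, ⟨0, -1⟩, ⟨0, 1⟩, ⟨0, 0⟩, ⟨0, 0⟩, ⟨1, 0⟩, ⟨0, -1⟩, ⟨0, 0⟩, ⟨0, 0⟩, ⟨1, 0⟩, ⟨0, 0⟩, ⟨1, 0⟩, ⟨0, 0⟩, ⟨0, 0⟩, ⟨1, 0⟩, ⟨1, 0⟩, ⟨0, 0⟩, ⟨0, 0⟩, ⟨0, -1⟩, ⟨0, 0⟩, ⟨0, 1⟩]),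
  ([⟨1, 0⟩, ⟨-1, 0⟩, ⟨0, 0⟩, ⟨-1, 0⟩, ⟨0, -1⟩, ⟨0, 1⟩, ⟨0, -1⟩, ⟨0, 0⟩, ⟨-1, 0⟩, ⟨-1, 1⟩, ⟨-1, -1⟩, ⟨-1, 0⟩, ⟨0, 1⟩, ⟨0, 0⟩, ⟨0, 1⟩, ⟨2, -1⟩, ⟨0, -1⟩, ⟨1, 1⟩, ⟨-1, 1⟩, ⟨-1, -2⟩, ⟨1, -1⟩, ⟨-1, -1⟩, ⟨-1, -1⟩, ⟨2, -2⟩, ⟨1, -1⟩, ⟨0, 1⟩, ⟨0, -1⟩, ⟨-2, 1⟩],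
   [⟨1, 0⟩, ⟨-1, 0⟩, ⟨-1, 0⟩, ⟨1, 0⟩, ⟨0, 0⟩, ⟨0, 1⟩, ⟨1, 0⟩, ⟨0, 0⟩, ⟨0, -1⟩, ⟨0, -1⟩, ⟨0, 0⟩, ⟨0, 0⟩, ⟨0, -1⟩, ⟨-1, 0⟩, ⟨0, 0⟩, ⟨0, 0⟩, ⟨0, 0⟩, ⟨0, 1⟩, ⟨0, 0⟩, ⟨1, 0⟩, ⟨-1, 0⟩, ⟨0, 0⟩, ⟨0, 0⟩, ⟨0, -1⟩, ⟨0, 0⟩, ⟨0, -1⟩, ⟨0, 0⟩, ⟨0, -1⟩]),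
  ([⟨1, 0⟩, ⟨-1, 0⟩, ⟨0, 0⟩, ⟨-1, 0⟩, ⟨-1, 0⟩, ⟨-1, 0⟩, ⟨-1, 0⟩, ⟨0, 0⟩, ⟨0, 1⟩, ⟨0, 1⟩, ⟨-2, -1⟩, ⟨0, 0⟩, ⟨0, 1⟩, ⟨-1, -1⟩, ⟨-1, 2⟩, ⟨2, -2⟩, ⟨-1, 0⟩, ⟨1, 0⟩, ⟨2, 1⟩, ⟨-4, 0⟩, ⟨1, 0⟩, ⟨-1, 1⟩, ⟨-3, 2⟩, ⟨0, -1⟩, ⟨0, 2⟩, ⟨1, 0⟩, ⟨0, 2⟩, ⟨-1, 4⟩],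
   [⟨1, 0⟩, ⟨-1, 0⟩, ⟨-1, 0⟩, ⟨1, 0⟩, ⟨0, 0⟩, ⟨-1, 0⟩, ⟨0, -1⟩, ⟨0, 0⟩, ⟨-1, 0⟩, ⟨1, 0⟩, ⟨0, 0⟩, ⟨0, 0⟩, ⟨-1, 0⟩, ⟨0, -1⟩, ⟨0, 0⟩, ⟨0, 0⟩, ⟨0, 0⟩, ⟨-1, 0⟩, ⟨0, 0⟩, ⟨0, -1⟩, ⟨0, 1⟩, ⟨0, 0⟩, ⟨0, 0⟩, ⟨1, 0⟩, ⟨0, 0⟩, ⟨-1, 0⟩, ⟨0, 0⟩, ⟨1, 0⟩]),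
  ([⟨1, 0⟩, ⟨-1, 0⟩, ⟨0, -1⟩, ⟨-1, 0⟩, ⟨0, 0⟩, ⟨0, 0⟩, ⟨0, 0⟩, ⟨1, 0⟩, ⟨0, 0⟩, ⟨-1, 0⟩, ⟨-1, 0⟩, ⟨-1, 1⟩, ⟨1, 1⟩, ⟨-1, -1⟩, ⟨-1, 0⟩, ⟨2, -1⟩, ⟨-2, -1⟩, ⟨0, 0⟩, ⟨0, -1⟩, ⟨0, 0⟩, ⟨2, 4⟩, ⟨1, 1⟩, ⟨-1, 2⟩, ⟨0, 1⟩, ⟨-1, 2⟩, ⟨1, 1⟩, ⟨-1, 1⟩, ⟨2, 2⟩],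
   [⟨1, 0⟩, ⟨-1, 0⟩, ⟨-1, 0⟩, ⟨1, 0⟩, ⟨0, -1⟩, ⟨0, 0⟩, ⟨0, 0⟩, ⟨0, 1⟩, ⟨0, 0⟩, ⟨0, 0⟩, ⟨0, 1⟩, ⟨-1, 0⟩, ⟨0, 0⟩, ⟨0, 0⟩, ⟨0, -1⟩, ⟨0, 1⟩, ⟨1, 0⟩, ⟨0, 0⟩, ⟨1, 0⟩, ⟨0, 0⟩, ⟨0, 0⟩, ⟨1, 0⟩, ⟨1, 0⟩, ⟨0, 0⟩, ⟨0, 1⟩, ⟨0, 0⟩, ⟨-1, 0⟩, ⟨0, 0⟩]),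
  ([⟨1, 0⟩, ⟨-1, 0⟩, ⟨1, 0⟩, ⟨-1, 0⟩, ⟨0, 0⟩, ⟨0, 0⟩, ⟨0, 0⟩, ⟨0, -1⟩, ⟨0, 0⟩, ⟨0, 0⟩, ⟨-1, 0⟩, ⟨0, 0⟩, ⟨0, 1⟩, ⟨0, -1⟩, ⟨-1, 1⟩, ⟨1, -1⟩, ⟨0, 0⟩, ⟨0, 0⟩, ⟨0, -1⟩, ⟨0, 1⟩, ⟨1, 0⟩, ⟨0, 2⟩, ⟨-1, 1⟩, ⟨0, -1⟩, ⟨1, 0⟩, ⟨-1, -1⟩, ⟨0, 1⟩, ⟨0, 2⟩],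
   [⟨1, 0⟩, ⟨-1, 0⟩, ⟨-1, 0⟩, ⟨1, 0⟩, ⟨1, 0⟩, ⟨0, 0⟩, ⟨0, 0⟩, ⟨1, 0⟩, ⟨0, 0⟩, ⟨0, 0⟩, ⟨1, 0⟩, ⟨0, -1⟩, ⟨0, 0⟩, ⟨0, 0⟩, ⟨1, 0⟩, ⟨1, 0⟩, ⟨0, -1⟩, ⟨0, 0⟩, ⟨0, 1⟩, ⟨0, 0⟩, ⟨0, 0⟩, ⟨0, 1⟩, ⟨0, -1⟩, ⟨0, 0⟩, ⟨1, 0⟩, ⟨0, 0⟩, ⟨0, -1⟩, ⟨0, 0⟩])]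

theorem tab_cert : ∀ i : Fin ruTable.length,
    lincomb (tabCW.getD i ([], [])).1 B = (tabCW.getD i ([], [])).2 ∧
      ∀ p, ruTable.getD i 0 p = toVec (tabCW.getD i ([], [])).2 p := by decide +kernel

def cwRj : List (List Gi × List Gi) := [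
  ([⟨0, 0⟩, ⟨0, 1⟩, ⟨0, 0⟩, ⟨1, 0⟩, ⟨1, 0⟩, ⟨0, 0⟩, ⟨0, 0⟩, ⟨0, 1⟩, ⟨0, 1⟩, ⟨2, 0⟩, ⟨1, 1⟩, ⟨0, -1⟩, ⟨1, -1⟩, ⟨1, 0⟩, ⟨2, 1⟩, ⟨-1, -1⟩, ⟨0, -1⟩, ⟨-1, 1⟩, ⟨1, 0⟩, ⟨2, 0⟩, ⟨-3, -1⟩, ⟨-2, -1⟩, ⟨-1, 0⟩, ⟨-2, 0⟩, ⟨-2, -1⟩, ⟨0, 1⟩, ⟨1, 0⟩, ⟨-1, 1⟩],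
   [⟨0, 0⟩, ⟨0, 1⟩, ⟨1, 0⟩, ⟨0, 0⟩, ⟨0, 0⟩, ⟨0, 0⟩, ⟨-1, 2⟩, ⟨0, -1⟩, ⟨0, 0⟩, ⟨0, 0⟩, ⟨2, -1⟩, ⟨0, 1⟩, ⟨1, 0⟩, ⟨0, 0⟩, ⟨1, 2⟩, ⟨0, 0⟩, ⟨0, 1⟩, ⟨0, 0⟩, ⟨2, 0⟩, ⟨-1, 0⟩, ⟨0, 1⟩, ⟨0, 0⟩, ⟨-1, 2⟩, ⟨-2, 0⟩, ⟨-1, 2⟩, ⟨0, 1⟩, ⟨2, 1⟩, ⟨1, 0⟩]),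
  ([⟨0, 1⟩, ⟨0, 0⟩, ⟨0, 0⟩, ⟨-1, 0⟩, ⟨-1, -1⟩, ⟨0, 0⟩, ⟨1, 0⟩, ⟨1, -1⟩, ⟨0, 1⟩, ⟨-3, -1⟩, ⟨1, -2⟩, ⟨0, 0⟩, ⟨-1, 1⟩, ⟨1, 0⟩, ⟨-2, -2⟩, ⟨1, -1⟩, ⟨-1, 0⟩, ⟨0, 1⟩, ⟨-1, 1⟩, ⟨0, -3⟩, ⟨0, 1⟩, ⟨0, 2⟩, ⟨-2, 1⟩, ⟨3, 0⟩, ⟨-1, 1⟩, ⟨-1, 2⟩, ⟨-2, 2⟩, ⟨-1, -1⟩],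
   [⟨0, 1⟩, ⟨0, 0⟩, ⟨-1, 0⟩, ⟨0, 0⟩, ⟨0, 0⟩, ⟨0, 0⟩, ⟨2, 2⟩, ⟨-1, 1⟩, ⟨1, 0⟩, ⟨0, 0⟩, ⟨2, 0⟩, ⟨-1, 0⟩, ⟨-1, -1⟩, ⟨0, 0⟩, ⟨-1, 2⟩, ⟨-1, 0⟩, ⟨1, -1⟩, ⟨0, 0⟩, ⟨-1, 2⟩, ⟨0, 1⟩, ⟨0, 1⟩, ⟨0, 0⟩, ⟨1, 0⟩, ⟨1, 1⟩, ⟨-1, 0⟩, ⟨0, 0⟩, ⟨2, 2⟩, ⟨0, -1⟩]),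
  ([⟨0, 0⟩, ⟨0, 0⟩, ⟨0, 0⟩, ⟨-1, 1⟩, ⟨-1, 1⟩, ⟨0, 1⟩, ⟨-1, -1⟩, ⟨1, 0⟩, ⟨-1, 0⟩, ⟨0, 4⟩, ⟨-1, 1⟩, ⟨0, 2⟩, ⟨0, 1⟩, ⟨-1, 0⟩, ⟨-1, 1⟩, ⟨1, -2⟩, ⟨0, -1⟩, ⟨1, -1⟩, ⟨3, 1⟩, ⟨-5, 1⟩, ⟨1, 1⟩, ⟨-1, 0⟩, ⟨0, 3⟩, ⟨1, -2⟩, ⟨-1, 2⟩, ⟨3, -1⟩, ⟨-3, 1⟩, ⟨-1, 1⟩],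
   [⟨0, 0⟩, ⟨0, 0⟩, ⟨-1, 1⟩, ⟨0, 0⟩, ⟨0, 0⟩, ⟨0, 1⟩, ⟨-1, 0⟩, ⟨0, 0⟩, ⟨-1, -1⟩, ⟨0, 0⟩, ⟨1, 0⟩, ⟨-1, 0⟩, ⟨-1, 1⟩, ⟨0, 0⟩, ⟨1, 0⟩, ⟨0, 1⟩, ⟨1, 0⟩, ⟨0, 0⟩, ⟨0, 1⟩, ⟨1, 1⟩, ⟨-1, 0⟩, ⟨0, 0⟩, ⟨2, 2⟩, ⟨-2, -1⟩, ⟨-2, 2⟩, ⟨0, -1⟩, ⟨0, 0⟩, ⟨0, 1⟩]),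
  ([⟨0, 0⟩, ⟨0, 0⟩, ⟨0, 0⟩, ⟨0, -1⟩, ⟨1, 0⟩, ⟨0, 0⟩, ⟨-1, 0⟩, ⟨1, 0⟩, ⟨0, 0⟩, ⟨1, -1⟩, ⟨0, 1⟩, ⟨0, 1⟩, ⟨0, -1⟩, ⟨1, 0⟩, ⟨1, 0⟩, ⟨0, -1⟩, ⟨0, 0⟩, ⟨0, 0⟩, ⟨0, -2⟩, ⟨1, 2⟩, ⟨0, 0⟩, ⟨-2, 1⟩, ⟨-1, 0⟩, ⟨0, 0⟩, ⟨1, 1⟩, ⟨1, -2⟩, ⟨-1, -1⟩, ⟨1, 1⟩],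
   [⟨0, 0⟩, ⟨0, 0⟩, ⟨0, -1⟩, ⟨-1, 0⟩, ⟨0, 0⟩, ⟨0, 0⟩, ⟨-1, 0⟩, ⟨1, 0⟩, ⟨-1, 0⟩, ⟨0, 0⟩, ⟨2, -1⟩, ⟨-1, -1⟩, ⟨1, 0⟩, ⟨0, 0⟩, ⟨0, 2⟩, ⟨0, 1⟩, ⟨1, 0⟩, ⟨0, 0⟩, ⟨-1, 0⟩, ⟨-1, 1⟩, ⟨0, 0⟩, ⟨0, 0⟩, ⟨1, -1⟩, ⟨-2, 0⟩, ⟨1, 0⟩, ⟨0, 0⟩, ⟨-1, 1⟩, ⟨0, 1⟩]),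
  ([⟨0, 0⟩, ⟨0, 0⟩, ⟨0, 0⟩, ⟨2, 0⟩, ⟨0, -1⟩, ⟨0, 0⟩, ⟨1, -1⟩, ⟨1, 1⟩, ⟨-1, 1⟩, ⟨-1, -1⟩, ⟨0, -1⟩, ⟨-2, -1⟩, ⟨1, 0⟩, ⟨2, 0⟩, ⟨1, -1⟩, ⟨0, 2⟩, ⟨1, 0⟩, ⟨0, 2⟩, ⟨-1, 2⟩, ⟨3, -4⟩, ⟨-3, 0⟩, ⟨-1, -3⟩, ⟨-2, -4⟩, ⟨1, -2⟩, ⟨-1, -2⟩, ⟨0, 2⟩, ⟨1, -4⟩, ⟨-2, -1⟩],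
   [⟨0, 0⟩, ⟨0, 0⟩, ⟨2, 0⟩, ⟨0, 0⟩, ⟨0, 0⟩, ⟨0, 0⟩, ⟨-1, -1⟩, ⟨-1, 1⟩, ⟨1, -1⟩, ⟨0, 0⟩, ⟨-1, -1⟩, ⟨0, 0⟩, ⟨0, -1⟩, ⟨0, 1⟩, ⟨0, 1⟩, ⟨-1, 0⟩, ⟨1, 1⟩, ⟨0, 0⟩, ⟨-1, 1⟩, ⟨0, 0⟩, ⟨-1, 1⟩, ⟨0, 0⟩, ⟨0, 0⟩, ⟨1, 1⟩, ⟨-1, 0⟩, ⟨0, -1⟩, ⟨1, 2⟩, ⟨1, 0⟩]),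
  ([⟨0, 0⟩, ⟨0, 0⟩, ⟨0, 1⟩, ⟨1, -1⟩, ⟨0, 0⟩, ⟨0, 0⟩, ⟨0, 0⟩, ⟨0, -1⟩, ⟨0, -1⟩, ⟨0, 2⟩, ⟨-1, 0⟩, ⟨0, 1⟩, ⟨0, -1⟩, ⟨0, 0⟩, ⟨0, 0⟩, ⟨-1, 1⟩, ⟨2, 2⟩, ⟨0, -1⟩, ⟨0, 1⟩, ⟨-1, 0⟩, ⟨1, -2⟩, ⟨-1, -2⟩, ⟨1, -2⟩, ⟨0, -1⟩, ⟨2, 0⟩, ⟨1, -2⟩, ⟨0, -1⟩, ⟨-1, -3⟩],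
   [⟨0, 0⟩, ⟨0, 0⟩, ⟨1, -1⟩, ⟨0, 0⟩, ⟨0, 1⟩, ⟨0, 0⟩, ⟨-1, -1⟩, ⟨-1, 0⟩, ⟨0, 0⟩, ⟨0, 0⟩, ⟨1, 0⟩, ⟨0, -1⟩, ⟨0, 0⟩, ⟨0, 0⟩, ⟨0, -1⟩, ⟨0, 1⟩, ⟨0, -1⟩, ⟨0, 0⟩, ⟨-1, 0⟩, ⟨1, -1⟩, ⟨0, -1⟩, ⟨0, 0⟩, ⟨0, 2⟩, ⟨1, 0⟩, ⟨0, 1⟩, ⟨0, 0⟩, ⟨0, -1⟩, ⟨-1, -1⟩]),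
  ([⟨0, 0⟩, ⟨0, 0⟩, ⟨0, 0⟩, ⟨0, 0⟩, ⟨0, 0⟩, ⟨0, 0⟩, ⟨0, -1⟩, ⟨-1, -1⟩, ⟨-1, 1⟩, ⟨2, 2⟩, ⟨1, 0⟩, ⟨2, 0⟩, ⟨0, 0⟩, ⟨1, 0⟩, ⟨-1, 1⟩, ⟨1, 0⟩, ⟨0, 0⟩, ⟨0, 1⟩, ⟨1, 1⟩, ⟨-2, -2⟩, ⟨1, -3⟩, ⟨-3, -1⟩, ⟨-1, -2⟩, ⟨0, -2⟩, ⟨0, -1⟩, ⟨-1, -1⟩, ⟨0, 1⟩, ⟨-5, -1⟩],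
   [⟨0, 0⟩, ⟨0, 0⟩, ⟨0, 0⟩, ⟨0, 0⟩, ⟨0, 0⟩, ⟨0, 0⟩, ⟨0, 2⟩, ⟨0, 0⟩, ⟨0, -1⟩, ⟨0, 1⟩, ⟨0, -1⟩, ⟨-1, 0⟩, ⟨0, 0⟩, ⟨0, 0⟩, ⟨0, 2⟩, ⟨0, 0⟩, ⟨-1, -1⟩, ⟨0, 0⟩, ⟨-1, -1⟩, ⟨0, 0⟩, ⟨-1, 1⟩, ⟨0, 0⟩, ⟨2, 0⟩, ⟨-1, 1⟩, ⟨1, 2⟩, ⟨-1, 0⟩, ⟨0, 1⟩, ⟨1, 0⟩]),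
  ([⟨0, 0⟩, ⟨0, 0⟩, ⟨0, 0⟩, ⟨0, 2⟩, ⟨0, 0⟩, ⟨0, 0⟩, ⟨-1, 1⟩, ⟨0, -1⟩, ⟨0, 0⟩, ⟨-1, 1⟩, ⟨2, 0⟩, ⟨1, 0⟩, ⟨0, 1⟩, ⟨1, 0⟩, ⟨1, 1⟩, ⟨-2, -1⟩, ⟨-1, 2⟩, ⟨0, -1⟩, ⟨-1, 0⟩, ⟨1, 1⟩, ⟨1, -3⟩, ⟨2, 0⟩, ⟨2, -1⟩, ⟨2, -3⟩, ⟨2, -2⟩, ⟨-2, -2⟩, ⟨0, 1⟩, ⟨0, -3⟩],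
   [⟨0, 0⟩, ⟨0, 0⟩, ⟨0, 2⟩, ⟨0, 0⟩, ⟨0, 0⟩, ⟨0, 0⟩, ⟨0, 2⟩, ⟨0, 0⟩, ⟨-1, 1⟩, ⟨0, 0⟩, ⟨-1, -1⟩, ⟨0, 0⟩, ⟨0, 0⟩, ⟨0, 0⟩, ⟨2, 2⟩, ⟨0, 0⟩, ⟨0, -1⟩, ⟨0, 1⟩, ⟨-1, 0⟩, ⟨0, -1⟩, ⟨0, 0⟩, ⟨0, 0⟩, ⟨1, -1⟩, ⟨1, 1⟩, ⟨-2, -1⟩, ⟨-1, 0⟩, ⟨0, 1⟩, ⟨-2, -1⟩]),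
  ([⟨0, 0⟩, ⟨0, 0⟩, ⟨0, 0⟩, ⟨0, 2⟩, ⟨0, 0⟩, ⟨0, 0⟩, ⟨-1, -1⟩, ⟨0, 0⟩, ⟨1, 0⟩, ⟨0, 0⟩, ⟨2, -1⟩, ⟨-1, -1⟩, ⟨0, 1⟩, ⟨1, 1⟩, ⟨0, 2⟩, ⟨0, -2⟩, ⟨-2, 2⟩, ⟨2, 0⟩, ⟨0, -1⟩, ⟨-3, 0⟩, ⟨2, -3⟩, ⟨1, 1⟩, ⟨2, -1⟩, ⟨3, -1⟩, ⟨0, 0⟩, ⟨0, 0⟩, ⟨1, 0⟩, ⟨0, 1⟩],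
   [⟨0, 0⟩, ⟨0, 0⟩, ⟨0, 2⟩, ⟨0, 0⟩, ⟨0, 0⟩, ⟨0, 0⟩, ⟨2, 2⟩, ⟨0, 0⟩, ⟨-1, -1⟩, ⟨0, 0⟩, ⟨0, 2⟩, ⟨1, -1⟩, ⟨0, 0⟩, ⟨0, 0⟩, ⟨0, 2⟩, ⟨0, 0⟩, ⟨0, 0⟩, ⟨0, 0⟩, ⟨-1, -1⟩, ⟨-1, -1⟩, ⟨1, 0⟩, ⟨0, 1⟩, ⟨1, 2⟩, ⟨-1, 0⟩, ⟨1, 0⟩, ⟨-1, 0⟩, ⟨-1, 0⟩, ⟨0, 1⟩]),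
  ([⟨0, 0⟩, ⟨0, 0⟩, ⟨0, 0⟩, ⟨0, 2⟩, ⟨0, 0⟩, ⟨0, 0⟩, ⟨0, 0⟩, ⟨0, 0⟩, ⟨0, 0⟩, ⟨-1, 0⟩, ⟨1, -1⟩, ⟨0, -1⟩, ⟨0, 1⟩, ⟨0, 0⟩, ⟨0, 1⟩, ⟨0, -1⟩, ⟨0, 1⟩, ⟨0, 0⟩, ⟨-1, 0⟩, ⟨0, 0⟩, ⟨0, -2⟩, ⟨2, 0⟩, ⟨1, 0⟩, ⟨2, -1⟩, ⟨-1, -1⟩, ⟨-2, 1⟩],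
   [⟨0, 0⟩, ⟨0, 0⟩, ⟨0, 2⟩, ⟨0, 0⟩, ⟨0, 0⟩, ⟨0, 0⟩, ⟨2, 0⟩, ⟨0, 0⟩, ⟨0, 0⟩, ⟨0, 0⟩, ⟨0, 2⟩, ⟨0, 0⟩, ⟨0, 0⟩, ⟨0, 0⟩, ⟨2, 0⟩, ⟨0, 0⟩, ⟨0, 0⟩, ⟨0, 0⟩, ⟨0, 2⟩, ⟨0, 0⟩, ⟨0, 0⟩, ⟨0, 0⟩, ⟨0, 0⟩, ⟨-2, 0⟩, ⟨-1, -1⟩, ⟨-1, 1⟩, ⟨1, -1⟩, ⟨1, 1⟩]),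
  ([⟨0, 0⟩, ⟨0, 0⟩, ⟨0, 0⟩, ⟨0, 0⟩, ⟨0, 0⟩, ⟨0, 0⟩, ⟨0, 0⟩, ⟨0, 0⟩, ⟨0, 0⟩, ⟨1, 1⟩, ⟨1, 0⟩, ⟨0, 0⟩, ⟨0, 0⟩, ⟨0, 0⟩, ⟨0, 0⟩, ⟨0, 0⟩, ⟨0, 0⟩, ⟨0, 0⟩, ⟨1, 0⟩, ⟨-1, -1⟩, ⟨0, 0⟩, ⟨-1, 0⟩, ⟨0, 0⟩, ⟨0, 0⟩, ⟨-1, 0⟩, ⟨0, 0⟩, ⟨0, 1⟩, ⟨-2, 0⟩],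
   [⟨0, 0⟩, ⟨0, 0⟩, ⟨0, 0⟩, ⟨0, 0⟩, ⟨0, 0⟩, ⟨0, 0⟩, ⟨0, 2⟩, ⟨0, -2⟩, ⟨0, 0⟩, ⟨0, 0⟩, ⟨0, 0⟩, ⟨0, 0⟩, ⟨0, 0⟩, ⟨0, 0⟩, ⟨0, 0⟩, ⟨0, 0⟩, ⟨0, 0⟩, ⟨0, 0⟩, ⟨0, 0⟩, ⟨0, 0⟩, ⟨0, 0⟩, ⟨0, 0⟩, ⟨2, 2⟩, ⟨0, 0⟩, ⟨0, 2⟩, ⟨0, 0⟩, ⟨2, 2⟩, ⟨-2, 0⟩]),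
  ([⟨0, 0⟩, ⟨0, 0⟩, ⟨0, 0⟩, ⟨0, 0⟩, ⟨0, 0⟩, ⟨0, 0⟩, ⟨-2, 0⟩, ⟨0, 0⟩, ⟨0, 0⟩, ⟨1, 3⟩, ⟨0, 0⟩, ⟨0, 1⟩, ⟨0, 0⟩, ⟨1, -1⟩, ⟨1, 1⟩, ⟨1, -1⟩, ⟨0, 0⟩, ⟨1, -1⟩, ⟨2, 1⟩, ⟨-4, 0⟩, ⟨-1, -2⟩, ⟨-3, -1⟩, ⟨-2, -1⟩, ⟨-1, -3⟩, ⟨-2, -1⟩, ⟨1, -1⟩, ⟨-2, 0⟩, ⟨-3, 1⟩],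
   [⟨0, 0⟩, ⟨0, 0⟩, ⟨0, 0⟩, ⟨0, 0⟩, ⟨0, 0⟩, ⟨0, 0⟩, ⟨0, 0⟩, ⟨0, 0⟩, ⟨-2, 0⟩, ⟨0, 0⟩, ⟨0, 2⟩, ⟨0, 0⟩, ⟨0, 0⟩, ⟨0, 0⟩, ⟨2, 2⟩, ⟨0, 0⟩, ⟨0, 0⟩, ⟨0, 0⟩, ⟨0, 0⟩, ⟨0, 0⟩, ⟨0, 0⟩, ⟨0, 0⟩, ⟨0, 2⟩, ⟨-2, 0⟩, ⟨-2, 2⟩, ⟨0, 0⟩, ⟨2, 2⟩, ⟨0, 0⟩]),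
  ([⟨0, 0⟩, ⟨0, 0⟩, ⟨0, 0⟩, ⟨0, 0⟩, ⟨-2, 0⟩, ⟨0, 0⟩, ⟨0, 0⟩, ⟨0, 0⟩, ⟨0, 0⟩, ⟨-1, 1⟩, ⟨-1, -1⟩, ⟨-1, 1⟩, ⟨0, 1⟩, ⟨1, -1⟩, ⟨-1, -1⟩, ⟨0, 0⟩, ⟨1, -1⟩, ⟨1, -1⟩, ⟨1, 2⟩, ⟨-3, -1⟩, ⟨-3, 1⟩, ⟨0, 1⟩, ⟨-3, 1⟩, ⟨-1, -2⟩, ⟨-3, -1⟩, ⟨1, 2⟩, ⟨-2, 0⟩, ⟨-1, 1⟩],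
   [⟨0, 0⟩, ⟨0, 0⟩, ⟨0, 0⟩, ⟨0, 0⟩, ⟨0, 0⟩, ⟨0, 0⟩, ⟨0, 0⟩, ⟨0, 0⟩, ⟨0, 0⟩, ⟨0, 0⟩, ⟨0, 0⟩, ⟨0, 0⟩, ⟨-2, 0⟩, ⟨0, 0⟩, ⟨0, 2⟩, ⟨0, 0⟩, ⟨0, 0⟩, ⟨0, 0⟩, ⟨2, 2⟩, ⟨0, 0⟩, ⟨0, 0⟩, ⟨0, 0⟩, ⟨2, 2⟩, ⟨-2, -2⟩, ⟨0, 0⟩, ⟨0, 0⟩, ⟨2, 0⟩, ⟨0, -2⟩]),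
  ([⟨0, 0⟩, ⟨0, 0⟩, ⟨0, 0⟩, ⟨0, 0⟩, ⟨0, 0⟩, ⟨0, 0⟩, ⟨0, 0⟩, ⟨0, 0⟩, ⟨0, 0⟩, ⟨0, 0⟩, ⟨0, 0⟩, ⟨0, 0⟩, ⟨0, 0⟩, ⟨0, -1⟩, ⟨0, 0⟩, ⟨1, -1⟩, ⟨1, -1⟩, ⟨0, 0⟩, ⟨0, 0⟩, ⟨-1, 0⟩, ⟨-2, 0⟩, ⟨-1, 0⟩, ⟨-2, 1⟩, ⟨-1, 0⟩, ⟨-2, -1⟩, ⟨-1, 1⟩, ⟨-2, 0⟩, ⟨-1, 1⟩],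
   [⟨0, 0⟩, ⟨0, 0⟩, ⟨0, 0⟩, ⟨0, 0⟩, ⟨0, 0⟩, ⟨0, 0⟩, ⟨0, 0⟩, ⟨0, 0⟩, ⟨0, 0⟩, ⟨0, 0⟩, ⟨2, 2⟩, ⟨0, 0⟩, ⟨0, 0⟩, ⟨0, 0⟩, ⟨2, 0⟩, ⟨0, -2⟩, ⟨0, 0⟩, ⟨0, 0⟩, ⟨2, 2⟩, ⟨0, 0⟩, ⟨0, 0⟩, ⟨0, 0⟩, ⟨0, 2⟩, ⟨0, -2⟩, ⟨0, 0⟩, ⟨0, 0⟩, ⟨2, 0⟩, ⟨0, -2⟩]),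
  ([⟨0, 0⟩, ⟨0, 0⟩, ⟨0, 0⟩, ⟨0, 0⟩, ⟨0, 0⟩, ⟨0, 0⟩, ⟨0, 0⟩, ⟨-2, 0⟩, ⟨0, 0⟩, ⟨2, 2⟩, ⟨0, 0⟩, ⟨1, -1⟩, ⟨0, 0⟩, ⟨1, -1⟩, ⟨0, 1⟩, ⟨1, -1⟩, ⟨2, 0⟩, ⟨0, 0⟩, ⟨1, 1⟩, ⟨-3, 0⟩, ⟨-3, -4⟩, ⟨-3, 0⟩, ⟨-3, -1⟩, ⟨-2, -2⟩, ⟨-2, -3⟩, ⟨-2, 1⟩, ⟨-1, 0⟩, ⟨-5, 1⟩],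
   [⟨0, 0⟩, ⟨0, 0⟩, ⟨0, 0⟩, ⟨0, 0⟩, ⟨0, 0⟩, ⟨0, 0⟩, ⟨0, 0⟩, ⟨0, 0⟩, ⟨0, 0⟩, ⟨0, 0⟩, ⟨2, 2⟩, ⟨0, 0⟩, ⟨0, 0⟩, ⟨0, 0⟩, ⟨2, 2⟩, ⟨0, 0⟩, ⟨-2, 0⟩, ⟨0, 0⟩, ⟨0, 2⟩, ⟨0, 0⟩, ⟨0, 0⟩, ⟨0, 0⟩, ⟨0, 2⟩, ⟨0, -2⟩, ⟨0, 2⟩, ⟨0, 0⟩, ⟨0, 0⟩, ⟨0, -2⟩]),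
  ([⟨0, 0⟩, ⟨0, 0⟩, ⟨0, 0⟩, ⟨0, 0⟩, ⟨0, 0⟩, ⟨0, 0⟩, ⟨0, 0⟩, ⟨0, 0⟩, ⟨0, 0⟩, ⟨1, 1⟩, ⟨1, -1⟩, ⟨0, 0⟩, ⟨0, 0⟩, ⟨1, -1⟩, ⟨0, 0⟩, ⟨1, 0⟩, ⟨1, -1⟩, ⟨0, 0⟩, ⟨1, 0⟩, ⟨-2, -1⟩, ⟨-2, -1⟩, ⟨-2, 0⟩, ⟨-2, 0⟩, ⟨-1, -1⟩, ⟨-3, -1⟩, ⟨-1, 1⟩, ⟨-2, 0⟩, ⟨-4, 1⟩],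
   [⟨0, 0⟩, ⟨0, 0⟩, ⟨0, 0⟩, ⟨0, 0⟩, ⟨0, 0⟩, ⟨0, 0⟩, ⟨2, 2⟩, ⟨0, 0⟩, ⟨0, 0⟩, ⟨0, 0⟩, ⟨0, 2⟩, ⟨0, -2⟩, ⟨0, 0⟩, ⟨0, 0⟩, ⟨2, 2⟩, ⟨0, 0⟩, ⟨0, 0⟩, ⟨0, 0⟩, ⟨2, 2⟩, ⟨0, 0⟩, ⟨0, 0⟩, ⟨0, 0⟩, ⟨2, 2⟩, ⟨0, 0⟩, ⟨0, 2⟩, ⟨0, 0⟩, ⟨2, 0⟩, ⟨-2, -2⟩]),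
  ([⟨0, 0⟩, ⟨0, 0⟩, ⟨0, 0⟩, ⟨0, 0⟩, ⟨0, 0⟩, ⟨0, 0⟩, ⟨0, 0⟩, ⟨0, 0⟩, ⟨0, 0⟩, ⟨1, 1⟩, ⟨0, 0⟩, ⟨0, 0⟩, ⟨0, 0⟩, ⟨0, 0⟩, ⟨0, 0⟩, ⟨1, -1⟩, ⟨0, -1⟩, ⟨0, 0⟩, ⟨1, 0⟩, ⟨-2, 0⟩, ⟨-1, 0⟩, ⟨-2, 0⟩, ⟨-1, 0⟩, ⟨-1, 0⟩, ⟨-2, 0⟩, ⟨0, 1⟩, ⟨-1, 1⟩, ⟨-2, 1⟩],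
   [⟨0, 0⟩, ⟨0, 0⟩, ⟨0, 0⟩, ⟨0, 0⟩, ⟨0, 0⟩, ⟨0, 0⟩, ⟨0, 0⟩, ⟨0, 0⟩, ⟨0, 0⟩, ⟨0, 0⟩, ⟨2, 2⟩, ⟨0, 0⟩, ⟨0, 0⟩, ⟨0, 0⟩, ⟨0, 0⟩, ⟨0, 0⟩, ⟨0, 0⟩, ⟨0, 0⟩, ⟨2, 0⟩, ⟨0, -2⟩, ⟨0, 0⟩, ⟨0, 0⟩, ⟨0, 2⟩, ⟨0, -2⟩, ⟨0, 2⟩, ⟨0, 0⟩, ⟨2, 0⟩, ⟨-2, -2⟩]),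
  ([⟨0, 0⟩, ⟨0, 0⟩, ⟨0, 0⟩, ⟨0, 0⟩, ⟨0, 0⟩, ⟨0, 0⟩, ⟨0, 0⟩, ⟨0, 0⟩, ⟨-2, 0⟩, ⟨0, 2⟩, ⟨1, -1⟩, ⟨1, 1⟩, ⟨0, 0⟩, ⟨0, 0⟩, ⟨0, 0⟩, ⟨1, 1⟩, ⟨1, -1⟩, ⟨-1, 0⟩, ⟨0, 2⟩, ⟨0, -2⟩, ⟨0, -1⟩, ⟨-1, -3⟩, ⟨-1, -2⟩, ⟨0, -1⟩, ⟨-2, -2⟩, ⟨-1, 0⟩, ⟨-2, 0⟩, ⟨-4, -3⟩],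
   [⟨0, 0⟩, ⟨0, 0⟩, ⟨0, 0⟩, ⟨0, 0⟩, ⟨0, 0⟩, ⟨0, 0⟩, ⟨2, 2⟩, ⟨0, 0⟩, ⟨0, 0⟩, ⟨0, 0⟩, ⟨0, 0⟩, ⟨0, 0⟩, ⟨0, 0⟩, ⟨0, 0⟩, ⟨0, 0⟩, ⟨0, 0⟩, ⟨0, 0⟩, ⟨0, 0⟩, ⟨0, 0⟩, ⟨0, 0⟩, ⟨-2, 0⟩, ⟨0, 0⟩, ⟨0, 2⟩, ⟨-2, -2⟩, ⟨-2, 0⟩, ⟨0, 0⟩, ⟨0, 0⟩, ⟨0, -2⟩]),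
  ([⟨0, 0⟩, ⟨0, 0⟩, ⟨0, 0⟩, ⟨2, -2⟩, ⟨0, 0⟩, ⟨0, 0⟩, ⟨0, 0⟩, ⟨0, 0⟩, ⟨0, 0⟩, ⟨0, 0⟩, ⟨-2, -2⟩, ⟨-1, 1⟩, ⟨1, -1⟩, ⟨0, -2⟩, ⟨1, -1⟩, ⟨-1, 1⟩, ⟨1, -1⟩, ⟨0, 0⟩, ⟨0, 1⟩, ⟨0, 0⟩, ⟨-3, 3⟩, ⟨-1, -1⟩, ⟨-2, 0⟩, ⟨-3, -1⟩, ⟨-2, 2⟩, ⟨2, 2⟩, ⟨0, 0⟩, ⟨0, 2⟩],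
   [⟨0, 0⟩, ⟨0, 0⟩, ⟨2, -2⟩, ⟨0, 0⟩, ⟨0, 0⟩, ⟨0, 0⟩, ⟨2, -2⟩, ⟨0, 0⟩, ⟨0, 0⟩, ⟨0, 0⟩, ⟨2, -2⟩, ⟨0, 0⟩, ⟨0, 0⟩, ⟨0, 0⟩, ⟨2, -2⟩, ⟨0, 0⟩, ⟨0, 0⟩, ⟨0, 0⟩, ⟨2, -2⟩, ⟨0, 0⟩, ⟨0, 0⟩, ⟨0, 0⟩, ⟨2, -2⟩, ⟨0, 0⟩, ⟨0, 0⟩, ⟨0, 0⟩, ⟨2, -2⟩, ⟨0, 0⟩]),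
  ([⟨0, 0⟩, ⟨0, 0⟩, ⟨0, 0⟩, ⟨0, 0⟩, ⟨0, 0⟩, ⟨0, 0⟩, ⟨0, 0⟩, ⟨0, 0⟩, ⟨0, 0⟩, ⟨0, 0⟩, ⟨0, -2⟩, ⟨0, 0⟩, ⟨0, 0⟩, ⟨0, 0⟩, ⟨0, 0⟩, ⟨0, 0⟩, ⟨0, 0⟩, ⟨0, 0⟩, ⟨0, 0⟩, ⟨-1, 0⟩, ⟨0, 0⟩, ⟨0, 0⟩, ⟨0, 0⟩, ⟨0, 0⟩, ⟨-1, 1⟩, ⟨0, 1⟩, ⟨0, 1⟩, ⟨-1, 1⟩],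
   [⟨0, 0⟩, ⟨0, 0⟩, ⟨0, 0⟩, ⟨0, 0⟩, ⟨0, 0⟩, ⟨0, 0⟩, ⟨4, 0⟩, ⟨0, 0⟩, ⟨0, 0⟩, ⟨0, 0⟩, ⟨0, 0⟩, ⟨0, 0⟩, ⟨0, 0⟩, ⟨0, 0⟩, ⟨0, 0⟩, ⟨0, 0⟩, ⟨0, 0⟩, ⟨0, 0⟩, ⟨0, 0⟩, ⟨0, 0⟩, ⟨0, 0⟩, ⟨0, 0⟩, ⟨0, 0⟩, ⟨0, 0⟩, ⟨0, 0⟩, ⟨0, 0⟩, ⟨0, 0⟩, ⟨0, 0⟩]),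
  ([⟨0, 0⟩, ⟨0, 0⟩, ⟨0, 0⟩, ⟨0, 0⟩, ⟨0, 0⟩, ⟨0, 0⟩, ⟨0, 0⟩, ⟨0, 0⟩, ⟨0, 0⟩, ⟨0, 0⟩, ⟨0, 0⟩, ⟨0, 0⟩, ⟨0, 0⟩, ⟨0, 0⟩, ⟨0, 0⟩, ⟨0, -2⟩, ⟨0, 0⟩, ⟨0, 0⟩, ⟨0, 0⟩, ⟨-1, 1⟩, ⟨-1, 0⟩, ⟨-1, 1⟩, ⟨-1, 1⟩, ⟨0, 0⟩, ⟨-1, 1⟩, ⟨0, 1⟩, ⟨-1, 1⟩, ⟨0, 1⟩],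
   [⟨0, 0⟩, ⟨0, 0⟩, ⟨0, 0⟩, ⟨0, 0⟩, ⟨0, 0⟩, ⟨0, 0⟩, ⟨0, 0⟩, ⟨0, 0⟩, ⟨0, 0⟩, ⟨0, 0⟩, ⟨4, 0⟩, ⟨0, 0⟩, ⟨0, 0⟩, ⟨0, 0⟩, ⟨0, 0⟩, ⟨0, 0⟩, ⟨0, 0⟩, ⟨0, 0⟩, ⟨0, 0⟩, ⟨0, 0⟩, ⟨0, 0⟩, ⟨0, 0⟩, ⟨0, 0⟩, ⟨0, 0⟩, ⟨0, 0⟩, ⟨0, 0⟩, ⟨0, 0⟩, ⟨0, 0⟩]),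
  ([⟨0, 0⟩, ⟨0, 0⟩, ⟨0, 0⟩, ⟨0, 0⟩, ⟨0, 0⟩, ⟨0, 0⟩, ⟨0, 0⟩, ⟨0, 0⟩, ⟨0, 0⟩, ⟨0, 0⟩, ⟨0, 0⟩, ⟨0, 0⟩, ⟨0, 0⟩, ⟨0, -2⟩, ⟨0, 0⟩, ⟨0, 0⟩, ⟨0, 0⟩, ⟨0, 0⟩, ⟨0, 0⟩, ⟨0, 0⟩, ⟨-1, 1⟩, ⟨0, 1⟩, ⟨-1, 1⟩, ⟨-1, 0⟩, ⟨-1, 0⟩, ⟨0, 0⟩, ⟨-1, 0⟩, ⟨0, 1⟩],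
   [⟨0, 0⟩, ⟨0, 0⟩, ⟨0, 0⟩, ⟨0, 0⟩, ⟨0, 0⟩, ⟨0, 0⟩, ⟨0, 0⟩, ⟨0, 0⟩, ⟨0, 0⟩, ⟨0, 0⟩, ⟨0, 0⟩, ⟨0, 0⟩, ⟨0, 0⟩, ⟨0, 0⟩, ⟨4, 0⟩, ⟨0, 0⟩, ⟨0, 0⟩, ⟨0, 0⟩, ⟨0, 0⟩, ⟨0, 0⟩, ⟨0, 0⟩, ⟨0, 0⟩, ⟨0, 0⟩, ⟨0, 0⟩, ⟨0, 0⟩, ⟨0, 0⟩, ⟨0, 0⟩, ⟨0, 0⟩]),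
  ([⟨0, 0⟩, ⟨0, 0⟩, ⟨0, 0⟩, ⟨0, 0⟩, ⟨0, 0⟩, ⟨0, 0⟩, ⟨0, 0⟩, ⟨0, 0⟩, ⟨0, 0⟩, ⟨0, 0⟩, ⟨0, 0⟩, ⟨0, 0⟩, ⟨0, 0⟩, ⟨0, 0⟩, ⟨0, 0⟩, ⟨0, 0⟩, ⟨0, -2⟩, ⟨0, 0⟩, ⟨0, 0⟩, ⟨0, 0⟩, ⟨-1, 1⟩, ⟨0, 0⟩, ⟨0, 1⟩, ⟨-1, 0⟩, ⟨-1, 0⟩, ⟨0, 1⟩, ⟨-1, 1⟩, ⟨0, 1⟩],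
   [⟨0, 0⟩, ⟨0, 0⟩, ⟨0, 0⟩, ⟨0, 0⟩, ⟨0, 0⟩, ⟨0, 0⟩, ⟨0, 0⟩, ⟨0, 0⟩, ⟨0, 0⟩, ⟨0, 0⟩, ⟨0, 0⟩, ⟨0, 0⟩, ⟨0, 0⟩, ⟨0, 0⟩, ⟨0, 0⟩, ⟨0, 0⟩, ⟨0, 0⟩, ⟨0, 0⟩, ⟨4, 0⟩, ⟨0, 0⟩, ⟨0, 0⟩, ⟨0, 0⟩, ⟨0, 0⟩, ⟨0, 0⟩, ⟨0, 0⟩, ⟨0, 0⟩, ⟨0, 0⟩, ⟨0, 0⟩]),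
  ([⟨0, 0⟩, ⟨0, 0⟩, ⟨0, 0⟩, ⟨0, 0⟩, ⟨0, 0⟩, ⟨0, 0⟩, ⟨0, 0⟩, ⟨0, 0⟩, ⟨0, 0⟩, ⟨0, 0⟩, ⟨0, 0⟩, ⟨0, 0⟩, ⟨0, 0⟩, ⟨0, 0⟩, ⟨0, 0⟩, ⟨0, 0⟩, ⟨0, 0⟩, ⟨0, 0⟩, ⟨0, 0⟩, ⟨0, 0⟩, ⟨0, 0⟩, ⟨0, 0⟩, ⟨0, 0⟩, ⟨0, 0⟩, ⟨-1, 0⟩],
   [⟨0, 0⟩, ⟨0, 0⟩, ⟨0, 0⟩, ⟨0, 0⟩, ⟨0, 0⟩, ⟨0, 0⟩, ⟨0, 0⟩, ⟨0, 0⟩, ⟨0, 0⟩, ⟨0, 0⟩, ⟨0, 0⟩, ⟨0, 0⟩, ⟨0, 0⟩, ⟨0, 0⟩, ⟨0, 0⟩, ⟨0, 0⟩, ⟨0, 0⟩, ⟨0, 0⟩, ⟨0, 0⟩, ⟨0, 0⟩, ⟨0, 0⟩, ⟨0, 0⟩, ⟨0, 0⟩, ⟨-4, 0⟩, ⟨0, 0⟩, ⟨0, 0⟩, ⟨0, 0⟩, ⟨0, 0⟩]),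
  ([⟨0, 0⟩, ⟨0, 0⟩, ⟨0, 0⟩, ⟨0, 0⟩, ⟨0, 0⟩, ⟨0, 0⟩, ⟨0, 0⟩, ⟨0, 0⟩, ⟨0, 0⟩, ⟨0, 0⟩, ⟨0, 0⟩, ⟨0, 0⟩, ⟨0, 0⟩, ⟨0, 0⟩, ⟨0, 0⟩, ⟨0, 0⟩, ⟨0, 0⟩, ⟨0, 0⟩, ⟨0, 0⟩, ⟨0, 0⟩, ⟨0, 0⟩, ⟨0, 0⟩, ⟨0, 0⟩, ⟨1, 0⟩],
   [⟨0, 0⟩, ⟨0, 0⟩, ⟨0, 0⟩, ⟨0, 0⟩, ⟨0, 0⟩, ⟨0, 0⟩, ⟨0, 0⟩, ⟨0, 0⟩, ⟨0, 0⟩, ⟨0, 0⟩, ⟨0, 0⟩, ⟨0, 0⟩, ⟨0, 0⟩, ⟨0, 0⟩, ⟨0, 0⟩, ⟨0, 0⟩, ⟨0, 0⟩, ⟨0, 0⟩, ⟨0, 0⟩, ⟨0, 0⟩, ⟨0, 0⟩, ⟨0, 0⟩, ⟨4, 0⟩, ⟨0, 0⟩, ⟨0, 0⟩, ⟨0, 0⟩, ⟨0, 0⟩, ⟨0, 0⟩]),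
  ([⟨0, 0⟩, ⟨0, 0⟩, ⟨0, 0⟩, ⟨0, 0⟩, ⟨0, 0⟩, ⟨0, 0⟩, ⟨0, 0⟩, ⟨0, 0⟩, ⟨0, 0⟩, ⟨2, 2⟩, ⟨0, 0⟩, ⟨0, 0⟩, ⟨0, 0⟩, ⟨0, 0⟩, ⟨0, 0⟩, ⟨0, 0⟩, ⟨0, 0⟩, ⟨0, 0⟩, ⟨2, 0⟩, ⟨-2, 0⟩, ⟨0, 0⟩, ⟨-2, 0⟩, ⟨0, 0⟩, ⟨-1, -1⟩, ⟨-1, 1⟩, ⟨1, 0⟩, ⟨0, 1⟩, ⟨-2, 1⟩],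
   [⟨0, 0⟩, ⟨0, 0⟩, ⟨0, 0⟩, ⟨0, 0⟩, ⟨0, 0⟩, ⟨0, 0⟩, ⟨0, 0⟩, ⟨0, 0⟩, ⟨0, 0⟩, ⟨0, 0⟩, ⟨0, 0⟩, ⟨0, 0⟩, ⟨0, 0⟩, ⟨0, 0⟩, ⟨0, 0⟩, ⟨0, 0⟩, ⟨0, 0⟩, ⟨0, 0⟩, ⟨0, 0⟩, ⟨0, 0⟩, ⟨0, 0⟩, ⟨0, 0⟩, ⟨0, 0⟩, ⟨0, 0⟩, ⟨0, 4⟩, ⟨0, 0⟩, ⟨0, 0⟩, ⟨0, 0⟩]),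
  ([⟨0, 0⟩, ⟨0, 0⟩, ⟨0, 0⟩, ⟨0, 0⟩, ⟨0, 0⟩, ⟨0, 0⟩, ⟨0, 0⟩, ⟨0, 0⟩, ⟨0, 0⟩, ⟨0, 0⟩, ⟨0, 0⟩, ⟨0, 0⟩, ⟨0, 0⟩, ⟨0, 0⟩, ⟨0, 0⟩, ⟨0, 0⟩, ⟨0, 0⟩, ⟨0, 0⟩, ⟨0, 0⟩, ⟨0, 0⟩, ⟨0, 0⟩, ⟨0, 0⟩, ⟨0, 0⟩, ⟨0, 0⟩, ⟨0, 0⟩, ⟨0, 0⟩, ⟨0, 0⟩, ⟨-1, 0⟩],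
   [⟨0, 0⟩, ⟨0, 0⟩, ⟨0, 0⟩, ⟨0, 0⟩, ⟨0, 0⟩, ⟨0, 0⟩, ⟨0, 0⟩, ⟨0, 0⟩, ⟨0, 0⟩, ⟨0, 0⟩, ⟨0, 0⟩, ⟨0, 0⟩, ⟨0, 0⟩, ⟨0, 0⟩, ⟨0, 0⟩, ⟨0, 0⟩, ⟨0, 0⟩, ⟨0, 0⟩, ⟨0, 0⟩, ⟨0, 0⟩, ⟨0, 0⟩, ⟨0, 0⟩, ⟨0, 0⟩, ⟨0, 0⟩, ⟨0, 0⟩, ⟨0, 0⟩, ⟨0, 0⟩, ⟨-4, 0⟩]),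
  ([⟨0, 0⟩, ⟨0, 0⟩, ⟨0, 0⟩, ⟨0, 0⟩, ⟨0, 0⟩, ⟨0, 0⟩, ⟨0, 0⟩, ⟨0, 0⟩, ⟨0, 0⟩, ⟨0, 0⟩, ⟨0, 0⟩, ⟨0, 0⟩, ⟨0, 0⟩, ⟨0, 0⟩, ⟨0, 0⟩, ⟨0, 0⟩, ⟨0, 0⟩, ⟨0, 0⟩, ⟨0, 0⟩, ⟨0, 0⟩, ⟨0, 0⟩, ⟨0, 0⟩, ⟨0, 0⟩, ⟨0, 0⟩, ⟨0, 0⟩, ⟨0, 0⟩, ⟨1, 0⟩],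
   [⟨0, 0⟩, ⟨0, 0⟩, ⟨0, 0⟩, ⟨0, 0⟩, ⟨0, 0⟩, ⟨0, 0⟩, ⟨0, 0⟩, ⟨0, 0⟩, ⟨0, 0⟩, ⟨0, 0⟩, ⟨0, 0⟩, ⟨0, 0⟩, ⟨0, 0⟩, ⟨0, 0⟩, ⟨0, 0⟩, ⟨0, 0⟩, ⟨0, 0⟩, ⟨0, 0⟩, ⟨0, 0⟩, ⟨0, 0⟩, ⟨0, 0⟩, ⟨0, 0⟩, ⟨0, 0⟩, ⟨0, 0⟩, ⟨0, 0⟩, ⟨0, 0⟩, ⟨4, 0⟩, ⟨0, 0⟩])]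

theorem certRj : ∀ i : Fin (B.map fun u => ruRj (toVec u)).length,
    lincomb (cwRj.getD i ([], [])).1 B = (cwRj.getD i ([], [])).2 ∧
      ∀ p, (B.map fun u => ruRj (toVec u)).getD i 0 p = toVec (cwRj.getD i ([], [])).2 p := by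
  decide +kernel

def cwRk : List (List Gi × List Gi) := [
  ([⟨0, 0⟩, ⟨-1, 0⟩, ⟨-1, 0⟩, ⟨0, 1⟩, ⟨0, 0⟩, ⟨1, -2⟩, ⟨1, 0⟩, ⟨0, 1⟩, ⟨0, 2⟩, ⟨0, -2⟩, ⟨1, 0⟩, ⟨1, -1⟩, ⟨0, 1⟩, ⟨0, -1⟩, ⟨-2, 1⟩, ⟨0, -1⟩, ⟨-4, 0⟩, ⟨-2, 0⟩, ⟨-1, 1⟩, ⟨3, 0⟩, ⟨2, 2⟩, ⟨3, 1⟩, ⟨1, 2⟩, ⟨1, 4⟩, ⟨-1, 1⟩, ⟨0, 2⟩, ⟨1, 4⟩, ⟨3, 1⟩],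
   [⟨0, 0⟩, ⟨-1, 0⟩, ⟨0, 1⟩, ⟨0, 0⟩, ⟨-1, 0⟩, ⟨1, -2⟩, ⟨0, 0⟩, ⟨0, 0⟩, ⟨1, 0⟩, ⟨-2, 1⟩, ⟨0, 0⟩, ⟨0, 0⟩, ⟨0, 0⟩, ⟨-1, -2⟩, ⟨0, 0⟩, ⟨0, -1⟩, ⟨0, 1⟩, ⟨-2, 0⟩, ⟨0, 0⟩, ⟨1, 0⟩, ⟨0, 2⟩, ⟨1, -2⟩, ⟨0, 0⟩, ⟨1, 0⟩, ⟨0, -1⟩, ⟨-2, -1⟩, ⟨0, 1⟩, ⟨2, 1⟩]),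
  ([⟨0, 0⟩, ⟨1, 0⟩, ⟨1, 1⟩, ⟨0, 0⟩, ⟨0, 1⟩, ⟨-2, -2⟩, ⟨0, 1⟩, ⟨1, 0⟩, ⟨1, -1⟩, ⟨0, 0⟩, ⟨1, 0⟩, ⟨0, 1⟩, ⟨-2, -1⟩, ⟨-1, 0⟩, ⟨-1, 0⟩, ⟨-1, 2⟩, ⟨1, 3⟩, ⟨-2, 0⟩, ⟨3, 0⟩, ⟨0, 0⟩, ⟨1, 1⟩, ⟨1, 0⟩, ⟨1, 1⟩, ⟨2, 2⟩, ⟨0, 3⟩, ⟨1, -4⟩, ⟨1, 2⟩, ⟨1, -3⟩],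
   [⟨0, 0⟩, ⟨1, 0⟩, ⟨0, 0⟩, ⟨1, 0⟩, ⟨1, 1⟩, ⟨-2, -2⟩, ⟨0, 0⟩, ⟨0, 0⟩, ⟨0, 1⟩, ⟨-2, 0⟩, ⟨0, 0⟩, ⟨0, -1⟩, ⟨0, 1⟩, ⟨1, -2⟩, ⟨0, 0⟩, ⟨-1, 1⟩, ⟨1, 0⟩, ⟨1, -2⟩, ⟨0, 0⟩, ⟨-1, -1⟩, ⟨1, -1⟩, ⟨-1, 0⟩, ⟨0, 0⟩, ⟨1, 0⟩, ⟨-1, 0⟩, ⟨-2, -2⟩, ⟨0, 0⟩, ⟨0, 1⟩]),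
  ([⟨0, 0⟩, ⟨1, -1⟩, ⟨0, 0⟩, ⟨0, 0⟩, ⟨1, 0⟩, ⟨1, 0⟩, ⟨0, 1⟩, ⟨1, -1⟩, ⟨-1, 2⟩, ⟨2, -2⟩, ⟨2, 1⟩, ⟨3, 0⟩, ⟨-1, 0⟩, ⟨1, 1⟩, ⟨0, -2⟩, ⟨1, 0⟩, ⟨-1, -2⟩, ⟨-2, 2⟩, ⟨0, -2⟩, ⟨3, 0⟩, ⟨-1, 1⟩, ⟨-3, 1⟩, ⟨-1, -1⟩, ⟨0, 1⟩, ⟨1, -1⟩, ⟨-3, -2⟩, ⟨-2, 1⟩, ⟨-2, 0⟩],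
   [⟨0, 0⟩, ⟨1, -1⟩, ⟨0, 0⟩, ⟨0, 0⟩, ⟨0, 0⟩, ⟨1, 0⟩, ⟨0, 1⟩, ⟨0, 0⟩, ⟨0, 1⟩, ⟨-1, 0⟩, ⟨0, 0⟩, ⟨-1, 1⟩, ⟨1, 0⟩, ⟨-1, 0⟩, ⟨0, 0⟩, ⟨1, 1⟩, ⟨1, -1⟩, ⟨0, -1⟩, ⟨0, 0⟩, ⟨0, -1⟩, ⟨-1, 2⟩, ⟨-2, -2⟩, ⟨0, 0⟩, ⟨0, 1⟩, ⟨1, 0⟩, ⟨0, 0⟩, ⟨0, -1⟩, ⟨2, 2⟩]),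
  ([⟨0, 1⟩, ⟨0, 1⟩, ⟨0, -1⟩, ⟨0, 0⟩, ⟨1, 0⟩, ⟨1, 0⟩, ⟨-1, 1⟩, ⟨1, 1⟩, ⟨0, 2⟩, ⟨2, -4⟩, ⟨0, 1⟩, ⟨1, 1⟩, ⟨0, 0⟩, ⟨0, 0⟩, ⟨2, -1⟩, ⟨0, -1⟩, ⟨-3, -2⟩, ⟨-1, 1⟩, ⟨0, -3⟩, ⟨5, 3⟩, ⟨-1, 2⟩, ⟨1, 2⟩, ⟨0, 1⟩, ⟨-2, 2⟩, ⟨2, 1⟩, ⟨1, -2⟩, ⟨1, 1⟩, ⟨5, 2⟩],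
   [⟨0, 1⟩, ⟨0, 1⟩, ⟨0, 0⟩, ⟨0, 0⟩, ⟨0, -1⟩, ⟨1, 0⟩, ⟨0, 0⟩, ⟨0, 0⟩, ⟨-1, 1⟩, ⟨-2, 1⟩, ⟨0, 0⟩, ⟨0, 1⟩, ⟨1, 0⟩, ⟨0, -2⟩, ⟨0, 0⟩, ⟨0, -1⟩, ⟨1, 1⟩, ⟨1, 0⟩, ⟨0, 0⟩, ⟨0, -1⟩, ⟨0, 2⟩, ⟨-1, 1⟩, ⟨0, 0⟩, ⟨0, 0⟩, ⟨1, 0⟩, ⟨1, -1⟩, ⟨0, 0⟩, ⟨0, -1⟩]),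
  ([⟨0, 0⟩, ⟨-2, 0⟩, ⟨1, 1⟩, ⟨0, 0⟩, ⟨0, 1⟩, ⟨1, 1⟩, ⟨0, 0⟩, ⟨0, 0⟩, ⟨1, -1⟩, ⟨0, 0⟩, ⟨-2, 0⟩, ⟨-1, -1⟩, ⟨0, 1⟩, ⟨1, 0⟩, ⟨-1, 1⟩, ⟨-2, -1⟩, ⟨0, 0⟩, ⟨0, -3⟩, ⟨0, -2⟩, ⟨0, 7⟩, ⟨0, 1⟩, ⟨1, 4⟩, ⟨3, 3⟩, ⟨-1, 1⟩, ⟨2, 2⟩, ⟨1, 0⟩, ⟨1, 2⟩, ⟨4, 4⟩],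
   [⟨0, 0⟩, ⟨-2, 0⟩, ⟨0, 0⟩, ⟨0, 0⟩, ⟨1, 1⟩, ⟨1, 1⟩, ⟨0, 0⟩, ⟨0, 0⟩, ⟨0, 0⟩, ⟨1, 1⟩, ⟨0, 0⟩, ⟨-1, -1⟩, ⟨0, 1⟩, ⟨0, -1⟩, ⟨0, 1⟩, ⟨-1, 0⟩, ⟨0, 0⟩, ⟨1, -1⟩, ⟨0, 0⟩, ⟨1, -1⟩, ⟨1, -1⟩, ⟨0, 0⟩, ⟨0, 0⟩, ⟨1, 1⟩, ⟨0, -1⟩, ⟨-1, -2⟩, ⟨0, -1⟩, ⟨0, 1⟩]),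
  ([⟨0, 0⟩, ⟨-1, 1⟩, ⟨0, 1⟩, ⟨0, 0⟩, ⟨1, 0⟩, ⟨1, 1⟩, ⟨-1, 0⟩, ⟨-1, -1⟩, ⟨0, -1⟩, ⟨1, 3⟩, ⟨-1, 1⟩, ⟨1, 1⟩, ⟨1, -1⟩, ⟨0, 1⟩, ⟨1, 2⟩, ⟨-2, -1⟩, ⟨1, 1⟩, ⟨-1, -2⟩, ⟨-1, 0⟩, ⟨1, 4⟩, ⟨3, -5⟩, ⟨0, -2⟩, ⟨3, -1⟩, ⟨0, -2⟩, ⟨4, -1⟩, ⟨1, -2⟩, ⟨1, 1⟩, ⟨1, -2⟩],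
   [⟨0, 0⟩, ⟨-1, 1⟩, ⟨0, 0⟩, ⟨0, 0⟩, ⟨0, 1⟩, ⟨1, 1⟩, ⟨0, 0⟩, ⟨1, 0⟩, ⟨-1, 0⟩, ⟨-1, 0⟩, ⟨0, 0⟩, ⟨0, 0⟩, ⟨1, 0⟩, ⟨0, 1⟩, ⟨0, 0⟩, ⟨0, 0⟩, ⟨-1, -1⟩, ⟨1, 0⟩, ⟨0, 0⟩, ⟨-1, 0⟩, ⟨0, -1⟩, ⟨0, -2⟩, ⟨0, 0⟩, ⟨-1, 0⟩, ⟨-1, 1⟩, ⟨0, 1⟩, ⟨0, 0⟩, ⟨1, 0⟩]),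
  ([⟨0, 0⟩, ⟨0, 0⟩, ⟨0, 0⟩, ⟨0, 0⟩, ⟨0, 0⟩, ⟨0, -2⟩, ⟨0, 1⟩, ⟨0, 0⟩, ⟨1, 1⟩, ⟨0, -2⟩, ⟨1, 0⟩, ⟨1, -1⟩, ⟨-1, 0⟩, ⟨0, -1⟩, ⟨0, -1⟩, ⟨0, 0⟩, ⟨-2, 1⟩, ⟨-1, 1⟩, ⟨0, 0⟩, ⟨2, -1⟩, ⟨-1, 1⟩, ⟨0, 2⟩, ⟨-1, 1⟩, ⟨0, 2⟩, ⟨-1, 0⟩, ⟨-1, 0⟩, ⟨0, 2⟩, ⟨2, 0⟩],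
   [⟨0, 0⟩, ⟨0, 0⟩, ⟨0, 0⟩, ⟨0, 0⟩, ⟨0, 0⟩, ⟨0, -2⟩, ⟨0, 0⟩, ⟨0, 0⟩, ⟨0, 1⟩, ⟨0, 1⟩, ⟨0, 1⟩, ⟨-1, 0⟩, ⟨0, 0⟩, ⟨0, -2⟩, ⟨0, 0⟩, ⟨0, 0⟩, ⟨0, 0⟩, ⟨1, 1⟩, ⟨0, 0⟩, ⟨-1, 1⟩, ⟨1, 1⟩, ⟨-2, 0⟩, ⟨0, 0⟩, ⟨1, 1⟩, ⟨0, -1⟩, ⟨0, -1⟩, ⟨-1, 0⟩, ⟨2, -1⟩]),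
  ([⟨0, 0⟩, ⟨0, -2⟩, ⟨0, 0⟩, ⟨0, 0⟩, ⟨0, 0⟩, ⟨0, -2⟩, ⟨0, 0⟩, ⟨-1, 0⟩, ⟨1, -1⟩, ⟨0, 2⟩, ⟨2, -1⟩, ⟨0, -2⟩, ⟨-2, 2⟩, ⟨1, -1⟩, ⟨-2, -1⟩, ⟨0, 1⟩, ⟨0, 1⟩, ⟨1, 0⟩, ⟨1, 1⟩, ⟨-3, -2⟩, ⟨-1, 2⟩, ⟨-1, 2⟩, ⟨0, -1⟩, ⟨1, -1⟩, ⟨-3, -1⟩, ⟨-1, 2⟩, ⟨-1, 2⟩, ⟨-4, 0⟩],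
   [⟨0, 0⟩, ⟨0, -2⟩, ⟨0, 0⟩, ⟨0, 0⟩, ⟨0, 0⟩, ⟨0, -2⟩, ⟨0, 0⟩, ⟨0, 0⟩, ⟨0, 0⟩, ⟨1, 1⟩, ⟨0, 0⟩, ⟨1, 1⟩, ⟨0, 0⟩, ⟨-2, -2⟩, ⟨0, 0⟩, ⟨0, 0⟩, ⟨-1, 0⟩, ⟨1, 0⟩, ⟨0, 1⟩, ⟨-1, 0⟩, ⟨1, -1⟩, ⟨-1, 1⟩, ⟨0, 0⟩, ⟨0, 0⟩, ⟨-1, 2⟩, ⟨0, -1⟩, ⟨-1, 0⟩, ⟨-1, 2⟩]),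
  ([⟨0, 0⟩, ⟨0, -2⟩, ⟨0, 0⟩, ⟨0, 0⟩, ⟨0, 0⟩, ⟨-2, -2⟩, ⟨-1, -1⟩, ⟨-1, 1⟩, ⟨0, 1⟩, ⟨2, 0⟩, ⟨2, -2⟩, ⟨-1, -2⟩, ⟨-2, 1⟩, ⟨0, -1⟩, ⟨-1, 1⟩, ⟨3, 0⟩, ⟨0, 0⟩, ⟨0, 2⟩, ⟨3, 1⟩, ⟨-5, -2⟩, ⟨-2, 1⟩, ⟨-3, 2⟩, ⟨-4, -1⟩, ⟨2, 0⟩, ⟨-4, 2⟩, ⟨0, 3⟩, ⟨-1, 2⟩, ⟨-6, 4⟩],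
   [⟨0, 0⟩, ⟨0, -2⟩, ⟨0, 0⟩, ⟨0, 0⟩, ⟨0, 0⟩, ⟨-2, -2⟩, ⟨0, 0⟩, ⟨0, 0⟩, ⟨-1, -1⟩, ⟨0, -2⟩, ⟨0, 0⟩, ⟨-1, 1⟩, ⟨0, 0⟩, ⟨0, -2⟩, ⟨0, 0⟩, ⟨0, 0⟩, ⟨-1, 1⟩, ⟨1, 1⟩, ⟨0, 0⟩, ⟨0, 0⟩, ⟨0, 1⟩, ⟨-1, -2⟩, ⟨0, 1⟩, ⟨0, -1⟩, ⟨1, 0⟩, ⟨1, 0⟩, ⟨-1, 0⟩, ⟨0, -1⟩]),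
  ([⟨0, 0⟩, ⟨0, -2⟩, ⟨0, 0⟩, ⟨0, 0⟩, ⟨0, 0⟩, ⟨-2, 0⟩, ⟨0, 0⟩, ⟨0, 0⟩, ⟨0, 2⟩, ⟨1, -2⟩, ⟨1, -2⟩, ⟨0, -2⟩, ⟨-1, 2⟩, ⟨0, 0⟩, ⟨-2, 0⟩, ⟨3, -1⟩, ⟨0, -1⟩, ⟨1, 2⟩, ⟨2, -1⟩, ⟨-4, -1⟩, ⟨-1, 2⟩, ⟨-2, 3⟩, ⟨-4, 1⟩, ⟨1, 0⟩, ⟨-2, 2⟩, ⟨-2, 2⟩, ⟨-1, 2⟩, ⟨-5, 5⟩],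
   [⟨0, 0⟩, ⟨0, -2⟩, ⟨0, 0⟩, ⟨0, 0⟩, ⟨0, 0⟩, ⟨-2, 0⟩, ⟨0, 0⟩, ⟨0, 0⟩, ⟨0, 0⟩, ⟨0, -2⟩, ⟨0, 0⟩, ⟨0, 0⟩, ⟨0, 0⟩, ⟨-2, 0⟩, ⟨0, 0⟩, ⟨0, 0⟩, ⟨0, 0⟩, ⟨0, -2⟩, ⟨0, 0⟩, ⟨0, 0⟩, ⟨0, 2⟩, ⟨0, 0⟩, ⟨0, 0⟩, ⟨0, 0⟩, ⟨1, -1⟩, ⟨-1, 1⟩, ⟨-1, 1⟩, ⟨-1, 1⟩]),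
  ([⟨0, 0⟩, ⟨0, 0⟩, ⟨-2, 0⟩, ⟨0, 0⟩, ⟨0, 0⟩, ⟨0, -2⟩, ⟨0, 0⟩, ⟨0, 0⟩, ⟨0, 0⟩, ⟨0, 2⟩, ⟨1, 0⟩, ⟨1, 1⟩, ⟨1, -1⟩, ⟨-1, -1⟩, ⟨-2, 0⟩, ⟨0, 0⟩, ⟨-2, 2⟩, ⟨-1, 1⟩, ⟨0, 2⟩, ⟨0, -3⟩, ⟨4, 1⟩, ⟨1, -2⟩, ⟨0, 0⟩, ⟨1, 1⟩, ⟨-1, 2⟩, ⟨3, 0⟩, ⟨0, 2⟩, ⟨0, -3⟩],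
   [⟨0, 0⟩, ⟨0, 0⟩, ⟨0, 0⟩, ⟨0, 0⟩, ⟨-2, 0⟩, ⟨0, -2⟩, ⟨0, 0⟩, ⟨0, 0⟩, ⟨0, 0⟩, ⟨0, 0⟩, ⟨0, 0⟩, ⟨0, 0⟩, ⟨0, 0⟩, ⟨0, 0⟩, ⟨0, 0⟩, ⟨0, 0⟩, ⟨0, 0⟩, ⟨0, 0⟩, ⟨0, 0⟩, ⟨0, 0⟩, ⟨0, 0⟩, ⟨-2, -2⟩, ⟨0, 0⟩, ⟨0, 0⟩, ⟨0, 2⟩, ⟨-2, -2⟩, ⟨0, 0⟩, ⟨2, 0⟩]),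
  ([⟨0, 0⟩, ⟨0, 0⟩, ⟨0, 0⟩, ⟨0, 0⟩, ⟨0, 0⟩, ⟨0, 0⟩, ⟨0, 0⟩, ⟨0, 0⟩, ⟨0, 2⟩, ⟨1, -1⟩, ⟨0, 0⟩, ⟨0, -1⟩, ⟨-1, 1⟩, ⟨0, 0⟩, ⟨0, 0⟩, ⟨1, -1⟩, ⟨-1, -1⟩, ⟨-1, 1⟩, ⟨1, 0⟩, ⟨0, 0⟩, ⟨-1, 1⟩, ⟨-1, 2⟩, ⟨-1, 1⟩, ⟨1, 1⟩, ⟨0, 1⟩, ⟨-1, 1⟩, ⟨0, 2⟩, ⟨0, 3⟩],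
   [⟨0, 0⟩, ⟨0, 0⟩, ⟨0, 0⟩, ⟨0, 0⟩, ⟨0, 0⟩, ⟨0, 0⟩, ⟨0, 0⟩, ⟨0, 0⟩, ⟨0, 0⟩, ⟨0, -2⟩, ⟨0, 0⟩, ⟨0, 2⟩, ⟨0, 0⟩, ⟨-2, -2⟩, ⟨0, 0⟩, ⟨0, 0⟩, ⟨0, 0⟩, ⟨0, 0⟩, ⟨0, 0⟩, ⟨0, 0⟩, ⟨0, 2⟩, ⟨0, -2⟩, ⟨0, 0⟩, ⟨0, 0⟩, ⟨0, 0⟩, ⟨-2, -2⟩, ⟨0, 0⟩, ⟨2, 2⟩]),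
  ([⟨0, 0⟩, ⟨0, 0⟩, ⟨0, 0⟩, ⟨0, 0⟩, ⟨0, 0⟩, ⟨0, 0⟩, ⟨0, 0⟩, ⟨0, 0⟩, ⟨-2, 2⟩, ⟨1, 1⟩, ⟨0, 0⟩, ⟨2, 0⟩, ⟨-1, 0⟩, ⟨0, 0⟩, ⟨-1, 1⟩, ⟨2, 0⟩, ⟨0, -2⟩, ⟨-2, 2⟩, ⟨1, 2⟩, ⟨1, -2⟩, ⟨0, -1⟩, ⟨-2, -1⟩, ⟨-2, 0⟩, ⟨1, 0⟩, ⟨0, 0⟩, ⟨-1, 0⟩, ⟨-1, 2⟩, ⟨-4, 0⟩],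
   [⟨0, 0⟩, ⟨0, 0⟩, ⟨0, 0⟩, ⟨0, 0⟩, ⟨0, 0⟩, ⟨0, 0⟩, ⟨0, 0⟩, ⟨0, 0⟩, ⟨0, 0⟩, ⟨0, 0⟩, ⟨0, 0⟩, ⟨0, 0⟩, ⟨0, 0⟩, ⟨0, -2⟩, ⟨0, 0⟩, ⟨0, 2⟩, ⟨0, 0⟩, ⟨-2, -2⟩, ⟨0, 0⟩, ⟨0, 0⟩, ⟨-2, 2⟩, ⟨-2, -2⟩, ⟨0, 0⟩, ⟨0, 0⟩, ⟨-2, 0⟩, ⟨-2, 0⟩, ⟨0, 0⟩, ⟨0, 0⟩]),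
  ([⟨0, 0⟩, ⟨0, 0⟩, ⟨0, 0⟩, ⟨0, 0⟩, ⟨-2, 0⟩, ⟨0, 0⟩, ⟨0, 0⟩, ⟨0, 0⟩, ⟨-2, 0⟩, ⟨-1, 3⟩, ⟨-1, -1⟩, ⟨-1, 3⟩, ⟨0, 2⟩, ⟨0, -1⟩, ⟨-2, 0⟩, ⟨1, 1⟩, ⟨1, -1⟩, ⟨-1, -1⟩, ⟨1, 4⟩, ⟨-2, -2⟩, ⟨0, 1⟩, ⟨2, -2⟩, ⟨-2, -1⟩, ⟨1, -3⟩, ⟨-1, 0⟩, ⟨2, 1⟩, ⟨-2, 1⟩, ⟨-2, -2⟩],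
   [⟨0, 0⟩, ⟨0, 0⟩, ⟨0, 0⟩, ⟨0, 0⟩, ⟨0, 0⟩, ⟨0, 0⟩, ⟨0, 0⟩, ⟨0, 0⟩, ⟨0, 0⟩, ⟨-2, -2⟩, ⟨0, 0⟩, ⟨0, 0⟩, ⟨-2, 0⟩, ⟨-2, 0⟩, ⟨0, 0⟩, ⟨0, 0⟩, ⟨0, 0⟩, ⟨-2, -2⟩, ⟨0, 0⟩, ⟨0, 0⟩, ⟨-2, 0⟩, ⟨0, -2⟩, ⟨0, 0⟩, ⟨0, 0⟩, ⟨-2, 0⟩, ⟨-2, 0⟩, ⟨0, 0⟩, ⟨0, 0⟩]),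
  ([⟨0, 0⟩, ⟨0, 0⟩, ⟨0, 0⟩, ⟨0, 0⟩, ⟨0, 0⟩, ⟨0, 0⟩, ⟨0, 0⟩, ⟨0, 0⟩, ⟨-2, 0⟩, ⟨0, 2⟩, ⟨0, 0⟩, ⟨0, 2⟩, ⟨-1, 1⟩, ⟨0, 0⟩, ⟨-1, 0⟩, ⟨1, 1⟩, ⟨1, -1⟩, ⟨-2, 0⟩, ⟨0, 2⟩, ⟨1, -1⟩, ⟨1, 0⟩, ⟨1, -2⟩, ⟨0, -1⟩, ⟨2, -1⟩, ⟨1, 0⟩, ⟨1, 0⟩, ⟨-1, 1⟩, ⟨-1, -3⟩],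
   [⟨0, 0⟩, ⟨0, 0⟩, ⟨0, 0⟩, ⟨0, 0⟩, ⟨0, 0⟩, ⟨0, 0⟩, ⟨0, 0⟩, ⟨0, 0⟩, ⟨0, 0⟩, ⟨-2, -2⟩, ⟨0, 0⟩, ⟨0, 0⟩, ⟨0, 0⟩, ⟨-2, -2⟩, ⟨0, 0⟩, ⟨0, 0⟩, ⟨0, 0⟩, ⟨0, -2⟩, ⟨0, 0⟩, ⟨0, 2⟩, ⟨-2, 0⟩, ⟨0, -2⟩, ⟨0, 0⟩, ⟨0, 0⟩, ⟨-2, 0⟩, ⟨0, 0⟩, ⟨0, 0⟩, ⟨2, 0⟩]),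
  ([⟨0, 0⟩, ⟨0, 0⟩, ⟨0, 0⟩, ⟨0, 0⟩, ⟨0, 0⟩, ⟨-2, -2⟩, ⟨-2, 0⟩, ⟨0, 0⟩, ⟨0, 0⟩, ⟨1, 3⟩, ⟨1, -1⟩, ⟨-1, 1⟩, ⟨-1, 1⟩, ⟨-1, -1⟩, ⟨-1, 3⟩, ⟨1, 0⟩, ⟨0, 2⟩, ⟨-1, 1⟩, ⟨3, 2⟩, ⟨-3, -2⟩, ⟨3, -1⟩, ⟨1, -1⟩, ⟨0, -1⟩, ⟨4, -2⟩, ⟨0, 3⟩, ⟨3, -1⟩, ⟨1, 3⟩, ⟨-2, -1⟩],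
   [⟨0, 0⟩, ⟨0, 0⟩, ⟨0, 0⟩, ⟨0, 0⟩, ⟨0, 0⟩, ⟨-2, -2⟩, ⟨0, 0⟩, ⟨0, 0⟩, ⟨-2, 0⟩, ⟨0, -2⟩, ⟨0, 0⟩, ⟨0, 0⟩, ⟨0, 0⟩, ⟨-2, -2⟩, ⟨0, 0⟩, ⟨0, 0⟩, ⟨0, 0⟩, ⟨-2, -2⟩, ⟨0, 0⟩, ⟨0, 0⟩, ⟨0, 0⟩, ⟨-2, -2⟩, ⟨0, 0⟩, ⟨0, 0⟩, ⟨-2, 2⟩, ⟨-2, 0⟩, ⟨0, 0⟩, ⟨2, 0⟩]),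
  ([⟨0, 0⟩, ⟨0, 0⟩, ⟨0, 0⟩, ⟨0, 0⟩, ⟨0, 0⟩, ⟨0, 0⟩, ⟨0, 0⟩, ⟨-2, 0⟩, ⟨-2, 0⟩, ⟨2, 4⟩, ⟨0, 0⟩, ⟨1, 1⟩, ⟨0, 0⟩, ⟨0, 0⟩, ⟨0, 2⟩, ⟨1, 1⟩, ⟨2, -1⟩, ⟨-2, 0⟩, ⟨1, 3⟩, ⟨-1, -1⟩, ⟨0, -4⟩, ⟨-1, -4⟩, ⟨-1, -3⟩, ⟨0, -3⟩, ⟨0, -2⟩, ⟨-1, 0⟩, ⟨0, 1⟩, ⟨-5, -2⟩],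
   [⟨0, 0⟩, ⟨0, 0⟩, ⟨0, 0⟩, ⟨0, 0⟩, ⟨0, 0⟩, ⟨0, 0⟩, ⟨0, 0⟩, ⟨0, 0⟩, ⟨0, 0⟩, ⟨-2, -2⟩, ⟨0, 0⟩, ⟨0, 0⟩, ⟨0, 0⟩, ⟨0, 0⟩, ⟨0, 0⟩, ⟨0, 0⟩, ⟨-2, 0⟩, ⟨-2, 0⟩, ⟨0, 0⟩, ⟨0, 0⟩, ⟨-2, 0⟩, ⟨0, -2⟩, ⟨0, 0⟩, ⟨0, 0⟩, ⟨-2, 2⟩, ⟨-2, 0⟩, ⟨0, 0⟩, ⟨2, 0⟩]),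
  ([⟨0, 0⟩, ⟨0, 0⟩, ⟨0, 0⟩, ⟨0, 0⟩, ⟨0, 0⟩, ⟨-2, -2⟩, ⟨0, 0⟩, ⟨0, 0⟩, ⟨-2, 2⟩, ⟨1, 1⟩, ⟨1, -1⟩, ⟨2, 0⟩, ⟨0, 0⟩, ⟨-1, -1⟩, ⟨-1, 1⟩, ⟨3, 1⟩, ⟨0, 0⟩, ⟨-3, 2⟩, ⟨2, 3⟩, ⟨0, -4⟩, ⟨1, -1⟩, ⟨-2, -3⟩, ⟨-4, -2⟩, ⟨1, 0⟩, ⟨-3, 1⟩, ⟨-1, 0⟩, ⟨-1, 2⟩, ⟨-6, -1⟩],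
   [⟨0, 0⟩, ⟨0, 0⟩, ⟨0, 0⟩, ⟨0, 0⟩, ⟨0, 0⟩, ⟨-2, -2⟩, ⟨0, 0⟩, ⟨0, 0⟩, ⟨0, 0⟩, ⟨0, 0⟩, ⟨0, 0⟩, ⟨0, 0⟩, ⟨0, 0⟩, ⟨0, 0⟩, ⟨0, 0⟩, ⟨0, 0⟩, ⟨0, 0⟩, ⟨0, 0⟩, ⟨0, 0⟩, ⟨0, 0⟩, ⟨-2, 2⟩, ⟨0, -2⟩, ⟨0, 0⟩, ⟨0, 2⟩, ⟨-2, 0⟩, ⟨0, 0⟩, ⟨0, 0⟩, ⟨0, 2⟩]),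
  ([⟨0, 0⟩, ⟨-2, 2⟩, ⟨0, 0⟩, ⟨0, 0⟩, ⟨0, 0⟩, ⟨-2, 2⟩, ⟨0, 0⟩, ⟨0, 0⟩, ⟨0, 0⟩, ⟨0, 0⟩, ⟨-3, -1⟩, ⟨0, 2⟩, ⟨3, 1⟩, ⟨-2, 0⟩, ⟨2, 4⟩, ⟨0, -2⟩, ⟨1, 1⟩, ⟨1, 1⟩, ⟨0, -1⟩, ⟨0, 2⟩, ⟨4, -4⟩, ⟨3, -3⟩, ⟨1, 1⟩, ⟨0, -4⟩, ⟨5, 1⟩, ⟨2, -2⟩, ⟨5, -1⟩, ⟨3, 1⟩],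
   [⟨0, 0⟩, ⟨-2, 2⟩, ⟨0, 0⟩, ⟨0, 0⟩, ⟨0, 0⟩, ⟨-2, 2⟩, ⟨0, 0⟩, ⟨0, 0⟩, ⟨0, 0⟩, ⟨-2, 2⟩, ⟨0, 0⟩, ⟨0, 0⟩, ⟨0, 0⟩, ⟨-2, 2⟩, ⟨0, 0⟩, ⟨0, 0⟩, ⟨0, 0⟩, ⟨-2, 2⟩, ⟨0, 0⟩, ⟨0, 0⟩, ⟨0, 0⟩, ⟨-2, 2⟩, ⟨0, 0⟩, ⟨0, 0⟩, ⟨0, 0⟩, ⟨-2, 2⟩, ⟨0, 0⟩, ⟨0, 0⟩]),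
  ([⟨0, 0⟩, ⟨0, 0⟩, ⟨0, 0⟩, ⟨0, 0⟩, ⟨0, 0⟩, ⟨-4, 0⟩, ⟨0, 0⟩, ⟨0, 0⟩, ⟨0, 0⟩, ⟨0, 0⟩, ⟨0, -2⟩, ⟨0, 0⟩, ⟨0, 0⟩, ⟨-2, 0⟩, ⟨0, 2⟩, ⟨2, 0⟩, ⟨2, 2⟩, ⟨0, 2⟩, ⟨2, 0⟩, ⟨-3, -2⟩, ⟨2, -2⟩, ⟨0, -2⟩, ⟨-2, 0⟩, ⟨2, -1⟩, ⟨0, 3⟩, ⟨0, -1⟩, ⟨2, 0⟩, ⟨-3, 0⟩],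
   [⟨0, 0⟩, ⟨0, 0⟩, ⟨0, 0⟩, ⟨0, 0⟩, ⟨0, 0⟩, ⟨-4, 0⟩, ⟨0, 0⟩, ⟨0, 0⟩, ⟨0, 0⟩, ⟨0, 0⟩, ⟨0, 0⟩, ⟨0, 0⟩, ⟨0, 0⟩, ⟨0, 0⟩, ⟨0, 0⟩, ⟨0, 0⟩, ⟨0, 0⟩, ⟨0, 0⟩, ⟨0, 0⟩, ⟨0, 0⟩, ⟨0, 0⟩, ⟨0, 0⟩, ⟨0, 0⟩, ⟨0, 0⟩, ⟨0, 0⟩, ⟨0, 0⟩, ⟨0, 0⟩, ⟨0, 0⟩]),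
  ([⟨0, 0⟩, ⟨0, 0⟩, ⟨0, 0⟩, ⟨0, 0⟩, ⟨0, 0⟩, ⟨0, 0⟩, ⟨0, 0⟩, ⟨0, 0⟩, ⟨0, 0⟩, ⟨0, 0⟩, ⟨0, 0⟩, ⟨0, 2⟩, ⟨0, 0⟩, ⟨0, 0⟩, ⟨0, 0⟩, ⟨0, 0⟩, ⟨0, 0⟩, ⟨0, 0⟩, ⟨0, 0⟩, ⟨0, 0⟩, ⟨1, 0⟩, ⟨1, -1⟩, ⟨0, 0⟩, ⟨0, -1⟩, ⟨1, 0⟩, ⟨1, -1⟩, ⟨0, 0⟩, ⟨1, -1⟩],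
   [⟨0, 0⟩, ⟨0, 0⟩, ⟨0, 0⟩, ⟨0, 0⟩, ⟨0, 0⟩, ⟨0, 0⟩, ⟨0, 0⟩, ⟨0, 0⟩, ⟨0, 0⟩, ⟨-4, 0⟩, ⟨0, 0⟩, ⟨0, 0⟩, ⟨0, 0⟩, ⟨0, 0⟩, ⟨0, 0⟩, ⟨0, 0⟩, ⟨0, 0⟩, ⟨0, 0⟩, ⟨0, 0⟩, ⟨0, 0⟩, ⟨0, 0⟩, ⟨0, 0⟩, ⟨0, 0⟩, ⟨0, 0⟩, ⟨0, 0⟩, ⟨0, 0⟩, ⟨0, 0⟩, ⟨0, 0⟩]),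
  ([⟨0, 0⟩, ⟨0, 0⟩, ⟨0, 0⟩, ⟨0, 0⟩, ⟨0, 0⟩, ⟨0, 0⟩, ⟨0, 0⟩, ⟨0, 0⟩, ⟨0, 0⟩, ⟨0, 0⟩, ⟨0, 0⟩, ⟨0, 0⟩, ⟨0, 2⟩, ⟨0, 0⟩, ⟨0, 0⟩, ⟨0, 0⟩, ⟨0, 0⟩, ⟨0, 0⟩, ⟨0, 0⟩, ⟨0, 0⟩, ⟨0, 0⟩, ⟨1, 0⟩, ⟨1, -1⟩, ⟨1, -1⟩, ⟨1, -1⟩, ⟨0, 0⟩, ⟨1, 0⟩, ⟨0, -1⟩],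
   [⟨0, 0⟩, ⟨0, 0⟩, ⟨0, 0⟩, ⟨0, 0⟩, ⟨0, 0⟩, ⟨0, 0⟩, ⟨0, 0⟩, ⟨0, 0⟩, ⟨0, 0⟩, ⟨0, 0⟩, ⟨0, 0⟩, ⟨0, 0⟩, ⟨0, 0⟩, ⟨-4, 0⟩, ⟨0, 0⟩, ⟨0, 0⟩, ⟨0, 0⟩, ⟨0, 0⟩, ⟨0, 0⟩, ⟨0, 0⟩, ⟨0, 0⟩, ⟨0, 0⟩, ⟨0, 0⟩, ⟨0, 0⟩, ⟨0, 0⟩, ⟨0, 0⟩, ⟨0, 0⟩, ⟨0, 0⟩]),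
  ([⟨0, 0⟩, ⟨0, 0⟩, ⟨0, 0⟩, ⟨0, 0⟩, ⟨0, 0⟩, ⟨0, 0⟩, ⟨0, 0⟩, ⟨0, 0⟩, ⟨0, 0⟩, ⟨0, 0⟩, ⟨0, 0⟩, ⟨0, 0⟩, ⟨0, 0⟩, ⟨0, 0⟩, ⟨0, 2⟩, ⟨0, 0⟩, ⟨0, 0⟩, ⟨0, 0⟩, ⟨0, 0⟩, ⟨0, 0⟩, ⟨1, -1⟩, ⟨1, -1⟩, ⟨1, 0⟩, ⟨1, 0⟩, ⟨1, 0⟩, ⟨0, -1⟩, ⟨1, 0⟩],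
   [⟨0, 0⟩, ⟨0, 0⟩, ⟨0, 0⟩, ⟨0, 0⟩, ⟨0, 0⟩, ⟨0, 0⟩, ⟨0, 0⟩, ⟨0, 0⟩, ⟨0, 0⟩, ⟨0, 0⟩, ⟨0, 0⟩, ⟨0, 0⟩, ⟨0, 0⟩, ⟨0, 0⟩, ⟨0, 0⟩, ⟨0, 0⟩, ⟨0, 0⟩, ⟨-4, 0⟩, ⟨0, 0⟩, ⟨0, 0⟩, ⟨0, 0⟩, ⟨0, 0⟩, ⟨0, 0⟩, ⟨0, 0⟩, ⟨0, 0⟩, ⟨0, 0⟩, ⟨0, 0⟩, ⟨0, 0⟩]),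
  ([⟨0, 0⟩, ⟨0, 0⟩, ⟨0, 0⟩, ⟨0, 0⟩, ⟨0, 0⟩, ⟨0, 0⟩, ⟨0, 0⟩, ⟨0, 0⟩, ⟨0, 4⟩, ⟨2, -2⟩, ⟨0, 0⟩, ⟨2, -2⟩, ⟨0, 0⟩, ⟨0, 0⟩, ⟨0, 0⟩, ⟨2, -2⟩, ⟨-2, -2⟩, ⟨0, 2⟩, ⟨2, 0⟩, ⟨-1, -1⟩, ⟨-2, 0⟩, ⟨-4, 2⟩, ⟨-4, 2⟩, ⟨-2, 1⟩, ⟨-2, 0⟩, ⟨-2, 1⟩, ⟨-1, 2⟩, ⟨-3, 5⟩],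
   [⟨0, 0⟩, ⟨0, 0⟩, ⟨0, 0⟩, ⟨0, 0⟩, ⟨0, 0⟩, ⟨0, 0⟩, ⟨0, 0⟩, ⟨0, 0⟩, ⟨0, 0⟩, ⟨0, 0⟩, ⟨0, 0⟩, ⟨0, 0⟩, ⟨0, 0⟩, ⟨0, 0⟩, ⟨0, 0⟩, ⟨0, 0⟩, ⟨0, 0⟩, ⟨0, 0⟩, ⟨0, 0⟩, ⟨0, 0⟩, ⟨0, 4⟩, ⟨0, 0⟩, ⟨0, 0⟩, ⟨0, 0⟩, ⟨0, 0⟩, ⟨0, 0⟩, ⟨0, 0⟩, ⟨0, 0⟩]),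
  ([⟨0, 0⟩, ⟨0, 0⟩, ⟨0, 0⟩, ⟨0, 0⟩, ⟨0, 0⟩, ⟨0, 0⟩, ⟨0, 0⟩, ⟨0, 0⟩, ⟨0, 0⟩, ⟨0, 0⟩, ⟨0, 0⟩, ⟨0, 0⟩, ⟨0, 0⟩, ⟨0, 0⟩, ⟨0, 0⟩, ⟨0, 0⟩, ⟨0, 0⟩, ⟨0, 2⟩, ⟨0, 0⟩, ⟨1, -1⟩, ⟨0, 0⟩, ⟨0, 0⟩, ⟨0, 0⟩, ⟨1, -1⟩, ⟨1, 0⟩, ⟨1, 0⟩, ⟨1, 0⟩],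
   [⟨0, 0⟩, ⟨0, 0⟩, ⟨0, 0⟩, ⟨0, 0⟩, ⟨0, 0⟩, ⟨0, 0⟩, ⟨0, 0⟩, ⟨0, 0⟩, ⟨0, 0⟩, ⟨0, 0⟩, ⟨0, 0⟩, ⟨0, 0⟩, ⟨0, 0⟩, ⟨0, 0⟩, ⟨0, 0⟩, ⟨0, 0⟩, ⟨0, 0⟩, ⟨0, 0⟩, ⟨0, 0⟩, ⟨0, 0⟩, ⟨0, 0⟩, ⟨-4, 0⟩, ⟨0, 0⟩, ⟨0, 0⟩, ⟨0, 0⟩, ⟨0, 0⟩, ⟨0, 0⟩, ⟨0, 0⟩]),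
  ([⟨0, 0⟩, ⟨0, 0⟩, ⟨0, 0⟩, ⟨0, 0⟩, ⟨0, 0⟩, ⟨0, 0⟩, ⟨0, 0⟩, ⟨0, 0⟩, ⟨0, 0⟩, ⟨0, 0⟩, ⟨0, 0⟩, ⟨0, 0⟩, ⟨0, 0⟩, ⟨0, 0⟩, ⟨0, 0⟩, ⟨0, 0⟩, ⟨0, 0⟩, ⟨0, 0⟩, ⟨0, 0⟩, ⟨0, 0⟩, ⟨0, 0⟩, ⟨0, 0⟩, ⟨0, 0⟩, ⟨0, 0⟩, ⟨0, 0⟩, ⟨0, 0⟩, ⟨0, 0⟩, ⟨1, 0⟩],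
   [⟨0, 0⟩, ⟨0, 0⟩, ⟨0, 0⟩, ⟨0, 0⟩, ⟨0, 0⟩, ⟨0, 0⟩, ⟨0, 0⟩, ⟨0, 0⟩, ⟨0, 0⟩, ⟨0, 0⟩, ⟨0, 0⟩, ⟨0, 0⟩, ⟨0, 0⟩, ⟨0, 0⟩, ⟨0, 0⟩, ⟨0, 0⟩, ⟨0, 0⟩, ⟨0, 0⟩, ⟨0, 0⟩, ⟨0, 0⟩, ⟨0, 0⟩, ⟨0, 0⟩, ⟨0, 0⟩, ⟨0, 0⟩, ⟨0, 0⟩, ⟨0, 0⟩, ⟨0, 0⟩, ⟨4, 0⟩]),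
  ([⟨0, 0⟩, ⟨0, 0⟩, ⟨0, 0⟩, ⟨0, 0⟩, ⟨0, 0⟩, ⟨0, 0⟩, ⟨0, 0⟩, ⟨0, 0⟩, ⟨0, 0⟩, ⟨2, 2⟩, ⟨0, 0⟩, ⟨0, 0⟩, ⟨0, 0⟩, ⟨0, 0⟩, ⟨0, 0⟩, ⟨0, 0⟩, ⟨0, 0⟩, ⟨0, 0⟩, ⟨2, 0⟩, ⟨-2, 0⟩, ⟨0, 0⟩, ⟨-2, 0⟩, ⟨0, 0⟩, ⟨-1, -1⟩, ⟨-1, 1⟩, ⟨1, 0⟩, ⟨0, 1⟩, ⟨-2, 1⟩],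
   [⟨0, 0⟩, ⟨0, 0⟩, ⟨0, 0⟩, ⟨0, 0⟩, ⟨0, 0⟩, ⟨0, 0⟩, ⟨0, 0⟩, ⟨0, 0⟩, ⟨0, 0⟩, ⟨0, 0⟩, ⟨0, 0⟩, ⟨0, 0⟩, ⟨0, 0⟩, ⟨0, 0⟩, ⟨0, 0⟩, ⟨0, 0⟩, ⟨0, 0⟩, ⟨0, 0⟩, ⟨0, 0⟩, ⟨0, 0⟩, ⟨0, 0⟩, ⟨0, 0⟩, ⟨0, 0⟩, ⟨0, 0⟩, ⟨0, 4⟩, ⟨0, 0⟩, ⟨0, 0⟩, ⟨0, 0⟩]),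
  ([⟨0, 0⟩, ⟨0, 0⟩, ⟨0, 0⟩, ⟨0, 0⟩, ⟨0, 0⟩, ⟨0, 0⟩, ⟨0, 0⟩, ⟨0, 0⟩, ⟨0, 0⟩, ⟨0, 0⟩, ⟨0, 0⟩, ⟨0, 0⟩, ⟨0, 0⟩, ⟨0, 0⟩, ⟨0, 0⟩, ⟨0, 0⟩, ⟨0, 0⟩, ⟨0, 0⟩, ⟨0, 0⟩, ⟨0, 0⟩, ⟨0, 0⟩, ⟨0, 0⟩, ⟨0, 0⟩, ⟨0, 0⟩, ⟨0, 0⟩, ⟨-1, 0⟩],
   [⟨0, 0⟩, ⟨0, 0⟩, ⟨0, 0⟩, ⟨0, 0⟩, ⟨0, 0⟩, ⟨0, 0⟩, ⟨0, 0⟩, ⟨0, 0⟩, ⟨0, 0⟩, ⟨0, 0⟩, ⟨0, 0⟩, ⟨0, 0⟩, ⟨0, 0⟩, ⟨0, 0⟩, ⟨0, 0⟩, ⟨0, 0⟩, ⟨0, 0⟩, ⟨0, 0⟩, ⟨0, 0⟩, ⟨0, 0⟩, ⟨0, 0⟩, ⟨0, 0⟩, ⟨0, 0⟩, ⟨0, 0⟩, ⟨0, 0⟩, ⟨-4, 0⟩, ⟨0, 0⟩,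 ⟨0, 0⟩])]

theorem certRk : ∀ i : Fin (B.map fun u => ruRk (toVec u)).length,
    lincomb (cwRk.getD i ([], [])).1 B = (cwRk.getD i ([], [])).2 ∧
      ∀ p, (B.map fun u => ruRk (toVec u)).getD i 0 p = toVec (cwRk.getD i ([], [])).2 p := by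
  decide +kernel

def cwSign : List (List Gi × List Gi) := [
  ([⟨-1, 0⟩, ⟨0, 0⟩, ⟨0, 0⟩, ⟨0, 0⟩, ⟨0, 0⟩, ⟨0, 0⟩, ⟨0, 0⟩, ⟨0, 0⟩, ⟨0, 0⟩, ⟨0, 0⟩, ⟨1, 0⟩, ⟨0, 0⟩, ⟨0, 0⟩, ⟨0, 0⟩, ⟨0, -1⟩, ⟨-1, 0⟩, ⟨0, -1⟩, ⟨0, 0⟩, ⟨0, 0⟩, ⟨0, 1⟩, ⟨0, 1⟩, ⟨0, 1⟩, ⟨1, 1⟩, ⟨-1, 0⟩, ⟨-1, 0⟩, ⟨0, 1⟩, ⟨-1, 1⟩],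
   [⟨-1, 0⟩, ⟨0, 0⟩, ⟨0, 0⟩, ⟨-1, 0⟩, ⟨0, 0⟩, ⟨0, 0⟩, ⟨0, 1⟩, ⟨-1, 2⟩, ⟨0, 0⟩, ⟨0, 0⟩, ⟨0, -1⟩, ⟨2, -1⟩, ⟨0, 0⟩, ⟨0, 1⟩, ⟨0, 0⟩, ⟨-1, -2⟩, ⟨0, 0⟩, ⟨1, 0⟩, ⟨1, 0⟩, ⟨2, 0⟩, ⟨0, 0⟩, ⟨-1, 0⟩, ⟨-2, 0⟩, ⟨1, -2⟩, ⟨-1, 0⟩, ⟨-2, -1⟩, ⟨1, 0⟩, ⟨-2, -1⟩]),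
  ([⟨0, 0⟩, ⟨-1, 0⟩, ⟨0, 0⟩, ⟨0, 0⟩, ⟨0, 0⟩, ⟨0, 0⟩, ⟨0, 0⟩, ⟨0, 0⟩, ⟨0, 0⟩, ⟨0, 0⟩, ⟨-1, -1⟩, ⟨-1, 0⟩, ⟨0, 0⟩, ⟨0, 0⟩, ⟨-1, 1⟩, ⟨0, -1⟩, ⟨-1, 0⟩, ⟨0, 0⟩, ⟨0, 0⟩, ⟨0, 2⟩, ⟨2, 1⟩, ⟨1, 1⟩, ⟨0, 2⟩, ⟨1, 1⟩, ⟨0, 3⟩, ⟨2, 1⟩, ⟨1, 2⟩, ⟨1, 2⟩],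
   [⟨0, 0⟩, ⟨-1, 0⟩, ⟨0, 0⟩, ⟨1, 0⟩, ⟨0, 0⟩, ⟨0, 0⟩, ⟨1, -1⟩, ⟨2, 2⟩, ⟨0, 0⟩, ⟨0, -1⟩, ⟨1, 0⟩, ⟨2, 0⟩, ⟨0, 0⟩, ⟨1, -1⟩, ⟨-1, 0⟩, ⟨1, -2⟩, ⟨0, 0⟩, ⟨-1, -1⟩, ⟨0, -1⟩, ⟨-1, 2⟩, ⟨0, 0⟩, ⟨-1, 0⟩, ⟨1, 1⟩, ⟨-1, 0⟩, ⟨0, 0⟩, ⟨0, -1⟩, ⟨0, -1⟩, ⟨-2, -2⟩]),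
  ([⟨0, 0⟩, ⟨0, 0⟩, ⟨1, 0⟩, ⟨0, 0⟩, ⟨0, 0⟩, ⟨0, 0⟩, ⟨0, 0⟩, ⟨0, 0⟩, ⟨0, 0⟩, ⟨1, -1⟩, ⟨0, 0⟩, ⟨0, 0⟩, ⟨-1, 1⟩, ⟨1, 0⟩, ⟨0, 0⟩, ⟨0, 0⟩, ⟨0, 0⟩, ⟨-1, 0⟩, ⟨1, -1⟩, ⟨0, 2⟩, ⟨-1, 0⟩, ⟨-1, 2⟩, ⟨0, 0⟩, ⟨0, 0⟩, ⟨0, 0⟩, ⟨-1, -1⟩, ⟨1, 1⟩, ⟨0, 1⟩],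
   [⟨0, 0⟩, ⟨0, 0⟩, ⟨0, 0⟩, ⟨1, -1⟩, ⟨1, 0⟩, ⟨0, 0⟩, ⟨0, 0⟩, ⟨-1, 0⟩, ⟨0, 0⟩, ⟨-1, 1⟩, ⟨1, 0⟩, ⟨1, 0⟩, ⟨0, 0⟩, ⟨-1, -1⟩, ⟨0, 1⟩, ⟨-1, 0⟩, ⟨0, 0⟩, ⟨0, -1⟩, ⟨-1, -1⟩, ⟨0, 1⟩, ⟨0, 0⟩, ⟨0, -1⟩, ⟨-2, -1⟩, ⟨-2, -2⟩, ⟨1, 0⟩, ⟨-2, -2⟩, ⟨0, 1⟩, ⟨0, 0⟩]),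
  ([⟨0, 0⟩, ⟨0, 0⟩, ⟨0, 0⟩, ⟨-1, 0⟩, ⟨0, 0⟩, ⟨0, 0⟩, ⟨0, 0⟩, ⟨0, 0⟩, ⟨0, 0⟩, ⟨0, 0⟩, ⟨0, 1⟩, ⟨1, 0⟩, ⟨0, 0⟩, ⟨0, 0⟩, ⟨-1, 0⟩, ⟨1, -1⟩, ⟨-1, -1⟩, ⟨0, 0⟩, ⟨0, 0⟩, ⟨-1, 0⟩, ⟨1, 0⟩, ⟨-1, 0⟩, ⟨-1, 1⟩, ⟨-1, 1⟩, ⟨-1, 0⟩, ⟨0, 0⟩, ⟨-1, 1⟩],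
   [⟨0, 0⟩, ⟨0, 0⟩, ⟨-1, 0⟩, ⟨0, 1⟩, ⟨0, 0⟩, ⟨0, 0⟩, ⟨-1, 0⟩, ⟨-1, 0⟩, ⟨0, 0⟩, ⟨0, 1⟩, ⟨1, 1⟩, ⟨2, -1⟩, ⟨0, 0⟩, ⟨0, 1⟩, ⟨0, 1⟩, ⟨0, -2⟩, ⟨0, 0⟩, ⟨0, -1⟩, ⟨1, -1⟩, ⟨-1, 0⟩, ⟨0, 0⟩, ⟨0, 0⟩, ⟨-2, 0⟩, ⟨-1, 1⟩, ⟨0, 0⟩, ⟨0, 1⟩, ⟨0, 1⟩, ⟨1, -1⟩]),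
  ([⟨0, 0⟩, ⟨0, 0⟩, ⟨0, 0⟩, ⟨0, 0⟩, ⟨-1, 0⟩, ⟨0, 0⟩, ⟨0, 0⟩, ⟨0, 0⟩, ⟨0, 0⟩, ⟨0, 0⟩, ⟨-1, -1⟩, ⟨-1, 1⟩, ⟨0, 0⟩, ⟨0, 0⟩, ⟨-1, -1⟩, ⟨0, 0⟩, ⟨0, 0⟩, ⟨0, 0⟩, ⟨0, 0⟩, ⟨-1, 0⟩, ⟨0, 1⟩, ⟨1, 1⟩, ⟨-1, 1⟩, ⟨0, 0⟩, ⟨0, 2⟩, ⟨2, 1⟩, ⟨0, 1⟩, ⟨1, 1⟩],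
   [⟨0, 0⟩, ⟨0, 0⟩, ⟨0, 0⟩, ⟨-2, 0⟩, ⟨0, 0⟩, ⟨0, 0⟩, ⟨1, -1⟩, ⟨-1, -1⟩, ⟨0, 0⟩, ⟨-1, -1⟩, ⟨0, 0⟩, ⟨-1, -1⟩, ⟨-1, 0⟩, ⟨1, 0⟩, ⟨-1, 0⟩, ⟨0, -1⟩, ⟨0, 0⟩, ⟨1, -1⟩, ⟨0, 0⟩, ⟨-1, 1⟩, ⟨0, 0⟩, ⟨-1, -1⟩, ⟨1, 1⟩, ⟨0, 0⟩, ⟨1, 0⟩, ⟨0, -1⟩, ⟨1, 0⟩, ⟨-1, -2⟩]),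
  ([⟨0, 0⟩, ⟨0, 0⟩, ⟨0, 0⟩, ⟨0, 0⟩, ⟨0, 0⟩, ⟨1, 0⟩, ⟨0, 0⟩, ⟨0, 0⟩, ⟨0, 0⟩, ⟨0, 0⟩, ⟨0, 0⟩, ⟨0, 0⟩, ⟨0, 0⟩, ⟨1, 0⟩, ⟨0, 0⟩, ⟨0, 0⟩, ⟨0, 0⟩, ⟨0, -1⟩, ⟨-1, 0⟩, ⟨0, 0⟩, ⟨0, -1⟩, ⟨0, 0⟩, ⟨0, -1⟩, ⟨0, 0⟩, ⟨0, -2⟩, ⟨-1, 0⟩, ⟨-1, -1⟩],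
   [⟨0, 0⟩, ⟨0, 0⟩, ⟨0, 0⟩, ⟨-1, 1⟩, ⟨0, 0⟩, ⟨1, 0⟩, ⟨1, 0⟩, ⟨-1, -1⟩, ⟨0, 0⟩, ⟨0, 0⟩, ⟨0, 1⟩, ⟨1, 0⟩, ⟨0, 0⟩, ⟨0, 0⟩, ⟨0, 1⟩, ⟨0, 1⟩, ⟨0, 0⟩, ⟨-1, 0⟩, ⟨-1, 1⟩, ⟨-1, 0⟩, ⟨0, 0⟩, ⟨1, 0⟩, ⟨1, 0⟩, ⟨0, -2⟩, ⟨0, 0⟩, ⟨-1, 0⟩, ⟨-1, -1⟩, ⟨0, 1⟩]),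
  ([⟨0, 0⟩, ⟨0, 0⟩, ⟨0, 0⟩, ⟨0, 0⟩, ⟨0, 0⟩, ⟨0, 0⟩, ⟨1, 0⟩, ⟨0, 0⟩, ⟨0, 0⟩, ⟨-1, -1⟩, ⟨0, 0⟩, ⟨0, 0⟩, ⟨0, 0⟩, ⟨0, 0⟩, ⟨0, 0⟩, ⟨0, 0⟩, ⟨0, 0⟩, ⟨-1, 1⟩, ⟨-1, 0⟩, ⟨2, 0⟩, ⟨0, 0⟩, ⟨1, -1⟩, ⟨0, 0⟩, ⟨1, 1⟩, ⟨0, 0⟩, ⟨-1, 1⟩, ⟨1, 0⟩, ⟨1, -1⟩],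
   [⟨0, 0⟩, ⟨0, 0⟩, ⟨0, 0⟩, ⟨0, 0⟩, ⟨0, 0⟩, ⟨0, 0⟩, ⟨0, 0⟩, ⟨0, 2⟩, ⟨1, 0⟩, ⟨-1, 0⟩, ⟨1, 0⟩, ⟨0, -1⟩, ⟨0, 0⟩, ⟨0, 0⟩, ⟨0, 0⟩, ⟨0, -2⟩, ⟨0, 0⟩, ⟨-1, 1⟩, ⟨0, 0⟩, ⟨-1, -1⟩, ⟨0, 0⟩, ⟨-1, -1⟩, ⟨-1, 1⟩, ⟨-2, 0⟩, ⟨0, -1⟩, ⟨-2, 1⟩, ⟨1, 0⟩, ⟨0, -1⟩]),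
  ([⟨0, 0⟩, ⟨0, 0⟩, ⟨0, 0⟩, ⟨0, 0⟩, ⟨0, 0⟩, ⟨0, 0⟩, ⟨0, 0⟩, ⟨1, 0⟩, ⟨0, 0⟩, ⟨-1, -1⟩, ⟨0, 0⟩, ⟨0, 0⟩, ⟨0, 0⟩, ⟨0, 0⟩, ⟨0, 0⟩, ⟨0, 0⟩, ⟨0, 0⟩, ⟨0, 0⟩, ⟨0, -1⟩, ⟨1, 1⟩, ⟨0, 1⟩, ⟨0, 0⟩, ⟨0, 1⟩, ⟨1, 1⟩, ⟨0, 1⟩, ⟨0, -1⟩, ⟨-1, -1⟩, ⟨1, 0⟩],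
   [⟨0, 0⟩, ⟨0, 0⟩, ⟨0, 0⟩, ⟨0, -2⟩, ⟨0, 0⟩, ⟨0, 0⟩, ⟨0, 0⟩, ⟨0, 2⟩, ⟨0, 0⟩, ⟨1, 1⟩, ⟨0, 0⟩, ⟨-1, -1⟩, ⟨0, 0⟩, ⟨0, 0⟩, ⟨0, 0⟩, ⟨-2, -2⟩, ⟨1, 0⟩, ⟨-1, 0⟩, ⟨0, 1⟩, ⟨-1, 0⟩, ⟨0, 0⟩, ⟨0, 0⟩, ⟨1, 1⟩, ⟨-1, 1⟩, ⟨0, -1⟩, ⟨1, -2⟩, ⟨-2, -1⟩, ⟨0, -1⟩]),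
  ([⟨0, 0⟩, ⟨0, 0⟩, ⟨0, 0⟩, ⟨0, 0⟩, ⟨0, 0⟩, ⟨0, 0⟩, ⟨0, 0⟩, ⟨0, 0⟩, ⟨-1, 0⟩, ⟨0, 0⟩, ⟨0, 0⟩, ⟨1, 1⟩, ⟨0, 0⟩, ⟨0, 0⟩, ⟨0, 0⟩, ⟨1, 1⟩, ⟨1, -1⟩, ⟨0, 0⟩, ⟨0, 0⟩, ⟨1, 0⟩, ⟨0, 0⟩, ⟨0, -2⟩, ⟨-1, -1⟩, ⟨-1, -1⟩, ⟨0, -2⟩, ⟨-1, -1⟩, ⟨-1, -1⟩, ⟨-1, -1⟩],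
   [⟨0, 0⟩, ⟨0, 0⟩, ⟨0, 0⟩, ⟨0, -2⟩, ⟨0, 0⟩, ⟨0, 0⟩, ⟨0, 0⟩, ⟨2, 2⟩, ⟨0, 0⟩, ⟨-1, 1⟩, ⟨-1, 1⟩, ⟨0, 2⟩, ⟨0, 0⟩, ⟨0, 0⟩, ⟨0, 0⟩, ⟨0, -2⟩, ⟨0, 0⟩, ⟨0, 0⟩, ⟨1, 1⟩, ⟨-1, -1⟩, ⟨-1, 0⟩, ⟨0, 1⟩, ⟨-1, 0⟩, ⟨-1, -2⟩, ⟨0, -1⟩, ⟨0, 1⟩, ⟨0, 1⟩, ⟨1, 0⟩]),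
  ([⟨0, 0⟩, ⟨0, 0⟩, ⟨0, 0⟩, ⟨0, 0⟩, ⟨0, 0⟩, ⟨0, 0⟩, ⟨0, 0⟩, ⟨0, 0⟩, ⟨0, 0⟩, ⟨-1, 0⟩, ⟨0, 0⟩, ⟨0, 0⟩, ⟨0, 0⟩, ⟨0, 0⟩, ⟨0, 0⟩, ⟨0, 0⟩, ⟨0, 0⟩, ⟨0, 0⟩, ⟨0, 0⟩, ⟨1, 0⟩, ⟨0, 1⟩, ⟨0, 0⟩, ⟨0, 1⟩],
   [⟨0, 0⟩, ⟨0, 0⟩, ⟨0, 0⟩, ⟨0, -2⟩, ⟨0, 0⟩, ⟨0, 0⟩, ⟨0, 0⟩, ⟨2, 0⟩, ⟨0, 0⟩, ⟨0, 0⟩, ⟨0, 0⟩, ⟨0, 2⟩, ⟨0, 0⟩, ⟨0, 0⟩, ⟨0, 0⟩, ⟨-2, 0⟩, ⟨0, 0⟩, ⟨0, 0⟩, ⟨0, 0⟩, ⟨0, 2⟩, ⟨0, 0⟩, ⟨0, 0⟩, ⟨-2, 0⟩, ⟨0, 0⟩, ⟨-1, -1⟩, ⟨1, -1⟩, ⟨1, 1⟩, ⟨-1, 1⟩]),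
  ([⟨0, 0⟩, ⟨0, 0⟩, ⟨0, 0⟩, ⟨0, 0⟩, ⟨0, 0⟩, ⟨0, 0⟩, ⟨0, 0⟩, ⟨0, 0⟩, ⟨0, 0⟩, ⟨0, 0⟩, ⟨1, 0⟩, ⟨0, 0⟩, ⟨0, 0⟩, ⟨0, 0⟩, ⟨0, 0⟩, ⟨0, 0⟩, ⟨0, 0⟩, ⟨0, 0⟩, ⟨0, 0⟩, ⟨0, 0⟩, ⟨0, 0⟩, ⟨0, 0⟩, ⟨0, 0⟩, ⟨0, 0⟩, ⟨-1, -1⟩, ⟨-1, 0⟩, ⟨-1, 0⟩, ⟨-1, -1⟩],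
   [⟨0, 0⟩, ⟨0, 0⟩, ⟨0, 0⟩, ⟨0, 0⟩, ⟨0, 0⟩, ⟨0, 0⟩, ⟨0, 2⟩, ⟨0, 2⟩, ⟨0, 0⟩, ⟨0, 0⟩, ⟨0, 0⟩, ⟨0, 0⟩, ⟨0, 0⟩, ⟨0, 0⟩, ⟨0, 0⟩, ⟨0, 0⟩, ⟨0, 0⟩, ⟨0, 0⟩, ⟨0, 0⟩, ⟨0, 0⟩, ⟨0, 0⟩, ⟨0, 0⟩, ⟨0, 0⟩, ⟨-2, -2⟩, ⟨0, 0⟩, ⟨-2, 0⟩, ⟨-2, 0⟩, ⟨-2, -2⟩]),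
  ([⟨0, 0⟩, ⟨0, 0⟩, ⟨0, 0⟩, ⟨0, 0⟩, ⟨0, 0⟩, ⟨0, 0⟩, ⟨0, 0⟩, ⟨0, 0⟩, ⟨0, 0⟩, ⟨0, 0⟩, ⟨0, 0⟩, ⟨1, 0⟩, ⟨0, 0⟩, ⟨0, 0⟩, ⟨0, 0⟩, ⟨0, 0⟩, ⟨0, 0⟩, ⟨0, 0⟩, ⟨0, 0⟩, ⟨0, 0⟩, ⟨0, 0⟩, ⟨-1, -1⟩, ⟨0, 0⟩, ⟨-1, 0⟩, ⟨0, -1⟩, ⟨-1, -1⟩, ⟨0, 0⟩, ⟨-1, -1⟩],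
   [⟨0, 0⟩, ⟨0, 0⟩, ⟨0, 0⟩, ⟨0, 0⟩, ⟨0, 0⟩, ⟨0, 0⟩, ⟨0, 0⟩, ⟨0, 0⟩, ⟨0, 0⟩, ⟨0, 2⟩, ⟨0, 0⟩, ⟨0, 2⟩, ⟨0, 0⟩, ⟨0, 0⟩, ⟨0, 0⟩, ⟨-2, -2⟩, ⟨0, 0⟩, ⟨0, 0⟩, ⟨0, 0⟩, ⟨0, 0⟩, ⟨0, 0⟩, ⟨0, 0⟩, ⟨-2, 0⟩, ⟨0, -2⟩, ⟨0, 0⟩, ⟨-2, -2⟩, ⟨0, 0⟩, ⟨-2, -2⟩]),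
  ([⟨0, 0⟩, ⟨0, 0⟩, ⟨0, 0⟩, ⟨0, 0⟩, ⟨0, 0⟩, ⟨0, 0⟩, ⟨0, 0⟩, ⟨0, 0⟩, ⟨0, 0⟩, ⟨0, 0⟩, ⟨0, 0⟩, ⟨0, 0⟩, ⟨-1, 0⟩, ⟨0, 0⟩, ⟨0, 0⟩, ⟨0, 0⟩, ⟨0, 0⟩, ⟨0, 0⟩, ⟨0, 0⟩, ⟨0, 0⟩, ⟨0, 0⟩, ⟨0, 0⟩, ⟨1, 1⟩],
   [⟨0, 0⟩, ⟨0, 0⟩, ⟨0, 0⟩, ⟨0, 0⟩, ⟨0, 0⟩, ⟨0, 0⟩, ⟨0, 0⟩, ⟨0, 0⟩, ⟨0, 0⟩, ⟨0, 0⟩, ⟨0, 0⟩, ⟨0, 0⟩, ⟨0, 0⟩, ⟨0, -2⟩, ⟨0, 0⟩, ⟨0, -2⟩, ⟨0, 0⟩, ⟨0, 0⟩, ⟨0, 0⟩, ⟨2, 2⟩, ⟨0, 0⟩, ⟨0, 0⟩, ⟨-2, -2⟩, ⟨-2, -2⟩, ⟨0, 0⟩, ⟨0, 0⟩, ⟨0, -2⟩, ⟨-2, 0⟩]),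
  ([⟨0, 0⟩, ⟨0, 0⟩, ⟨0, 0⟩, ⟨0, 0⟩, ⟨0, 0⟩, ⟨0, 0⟩, ⟨0, 0⟩, ⟨0, 0⟩, ⟨0, 0⟩, ⟨0, 0⟩, ⟨0, 0⟩, ⟨0, 0⟩, ⟨0, 0⟩, ⟨-1, 0⟩, ⟨0, 0⟩, ⟨0, 0⟩, ⟨0, 0⟩, ⟨0, 0⟩, ⟨0, 0⟩, ⟨0, 0⟩, ⟨1, 1⟩, ⟨0, 0⟩, ⟨1, 1⟩],
   [⟨0, 0⟩, ⟨0, 0⟩, ⟨0, 0⟩, ⟨0, 0⟩, ⟨0, 0⟩, ⟨0, 0⟩, ⟨0, 0⟩, ⟨0, 0⟩, ⟨0, 0⟩, ⟨0, 0⟩, ⟨0, 0⟩, ⟨2, 2⟩, ⟨0, 0⟩, ⟨0, 0⟩, ⟨0, -2⟩, ⟨-2, 0⟩, ⟨0, 0⟩, ⟨0, 0⟩, ⟨0, 0⟩, ⟨2, 2⟩, ⟨0, 0⟩, ⟨0, 0⟩, ⟨0, -2⟩, ⟨0, -2⟩, ⟨0, 0⟩, ⟨0, 0⟩, ⟨0, -2⟩, ⟨-2, 0⟩]),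
  ([⟨0, 0⟩, ⟨0, 0⟩, ⟨0, 0⟩, ⟨0, 0⟩, ⟨0, 0⟩, ⟨0, 0⟩, ⟨0, 0⟩, ⟨0, 0⟩, ⟨0, 0⟩, ⟨0, 0⟩, ⟨0, 0⟩, ⟨0, 0⟩, ⟨0, 0⟩, ⟨0, 0⟩, ⟨1, 0⟩, ⟨0, 0⟩, ⟨0, 0⟩, ⟨0, 0⟩, ⟨0, 0⟩, ⟨0, 0⟩, ⟨0, 0⟩, ⟨-1, -1⟩, ⟨0, 0⟩, ⟨0, -1⟩, ⟨0, -1⟩, ⟨-1, 0⟩, ⟨0, -1⟩],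
   [⟨0, 0⟩, ⟨0, 0⟩, ⟨0, 0⟩, ⟨0, 0⟩, ⟨0, 0⟩, ⟨0, 0⟩, ⟨0, 0⟩, ⟨0, 0⟩, ⟨0, 0⟩, ⟨0, 0⟩, ⟨0, 0⟩, ⟨2, 2⟩, ⟨0, 0⟩, ⟨0, 0⟩, ⟨0, 0⟩, ⟨-2, -2⟩, ⟨0, 0⟩, ⟨0, 2⟩, ⟨0, 0⟩, ⟨0, 2⟩, ⟨0, 0⟩, ⟨0, 0⟩, ⟨0, -2⟩, ⟨0, -2⟩, ⟨0, 0⟩, ⟨-2, 0⟩, ⟨0, -2⟩, ⟨0, 0⟩]),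
  ([⟨0, 0⟩, ⟨0, 0⟩, ⟨0, 0⟩, ⟨0, 0⟩, ⟨0, 0⟩, ⟨0, 0⟩, ⟨0, 0⟩, ⟨0, 0⟩, ⟨0, 0⟩, ⟨0, 0⟩, ⟨0, 0⟩, ⟨0, 0⟩, ⟨0, 0⟩, ⟨0, 0⟩, ⟨0, 0⟩, ⟨1, 0⟩, ⟨0, 0⟩, ⟨0, 0⟩, ⟨0, 0⟩, ⟨0, 0⟩, ⟨0, 0⟩, ⟨-1, -1⟩, ⟨0, 0⟩, ⟨0, 0⟩, ⟨-1, -1⟩, ⟨-1, 0⟩, ⟨-1, -1⟩, ⟨-1, 0⟩],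
   [⟨0, 0⟩, ⟨0, 0⟩, ⟨0, 0⟩, ⟨0, 0⟩, ⟨0, 0⟩, ⟨0, 0⟩, ⟨0, 0⟩, ⟨2, 2⟩, ⟨0, 0⟩, ⟨0, 0⟩, ⟨0, 2⟩, ⟨0, 2⟩, ⟨0, 0⟩, ⟨0, 0⟩, ⟨0, 0⟩, ⟨-2, -2⟩, ⟨0, 0⟩, ⟨0, 0⟩, ⟨0, 0⟩, ⟨2, 2⟩, ⟨0, 0⟩, ⟨0, 0⟩, ⟨0, 0⟩, ⟨-2, -2⟩, ⟨0, 0⟩, ⟨-2, 0⟩, ⟨-2, -2⟩, ⟨-2, 0⟩]),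
  ([⟨0, 0⟩, ⟨0, 0⟩, ⟨0, 0⟩, ⟨0, 0⟩, ⟨0, 0⟩, ⟨0, 0⟩, ⟨0, 0⟩, ⟨0, 0⟩, ⟨0, 0⟩, ⟨0, 0⟩, ⟨0, 0⟩, ⟨0, 0⟩, ⟨0, 0⟩, ⟨0, 0⟩, ⟨0, 0⟩, ⟨0, 0⟩, ⟨1, 0⟩, ⟨0, 0⟩, ⟨0, 0⟩, ⟨0, 0⟩, ⟨0, 0⟩, ⟨0, 0⟩, ⟨0, 0⟩, ⟨0, -1⟩, ⟨0, -1⟩, ⟨-1, 0⟩, ⟨-1, -1⟩, ⟨-1, 0⟩],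
   [⟨0, 0⟩, ⟨0, 0⟩, ⟨0, 0⟩, ⟨0, 0⟩, ⟨0, 0⟩, ⟨0, 0⟩, ⟨0, 0⟩, ⟨0, 0⟩, ⟨0, 0⟩, ⟨0, 0⟩, ⟨0, 0⟩, ⟨2, 2⟩, ⟨0, 0⟩, ⟨0, 0⟩, ⟨0, 0⟩, ⟨0, 0⟩, ⟨0, 0⟩, ⟨0, 0⟩, ⟨0, 2⟩, ⟨2, 0⟩, ⟨0, 0⟩, ⟨0, 0⟩, ⟨0, -2⟩, ⟨0, -2⟩, ⟨0, 0⟩, ⟨-2, 0⟩, ⟨-2, -2⟩, ⟨-2, 0⟩]),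
  ([⟨0, 0⟩, ⟨0, 0⟩, ⟨0, 0⟩, ⟨0, 0⟩, ⟨0, 0⟩, ⟨0, 0⟩, ⟨0, 0⟩, ⟨0, 0⟩, ⟨0, 0⟩, ⟨0, 0⟩, ⟨0, 0⟩, ⟨0, 0⟩, ⟨0, 0⟩, ⟨0, 0⟩, ⟨0, 0⟩, ⟨0, 0⟩, ⟨0, 0⟩, ⟨-1, 0⟩, ⟨0, 0⟩, ⟨1, 1⟩],
   [⟨0, 0⟩, ⟨0, 0⟩, ⟨0, 0⟩, ⟨0, 0⟩, ⟨0, 0⟩, ⟨0, 0⟩, ⟨0, 0⟩, ⟨2, 2⟩, ⟨0, 0⟩, ⟨0, 0⟩, ⟨0, 0⟩, ⟨0, 0⟩, ⟨0, 0⟩, ⟨0, 0⟩, ⟨0, 0⟩, ⟨0, 0⟩, ⟨0, 0⟩, ⟨0, 0⟩, ⟨0, 0⟩, ⟨0, 0⟩, ⟨0, 0⟩, ⟨0, -2⟩, ⟨-2, -2⟩, ⟨0, -2⟩, ⟨0, 0⟩, ⟨0, -2⟩, ⟨0, -2⟩, ⟨0, 0⟩]),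
  ([⟨0, 0⟩, ⟨0, 0⟩, ⟨0, 0⟩, ⟨0, 0⟩, ⟨0, 0⟩, ⟨0, 0⟩, ⟨0, 0⟩, ⟨0, 0⟩, ⟨0, 0⟩, ⟨0, 0⟩, ⟨0, 0⟩, ⟨0, 0⟩, ⟨0, 0⟩, ⟨0, 0⟩, ⟨0, 0⟩, ⟨0, 0⟩, ⟨0, 0⟩, ⟨0, 0⟩, ⟨-1, 0⟩, ⟨1, -1⟩, ⟨1, -1⟩, ⟨0, 0⟩, ⟨1, -1⟩],
   [⟨0, 0⟩, ⟨0, 0⟩, ⟨0, 0⟩, ⟨-2, 2⟩, ⟨0, 0⟩, ⟨0, 0⟩, ⟨0, 0⟩, ⟨2, -2⟩, ⟨0, 0⟩, ⟨0, 0⟩, ⟨0, 0⟩, ⟨2, -2⟩, ⟨0, 0⟩, ⟨0, 0⟩, ⟨0, 0⟩, ⟨-2, 2⟩, ⟨0, 0⟩, ⟨0, 0⟩, ⟨0, 0⟩, ⟨2, -2⟩, ⟨0, 0⟩, ⟨0, 0⟩, ⟨0, 0⟩, ⟨-2, 2⟩, ⟨0, 0⟩, ⟨0, 0⟩, ⟨0, 0⟩, ⟨-2, 2⟩]),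
  ([⟨0, 0⟩, ⟨0, 0⟩, ⟨0, 0⟩, ⟨0, 0⟩, ⟨0, 0⟩, ⟨0, 0⟩, ⟨0, 0⟩, ⟨0, 0⟩, ⟨0, 0⟩, ⟨0, 0⟩, ⟨0, 0⟩, ⟨0, 0⟩, ⟨0, 0⟩, ⟨0, 0⟩, ⟨0, 0⟩, ⟨0, 0⟩, ⟨0, 0⟩, ⟨0, 0⟩, ⟨0, 0⟩, ⟨1, 0⟩],
   [⟨0, 0⟩, ⟨0, 0⟩, ⟨0, 0⟩, ⟨0, 0⟩, ⟨0, 0⟩, ⟨0, 0⟩, ⟨0, 0⟩, ⟨4, 0⟩, ⟨0, 0⟩, ⟨0, 0⟩, ⟨0, 0⟩, ⟨0, 0⟩, ⟨0, 0⟩, ⟨0, 0⟩, ⟨0, 0⟩, ⟨0, 0⟩, ⟨0, 0⟩, ⟨0, 0⟩, ⟨0, 0⟩, ⟨0, 0⟩, ⟨0, 0⟩, ⟨0, 0⟩, ⟨0, 0⟩, ⟨0, 0⟩, ⟨0, 0⟩, ⟨0, 0⟩, ⟨0, 0⟩, ⟨0, 0⟩]),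
  ([⟨0, 0⟩, ⟨0, 0⟩, ⟨0, 0⟩, ⟨0, 0⟩, ⟨0, 0⟩, ⟨0, 0⟩, ⟨0, 0⟩, ⟨0, 0⟩, ⟨0, 0⟩, ⟨0, 0⟩, ⟨0, 0⟩, ⟨0, 0⟩, ⟨0, 0⟩, ⟨0, 0⟩, ⟨0, 0⟩, ⟨0, 0⟩, ⟨0, 0⟩, ⟨0, 0⟩, ⟨0, 0⟩, ⟨0, 0⟩, ⟨1, 0⟩],
   [⟨0, 0⟩, ⟨0, 0⟩, ⟨0, 0⟩, ⟨0, 0⟩, ⟨0, 0⟩, ⟨0, 0⟩, ⟨0, 0⟩, ⟨0, 0⟩, ⟨0, 0⟩, ⟨0, 0⟩, ⟨0, 0⟩, ⟨4, 0⟩, ⟨0, 0⟩, ⟨0, 0⟩, ⟨0, 0⟩, ⟨0, 0⟩, ⟨0, 0⟩, ⟨0, 0⟩, ⟨0, 0⟩, ⟨0, 0⟩, ⟨0, 0⟩, ⟨0, 0⟩, ⟨0, 0⟩, ⟨0, 0⟩, ⟨0, 0⟩, ⟨0, 0⟩, ⟨0, 0⟩, ⟨0, 0⟩]),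
  ([⟨0, 0⟩, ⟨0, 0⟩, ⟨0, 0⟩, ⟨0, 0⟩, ⟨0, 0⟩, ⟨0, 0⟩, ⟨0, 0⟩, ⟨0, 0⟩, ⟨0, 0⟩, ⟨0, 0⟩, ⟨0, 0⟩, ⟨0, 0⟩, ⟨0, 0⟩, ⟨0, 0⟩, ⟨0, 0⟩, ⟨0, 0⟩, ⟨0, 0⟩, ⟨0, 0⟩, ⟨0, 0⟩, ⟨0, 0⟩, ⟨0, 0⟩, ⟨-1, 0⟩],
   [⟨0, 0⟩, ⟨0, 0⟩, ⟨0, 0⟩, ⟨0, 0⟩, ⟨0, 0⟩, ⟨0, 0⟩, ⟨0, 0⟩, ⟨0, 0⟩, ⟨0, 0⟩, ⟨0, 0⟩, ⟨0, 0⟩, ⟨0, 0⟩, ⟨0, 0⟩, ⟨0, 0⟩, ⟨0, 0⟩, ⟨-4, 0⟩, ⟨0, 0⟩, ⟨0, 0⟩, ⟨0, 0⟩, ⟨0, 0⟩, ⟨0, 0⟩, ⟨0, 0⟩, ⟨0, 0⟩, ⟨0, 0⟩, ⟨0, 0⟩, ⟨0, 0⟩, ⟨0, 0⟩, ⟨0, 0⟩]),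
  ([⟨0, 0⟩, ⟨0, 0⟩, ⟨0, 0⟩, ⟨0, 0⟩, ⟨0, 0⟩, ⟨0, 0⟩, ⟨0, 0⟩, ⟨0, 0⟩, ⟨0, 0⟩, ⟨0, 0⟩, ⟨0, 0⟩, ⟨0, 0⟩, ⟨0, 0⟩, ⟨0, 0⟩, ⟨0, 0⟩, ⟨0, 0⟩, ⟨0, 0⟩, ⟨0, 0⟩, ⟨0, 0⟩, ⟨0, 0⟩, ⟨0, 0⟩, ⟨0, 0⟩, ⟨1, 0⟩],
   [⟨0, 0⟩, ⟨0, 0⟩, ⟨0, 0⟩, ⟨0, 0⟩, ⟨0, 0⟩, ⟨0, 0⟩, ⟨0, 0⟩, ⟨0, 0⟩, ⟨0, 0⟩, ⟨0, 0⟩, ⟨0, 0⟩, ⟨0, 0⟩, ⟨0, 0⟩, ⟨0, 0⟩, ⟨0, 0⟩, ⟨0, 0⟩, ⟨0, 0⟩, ⟨0, 0⟩, ⟨0, 0⟩, ⟨4, 0⟩, ⟨0, 0⟩, ⟨0, 0⟩, ⟨0, 0⟩, ⟨0, 0⟩, ⟨0, 0⟩, ⟨0, 0⟩, ⟨0, 0⟩, ⟨0, 0⟩]),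
  ([⟨0, 0⟩, ⟨0, 0⟩, ⟨0, 0⟩, ⟨0, 0⟩, ⟨0, 0⟩, ⟨0, 0⟩, ⟨0, 0⟩, ⟨0, 0⟩, ⟨0, 0⟩, ⟨0, 0⟩, ⟨0, 0⟩, ⟨0, 0⟩, ⟨0, 0⟩, ⟨0, 0⟩, ⟨0, 0⟩, ⟨0, 0⟩, ⟨0, 0⟩, ⟨0, 0⟩, ⟨0, 0⟩, ⟨0, 0⟩, ⟨0, 0⟩, ⟨0, 0⟩, ⟨0, 0⟩, ⟨-1, 0⟩],
   [⟨0, 0⟩, ⟨0, 0⟩, ⟨0, 0⟩, ⟨0, 0⟩, ⟨0, 0⟩, ⟨0, 0⟩, ⟨0, 0⟩, ⟨0, 0⟩, ⟨0, 0⟩, ⟨0, 0⟩, ⟨0, 0⟩, ⟨0, 0⟩, ⟨0, 0⟩, ⟨0, 0⟩, ⟨0, 0⟩, ⟨0, 0⟩, ⟨0, 0⟩, ⟨0, 0⟩, ⟨0, 0⟩, ⟨0, 0⟩, ⟨0, 0⟩, ⟨0, 0⟩, ⟨-4, 0⟩, ⟨0, 0⟩, ⟨0, 0⟩, ⟨0, 0⟩, ⟨0, 0⟩, ⟨0, 0⟩]),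
  ([⟨0, 0⟩, ⟨0, 0⟩, ⟨0, 0⟩, ⟨0, 0⟩, ⟨0, 0⟩, ⟨0, 0⟩, ⟨0, 0⟩, ⟨0, 0⟩, ⟨0, 0⟩, ⟨0, 0⟩, ⟨0, 0⟩, ⟨0, 0⟩, ⟨0, 0⟩, ⟨0, 0⟩, ⟨0, 0⟩, ⟨0, 0⟩, ⟨0, 0⟩, ⟨0, 0⟩, ⟨0, 0⟩, ⟨0, 0⟩, ⟨0, 0⟩, ⟨0, 0⟩, ⟨0, 0⟩, ⟨0, 0⟩, ⟨-1, 0⟩],
   [⟨0, 0⟩, ⟨0, 0⟩, ⟨0, 0⟩, ⟨0, 0⟩, ⟨0, 0⟩, ⟨0, 0⟩, ⟨0, 0⟩, ⟨0, 0⟩, ⟨0, 0⟩, ⟨0, 0⟩, ⟨0, 0⟩, ⟨0, 0⟩, ⟨0, 0⟩, ⟨0, 0⟩, ⟨0, 0⟩, ⟨0, 0⟩, ⟨0, 0⟩, ⟨0, 0⟩, ⟨0, 0⟩, ⟨0, 0⟩, ⟨0, 0⟩, ⟨0, 0⟩, ⟨0, 0⟩, ⟨-4, 0⟩, ⟨0, 0⟩, ⟨0, 0⟩, ⟨0, 0⟩, ⟨0, 0⟩]),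
  ([⟨0, 0⟩, ⟨0, 0⟩, ⟨0, 0⟩, ⟨0, 0⟩, ⟨0, 0⟩, ⟨0, 0⟩, ⟨0, 0⟩, ⟨0, 0⟩, ⟨0, 0⟩, ⟨0, 0⟩, ⟨0, 0⟩, ⟨0, 0⟩, ⟨0, 0⟩, ⟨0, 0⟩, ⟨0, 0⟩, ⟨0, 0⟩, ⟨0, 0⟩, ⟨0, 0⟩, ⟨0, 0⟩, ⟨0, 0⟩, ⟨0, 0⟩, ⟨0, 0⟩, ⟨0, 0⟩, ⟨0, 0⟩, ⟨0, 0⟩, ⟨-1, 0⟩],
   [⟨0, 0⟩, ⟨0, 0⟩, ⟨0, 0⟩, ⟨0, 0⟩, ⟨0, 0⟩, ⟨0, 0⟩, ⟨0, 0⟩, ⟨0, 0⟩, ⟨0, 0⟩, ⟨0, 0⟩, ⟨0, 0⟩, ⟨0, 0⟩, ⟨0, 0⟩, ⟨0, 0⟩, ⟨0, 0⟩, ⟨0, 0⟩, ⟨0, 0⟩, ⟨0, 0⟩, ⟨0, 0⟩, ⟨0, 0⟩, ⟨0, 0⟩, ⟨0, 0⟩, ⟨0, 0⟩, ⟨0, 0⟩, ⟨0, 0⟩, ⟨-4, 0⟩, ⟨0, 0⟩,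 ⟨0, 0⟩]),
  ([⟨0, 0⟩, ⟨0, 0⟩, ⟨0, 0⟩, ⟨0, 0⟩, ⟨0, 0⟩, ⟨0, 0⟩, ⟨0, 0⟩, ⟨0, 0⟩, ⟨0, 0⟩, ⟨0, 0⟩, ⟨0, 0⟩, ⟨0, 0⟩, ⟨0, 0⟩, ⟨0, 0⟩, ⟨0, 0⟩, ⟨0, 0⟩, ⟨0, 0⟩, ⟨0, 0⟩, ⟨0, 0⟩, ⟨0, 0⟩, ⟨0, 0⟩, ⟨0, 0⟩, ⟨0, 0⟩, ⟨0, 0⟩, ⟨0, 0⟩, ⟨0, 0⟩, ⟨-1, 0⟩],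
   [⟨0, 0⟩, ⟨0, 0⟩, ⟨0, 0⟩, ⟨0, 0⟩, ⟨0, 0⟩, ⟨0, 0⟩, ⟨0, 0⟩, ⟨0, 0⟩, ⟨0, 0⟩, ⟨0, 0⟩, ⟨0, 0⟩, ⟨0, 0⟩, ⟨0, 0⟩, ⟨0, 0⟩, ⟨0, 0⟩, ⟨0, 0⟩, ⟨0, 0⟩, ⟨0, 0⟩, ⟨0, 0⟩, ⟨0, 0⟩, ⟨0, 0⟩, ⟨0, 0⟩, ⟨0, 0⟩, ⟨0, 0⟩, ⟨0, 0⟩, ⟨0, 0⟩, ⟨-4, 0⟩, ⟨0, 0⟩]),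
  ([⟨0, 0⟩, ⟨0, 0⟩, ⟨0, 0⟩, ⟨0, 0⟩, ⟨0, 0⟩, ⟨0, 0⟩, ⟨0, 0⟩, ⟨0, 0⟩, ⟨0, 0⟩, ⟨0, 0⟩, ⟨0, 0⟩, ⟨0, 0⟩, ⟨0, 0⟩, ⟨0, 0⟩, ⟨0, 0⟩, ⟨0, 0⟩, ⟨0, 0⟩, ⟨0, 0⟩, ⟨0, 0⟩, ⟨0, 0⟩, ⟨0, 0⟩, ⟨0, 0⟩, ⟨0, 0⟩, ⟨0, 0⟩, ⟨0, 0⟩, ⟨0, 0⟩, ⟨0, 0⟩, ⟨-1, 0⟩],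
   [⟨0, 0⟩, ⟨0, 0⟩, ⟨0, 0⟩, ⟨0, 0⟩, ⟨0, 0⟩, ⟨0, 0⟩, ⟨0, 0⟩, ⟨0, 0⟩, ⟨0, 0⟩, ⟨0, 0⟩, ⟨0, 0⟩, ⟨0, 0⟩, ⟨0, 0⟩, ⟨0, 0⟩, ⟨0, 0⟩, ⟨0, 0⟩, ⟨0, 0⟩, ⟨0, 0⟩, ⟨0, 0⟩, ⟨0, 0⟩, ⟨0, 0⟩, ⟨0, 0⟩, ⟨0, 0⟩, ⟨0, 0⟩, ⟨0, 0⟩, ⟨0, 0⟩, ⟨0, 0⟩, ⟨-4, 0⟩])]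

theorem certSign : ∀ i : Fin (B.map fun u => ruSign (toVec u)).length,
    lincomb (cwSign.getD i ([], [])).1 B = (cwSign.getD i ([], [])).2 ∧
      ∀ p, (B.map fun u => ruSign (toVec u)).getD i 0 p = toVec (cwSign.getD i ([], [])).2 p := by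
  decide +kernel

def cwShift : List (List Gi × List Gi) := [
  ([⟨0, 0⟩, ⟨0, 0⟩, ⟨0, 0⟩, ⟨0, 1⟩, ⟨0, 0⟩, ⟨0, 0⟩, ⟨0, 0⟩, ⟨0, 0⟩, ⟨1, 0⟩, ⟨0, -1⟩, ⟨0, 0⟩, ⟨-1, -1⟩, ⟨0, 0⟩, ⟨0, 0⟩, ⟨0, 0⟩, ⟨-1, -1⟩, ⟨-1, 0⟩, ⟨1, -1⟩, ⟨-1, -1⟩, ⟨0, 1⟩, ⟨0, 1⟩, ⟨2, 2⟩, ⟨1, 2⟩, ⟨-1, 1⟩, ⟨0, 1⟩, ⟨0, 1⟩, ⟨0, 1⟩, ⟨3, 2⟩],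
   [⟨0, 0⟩, ⟨0, 0⟩, ⟨0, 1⟩, ⟨-1, 2⟩, ⟨0, 0⟩, ⟨0, 0⟩, ⟨0, -1⟩, ⟨2, -1⟩, ⟨0, 0⟩, ⟨0, -1⟩, ⟨0, 0⟩, ⟨1, 2⟩, ⟨0, 0⟩, ⟨1, 0⟩, ⟨1, 0⟩, ⟨2, 0⟩, ⟨0, 0⟩, ⟨1, 0⟩, ⟨2, 0⟩, ⟨-1, 2⟩, ⟨1, 0⟩, ⟨2, 1⟩, ⟨-1, 0⟩, ⟨2, 1⟩, ⟨1, 0⟩, ⟨0, 0⟩, ⟨0, 0⟩, ⟨1, 0⟩]),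
  ([⟨0, 0⟩, ⟨0, 0⟩, ⟨0, 0⟩, ⟨1, -1⟩, ⟨0, 0⟩, ⟨0, -1⟩, ⟨0, 0⟩, ⟨0, 0⟩, ⟨0, 0⟩, ⟨0, 0⟩, ⟨0, -1⟩, ⟨0, 1⟩, ⟨0, 0⟩, ⟨0, -1⟩, ⟨0, -1⟩, ⟨0, 1⟩, ⟨0, 1⟩, ⟨0, 0⟩, ⟨0, 2⟩, ⟨0, -2⟩, ⟨-1, 1⟩, ⟨-1, -1⟩, ⟨-1, -2⟩, ⟨-1, 0⟩, ⟨-1, 0⟩, ⟨1, 0⟩, ⟨0, 0⟩, ⟨-1, -2⟩],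
   [⟨0, 0⟩, ⟨0, 0⟩, ⟨1, -1⟩, ⟨2, 2⟩, ⟨0, 0⟩, ⟨0, -1⟩, ⟨1, 0⟩, ⟨2, 0⟩, ⟨0, 0⟩, ⟨-1, 1⟩, ⟨1, 0⟩, ⟨-1, 2⟩, ⟨0, 0⟩, ⟨-1, -1⟩, ⟨0, -1⟩, ⟨-1, 2⟩, ⟨0, 0⟩, ⟨1, 0⟩, ⟨-1, -1⟩, ⟨1, 0⟩, ⟨0, 0⟩, ⟨0, 1⟩, ⟨0, 1⟩, ⟨2, 2⟩, ⟨0, 0⟩, ⟨1, 0⟩, ⟨0, 0⟩, ⟨-1, 0⟩]),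
  ([⟨1, 0⟩, ⟨0, 0⟩, ⟨0, 0⟩, ⟨0, 0⟩, ⟨0, 0⟩, ⟨-1, 1⟩, ⟨0, 0⟩, ⟨0, 0⟩, ⟨-1, 0⟩, ⟨0, 1⟩, ⟨-1, -1⟩, ⟨1, 0⟩, ⟨0, 0⟩, ⟨-1, 1⟩, ⟨1, 1⟩, ⟨1, 0⟩, ⟨2, -1⟩, ⟨1, 0⟩, ⟨0, 0⟩, ⟨-1, -1⟩, ⟨0, -2⟩, ⟨-1, -3⟩, ⟨0, 0⟩, ⟨-1, -2⟩, ⟨1, -1⟩, ⟨-2, -1⟩, ⟨0, -1⟩, ⟨-3, 0⟩],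
   [⟨1, 0⟩, ⟨0, 0⟩, ⟨0, 0⟩, ⟨-1, 0⟩, ⟨0, 0⟩, ⟨-1, 1⟩, ⟨1, 0⟩, ⟨1, 0⟩, ⟨0, 0⟩, ⟨1, 1⟩, ⟨0, -1⟩, ⟨1, 0⟩, ⟨0, 0⟩, ⟨0, -1⟩, ⟨-1, -1⟩, ⟨0, 1⟩, ⟨0, 0⟩, ⟨0, 1⟩, ⟨2, 1⟩, ⟨2, 2⟩, ⟨-1, 0⟩, ⟨2, 2⟩, ⟨0, -1⟩, ⟨0, 0⟩, ⟨0, 0⟩, ⟨0, 0⟩, ⟨0, 0⟩, ⟨-1, 1⟩]),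
  ([⟨0, 0⟩, ⟨0, 0⟩, ⟨0, 0⟩, ⟨-1, 0⟩, ⟨0, 0⟩, ⟨0, 1⟩, ⟨0, 0⟩, ⟨0, 0⟩, ⟨0, 0⟩, ⟨0, 0⟩, ⟨0, 0⟩, ⟨0, 0⟩, ⟨-1, 0⟩, ⟨-1, 0⟩, ⟨0, 0⟩, ⟨0, -1⟩, ⟨0, -2⟩, ⟨0, 0⟩, ⟨0, -1⟩, ⟨0, 1⟩, ⟨0, 2⟩, ⟨0, 2⟩, ⟨1, 3⟩, ⟨0, 1⟩, ⟨0, 2⟩, ⟨0, 1⟩, ⟨-1, 2⟩, ⟨1, 2⟩],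
   [⟨0, 0⟩, ⟨0, 0⟩, ⟨-1, 0⟩, ⟨-1, 0⟩, ⟨0, 0⟩, ⟨0, 1⟩, ⟨1, 1⟩, ⟨2, -1⟩, ⟨0, 0⟩, ⟨0, -1⟩, ⟨0, -1⟩, ⟨0, 2⟩, ⟨0, 0⟩, ⟨0, -1⟩, ⟨1, -1⟩, ⟨-1, 0⟩, ⟨0, 0⟩, ⟨0, 0⟩, ⟨2, 0⟩, ⟨1, -1⟩, ⟨0, 0⟩, ⟨0, -1⟩, ⟨0, -1⟩, ⟨-1, 1⟩, ⟨0, 0⟩, ⟨0, 0⟩, ⟨1, 0⟩, ⟨0, -1⟩]),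
  ([⟨0, 0⟩, ⟨0, 0⟩, ⟨0, 0⟩, ⟨1, -1⟩, ⟨0, 0⟩, ⟨-1, -1⟩, ⟨1, 0⟩, ⟨0, 0⟩, ⟨-1, 0⟩, ⟨0, 0⟩, ⟨0, -1⟩, ⟨0, 1⟩, ⟨0, -1⟩, ⟨0, -1⟩, ⟨0, -1⟩, ⟨1, 2⟩, ⟨1, 1⟩, ⟨-1, 1⟩, ⟨0, 1⟩, ⟨1, -3⟩, ⟨0, 1⟩, ⟨-1, -2⟩, ⟨-2, -2⟩, ⟨-1, 0⟩, ⟨-1, 1⟩, ⟨0, 0⟩, ⟨0, -1⟩, ⟨-1, -2⟩],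
   [⟨0, 0⟩, ⟨0, 0⟩, ⟨1, -1⟩, ⟨-1, -1⟩, ⟨0, 0⟩, ⟨-1, -1⟩, ⟨0, 0⟩, ⟨-1, -1⟩, ⟨1, 0⟩, ⟨-1, 0⟩, ⟨1, 0⟩, ⟨0, 1⟩, ⟨0, 0⟩, ⟨1, -1⟩, ⟨0, 0⟩, ⟨-1, 1⟩, ⟨0, 0⟩, ⟨1, 1⟩, ⟨-1, -1⟩, ⟨0, 0⟩, ⟨-1, 0⟩, ⟨0, 1⟩, ⟨-1, 0⟩, ⟨1, 2⟩, ⟨0, 0⟩, ⟨0, 0⟩, ⟨0, 0⟩, ⟨2, 0⟩]),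
  ([⟨0, 0⟩, ⟨1, 0⟩, ⟨0, 0⟩, ⟨1, 0⟩, ⟨0, 0⟩, ⟨0, 0⟩, ⟨0, 0⟩, ⟨0, 0⟩, ⟨0, 0⟩, ⟨0, 0⟩, ⟨1, 0⟩, ⟨0, 0⟩, ⟨0, 0⟩, ⟨1, 1⟩, ⟨1, 0⟩, ⟨-1, 1⟩, ⟨1, 1⟩, ⟨0, 0⟩, ⟨0, 0⟩, ⟨1, -1⟩, ⟨-1, -2⟩, ⟨0, -2⟩, ⟨1, -2⟩, ⟨1, -1⟩, ⟨1, -2⟩, ⟨-1, -1⟩, ⟨1, -2⟩, ⟨-1, -3⟩],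
   [⟨0, 0⟩, ⟨1, 0⟩, ⟨1, 0⟩, ⟨-1, -1⟩, ⟨0, 0⟩, ⟨0, 0⟩, ⟨0, 1⟩, ⟨1, 0⟩, ⟨0, 0⟩, ⟨0, 0⟩, ⟨0, -1⟩, ⟨0, -1⟩, ⟨0, 0⟩, ⟨-1, 0⟩, ⟨-1, 1⟩, ⟨-1, 0⟩, ⟨0, 0⟩, ⟨-1, 0⟩, ⟨-1, 0⟩, ⟨0, 2⟩, ⟨0, 0⟩, ⟨1, 0⟩, ⟨1, 1⟩, ⟨0, -1⟩, ⟨0, 0⟩, ⟨0, 0⟩, ⟨0, 0⟩, ⟨1, -1⟩]),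
  ([⟨0, 0⟩, ⟨0, 0⟩, ⟨1, 0⟩, ⟨0, 0⟩, ⟨0, 0⟩, ⟨-1, 0⟩, ⟨0, 0⟩, ⟨0, 0⟩, ⟨0, 1⟩, ⟨1, -1⟩, ⟨0, -1⟩, ⟨0, -1⟩, ⟨0, 1⟩, ⟨0, 0⟩, ⟨1, 0⟩, ⟨1, 0⟩, ⟨0, -1⟩, ⟨-1, 0⟩, ⟨1, 0⟩, ⟨-1, 0⟩, ⟨-2, 0⟩, ⟨-2, 0⟩, ⟨-1, -1⟩, ⟨-1, 0⟩, ⟨-2, 0⟩, ⟨-2, 1⟩, ⟨0, 1⟩, ⟨-2, 2⟩],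
   [⟨0, 0⟩, ⟨0, 0⟩, ⟨0, 0⟩, ⟨0, 2⟩, ⟨1, 0⟩, ⟨-1, 0⟩, ⟨1, 0⟩, ⟨0, -1⟩, ⟨0, 0⟩, ⟨0, 0⟩, ⟨0, 0⟩, ⟨0, 2⟩, ⟨0, 0⟩, ⟨-1, 1⟩, ⟨0, 0⟩, ⟨-1, -1⟩, ⟨0, 0⟩, ⟨1, 1⟩, ⟨1, -1⟩, ⟨2, 0⟩, ⟨0, 1⟩, ⟨2, -1⟩, ⟨-1, 0⟩, ⟨0, 1⟩, ⟨0, 0⟩, ⟨0, 0⟩, ⟨0, 0⟩, ⟨0, 0⟩]),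
  ([⟨0, 0⟩, ⟨0, 0⟩, ⟨0, 0⟩, ⟨0, 0⟩, ⟨1, 0⟩, ⟨1, 1⟩, ⟨0, 0⟩, ⟨0, 0⟩, ⟨0, 1⟩, ⟨1, -1⟩, ⟨0, 1⟩, ⟨1, -1⟩, ⟨0, 0⟩, ⟨1, 1⟩, ⟨1, 0⟩, ⟨0, -1⟩, ⟨-1, -1⟩, ⟨1, 1⟩, ⟨-1, -1⟩, ⟨1, 0⟩, ⟨0, -1⟩, ⟨-2, 0⟩, ⟨1, -1⟩, ⟨0, 0⟩, ⟨2, -2⟩, ⟨-1, -1⟩, ⟨1, -1⟩, ⟨0, 1⟩],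
   [⟨0, 0⟩, ⟨0, 0⟩, ⟨0, 0⟩, ⟨0, 2⟩, ⟨0, 0⟩, ⟨1, 1⟩, ⟨0, 0⟩, ⟨-1, -1⟩, ⟨0, 0⟩, ⟨0, 0⟩, ⟨0, 0⟩, ⟨2, 2⟩, ⟨1, 0⟩, ⟨-1, 0⟩, ⟨0, 1⟩, ⟨-1, 0⟩, ⟨0, 0⟩, ⟨0, 0⟩, ⟨-1, -1⟩, ⟨1, -1⟩, ⟨0, 1⟩, ⟨-1, 2⟩, ⟨2, 1⟩, ⟨0, 1⟩, ⟨0, 0⟩, ⟨0, 0⟩, ⟨0, 0⟩, ⟨0, 2⟩]),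
  ([⟨0, 0⟩, ⟨0, 0⟩, ⟨0, 0⟩, ⟨0, 0⟩, ⟨0, 0⟩, ⟨-1, 1⟩, ⟨0, 0⟩, ⟨1, 0⟩, ⟨0, 1⟩, ⟨0, -1⟩, ⟨0, 0⟩, ⟨0, 0⟩, ⟨0, 0⟩, ⟨0, 0⟩, ⟨0, 0⟩, ⟨1, -1⟩, ⟨0, -1⟩, ⟨0, 1⟩, ⟨1, 0⟩, ⟨-1, 0⟩, ⟨-1, 1⟩, ⟨-2, 0⟩, ⟨-2, 2⟩, ⟨0, 0⟩, ⟨-1, 1⟩, ⟨0, 0⟩, ⟨-1, 0⟩, ⟨-1, 2⟩],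
   [⟨0, 0⟩, ⟨0, 0⟩, ⟨0, 0⟩, ⟨2, 2⟩, ⟨0, 0⟩, ⟨-1, 1⟩, ⟨-1, 1⟩, ⟨0, 2⟩, ⟨0, 0⟩, ⟨0, 0⟩, ⟨0, 0⟩, ⟨0, 2⟩, ⟨0, 0⟩, ⟨0, 0⟩, ⟨1, 1⟩, ⟨-1, -1⟩, ⟨1, 0⟩, ⟨0, -1⟩, ⟨1, 0⟩, ⟨1, 2⟩, ⟨0, 1⟩, ⟨0, -1⟩, ⟨0, -1⟩, ⟨-1, 0⟩, ⟨0, 0⟩, ⟨0, 0⟩, ⟨0, 0⟩, ⟨0, 2⟩]),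
  ([⟨0, 0⟩, ⟨0, 0⟩, ⟨0, 0⟩, ⟨0, 0⟩, ⟨0, 0⟩, ⟨0, 0⟩, ⟨0, 0⟩, ⟨0, 0⟩, ⟨1, 1⟩, ⟨0, -1⟩, ⟨0, 0⟩, ⟨0, -1⟩, ⟨0, 0⟩, ⟨0, 0⟩, ⟨0, 0⟩, ⟨0, -1⟩, ⟨-1, -1⟩, ⟨1, 1⟩, ⟨1, 0⟩, ⟨-1, 0⟩, ⟨-1, 1⟩, ⟨-1, 2⟩, ⟨-1, 2⟩, ⟨-1, 0⟩, ⟨-1, 0⟩, ⟨0, 1⟩, ⟨0, 1⟩, ⟨0, 3⟩],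
   [⟨0, 0⟩, ⟨0, 0⟩, ⟨0, 0⟩, ⟨2, 0⟩, ⟨0, 0⟩, ⟨0, 0⟩, ⟨0, 0⟩, ⟨0, 2⟩, ⟨0, 0⟩, ⟨0, 0⟩, ⟨0, 0⟩, ⟨2, 0⟩, ⟨0, 0⟩, ⟨0, 0⟩, ⟨0, 0⟩, ⟨0, 2⟩, ⟨0, 0⟩, ⟨0, 0⟩, ⟨2, 0⟩, ⟨0, 0⟩, ⟨1, 1⟩, ⟨-1, 1⟩, ⟨-1, -1⟩, ⟨1, -1⟩, ⟨0, 0⟩, ⟨0, 0⟩, ⟨0, 0⟩, ⟨0, 2⟩]),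
  ([⟨0, 0⟩, ⟨0, 0⟩, ⟨0, 0⟩, ⟨0, 2⟩, ⟨0, 0⟩, ⟨0, 0⟩, ⟨0, 0⟩, ⟨0, 0⟩, ⟨0, 0⟩, ⟨0, 0⟩, ⟨1, 0⟩, ⟨0, -1⟩, ⟨0, 1⟩, ⟨0, 1⟩, ⟨0, 1⟩, ⟨-1, -1⟩, ⟨-1, 1⟩, ⟨0, -1⟩, ⟨-1, 0⟩, ⟨0, 1⟩, ⟨1, -2⟩, ⟨2, 0⟩, ⟨3, 0⟩, ⟨2, 0⟩, ⟨1, 0⟩, ⟨-1, 0⟩, ⟨1, 1⟩, ⟨1, -1⟩],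
   [⟨0, 0⟩, ⟨0, 0⟩, ⟨0, 2⟩, ⟨0, 2⟩, ⟨0, 0⟩, ⟨0, 0⟩, ⟨0, 0⟩, ⟨0, 0⟩, ⟨0, 0⟩, ⟨0, 0⟩, ⟨0, 0⟩, ⟨0, 0⟩, ⟨0, 0⟩, ⟨0, 0⟩, ⟨0, 0⟩, ⟨0, 0⟩, ⟨0, 0⟩, ⟨0, 0⟩, ⟨0, 0⟩, ⟨2, 2⟩, ⟨0, 0⟩, ⟨2, 0⟩, ⟨2, 0⟩, ⟨2, 2⟩, ⟨0, 0⟩, ⟨0, 0⟩, ⟨0, 0⟩, ⟨0, 0⟩]),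
  ([⟨0, 0⟩, ⟨0, 0⟩, ⟨0, 0⟩, ⟨0, 0⟩, ⟨0, 0⟩, ⟨0, 2⟩, ⟨0, 0⟩, ⟨0, 0⟩, ⟨0, 0⟩, ⟨0, 0⟩, ⟨-1, 0⟩, ⟨0, 0⟩, ⟨0, 0⟩, ⟨0, 1⟩, ⟨1, 0⟩, ⟨0, -1⟩, ⟨1, -2⟩, ⟨2, -1⟩, ⟨0, -1⟩, ⟨-2, 2⟩, ⟨-1, 0⟩, ⟨-1, 0⟩, ⟨0, 2⟩, ⟨-2, -1⟩, ⟨1, 0⟩, ⟨-1, 0⟩, ⟨-1, -1⟩, ⟨0, 2⟩],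
   [⟨0, 0⟩, ⟨0, 0⟩, ⟨0, 0⟩, ⟨0, 0⟩, ⟨0, 0⟩, ⟨0, 2⟩, ⟨0, 0⟩, ⟨0, 2⟩, ⟨0, 0⟩, ⟨0, 0⟩, ⟨0, 0⟩, ⟨2, 2⟩, ⟨0, 0⟩, ⟨0, 0⟩, ⟨0, 0⟩, ⟨0, 0⟩, ⟨0, 0⟩, ⟨0, 0⟩, ⟨2, 0⟩, ⟨0, 2⟩, ⟨0, 0⟩, ⟨2, 2⟩, ⟨0, 0⟩, ⟨2, 2⟩, ⟨0, 0⟩, ⟨0, 0⟩, ⟨0, 0⟩, ⟨0, 0⟩]),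
  ([⟨0, 0⟩, ⟨0, 0⟩, ⟨0, 0⟩, ⟨0, 0⟩, ⟨0, 0⟩, ⟨0, 0⟩, ⟨0, 0⟩, ⟨0, 0⟩, ⟨0, 0⟩, ⟨0, 0⟩, ⟨0, 0⟩, ⟨1, 0⟩, ⟨0, 0⟩, ⟨0, 0⟩, ⟨0, 0⟩, ⟨0, 0⟩, ⟨1, -1⟩, ⟨0, 0⟩, ⟨0, 0⟩, ⟨0, 0⟩, ⟨-1, 0⟩, ⟨0, 0⟩, ⟨0, 1⟩, ⟨-1, 0⟩, ⟨0, -1⟩, ⟨-1, 0⟩, ⟨-1, 0⟩, ⟨-1, 0⟩],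
   [⟨0, 0⟩, ⟨0, 0⟩, ⟨0, 0⟩, ⟨0, 0⟩, ⟨0, 0⟩, ⟨0, 0⟩, ⟨0, 0⟩, ⟨0, 0⟩, ⟨0, 0⟩, ⟨0, 2⟩, ⟨0, 0⟩, ⟨0, 2⟩, ⟨0, 0⟩, ⟨0, 0⟩, ⟨0, 0⟩, ⟨2, 2⟩, ⟨0, 0⟩, ⟨0, 0⟩, ⟨2, 2⟩, ⟨2, 2⟩, ⟨0, 0⟩, ⟨0, 0⟩, ⟨0, 2⟩, ⟨2, 0⟩, ⟨0, 0⟩, ⟨0, 0⟩, ⟨0, 0⟩, ⟨0, 0⟩]),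
  ([⟨0, 0⟩, ⟨0, 0⟩, ⟨0, 0⟩, ⟨0, 0⟩, ⟨0, 0⟩, ⟨0, 0⟩, ⟨0, 0⟩, ⟨0, 0⟩, ⟨0, 0⟩, ⟨0, 0⟩, ⟨0, 0⟩, ⟨0, 0⟩, ⟨0, 0⟩, ⟨0, 0⟩, ⟨0, 0⟩, ⟨1, 0⟩, ⟨1, 0⟩, ⟨0, 0⟩, ⟨0, 0⟩, ⟨0, 0⟩, ⟨0, -1⟩, ⟨0, 0⟩, ⟨-1, 0⟩, ⟨0, 0⟩, ⟨0, -1⟩, ⟨-1, 0⟩, ⟨-1, -1⟩, ⟨-1, 0⟩],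
   [⟨0, 0⟩, ⟨0, 0⟩, ⟨0, 0⟩, ⟨0, 0⟩, ⟨0, 0⟩, ⟨0, 0⟩, ⟨0, 0⟩, ⟨2, 2⟩, ⟨0, 0⟩, ⟨0, 0⟩, ⟨0, 2⟩, ⟨2, 0⟩, ⟨0, 0⟩, ⟨0, 0⟩, ⟨0, 0⟩, ⟨2, 2⟩, ⟨0, 0⟩, ⟨0, 0⟩, ⟨0, 2⟩, ⟨0, 2⟩, ⟨0, 0⟩, ⟨0, 0⟩, ⟨0, 2⟩, ⟨2, 0⟩, ⟨0, 0⟩, ⟨0, 0⟩, ⟨0, 0⟩, ⟨0, 0⟩]),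
  ([⟨0, 0⟩, ⟨0, 0⟩, ⟨0, 0⟩, ⟨0, 0⟩, ⟨0, 0⟩, ⟨0, 0⟩, ⟨0, 0⟩, ⟨0, 0⟩, ⟨0, 0⟩, ⟨0, 0⟩, ⟨0, 0⟩, ⟨0, 0⟩, ⟨1, 0⟩, ⟨0, 0⟩, ⟨0, 0⟩, ⟨0, 0⟩, ⟨1, 0⟩, ⟨0, -1⟩, ⟨0, 0⟩, ⟨0, 1⟩, ⟨0, 0⟩, ⟨0, 0⟩, ⟨-1, 0⟩, ⟨-1, 0⟩, ⟨-1, -1⟩, ⟨-1, 0⟩, ⟨-1, -1⟩, ⟨-1, 0⟩],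
   [⟨0, 0⟩, ⟨0, 0⟩, ⟨0, 0⟩, ⟨0, 0⟩, ⟨0, 0⟩, ⟨0, 0⟩, ⟨0, 0⟩, ⟨2, 2⟩, ⟨0, 0⟩, ⟨0, 0⟩, ⟨0, 0⟩, ⟨2, 2⟩, ⟨0, 0⟩, ⟨0, 2⟩, ⟨0, 0⟩, ⟨0, 2⟩, ⟨0, 0⟩, ⟨0, 0⟩, ⟨0, 2⟩, ⟨0, 2⟩, ⟨0, 0⟩, ⟨2, 0⟩, ⟨0, 2⟩, ⟨0, 0⟩, ⟨0, 0⟩, ⟨0, 0⟩, ⟨0, 0⟩, ⟨0, 0⟩]),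
  ([⟨0, 0⟩, ⟨0, 0⟩, ⟨0, 0⟩, ⟨0, 0⟩, ⟨0, 0⟩, ⟨0, 0⟩, ⟨0, 0⟩, ⟨0, 0⟩, ⟨0, 0⟩, ⟨0, 0⟩, ⟨1, 0⟩, ⟨0, 0⟩, ⟨0, 0⟩, ⟨0, 0⟩, ⟨0, 0⟩, ⟨0, 0⟩, ⟨0, 0⟩, ⟨0, -1⟩, ⟨0, 1⟩, ⟨-1, 0⟩, ⟨0, 0⟩, ⟨0, 0⟩, ⟨0, 0⟩, ⟨0, 1⟩, ⟨-1, -1⟩, ⟨-1, 0⟩, ⟨-1, 0⟩, ⟨-1, -1⟩],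
   [⟨0, 0⟩, ⟨0, 0⟩, ⟨0, 0⟩, ⟨2, 2⟩, ⟨0, 0⟩, ⟨0, 0⟩, ⟨0, 2⟩, ⟨0, 2⟩, ⟨0, 0⟩, ⟨0, 0⟩, ⟨0, 0⟩, ⟨2, 2⟩, ⟨0, 0⟩, ⟨0, 0⟩, ⟨0, 0⟩, ⟨2, 2⟩, ⟨0, 0⟩, ⟨0, 0⟩, ⟨0, 0⟩, ⟨2, 2⟩, ⟨0, 0⟩, ⟨2, 0⟩, ⟨2, 2⟩, ⟨2, 0⟩, ⟨0, 0⟩, ⟨0, 0⟩, ⟨0, 0⟩, ⟨0, 0⟩]),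
  ([⟨0, 0⟩, ⟨0, 0⟩, ⟨0, 0⟩, ⟨0, 0⟩, ⟨0, 0⟩, ⟨0, 0⟩, ⟨0, 0⟩, ⟨0, 0⟩, ⟨0, 0⟩, ⟨0, 0⟩, ⟨0, 0⟩, ⟨0, 0⟩, ⟨0, 0⟩, ⟨1, 0⟩, ⟨0, 0⟩, ⟨0, 0⟩, ⟨1, 0⟩, ⟨0, -1⟩, ⟨0, 0⟩, ⟨0, 1⟩, ⟨-1, -1⟩, ⟨0, 0⟩, ⟨-1, 0⟩, ⟨0, 0⟩, ⟨0, -1⟩, ⟨-1, 0⟩, ⟨-1, -1⟩, ⟨-1, 0⟩],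
   [⟨0, 0⟩, ⟨0, 0⟩, ⟨0, 0⟩, ⟨0, 0⟩, ⟨0, 0⟩, ⟨0, 0⟩, ⟨0, 0⟩, ⟨2, 2⟩, ⟨0, 0⟩, ⟨0, 0⟩, ⟨0, 0⟩, ⟨0, 0⟩, ⟨0, 0⟩, ⟨0, 0⟩, ⟨0, 2⟩, ⟨2, 0⟩, ⟨0, 0⟩, ⟨0, 0⟩, ⟨0, 2⟩, ⟨0, 2⟩, ⟨0, 0⟩, ⟨2, 0⟩, ⟨2, 2⟩, ⟨2, 0⟩, ⟨0, 0⟩, ⟨0, 0⟩, ⟨0, 0⟩, ⟨0, 0⟩]),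
  ([⟨0, 0⟩, ⟨0, 0⟩, ⟨0, 0⟩, ⟨0, 0⟩, ⟨0, 0⟩, ⟨0, 0⟩, ⟨0, 0⟩, ⟨0, 0⟩, ⟨0, 0⟩, ⟨0, 0⟩, ⟨0, 0⟩, ⟨0, 0⟩, ⟨0, 0⟩, ⟨0, 0⟩, ⟨1, 0⟩, ⟨0, 0⟩, ⟨1, -1⟩, ⟨1, 0⟩, ⟨0, 1⟩, ⟨-1, -1⟩, ⟨-2, -1⟩, ⟨-1, -1⟩, ⟨-1, 0⟩, ⟨-1, -1⟩, ⟨-1, -2⟩, ⟨-1, 0⟩, ⟨-1, -1⟩, ⟨-1, 0⟩],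
   [⟨0, 0⟩, ⟨0, 0⟩, ⟨0, 0⟩, ⟨2, 2⟩, ⟨0, 0⟩, ⟨0, 0⟩, ⟨0, 0⟩, ⟨0, 0⟩, ⟨0, 0⟩, ⟨0, 0⟩, ⟨0, 0⟩, ⟨0, 0⟩, ⟨0, 0⟩, ⟨0, 0⟩, ⟨0, 0⟩, ⟨0, 0⟩, ⟨0, 0⟩, ⟨0, 2⟩, ⟨2, 2⟩, ⟨0, 2⟩, ⟨0, 0⟩, ⟨0, 2⟩, ⟨0, 2⟩, ⟨0, 0⟩, ⟨0, 0⟩, ⟨0, 0⟩, ⟨0, 0⟩, ⟨0, 0⟩]),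
  ([⟨0, 0⟩, ⟨0, 0⟩, ⟨0, 0⟩, ⟨0, 0⟩, ⟨0, 0⟩, ⟨0, 0⟩, ⟨0, 0⟩, ⟨0, 0⟩, ⟨0, 0⟩, ⟨0, 0⟩, ⟨0, 0⟩, ⟨0, 0⟩, ⟨0, 0⟩, ⟨0, 0⟩, ⟨0, 0⟩, ⟨0, 0⟩, ⟨0, 0⟩, ⟨0, 0⟩, ⟨1, 0⟩],
   [⟨0, 0⟩, ⟨0, 0⟩, ⟨0, 0⟩, ⟨2, -2⟩, ⟨0, 0⟩, ⟨0, 0⟩, ⟨0, 0⟩, ⟨2, -2⟩, ⟨0, 0⟩, ⟨0, 0⟩, ⟨0, 0⟩, ⟨2, -2⟩, ⟨0, 0⟩, ⟨0, 0⟩, ⟨0, 0⟩, ⟨2, -2⟩, ⟨0, 0⟩, ⟨0, 0⟩, ⟨0, 0⟩, ⟨2, -2⟩, ⟨0, 0⟩, ⟨0, 0⟩, ⟨0, 0⟩, ⟨2, -2⟩, ⟨0, 0⟩, ⟨0, 0⟩, ⟨0, 0⟩, ⟨2, -2⟩]),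
  ([⟨0, 0⟩, ⟨0, 0⟩, ⟨0, 0⟩, ⟨0, 0⟩, ⟨0, 0⟩, ⟨0, 0⟩, ⟨0, 0⟩, ⟨0, 0⟩, ⟨0, 0⟩, ⟨0, 0⟩, ⟨0, 0⟩, ⟨0, 0⟩, ⟨0, 0⟩, ⟨0, 0⟩, ⟨0, 0⟩, ⟨0, 0⟩, ⟨0, 0⟩, ⟨0, 0⟩, ⟨1, 1⟩, ⟨-1, 0⟩, ⟨-1, 0⟩, ⟨-1, 0⟩, ⟨-1, 0⟩, ⟨0, 0⟩, ⟨-1, 0⟩, ⟨0, 0⟩, ⟨0, 0⟩, ⟨-1, 0⟩],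
   [⟨0, 0⟩, ⟨0, 0⟩, ⟨0, 0⟩, ⟨4, 0⟩, ⟨0, 0⟩, ⟨0, 0⟩, ⟨0, 0⟩, ⟨0, 0⟩, ⟨0, 0⟩, ⟨0, 0⟩, ⟨0, 0⟩, ⟨0, 0⟩, ⟨0, 0⟩, ⟨0, 0⟩, ⟨0, 0⟩, ⟨0, 0⟩, ⟨0, 0⟩, ⟨0, 0⟩, ⟨0, 0⟩, ⟨0, 0⟩, ⟨0, 0⟩, ⟨0, 0⟩, ⟨0, 0⟩, ⟨0, 0⟩, ⟨0, 0⟩, ⟨0, 0⟩, ⟨0, 0⟩, ⟨0, 0⟩]),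
  ([⟨0, 0⟩, ⟨0, 0⟩, ⟨0, 0⟩, ⟨0, 0⟩, ⟨0, 0⟩, ⟨0, 0⟩, ⟨0, 0⟩, ⟨0, 0⟩, ⟨0, 0⟩, ⟨0, 0⟩, ⟨0, 0⟩, ⟨0, 0⟩, ⟨0, 0⟩, ⟨0, 0⟩, ⟨0, 0⟩, ⟨0, 0⟩, ⟨0, 0⟩, ⟨0, 0⟩, ⟨0, 0⟩, ⟨1, 0⟩],
   [⟨0, 0⟩, ⟨0, 0⟩, ⟨0, 0⟩, ⟨0, 0⟩, ⟨0, 0⟩, ⟨0, 0⟩, ⟨0, 0⟩, ⟨4, 0⟩, ⟨0, 0⟩, ⟨0, 0⟩, ⟨0, 0⟩, ⟨0, 0⟩, ⟨0, 0⟩, ⟨0, 0⟩, ⟨0, 0⟩, ⟨0, 0⟩, ⟨0, 0⟩, ⟨0, 0⟩, ⟨0, 0⟩, ⟨0, 0⟩, ⟨0, 0⟩, ⟨0, 0⟩, ⟨0, 0⟩, ⟨0, 0⟩, ⟨0, 0⟩, ⟨0, 0⟩, ⟨0, 0⟩, ⟨0, 0⟩]),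
  ([⟨0, 0⟩, ⟨0, 0⟩, ⟨0, 0⟩, ⟨0, 0⟩, ⟨0, 0⟩, ⟨0, 0⟩, ⟨0, 0⟩, ⟨0, 0⟩, ⟨0, 0⟩, ⟨0, 0⟩, ⟨0, 0⟩, ⟨0, 0⟩, ⟨0, 0⟩, ⟨0, 0⟩, ⟨0, 0⟩, ⟨0, 0⟩, ⟨0, 0⟩, ⟨0, 0⟩, ⟨0, 0⟩, ⟨0, 0⟩, ⟨1, 0⟩],
   [⟨0, 0⟩, ⟨0, 0⟩, ⟨0, 0⟩, ⟨0, 0⟩, ⟨0, 0⟩, ⟨0, 0⟩, ⟨0, 0⟩, ⟨0, 0⟩, ⟨0, 0⟩, ⟨0, 0⟩, ⟨0, 0⟩, ⟨4, 0⟩, ⟨0, 0⟩, ⟨0, 0⟩, ⟨0, 0⟩, ⟨0, 0⟩, ⟨0, 0⟩, ⟨0, 0⟩, ⟨0, 0⟩, ⟨0, 0⟩, ⟨0, 0⟩, ⟨0, 0⟩, ⟨0, 0⟩, ⟨0, 0⟩, ⟨0, 0⟩, ⟨0, 0⟩, ⟨0, 0⟩, ⟨0, 0⟩]),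
  ([⟨0, 0⟩, ⟨0, 0⟩, ⟨0, 0⟩, ⟨0, 0⟩, ⟨0, 0⟩, ⟨0, 0⟩, ⟨0, 0⟩, ⟨0, 0⟩, ⟨0, 0⟩, ⟨0, 0⟩, ⟨0, 0⟩, ⟨0, 0⟩, ⟨0, 0⟩, ⟨0, 0⟩, ⟨0, 0⟩, ⟨0, 0⟩, ⟨0, 0⟩, ⟨0, 0⟩, ⟨0, 0⟩, ⟨0, 0⟩, ⟨0, 0⟩, ⟨1, 0⟩],
   [⟨0, 0⟩, ⟨0, 0⟩, ⟨0, 0⟩, ⟨0, 0⟩, ⟨0, 0⟩, ⟨0, 0⟩, ⟨0, 0⟩, ⟨0, 0⟩, ⟨0, 0⟩, ⟨0, 0⟩, ⟨0, 0⟩, ⟨0, 0⟩, ⟨0, 0⟩, ⟨0, 0⟩, ⟨0, 0⟩, ⟨4, 0⟩, ⟨0, 0⟩, ⟨0, 0⟩, ⟨0, 0⟩, ⟨0, 0⟩, ⟨0, 0⟩, ⟨0, 0⟩, ⟨0, 0⟩, ⟨0, 0⟩, ⟨0, 0⟩, ⟨0, 0⟩, ⟨0, 0⟩, ⟨0, 0⟩]),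
  ([⟨0, 0⟩, ⟨0, 0⟩, ⟨0, 0⟩, ⟨0, 0⟩, ⟨0, 0⟩, ⟨0, 0⟩, ⟨0, 0⟩, ⟨0, 0⟩, ⟨0, 0⟩, ⟨0, 0⟩, ⟨0, 0⟩, ⟨0, 0⟩, ⟨0, 0⟩, ⟨0, 0⟩, ⟨0, 0⟩, ⟨0, 0⟩, ⟨0, -2⟩, ⟨0, 0⟩, ⟨0, 0⟩, ⟨0, 0⟩, ⟨-1, 1⟩, ⟨0, 0⟩, ⟨0, 1⟩, ⟨-1, 0⟩, ⟨-1, 0⟩, ⟨0, 1⟩, ⟨-1, 1⟩, ⟨0, 1⟩],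
   [⟨0, 0⟩, ⟨0, 0⟩, ⟨0, 0⟩, ⟨0, 0⟩, ⟨0, 0⟩, ⟨0, 0⟩, ⟨0, 0⟩, ⟨0, 0⟩, ⟨0, 0⟩, ⟨0, 0⟩, ⟨0, 0⟩, ⟨0, 0⟩, ⟨0, 0⟩, ⟨0, 0⟩, ⟨0, 0⟩, ⟨0, 0⟩, ⟨0, 0⟩, ⟨0, 0⟩, ⟨4, 0⟩, ⟨0, 0⟩, ⟨0, 0⟩, ⟨0, 0⟩, ⟨0, 0⟩, ⟨0, 0⟩, ⟨0, 0⟩, ⟨0, 0⟩, ⟨0, 0⟩, ⟨0, 0⟩]),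
  ([⟨0, 0⟩, ⟨0, 0⟩, ⟨0, 0⟩, ⟨0, 0⟩, ⟨0, 0⟩, ⟨0, 0⟩, ⟨0, 0⟩, ⟨0, 0⟩, ⟨0, 0⟩, ⟨0, 0⟩, ⟨0, 0⟩, ⟨0, 0⟩, ⟨0, 0⟩, ⟨0, 0⟩, ⟨0, 0⟩, ⟨0, 0⟩, ⟨0, 0⟩, ⟨0, 0⟩, ⟨0, 0⟩, ⟨0, 0⟩, ⟨0, 0⟩, ⟨0, 0⟩, ⟨1, 0⟩],
   [⟨0, 0⟩, ⟨0, 0⟩, ⟨0, 0⟩, ⟨0, 0⟩, ⟨0, 0⟩, ⟨0, 0⟩, ⟨0, 0⟩, ⟨0, 0⟩, ⟨0, 0⟩, ⟨0, 0⟩, ⟨0, 0⟩, ⟨0, 0⟩, ⟨0, 0⟩, ⟨0, 0⟩, ⟨0, 0⟩, ⟨0, 0⟩, ⟨0, 0⟩, ⟨0, 0⟩, ⟨0, 0⟩, ⟨4, 0⟩, ⟨0, 0⟩, ⟨0, 0⟩, ⟨0, 0⟩, ⟨0, 0⟩, ⟨0, 0⟩, ⟨0, 0⟩, ⟨0, 0⟩, ⟨0, 0⟩]),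
  ([⟨0, 0⟩, ⟨0, 0⟩, ⟨0, 0⟩, ⟨0, 0⟩, ⟨0, 0⟩, ⟨0, 0⟩, ⟨0, 0⟩, ⟨0, 0⟩, ⟨0, 0⟩, ⟨0, 0⟩, ⟨0, 0⟩, ⟨0, 0⟩, ⟨0, 0⟩, ⟨0, 0⟩, ⟨0, 0⟩, ⟨0, 0⟩, ⟨0, 0⟩, ⟨0, -2⟩, ⟨0, 0⟩, ⟨-1, 1⟩, ⟨0, 0⟩, ⟨0, 0⟩, ⟨0, 0⟩, ⟨-1, 1⟩, ⟨-1, 0⟩, ⟨-1, 0⟩, ⟨-1, 0⟩],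
   [⟨0, 0⟩, ⟨0, 0⟩, ⟨0, 0⟩, ⟨0, 0⟩, ⟨0, 0⟩, ⟨0, 0⟩, ⟨0, 0⟩, ⟨0, 0⟩, ⟨0, 0⟩, ⟨0, 0⟩, ⟨0, 0⟩, ⟨0, 0⟩, ⟨0, 0⟩, ⟨0, 0⟩, ⟨0, 0⟩, ⟨0, 0⟩, ⟨0, 0⟩, ⟨0, 0⟩, ⟨0, 0⟩, ⟨0, 0⟩, ⟨0, 0⟩, ⟨4, 0⟩, ⟨0, 0⟩, ⟨0, 0⟩, ⟨0, 0⟩, ⟨0, 0⟩, ⟨0, 0⟩, ⟨0, 0⟩]),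
  ([⟨0, 0⟩, ⟨0, 0⟩, ⟨0, 0⟩, ⟨0, 0⟩, ⟨0, 0⟩, ⟨0, 0⟩, ⟨0, 0⟩, ⟨0, 0⟩, ⟨0, 0⟩, ⟨0, 0⟩, ⟨0, 0⟩, ⟨0, 0⟩, ⟨0, 0⟩, ⟨0, 0⟩, ⟨0, 0⟩, ⟨0, 0⟩, ⟨0, 0⟩, ⟨0, 0⟩, ⟨0, 0⟩, ⟨0, 0⟩, ⟨0, 0⟩, ⟨0, 0⟩, ⟨0, 0⟩, ⟨1, 0⟩],
   [⟨0, 0⟩, ⟨0, 0⟩, ⟨0, 0⟩, ⟨0, 0⟩, ⟨0, 0⟩, ⟨0, 0⟩, ⟨0, 0⟩, ⟨0, 0⟩, ⟨0, 0⟩, ⟨0, 0⟩, ⟨0, 0⟩, ⟨0, 0⟩, ⟨0, 0⟩, ⟨0, 0⟩, ⟨0, 0⟩, ⟨0, 0⟩, ⟨0, 0⟩, ⟨0, 0⟩, ⟨0, 0⟩, ⟨0, 0⟩, ⟨0, 0⟩, ⟨0, 0⟩, ⟨4, 0⟩, ⟨0, 0⟩, ⟨0, 0⟩, ⟨0, 0⟩, ⟨0, 0⟩, ⟨0, 0⟩]),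
  ([⟨0, 0⟩, ⟨0, 0⟩, ⟨0, 0⟩, ⟨0, 0⟩, ⟨0, 0⟩, ⟨0, 0⟩, ⟨0, 0⟩, ⟨0, 0⟩, ⟨0, 0⟩, ⟨0, 0⟩, ⟨0, 0⟩, ⟨0, 0⟩, ⟨0, 0⟩, ⟨0, 0⟩, ⟨0, 0⟩, ⟨0, 0⟩, ⟨0, 0⟩, ⟨0, 0⟩, ⟨0, 0⟩, ⟨0, 0⟩, ⟨0, 0⟩, ⟨0, 0⟩, ⟨0, 0⟩, ⟨0, 0⟩, ⟨1, 0⟩],
   [⟨0, 0⟩, ⟨0, 0⟩, ⟨0, 0⟩, ⟨0, 0⟩, ⟨0, 0⟩, ⟨0, 0⟩, ⟨0, 0⟩, ⟨0, 0⟩, ⟨0, 0⟩, ⟨0, 0⟩, ⟨0, 0⟩, ⟨0, 0⟩, ⟨0, 0⟩, ⟨0, 0⟩, ⟨0, 0⟩, ⟨0, 0⟩, ⟨0, 0⟩, ⟨0, 0⟩, ⟨0, 0⟩, ⟨0, 0⟩, ⟨0, 0⟩, ⟨0, 0⟩, ⟨0, 0⟩, ⟨4, 0⟩, ⟨0, 0⟩, ⟨0, 0⟩, ⟨0, 0⟩, ⟨0, 0⟩])]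

theorem certShift : ∀ i : Fin (B.map fun u => ruShift (toVec u)).length,
    lincomb (cwShift.getD i ([], [])).1 B = (cwShift.getD i ([], [])).2 ∧
      ∀ p, (B.map fun u => ruShift (toVec u)).getD i 0 p = toVec (cwShift.getD i ([], [])).2 p := by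
  decide +kernel

theorem mem_Lsp {x : RuVec} (hx : x ∈ ruLattice) : x ∈ Lsp B :=
  ruLattice_le B (mem_of_cert B ruTable tabCW tab_cert) (map_cert B ruRj cwRj certRj)
    (map_cert B ruRk cwRk certRk) (map_cert B ruSign cwSign certSign)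
    (map_cert B ruShift cwShift certShift) hx

theorem even_of_mem {x : RuVec} (hx : x ∈ ruLattice) : (8 : ℤ) ∣ ruNorm x :=
  eight_dvd_ruNorm hB gramB normB (mem_Lsp hx)

def KL : List (ℕ × RuIdx × List Gi) := [
  (255, (0, 0), [⟨2, 0⟩, ⟨0, 0⟩, ⟨0, 0⟩, ⟨0, 0⟩, ⟨0, 0⟩, ⟨0, 0⟩, ⟨0, 0⟩, ⟨0, 0⟩, ⟨-1, 0⟩, ⟨0, 1⟩, ⟨-1, 2⟩, ⟨1, 2⟩, ⟨1, -1⟩, ⟨-1, -1⟩, ⟨1, -1⟩, ⟨1, 1⟩, ⟨1, 0⟩, ⟨2, 1⟩, ⟨2, 1⟩, ⟨0, -1⟩, ⟨0, 0⟩, ⟨-1, -1⟩, ⟨0, 0⟩, ⟨1, -1⟩, ⟨1,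 1⟩, ⟨2, 2⟩, ⟨0, 2⟩, ⟨-1, -1⟩]),
  (3855, (0, 0), [⟨2, 0⟩, ⟨0, 0⟩, ⟨0, 0⟩, ⟨0, 0⟩, ⟨1, 1⟩, ⟨2, 0⟩, ⟨1, 1⟩, ⟨0, 0⟩, ⟨0, 0⟩, ⟨0, 0⟩, ⟨0, 0⟩, ⟨0, 0⟩, ⟨2, 1⟩, ⟨2, -1⟩, ⟨-1, 2⟩, ⟨0, 1⟩, ⟨0, 0⟩, ⟨0, 2⟩, ⟨-1, 1⟩, ⟨-1, 1⟩, ⟨0, 1⟩, ⟨1, 0⟩, ⟨2, 1⟩, ⟨0, 1⟩, ⟨2, 2⟩, ⟨2, 0⟩, ⟨0, 0⟩, ⟨0, 0⟩]),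
  (61455, (0, 0), [⟨2, 0⟩, ⟨0, 0⟩, ⟨0, 0⟩, ⟨0, 0⟩, ⟨-1, -1⟩, ⟨1, 1⟩, ⟨1, -1⟩, ⟨1, -1⟩, ⟨2, 0⟩, ⟨-1, 1⟩, ⟨0, 2⟩, ⟨1, -1⟩, ⟨0, 0⟩, ⟨0, 0⟩, ⟨0, 0⟩, ⟨0, 0⟩, ⟨0, 1⟩, ⟨2, 1⟩, ⟨-1, 2⟩, ⟨2, -1⟩, ⟨0, 0⟩, ⟨0, 0⟩, ⟨1, 1⟩, ⟨1, -1⟩, ⟨2, -1⟩, ⟨-1, 0⟩, ⟨2, 1⟩, ⟨0, -1⟩]),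
  (983055, (0, 0), [⟨2, 0⟩, ⟨0, 0⟩, ⟨0, 0⟩, ⟨0, 0⟩, ⟨-1, 2⟩, ⟨1, 0⟩, ⟨2, 1⟩, ⟨1, 0⟩, ⟨0, 0⟩, ⟨2, 0⟩, ⟨-1, 1⟩, ⟨-1, -1⟩, ⟨1, 0⟩, ⟨0, -1⟩, ⟨-1, 0⟩, ⟨1, 2⟩, ⟨0, 0⟩, ⟨0, 0⟩, ⟨0, 0⟩, ⟨0, 0⟩, ⟨0, 0⟩, ⟨0, 0⟩, ⟨2, 2⟩, ⟨0, 0⟩, ⟨2, 2⟩, ⟨-1, 1⟩, ⟨0, 2⟩, ⟨1, -1⟩]),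
  (15728655, (0, 0), [⟨2, 0⟩, ⟨0, 0⟩, ⟨0, 0⟩, ⟨0, 0⟩, ⟨0, 1⟩, ⟨1, 0⟩, ⟨1, 2⟩, ⟨-1, 0⟩, ⟨0, 0⟩, ⟨-1, -1⟩, ⟨0, 0⟩, ⟨-1, 1⟩, ⟨0, 0⟩, ⟨-1, -1⟩, ⟨1, -1⟩, ⟨0, 2⟩, ⟨2, 2⟩, ⟨0, 2⟩, ⟨0, 2⟩, ⟨2, 0⟩, ⟨0, 0⟩, ⟨0, 0⟩, ⟨0, 0⟩, ⟨0, 0⟩, ⟨0, -1⟩, ⟨-1, 2⟩, ⟨2, 1⟩, ⟨0, -1⟩]),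
  (251658255, (0, 0), [⟨2, 0⟩, ⟨0, 0⟩, ⟨0, 0⟩, ⟨0, 0⟩, ⟨1, 0⟩, ⟨1, 0⟩, ⟨1, 2⟩, ⟨2, 1⟩, ⟨0, 0⟩, ⟨2, 0⟩, ⟨0, 2⟩, ⟨0, 2⟩, ⟨0, 0⟩, ⟨1, -1⟩, ⟨0, 2⟩, ⟨1, -1⟩, ⟨0, 0⟩, ⟨1, -1⟩, ⟨-1, 1⟩, ⟨0, 0⟩, ⟨0, 1⟩, ⟨2, 1⟩, ⟨1, 2⟩, ⟨2, 1⟩, ⟨0, 0⟩, ⟨0, 0⟩, ⟨0, 0⟩, ⟨0, 0⟩]),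
  (4080, (1, 0), [⟨0, -1⟩, ⟨0, 1⟩, ⟨-1, 0⟩, ⟨2, -1⟩, ⟨2, 0⟩, ⟨0, 0⟩, ⟨0, 0⟩, ⟨0, 0⟩, ⟨0, 0⟩, ⟨0, 0⟩, ⟨0, 0⟩, ⟨0, 0⟩, ⟨1, 0⟩, ⟨-1, 2⟩, ⟨1, 0⟩, ⟨2, 1⟩, ⟨1, -1⟩, ⟨1, 1⟩, ⟨-1, -1⟩, ⟨1, 1⟩, ⟨0, 0⟩, ⟨1, -1⟩, ⟨0, 2⟩, ⟨1, 1⟩, ⟨2, 0⟩, ⟨1, -1⟩, ⟨1, -1⟩, ⟨2, 2⟩]),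
  (61680, (1, 0), [⟨2, 0⟩, ⟨2, 2⟩, ⟨0, 2⟩, ⟨0, 2⟩, ⟨2, 0⟩, ⟨0, 0⟩, ⟨0, 0⟩, ⟨0, 0⟩, ⟨0, 0⟩, ⟨-1, 1⟩, ⟨2, 2⟩, ⟨-1, 1⟩, ⟨0, 0⟩, ⟨0, 0⟩, ⟨0, 0⟩, ⟨0, 0⟩, ⟨1, 0⟩, ⟨-1, 2⟩, ⟨0, -1⟩, ⟨1, 2⟩, ⟨0, 0⟩, ⟨0, 0⟩, ⟨-1, 1⟩, ⟨-1, -1⟩, ⟨0, 1⟩, ⟨-1, 2⟩, ⟨0, 1⟩, ⟨2, 1⟩]),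
  (983280, (1, 0), [⟨1, 1⟩, ⟨-1, 1⟩, ⟨0, 0⟩, ⟨0, 0⟩, ⟨2, 0⟩, ⟨0, 0⟩, ⟨0, 0⟩, ⟨0, 0⟩, ⟨2, 2⟩, ⟨2, 0⟩, ⟨0, 2⟩, ⟨2, 0⟩, ⟨0, 1⟩, ⟨-1, 2⟩, ⟨-1, 0⟩, ⟨-1, 0⟩, ⟨0, 0⟩, ⟨0, 0⟩, ⟨0, 0⟩, ⟨0, 0⟩, ⟨0, 0⟩, ⟨-1, 1⟩, ⟨1, -1⟩, ⟨0, 2⟩, ⟨1, 2⟩, ⟨1, 0⟩, ⟨0, 1⟩, ⟨1, 2⟩]),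
  (15728880, (1, 0), [⟨-1, 2⟩, ⟨1, 0⟩, ⟨-1, 2⟩, ⟨0, 1⟩, ⟨2, 0⟩, ⟨0, 0⟩, ⟨0, 0⟩, ⟨0, 0⟩, ⟨0, 0⟩, ⟨-1, 1⟩, ⟨2, 2⟩, ⟨1, 1⟩, ⟨0, 0⟩, ⟨1, 1⟩, ⟨-1, -1⟩, ⟨2, 2⟩, ⟨0, 1⟩, ⟨0, -1⟩, ⟨1, 2⟩, ⟨2, 1⟩, ⟨0, 0⟩, ⟨0, 0⟩, ⟨0, 0⟩, ⟨0, 0⟩, ⟨0, 2⟩, ⟨0, 0⟩, ⟨2, 0⟩, ⟨0, 2⟩]),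
  (251658480, (1, 0), [⟨-1, -1⟩, ⟨0, 2⟩, ⟨0, 0⟩, ⟨-1, 1⟩, ⟨2, 0⟩, ⟨0, 0⟩, ⟨0, 0⟩, ⟨0, 0⟩, ⟨0, 0⟩, ⟨0, 2⟩, ⟨1, -1⟩, ⟨1, 1⟩, ⟨1, 0⟩, ⟨2, 1⟩, ⟨1, 0⟩, ⟨1, 2⟩, ⟨1, 0⟩, ⟨1, 2⟩, ⟨-1, 2⟩, ⟨0, -1⟩, ⟨0, 0⟩, ⟨0, 0⟩, ⟨2, 0⟩, ⟨0, 0⟩, ⟨0, 0⟩, ⟨0, 0⟩, ⟨0, 0⟩, ⟨0, 0⟩]),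
  (65280, (2, 0), [⟨-1, 0⟩, ⟨2, -1⟩, ⟨2, 1⟩, ⟨0, 1⟩, ⟨1, 1⟩, ⟨0, 0⟩, ⟨-1, -1⟩, ⟨0, 0⟩, ⟨2, 0⟩, ⟨0, 0⟩, ⟨0, 0⟩, ⟨0, 0⟩, ⟨0, 0⟩, ⟨0, 0⟩, ⟨0, 0⟩, ⟨0, 0⟩, ⟨0, 0⟩, ⟨0, 2⟩, ⟨1, 1⟩, ⟨-1, 1⟩, ⟨1, 1⟩, ⟨-1, 1⟩, ⟨-1, 1⟩, ⟨1, -1⟩, ⟨0, -1⟩, ⟨0, -1⟩, ⟨0, 1⟩, ⟨1, 0⟩]),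
  (986880, (2, 0), [⟨-1, 0⟩, ⟨-1, 0⟩, ⟨1, 0⟩, ⟨2, 1⟩, ⟨0, 2⟩, ⟨0, 2⟩, ⟨2, 2⟩, ⟨2, 2⟩, ⟨2, 0⟩, ⟨0, 0⟩, ⟨0, 0⟩, ⟨0, 0⟩, ⟨0, 0⟩, ⟨-1, 1⟩, ⟨-1, -1⟩, ⟨0, 2⟩, ⟨0, 0⟩, ⟨0, 0⟩, ⟨0, 0⟩, ⟨0, 0⟩, ⟨0, 0⟩, ⟨2, 0⟩, ⟨-1, -1⟩, ⟨1, 1⟩, ⟨-1, 2⟩, ⟨0, 1⟩, ⟨-1, 2⟩, ⟨-1, 0⟩]),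
  (15732480, (2, 0), [⟨-1, 2⟩, ⟨0, 1⟩, ⟨0, -1⟩, ⟨2, 1⟩, ⟨-1, -1⟩, ⟨0, 0⟩, ⟨-1, -1⟩, ⟨0, 0⟩, ⟨2, 0⟩, ⟨0, 0⟩, ⟨0, 0⟩, ⟨0, 0⟩, ⟨1, -1⟩, ⟨-1, -1⟩, ⟨-1, 1⟩, ⟨1, -1⟩, ⟨0, 0⟩, ⟨0, 2⟩, ⟨-1, -1⟩, ⟨-1, 1⟩, ⟨0, 0⟩, ⟨0, 0⟩, ⟨0, 0⟩, ⟨0, 0⟩, ⟨0, -1⟩, ⟨2, -1⟩, ⟨2, -1⟩, ⟨-1, 0⟩]),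
  (251662080, (2, 0), [⟨2, 2⟩, ⟨2, 2⟩, ⟨0, 2⟩, ⟨2, 0⟩, ⟨-1, 0⟩, ⟨2, -1⟩, ⟨2, 1⟩, ⟨0, 1⟩, ⟨2, 0⟩, ⟨0, 0⟩, ⟨0, 0⟩, ⟨0, 0⟩, ⟨2, 0⟩, ⟨1, 1⟩, ⟨1, 1⟩, ⟨0, 2⟩, ⟨0, 1⟩, ⟨2, -1⟩, ⟨1, 2⟩, ⟨0, -1⟩, ⟨0, 0⟩, ⟨2, 0⟩, ⟨1, -1⟩, ⟨-1, 1⟩, ⟨0, 0⟩, ⟨0, 0⟩, ⟨0, 0⟩, ⟨0, 0⟩]),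
  (1044480, (3, 0), [⟨0, 0⟩, ⟨2, 0⟩, ⟨1, 1⟩, ⟨-1, 1⟩, ⟨-1, 0⟩, ⟨0, -1⟩, ⟨-1, 2⟩, ⟨-1, 2⟩, ⟨0, 1⟩, ⟨2, -1⟩, ⟨2, -1⟩, ⟨1, 2⟩, ⟨2, 0⟩, ⟨0, 0⟩, ⟨0, 0⟩, ⟨0, 0⟩, ⟨0, 0⟩, ⟨0, 0⟩, ⟨0, 0⟩, ⟨0, 0⟩, ⟨0, 0⟩, ⟨-1, -1⟩, ⟨1, -1⟩, ⟨0, 0⟩, ⟨2, 0⟩, ⟨0, 2⟩, ⟨0, 0⟩, ⟨2, 0⟩]),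
  (15790080, (3, 0), [⟨2, -1⟩, ⟨1, 2⟩, ⟨2, -1⟩, ⟨0, -1⟩, ⟨0, 1⟩, ⟨0, 1⟩, ⟨0, -1⟩, ⟨1, 2⟩, ⟨1, 1⟩, ⟨-1, 1⟩, ⟨-1, -1⟩, ⟨-1, -1⟩, ⟨2, 0⟩, ⟨0, 0⟩, ⟨0, 0⟩, ⟨0, 0⟩, ⟨0, 0⟩, ⟨-1, -1⟩, ⟨1, 1⟩, ⟨2, 2⟩, ⟨0, 0⟩, ⟨0, 0⟩, ⟨0, 0⟩, ⟨0, 0⟩, ⟨-1, -1⟩, ⟨-1, 1⟩, ⟨0, 0⟩, ⟨0, 2⟩]),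
  (251719680, (3, 0), [⟨-1, 2⟩, ⟨-1, 0⟩, ⟨2, 1⟩, ⟨1, 0⟩, ⟨0, 2⟩, ⟨2, 0⟩, ⟨-1, 1⟩, ⟨-1, -1⟩, ⟨0, 1⟩, ⟨-1, 2⟩, ⟨2, 1⟩, ⟨0, 1⟩, ⟨2, 0⟩, ⟨0, 0⟩, ⟨0, 0⟩, ⟨0, 0⟩, ⟨0, 0⟩, ⟨2, 2⟩, ⟨2, 2⟩, ⟨0, 2⟩, ⟨0, 0⟩, ⟨-1, 1⟩, ⟨2, 2⟩, ⟨-1, 1⟩, ⟨0, 0⟩, ⟨0, 0⟩, ⟨0, 0⟩, ⟨0, 0⟩]),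
  (16711680, (4, 0), [⟨2, 0⟩, ⟨2, 0⟩, ⟨0, 2⟩, ⟨0, 2⟩, ⟨-1, -1⟩, ⟨0, 0⟩, ⟨-1, -1⟩, ⟨0, 2⟩, ⟨0, 0⟩, ⟨-1, -1⟩, ⟨-1, -1⟩, ⟨0, 2⟩, ⟨0, 1⟩, ⟨0, 1⟩, ⟨-1, 2⟩, ⟨2, -1⟩, ⟨2, 0⟩, ⟨0, 0⟩, ⟨0, 0⟩, ⟨0, 0⟩, ⟨0, 0⟩, ⟨0, 0⟩, ⟨0, 0⟩, ⟨0, 0⟩, ⟨-1, 2⟩, ⟨-1, 0⟩, ⟨-1, 0⟩, ⟨0, -1⟩]),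
  (252641280, (4, 0), [⟨1, 2⟩, ⟨1, 2⟩, ⟨0, 1⟩, ⟨-1, 2⟩, ⟨1, 1⟩, ⟨1, -1⟩, ⟨2, 0⟩, ⟨2, 2⟩, ⟨1, 0⟩, ⟨0, 1⟩, ⟨1, 0⟩, ⟨-1, 2⟩, ⟨0, 0⟩, ⟨0, 0⟩, ⟨2, 0⟩, ⟨2, 2⟩, ⟨2, 0⟩, ⟨0, 0⟩, ⟨0, 0⟩, ⟨0, 0⟩, ⟨0, 0⟩, ⟨1, -1⟩, ⟨2, 0⟩, ⟨-1, -1⟩, ⟨0, 0⟩, ⟨0, 0⟩, ⟨0, 0⟩, ⟨0, 0⟩]),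
  (267386880, (5, 0), [⟨1, 1⟩, ⟨1, 1⟩, ⟨0, 2⟩, ⟨2, 2⟩, ⟨0, 0⟩, ⟨0, 2⟩, ⟨2, 0⟩, ⟨2, 2⟩, ⟨1, 0⟩, ⟨-1, 0⟩, ⟨1, 0⟩, ⟨2, -1⟩, ⟨1, 0⟩, ⟨0, -1⟩, ⟨2, 1⟩, ⟨2, -1⟩, ⟨0, 0⟩, ⟨-1, 1⟩, ⟨0, 2⟩, ⟨-1, 1⟩, ⟨2, 0⟩, ⟨0, 0⟩, ⟨0, 0⟩, ⟨0, 0⟩, ⟨0, 0⟩, ⟨0, 0⟩, ⟨0, 0⟩, ⟨0, 0⟩]),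
  (267386880, (6, 0), [⟨2, -1⟩, ⟨1, 2⟩, ⟨2, 1⟩, ⟨2, -1⟩, ⟨1, -1⟩, ⟨-1, -1⟩, ⟨1, -1⟩, ⟨1, -1⟩, ⟨1, 0⟩, ⟨2, -1⟩, ⟨0, 1⟩, ⟨0, 1⟩, ⟨-1, 1⟩, ⟨0, 2⟩, ⟨-1, 1⟩, ⟨0, 0⟩, ⟨0, 0⟩, ⟨-1, 1⟩, ⟨-1, 1⟩, ⟨2, 0⟩, ⟨0, 0⟩, ⟨0, 0⟩, ⟨0, 0⟩, ⟨0, 0⟩, ⟨2, 0⟩, ⟨0, 0⟩, ⟨0, 0⟩, ⟨0, 0⟩])]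

theorem hKL : ∀ t ∈ KL, killOK B t := by decide +kernel

def Y0 : List (List Gi) := [
  [⟨1, 0⟩, ⟨0, 0⟩, ⟨0, 0⟩, ⟨0, 0⟩, ⟨0, 0⟩, ⟨0, 0⟩, ⟨0, 0⟩, ⟨1, 0⟩, ⟨0, 0⟩, ⟨0, 0⟩, ⟨0, 0⟩, ⟨1, 0⟩, ⟨0, 0⟩, ⟨0, 0⟩, ⟨0, 0⟩, ⟨1, 0⟩, ⟨0, 0⟩, ⟨0, 0⟩, ⟨0, 0⟩, ⟨1, 0⟩, ⟨0, 0⟩, ⟨0, 0⟩, ⟨0, 0⟩, ⟨1, 0⟩, ⟨0, 0⟩, ⟨1, 0⟩, ⟨0, 0⟩, ⟨0, 0⟩],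
  [⟨0, 0⟩, ⟨1, 0⟩, ⟨0, 0⟩, ⟨0, 0⟩, ⟨0, 0⟩, ⟨0, 0⟩, ⟨0, 0⟩, ⟨1, 0⟩, ⟨0, 0⟩, ⟨0, 0⟩, ⟨0, 0⟩, ⟨1, 0⟩, ⟨0, 0⟩, ⟨0, 0⟩, ⟨0, 0⟩, ⟨1, 0⟩, ⟨0, 0⟩, ⟨0, 0⟩, ⟨0, 0⟩, ⟨1, 0⟩, ⟨0, 0⟩, ⟨0, 0⟩, ⟨1, 0⟩, ⟨0, 0⟩, ⟨0, 0⟩, ⟨0, 0⟩, ⟨1, 0⟩, ⟨0, 0⟩],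
  [⟨0, 0⟩, ⟨0, 0⟩, ⟨1, 0⟩, ⟨0, 0⟩, ⟨0, 0⟩, ⟨0, 0⟩, ⟨0, 0⟩, ⟨1, 0⟩, ⟨0, 0⟩, ⟨0, 0⟩, ⟨0, 0⟩, ⟨1, 0⟩, ⟨0, 0⟩, ⟨0, 0⟩, ⟨0, 0⟩, ⟨1, 0⟩, ⟨0, 0⟩, ⟨0, 0⟩, ⟨0, 0⟩, ⟨1, 0⟩, ⟨0, 0⟩, ⟨0, 0⟩, ⟨1, 0⟩, ⟨0, 0⟩, ⟨0, 0⟩, ⟨1, 0⟩, ⟨1, 0⟩, ⟨1, 0⟩],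
  [⟨0, 0⟩, ⟨0, 0⟩, ⟨0, 0⟩, ⟨1, 0⟩, ⟨0, 0⟩, ⟨0, 0⟩, ⟨0, 0⟩, ⟨1, 0⟩, ⟨0, 0⟩, ⟨0, 0⟩, ⟨0, 0⟩, ⟨1, 0⟩, ⟨0, 0⟩, ⟨0, 0⟩, ⟨0, 0⟩, ⟨1, 0⟩, ⟨0, 0⟩, ⟨0, 0⟩, ⟨0, 0⟩, ⟨1, 0⟩, ⟨0, 0⟩, ⟨0, 0⟩, ⟨0, 0⟩, ⟨1, 0⟩, ⟨0, 0⟩, ⟨0, 0⟩, ⟨0, 0⟩, ⟨1, 0⟩],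
  [⟨0, 0⟩, ⟨0, 0⟩, ⟨0, 0⟩, ⟨0, 0⟩, ⟨1, 0⟩, ⟨0, 0⟩, ⟨0, 0⟩, ⟨1, 0⟩, ⟨0, 0⟩, ⟨0, 0⟩, ⟨0, 0⟩, ⟨0, 0⟩, ⟨0, 0⟩, ⟨0, 0⟩, ⟨0, 0⟩, ⟨0, 0⟩, ⟨0, 0⟩, ⟨0, 0⟩, ⟨0, 0⟩, ⟨0, 0⟩, ⟨0, 0⟩, ⟨0, 0⟩, ⟨1, 0⟩, ⟨1, 0⟩, ⟨0, 0⟩, ⟨0, 0⟩, ⟨1, 0⟩, ⟨1, 0⟩],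
  [⟨0, 0⟩, ⟨0, 0⟩, ⟨0, 0⟩, ⟨0, 0⟩, ⟨0, 0⟩, ⟨1, 0⟩, ⟨0, 0⟩, ⟨1, 0⟩, ⟨0, 0⟩, ⟨0, 0⟩, ⟨0, 0⟩, ⟨0, 0⟩, ⟨0, 0⟩, ⟨0, 0⟩, ⟨0, 0⟩, ⟨0, 0⟩, ⟨0, 0⟩, ⟨0, 0⟩, ⟨0, 0⟩, ⟨0, 0⟩, ⟨0, 0⟩, ⟨0, 0⟩, ⟨1, 0⟩, ⟨1, 0⟩, ⟨0, 0⟩, ⟨1, 0⟩, ⟨0, 0⟩, ⟨1, 0⟩],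
  [⟨0, 0⟩, ⟨0, 0⟩, ⟨0, 0⟩, ⟨0, 0⟩, ⟨0, 0⟩, ⟨0, 0⟩, ⟨1, 0⟩, ⟨1, 0⟩, ⟨0, 0⟩, ⟨0, 0⟩, ⟨0, 0⟩, ⟨0, 0⟩, ⟨0, 0⟩, ⟨0, 0⟩, ⟨0, 0⟩, ⟨0, 0⟩, ⟨0, 0⟩, ⟨0, 0⟩, ⟨0, 0⟩, ⟨0, 0⟩, ⟨0, 0⟩, ⟨0, 0⟩, ⟨0, 0⟩, ⟨0, 0⟩, ⟨0, 0⟩, ⟨1, 0⟩, ⟨1, 0⟩, ⟨0, 0⟩],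
  [⟨0, 0⟩, ⟨0, 0⟩, ⟨0, 0⟩, ⟨0, 0⟩, ⟨0, 0⟩, ⟨0, 0⟩, ⟨0, 0⟩, ⟨0, 0⟩, ⟨1, 0⟩, ⟨0, 0⟩, ⟨0, 0⟩, ⟨1, 0⟩, ⟨0, 0⟩, ⟨0, 0⟩, ⟨0, 0⟩, ⟨0, 0⟩, ⟨0, 0⟩, ⟨0, 0⟩, ⟨0, 0⟩, ⟨0, 0⟩, ⟨0, 0⟩, ⟨0, 0⟩, ⟨1, 0⟩, ⟨1, 0⟩, ⟨0, 0⟩, ⟨1, 0⟩, ⟨0, 0⟩, ⟨1, 0⟩],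
  [⟨0, 0⟩, ⟨0, 0⟩, ⟨0, 0⟩, ⟨0, 0⟩, ⟨0, 0⟩, ⟨0, 0⟩, ⟨0, 0⟩, ⟨0, 0⟩, ⟨0, 0⟩, ⟨1, 0⟩, ⟨0, 0⟩, ⟨1, 0⟩, ⟨0, 0⟩, ⟨0, 0⟩, ⟨0, 0⟩, ⟨0, 0⟩, ⟨0, 0⟩, ⟨0, 0⟩, ⟨0, 0⟩, ⟨0, 0⟩, ⟨0, 0⟩, ⟨0, 0⟩, ⟨1, 0⟩, ⟨1, 0⟩, ⟨0, 0⟩, ⟨0, 0⟩, ⟨0, 0⟩, ⟨0, 0⟩],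
  [⟨0, 0⟩, ⟨0, 0⟩, ⟨0, 0⟩, ⟨0, 0⟩, ⟨0, 0⟩, ⟨0, 0⟩, ⟨0, 0⟩, ⟨0, 0⟩, ⟨0, 0⟩, ⟨0, 0⟩, ⟨1, 0⟩, ⟨1, 0⟩, ⟨0, 0⟩, ⟨0, 0⟩, ⟨0, 0⟩, ⟨0, 0⟩, ⟨0, 0⟩, ⟨0, 0⟩, ⟨0, 0⟩, ⟨0, 0⟩, ⟨0, 0⟩, ⟨0, 0⟩, ⟨0, 0⟩, ⟨0, 0⟩, ⟨0, 0⟩, ⟨1, 0⟩, ⟨0, 0⟩, ⟨1, 0⟩],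
  [⟨0, 0⟩, ⟨0, 0⟩, ⟨0, 0⟩, ⟨0, 0⟩, ⟨0, 0⟩, ⟨0, 0⟩, ⟨0, 0⟩, ⟨0, 0⟩, ⟨0, 0⟩, ⟨0, 0⟩, ⟨0, 0⟩, ⟨0, 0⟩, ⟨1, 0⟩, ⟨0, 0⟩, ⟨0, 0⟩, ⟨1, 0⟩, ⟨0, 0⟩, ⟨0, 0⟩, ⟨0, 0⟩, ⟨0, 0⟩, ⟨0, 0⟩, ⟨0, 0⟩, ⟨1, 0⟩, ⟨1, 0⟩, ⟨0, 0⟩, ⟨0, 0⟩, ⟨0, 0⟩, ⟨0, 0⟩],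
  [⟨0, 0⟩, ⟨0, 0⟩, ⟨0, 0⟩, ⟨0, 0⟩, ⟨0, 0⟩, ⟨0, 0⟩, ⟨0, 0⟩, ⟨0, 0⟩, ⟨0, 0⟩, ⟨0, 0⟩, ⟨0, 0⟩, ⟨0, 0⟩, ⟨0, 0⟩, ⟨1, 0⟩, ⟨0, 0⟩, ⟨1, 0⟩, ⟨0, 0⟩, ⟨0, 0⟩, ⟨0, 0⟩, ⟨0, 0⟩, ⟨0, 0⟩, ⟨0, 0⟩, ⟨0, 0⟩, ⟨0, 0⟩, ⟨0, 0⟩, ⟨0, 0⟩, ⟨1, 0⟩, ⟨1, 0⟩],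
  [⟨0, 0⟩, ⟨0, 0⟩, ⟨0, 0⟩, ⟨0, 0⟩, ⟨0, 0⟩, ⟨0, 0⟩, ⟨0, 0⟩, ⟨0, 0⟩, ⟨0, 0⟩, ⟨0, 0⟩, ⟨0, 0⟩, ⟨0, 0⟩, ⟨0, 0⟩, ⟨0, 0⟩, ⟨1, 0⟩, ⟨1, 0⟩, ⟨0, 0⟩, ⟨0, 0⟩, ⟨0, 0⟩, ⟨0, 0⟩, ⟨0, 0⟩, ⟨0, 0⟩, ⟨1, 0⟩, ⟨1, 0⟩, ⟨0, 0⟩, ⟨0, 0⟩, ⟨1, 0⟩, ⟨1, 0⟩],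
  [⟨0, 0⟩, ⟨0, 0⟩, ⟨0, 0⟩, ⟨0, 0⟩, ⟨0, 0⟩, ⟨0, 0⟩, ⟨0, 0⟩, ⟨0, 0⟩, ⟨0, 0⟩, ⟨0, 0⟩, ⟨0, 0⟩, ⟨0, 0⟩, ⟨0, 0⟩, ⟨0, 0⟩, ⟨0, 0⟩, ⟨0, 0⟩, ⟨1, 0⟩, ⟨0, 0⟩, ⟨0, 0⟩, ⟨1, 0⟩, ⟨0, 0⟩, ⟨0, 0⟩, ⟨0, 0⟩, ⟨0, 0⟩, ⟨0, 0⟩, ⟨0, 0⟩, ⟨1, 0⟩, ⟨1, 0⟩],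
  [⟨0, 0⟩, ⟨0, 0⟩, ⟨0, 0⟩, ⟨0, 0⟩, ⟨0, 0⟩, ⟨0, 0⟩, ⟨0, 0⟩, ⟨0, 0⟩, ⟨0, 0⟩, ⟨0, 0⟩, ⟨0, 0⟩, ⟨0, 0⟩, ⟨0, 0⟩, ⟨0, 0⟩, ⟨0, 0⟩, ⟨0, 0⟩, ⟨0, 0⟩, ⟨1, 0⟩, ⟨0, 0⟩, ⟨1, 0⟩, ⟨0, 0⟩, ⟨0, 0⟩, ⟨1, 0⟩, ⟨1, 0⟩, ⟨0, 0⟩, ⟨1, 0⟩, ⟨1, 0⟩, ⟨0, 0⟩],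
  [⟨0, 0⟩, ⟨0, 0⟩, ⟨0, 0⟩, ⟨0, 0⟩, ⟨0, 0⟩, ⟨0, 0⟩, ⟨0, 0⟩, ⟨0, 0⟩, ⟨0, 0⟩, ⟨0, 0⟩, ⟨0, 0⟩, ⟨0, 0⟩, ⟨0, 0⟩, ⟨0, 0⟩, ⟨0, 0⟩, ⟨0, 0⟩, ⟨0, 0⟩, ⟨0, 0⟩, ⟨1, 0⟩, ⟨1, 0⟩, ⟨0, 0⟩, ⟨0, 0⟩, ⟨1, 0⟩, ⟨1, 0⟩, ⟨0, 0⟩, ⟨1, 0⟩, ⟨0, 0⟩, ⟨1, 0⟩],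
  [⟨0, 0⟩, ⟨0, 0⟩, ⟨0, 0⟩, ⟨0, 0⟩, ⟨0, 0⟩, ⟨0, 0⟩, ⟨0, 0⟩, ⟨0, 0⟩, ⟨0, 0⟩, ⟨0, 0⟩, ⟨0, 0⟩, ⟨0, 0⟩, ⟨0, 0⟩, ⟨0, 0⟩, ⟨0, 0⟩, ⟨0, 0⟩, ⟨0, 0⟩, ⟨0, 0⟩, ⟨0, 0⟩, ⟨0, 0⟩, ⟨1, 0⟩, ⟨0, 0⟩, ⟨1, 0⟩, ⟨0, 0⟩, ⟨0, 0⟩, ⟨1, 0⟩, ⟨1, 0⟩, ⟨0, 0⟩],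
  [⟨0, 0⟩, ⟨0, 0⟩, ⟨0, 0⟩, ⟨0, 0⟩, ⟨0, 0⟩, ⟨0, 0⟩, ⟨0, 0⟩, ⟨0, 0⟩, ⟨0, 0⟩, ⟨0, 0⟩, ⟨0, 0⟩, ⟨0, 0⟩, ⟨0, 0⟩, ⟨0, 0⟩, ⟨0, 0⟩, ⟨0, 0⟩, ⟨0, 0⟩, ⟨0, 0⟩, ⟨0, 0⟩, ⟨0, 0⟩, ⟨0, 0⟩, ⟨1, 0⟩, ⟨0, 0⟩, ⟨1, 0⟩, ⟨0, 0⟩, ⟨1, 0⟩, ⟨1, 0⟩, ⟨0, 0⟩],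
  [⟨0, 0⟩, ⟨0, 0⟩, ⟨0, 0⟩, ⟨0, 0⟩, ⟨0, 0⟩, ⟨0, 0⟩, ⟨0, 0⟩, ⟨0, 0⟩, ⟨0, 0⟩, ⟨0, 0⟩, ⟨0, 0⟩, ⟨0, 0⟩, ⟨0, 0⟩, ⟨0, 0⟩, ⟨0, 0⟩, ⟨0, 0⟩, ⟨0, 0⟩, ⟨0, 0⟩, ⟨0, 0⟩, ⟨0, 0⟩, ⟨0, 0⟩, ⟨0, 0⟩, ⟨0, 0⟩, ⟨0, 0⟩, ⟨1, 0⟩, ⟨1, 0⟩, ⟨1, 0⟩, ⟨1, 0⟩]]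

def Hm0 : List ℕ := [42502273, 71862402, 239634564, 143165576, 213909648, 180355232, 100663488, 180357376, 12585472, 167775232, 12619776, 201367552, 213958656, 201916416, 113901568, 181141504, 105906176, 111149056, 251658240]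

def piv0 : List RuIdx := [(0, 0), (0, 1), (0, 2), (0, 3), (1, 0), (1, 1), (1, 2), (2, 0), (2, 1), (2, 2), (3, 0), (3, 1), (3, 2), (4, 0), (4, 1), (4, 2), (5, 0), (5, 1), (6, 0)]

def Gm0 : List ℕ := [255, 3855, 61455, 983055, 5657398, 10900281, 53871973, 87253078, 151348540]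

def fr0 : List RuIdx := [(1, 3), (2, 3), (3, 3), (4, 3), (5, 2), (5, 3), (6, 1), (6, 2), (6, 3)]

theorem h1_0 : ∀ i : Fin Hm0.length, chkRaw B (rsmul (⟨2, 2⟩ : Gi) (Y0.getD i [])) = true := by
  decide +kernel
theorem h2_0 : ∀ i : Fin Hm0.length, ∀ p, rho (toVec (Y0.getD i []) p) = w2 (Hm0.getD i 0) p := by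
  decide +kernel
theorem h3_0 : ∀ p, (∃ i : Fin Hm0.length, p = piv0.getD i (0, 0)) ∨
    (∃ j : Fin Gm0.length, p = fr0.getD j (0, 0)) := by decide +kernel
theorem h4_0 : ∀ i i' : Fin Hm0.length,
    w2 (Hm0.getD i 0) (piv0.getD i' (0, 0)) = if i = i' then 1 else 0 := by decide +kernel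
theorem h5_0 : ∀ j j' : Fin Gm0.length,
    w2 (Gm0.getD j 0) (fr0.getD j' (0, 0)) = if j = j' then 1 else 0 := by decide +kernel
theorem h6_0 : ∀ (j : Fin Gm0.length) (i : Fin Hm0.length),
    ∑ p, w2 (Gm0.getD j 0) p * w2 (Hm0.getD i 0) p = 0 := by decide +kernel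
theorem h7_0 : enumOK Gm0 8 KL := by decide +kernel

theorem L0 (z : RuVec) (hz : (1 : Gi) • z ∈ Lsp B) (hN : ruNorm z = 8) (p : RuIdx) : rhoV z p = 0 :=
  level_sys B hB (1 : Gi) (⟨2, 2⟩ : Gi) (by decide) (by decide) Y0 Hm0 piv0 Gm0 fr0 8 KL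
    h1_0 h2_0 h3_0 h4_0 h5_0 h6_0 h7_0 hKL z hz (by exact_mod_cast hN) p

def Y1 : List (List Gi) := [
  [⟨1, 0⟩, ⟨0, 0⟩, ⟨0, 0⟩, ⟨0, 1⟩, ⟨0, 0⟩, ⟨0, 0⟩, ⟨1, 1⟩, ⟨1, 1⟩, ⟨0, 0⟩, ⟨0, 0⟩, ⟨1, 1⟩, ⟨0, 0⟩, ⟨0, 0⟩, ⟨1, 1⟩, ⟨0, 0⟩, ⟨1, 1⟩, ⟨0, 0⟩, ⟨0, 0⟩, ⟨0, 0⟩, ⟨0, 0⟩, ⟨0, 0⟩, ⟨0, 0⟩, ⟨1, 1⟩, ⟨1, 1⟩, ⟨0, 0⟩, ⟨1, 0⟩, ⟨1, 1⟩, ⟨1, 0⟩],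
  [⟨0, 0⟩, ⟨1, 0⟩, ⟨0, 0⟩, ⟨1, 0⟩, ⟨0, 0⟩, ⟨0, 0⟩, ⟨1, 1⟩, ⟨0, 0⟩, ⟨0, 0⟩, ⟨1, 1⟩, ⟨0, 0⟩, ⟨0, 0⟩, ⟨0, 0⟩, ⟨1, 1⟩, ⟨0, 0⟩, ⟨1, 1⟩, ⟨0, 0⟩, ⟨1, 1⟩, ⟨1, 1⟩, ⟨1, 1⟩, ⟨0, 0⟩, ⟨0, 0⟩, ⟨0, 1⟩, ⟨0, 1⟩, ⟨0, 0⟩, ⟨0, 0⟩, ⟨0, 1⟩, ⟨1, 0⟩],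
  [⟨0, 0⟩, ⟨0, 0⟩, ⟨1, 0⟩, ⟨0, 1⟩, ⟨0, 0⟩, ⟨0, 0⟩, ⟨0, 0⟩, ⟨0, 0⟩, ⟨0, 0⟩, ⟨1, 1⟩, ⟨1, 1⟩, ⟨1, 1⟩, ⟨0, 0⟩, ⟨1, 1⟩, ⟨1, 1⟩, ⟨1, 1⟩, ⟨0, 0⟩, ⟨1, 1⟩, ⟨1, 1⟩, ⟨0, 0⟩, ⟨0, 0⟩, ⟨0, 0⟩, ⟨1, 0⟩, ⟨0, 1⟩, ⟨0, 0⟩, ⟨1, 0⟩, ⟨1, 0⟩, ⟨1, 1⟩],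
  [⟨0, 0⟩, ⟨0, 0⟩, ⟨0, 0⟩, ⟨0, 0⟩, ⟨1, 0⟩, ⟨0, 0⟩, ⟨0, 0⟩, ⟨0, 1⟩, ⟨0, 0⟩, ⟨1, 1⟩, ⟨0, 0⟩, ⟨1, 1⟩, ⟨0, 0⟩, ⟨1, 1⟩, ⟨1, 1⟩, ⟨0, 0⟩, ⟨0, 0⟩, ⟨1, 1⟩, ⟨1, 1⟩, ⟨0, 0⟩, ⟨0, 0⟩, ⟨1, 1⟩, ⟨0, 1⟩, ⟨0, 1⟩, ⟨0, 0⟩, ⟨1, 1⟩, ⟨1, 0⟩, ⟨0, 1⟩],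
  [⟨0, 0⟩, ⟨0, 0⟩, ⟨0, 0⟩, ⟨1, 1⟩, ⟨0, 0⟩, ⟨1, 0⟩, ⟨0, 0⟩, ⟨0, 1⟩, ⟨0, 0⟩, ⟨0, 0⟩, ⟨1, 1⟩, ⟨0, 0⟩, ⟨0, 0⟩, ⟨0, 0⟩, ⟨1, 1⟩, ⟨0, 0⟩, ⟨0, 0⟩, ⟨0, 0⟩, ⟨1, 1⟩, ⟨0, 0⟩, ⟨0, 0⟩, ⟨0, 0⟩, ⟨0, 1⟩, ⟨1, 0⟩, ⟨0, 0⟩, ⟨0, 1⟩, ⟨1, 1⟩, ⟨1, 0⟩],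
  [⟨0, 0⟩, ⟨0, 0⟩, ⟨0, 0⟩, ⟨0, 0⟩, ⟨0, 0⟩, ⟨0, 0⟩, ⟨1, 0⟩, ⟨1, 0⟩, ⟨0, 0⟩, ⟨0, 0⟩, ⟨0, 0⟩, ⟨0, 0⟩, ⟨0, 0⟩, ⟨0, 0⟩, ⟨0, 0⟩, ⟨0, 0⟩, ⟨0, 0⟩, ⟨0, 0⟩, ⟨0, 0⟩, ⟨0, 0⟩, ⟨0, 0⟩, ⟨0, 0⟩, ⟨0, 0⟩, ⟨1, 1⟩, ⟨0, 0⟩, ⟨0, 1⟩, ⟨0, 1⟩, ⟨1, 1⟩],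
  [⟨0, 0⟩, ⟨0, 0⟩, ⟨0, 0⟩, ⟨1, 1⟩, ⟨0, 0⟩, ⟨0, 0⟩, ⟨0, 0⟩, ⟨0, 0⟩, ⟨1, 0⟩, ⟨0, 0⟩, ⟨0, 0⟩, ⟨1, 0⟩, ⟨0, 0⟩, ⟨0, 0⟩, ⟨0, 0⟩, ⟨1, 1⟩, ⟨0, 0⟩, ⟨1, 1⟩, ⟨0, 0⟩, ⟨1, 1⟩, ⟨0, 0⟩, ⟨1, 1⟩, ⟨0, 1⟩, ⟨0, 1⟩, ⟨1, 1⟩, ⟨1, 0⟩, ⟨1, 1⟩, ⟨1, 0⟩],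
  [⟨0, 0⟩, ⟨0, 0⟩, ⟨0, 0⟩, ⟨0, 0⟩, ⟨0, 0⟩, ⟨0, 0⟩, ⟨0, 0⟩, ⟨0, 0⟩, ⟨0, 0⟩, ⟨1, 0⟩, ⟨0, 0⟩, ⟨1, 0⟩, ⟨0, 0⟩, ⟨0, 0⟩, ⟨0, 0⟩, ⟨1, 1⟩, ⟨0, 0⟩, ⟨0, 0⟩, ⟨0, 0⟩, ⟨0, 0⟩, ⟨0, 0⟩, ⟨0, 0⟩, ⟨0, 1⟩, ⟨1, 0⟩, ⟨0, 0⟩, ⟨1, 1⟩, ⟨0, 0⟩, ⟨1, 1⟩],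
  [⟨0, 0⟩, ⟨0, 0⟩, ⟨0, 0⟩, ⟨0, 0⟩, ⟨0, 0⟩, ⟨0, 0⟩, ⟨0, 0⟩, ⟨1, 1⟩, ⟨0, 0⟩, ⟨0, 0⟩, ⟨1, 0⟩, ⟨1, 0⟩, ⟨0, 0⟩, ⟨0, 0⟩, ⟨0, 0⟩, ⟨1, 1⟩, ⟨0, 0⟩, ⟨0, 0⟩, ⟨0, 0⟩, ⟨1, 1⟩, ⟨0, 0⟩, ⟨0, 0⟩, ⟨0, 0⟩, ⟨1, 1⟩, ⟨0, 0⟩, ⟨0, 1⟩, ⟨1, 1⟩, ⟨0, 1⟩],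
  [⟨0, 0⟩, ⟨0, 0⟩, ⟨0, 0⟩, ⟨1, 1⟩, ⟨0, 0⟩, ⟨0, 0⟩, ⟨1, 1⟩, ⟨0, 0⟩, ⟨0, 0⟩, ⟨1, 1⟩, ⟨0, 0⟩, ⟨1, 1⟩, ⟨1, 0⟩, ⟨0, 0⟩, ⟨0, 0⟩, ⟨0, 1⟩, ⟨0, 0⟩, ⟨1, 1⟩, ⟨0, 0⟩, ⟨0, 0⟩, ⟨0, 0⟩, ⟨1, 1⟩, ⟨0, 1⟩, ⟨0, 1⟩, ⟨0, 0⟩, ⟨0, 0⟩, ⟨0, 0⟩, ⟨1, 1⟩],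
  [⟨0, 0⟩, ⟨0, 0⟩, ⟨0, 0⟩, ⟨0, 0⟩, ⟨0, 0⟩, ⟨0, 0⟩, ⟨0, 0⟩, ⟨0, 0⟩, ⟨0, 0⟩, ⟨0, 0⟩, ⟨0, 0⟩, ⟨0, 0⟩, ⟨0, 0⟩, ⟨1, 0⟩, ⟨0, 0⟩, ⟨1, 0⟩, ⟨0, 0⟩, ⟨0, 0⟩, ⟨0, 0⟩, ⟨1, 1⟩, ⟨0, 0⟩, ⟨0, 0⟩, ⟨1, 1⟩, ⟨1, 1⟩, ⟨0, 0⟩, ⟨0, 0⟩, ⟨1, 0⟩, ⟨0, 1⟩],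
  [⟨0, 0⟩, ⟨0, 0⟩, ⟨0, 0⟩, ⟨0, 0⟩, ⟨0, 0⟩, ⟨0, 0⟩, ⟨0, 0⟩, ⟨0, 0⟩, ⟨0, 0⟩, ⟨0, 0⟩, ⟨0, 0⟩, ⟨1, 1⟩, ⟨0, 0⟩, ⟨0, 0⟩, ⟨1, 0⟩, ⟨0, 1⟩, ⟨0, 0⟩, ⟨0, 0⟩, ⟨0, 0⟩, ⟨1, 1⟩, ⟨0, 0⟩, ⟨0, 0⟩, ⟨1, 0⟩, ⟨1, 0⟩, ⟨0, 0⟩, ⟨0, 0⟩, ⟨1, 0⟩, ⟨0, 1⟩],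
  [⟨0, 0⟩, ⟨0, 0⟩, ⟨0, 0⟩, ⟨1, 1⟩, ⟨0, 0⟩, ⟨0, 0⟩, ⟨0, 0⟩, ⟨1, 1⟩, ⟨0, 0⟩, ⟨1, 1⟩, ⟨0, 0⟩, ⟨0, 0⟩, ⟨0, 0⟩, ⟨0, 0⟩, ⟨0, 0⟩, ⟨0, 0⟩, ⟨1, 0⟩, ⟨0, 0⟩, ⟨1, 1⟩, ⟨1, 0⟩, ⟨0, 0⟩, ⟨0, 0⟩, ⟨0, 0⟩, ⟨1, 1⟩, ⟨1, 1⟩, ⟨1, 1⟩, ⟨1, 0⟩, ⟨0, 1⟩],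
  [⟨0, 0⟩, ⟨0, 0⟩, ⟨0, 0⟩, ⟨0, 0⟩, ⟨0, 0⟩, ⟨0, 0⟩, ⟨0, 0⟩, ⟨0, 0⟩, ⟨0, 0⟩, ⟨0, 0⟩, ⟨0, 0⟩, ⟨1, 1⟩, ⟨0, 0⟩, ⟨0, 0⟩, ⟨0, 0⟩, ⟨1, 1⟩, ⟨0, 0⟩, ⟨1, 0⟩, ⟨0, 0⟩, ⟨1, 0⟩, ⟨0, 0⟩, ⟨0, 0⟩, ⟨1, 0⟩, ⟨1, 0⟩, ⟨0, 0⟩, ⟨0, 1⟩, ⟨1, 0⟩, ⟨0, 0⟩],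
  [⟨0, 0⟩, ⟨0, 0⟩, ⟨0, 0⟩, ⟨0, 0⟩, ⟨0, 0⟩, ⟨0, 0⟩, ⟨0, 0⟩, ⟨0, 0⟩, ⟨0, 0⟩, ⟨0, 0⟩, ⟨0, 0⟩, ⟨1, 1⟩, ⟨0, 0⟩, ⟨0, 0⟩, ⟨0, 0⟩, ⟨0, 0⟩, ⟨0, 0⟩, ⟨0, 0⟩, ⟨1, 0⟩, ⟨0, 1⟩, ⟨0, 0⟩, ⟨0, 0⟩, ⟨1, 0⟩, ⟨1, 0⟩, ⟨0, 0⟩, ⟨0, 1⟩, ⟨1, 1⟩, ⟨0, 1⟩],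
  [⟨0, 0⟩, ⟨0, 0⟩, ⟨0, 0⟩, ⟨1, 1⟩, ⟨0, 0⟩, ⟨0, 0⟩, ⟨0, 0⟩, ⟨0, 0⟩, ⟨0, 0⟩, ⟨1, 1⟩, ⟨1, 1⟩, ⟨1, 1⟩, ⟨0, 0⟩, ⟨0, 0⟩, ⟨0, 0⟩, ⟨1, 1⟩, ⟨0, 0⟩, ⟨0, 0⟩, ⟨1, 1⟩, ⟨0, 0⟩, ⟨1, 0⟩, ⟨1, 1⟩, ⟨1, 0⟩, ⟨0, 0⟩, ⟨1, 1⟩, ⟨1, 0⟩, ⟨0, 1⟩, ⟨1, 1⟩],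
  [⟨0, 0⟩, ⟨0, 0⟩, ⟨0, 0⟩, ⟨0, 0⟩, ⟨0, 0⟩, ⟨0, 0⟩, ⟨0, 0⟩, ⟨1, 1⟩, ⟨0, 0⟩, ⟨0, 0⟩, ⟨0, 0⟩, ⟨0, 0⟩, ⟨0, 0⟩, ⟨0, 0⟩, ⟨0, 0⟩, ⟨0, 0⟩, ⟨0, 0⟩, ⟨0, 0⟩, ⟨0, 0⟩, ⟨0, 0⟩, ⟨0, 0⟩, ⟨1, 0⟩, ⟨1, 1⟩, ⟨1, 0⟩, ⟨0, 0⟩, ⟨1, 0⟩, ⟨1, 0⟩, ⟨0, 0⟩],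
  [⟨0, 0⟩, ⟨0, 0⟩, ⟨0, 0⟩, ⟨1, 1⟩, ⟨0, 0⟩, ⟨0, 0⟩, ⟨0, 0⟩, ⟨1, 1⟩, ⟨0, 0⟩, ⟨0, 0⟩, ⟨0, 0⟩, ⟨1, 1⟩, ⟨0, 0⟩, ⟨0, 0⟩, ⟨0, 0⟩, ⟨1, 1⟩, ⟨0, 0⟩, ⟨0, 0⟩, ⟨0, 0⟩, ⟨1, 1⟩, ⟨0, 0⟩, ⟨0, 0⟩, ⟨1, 1⟩, ⟨0, 0⟩, ⟨1, 0⟩, ⟨0, 1⟩, ⟨1, 0⟩, ⟨0, 1⟩]]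

def Hm1 : List ℕ := [167772169, 213909514, 113246220, 213909648, 180355232, 100663488, 180357376, 12585472, 167775232, 12619776, 201367552, 213958656, 201916416, 113901568, 181141504, 105906176, 111149056, 251658240]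

def piv1 : List RuIdx := [(0, 0), (0, 1), (0, 2), (1, 0), (1, 1), (1, 2), (2, 0), (2, 1), (2, 2), (3, 0), (3, 1), (3, 2), (4, 0), (4, 1), (4, 2), (5, 0), (5, 1), (6, 0)]

def Gm1 : List ℕ := [15, 240, 3840, 61440, 983040, 5657398, 10900278, 53871973, 87253078, 151348531]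

def fr1 : List RuIdx := [(0, 3), (1, 3), (2, 3), (3, 3), (4, 3), (5, 2), (5, 3), (6, 1), (6, 2), (6, 3)]

theorem h1_1 : ∀ i : Fin Hm1.length, chkRaw B (rsmul (2 : Gi) (Y1.getD i [])) = true := by
  decide +kernel
theorem h2_1 : ∀ i : Fin Hm1.length, ∀ p, rho (toVec (Y1.getD i []) p) = w2 (Hm1.getD i 0) p := by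
  decide +kernel
theorem h3_1 : ∀ p, (∃ i : Fin Hm1.length, p = piv1.getD i (0, 0)) ∨
    (∃ j : Fin Gm1.length, p = fr1.getD j (0, 0)) := by decide +kernel
theorem h4_1 : ∀ i i' : Fin Hm1.length,
    w2 (Hm1.getD i 0) (piv1.getD i' (0, 0)) = if i = i' then 1 else 0 := by decide +kernel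
theorem h5_1 : ∀ j j' : Fin Gm1.length,
    w2 (Gm1.getD j 0) (fr1.getD j' (0, 0)) = if j = j' then 1 else 0 := by decide +kernel
theorem h6_1 : ∀ (j : Fin Gm1.length) (i : Fin Hm1.length),
    ∑ p, w2 (Gm1.getD j 0) p * w2 (Hm1.getD i 0) p = 0 := by decide +kernel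
theorem h7_1 : enumOK Gm1 4 KL := by decide +kernel

theorem L1 (z : RuVec) (hz : gPi • z ∈ Lsp B) (hN : ruNorm z = 4) (p : RuIdx) : rhoV z p = 0 :=
  level_sys B hB gPi (2 : Gi) (by decide) (by decide) Y1 Hm1 piv1 Gm1 fr1 4 KL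
    h1_1 h2_1 h3_1 h4_1 h5_1 h6_1 h7_1 hKL z hz (by exact_mod_cast hN) p

/-- the first nine basis vectors, used as parity checks in the last two levels -/
def Y23 : List (List Gi) := B.take 9

theorem h1_2 : ∀ i : Fin Y23.length, chkRaw B (rsmul gPi (Y23.getD i [])) = true := by decide +kernel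
theorem h1_3 : ∀ i : Fin Y23.length, chkRaw B (rsmul (1 : Gi) (Y23.getD i [])) = true := by
  decide +kernel
theorem cov23 : ∀ p, ∃ i : Fin Y23.length, rho (toVec (Y23.getD i []) p) = 1 := by decide +kernel
theorem dist23 : ∀ p q, p ≠ q → ∃ i : Fin Y23.length,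
    rho (toVec (Y23.getD i []) p) ≠ rho (toVec (Y23.getD i []) q) := by decide +kernel

theorem L2 (z : RuVec) (hz : (gPi * gPi) • z ∈ Lsp B) (hN : ruNorm z = 2) (p : RuIdx) :
    rhoV z p = 0 :=
  level_low B hB (gPi * gPi) gPi (by decide) Y23 h1_2 cov23 dist23 z hz (by omega) p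

theorem L3 (z : RuVec) (hz : (gPi * gPi * gPi) • z ∈ Lsp B) (hN : ruNorm z = 1) (p : RuIdx) :
    rhoV z p = 0 :=
  level_low B hB (gPi * gPi * gPi) 1 (by decide) Y23 h1_3 cov23 dist23 z hz (by omega) p

theorem norm_ne_eight {x : RuVec} (hx : x ∈ ruLattice) : ruNorm x ≠ 8 :=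
  rootless B L0 L1 L2 L3 x (mem_Lsp hx)

end Cfsg.Agent.Lib.Helper89.RuLatData
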