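import Mathlib
import Cfsg.Prelude.Def_Solvable

set_option autoImplicit false

namespace Cfsg.Agent.Lib.Helper89.S3999

/-- Order of the join of two subgroups with coprime orders, one of them normal. -/
theorem card_sup_of_coprime_normal {G : Type*} [Group G] (H K : Subgroup G) [K.Normal]
    (hcop : (Nat.card H).Coprime (Nat.card K)) :
    Nat.card (H ⊔ K : Subgroup G) = Nat.card H * Nat.card K := by
  have hbot : H ⊓ K = ⊥ := (Subgroup.disjoint_of_coprime_natCard hcop).eq_bot
  have h1 : (⊥ : Subgroup G).relIndex K * K.relIndex (H ⊔ K) = (⊥ : Subgroup G).relIndex (H ⊔ K) :=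
    Subgroup.relIndex_mul_relIndex ⊥ K (H ⊔ K) bot_le le_sup_right
  rw [Subgroup.relIndex_bot_left, Subgroup.relIndex_bot_left, Subgroup.relIndex_sup_right] at h1
  have h2 : K.relIndex H = Nat.card H := by
    rw [← Subgroup.inf_relIndex_left, hbot, Subgroup.relIndex_bot_left]
  rw [← h1, h2, mul_comm]

/-- [G-HALL] normal Sylow subgroups for all primes dividing a Hall divisor `n` give a normal subgroup
of order `n`. -/
theorem exists_normal_of_normal_sylows {G : Type*} [Group G] [Finite G] (n : ℕ) (hn : n ∣ Nat.card G)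
    (hcop : n.Coprime (Nat.card G / n))
    (h : ∀ (p : ℕ) [Fact p.Prime], p ∣ n → ∀ P : Sylow p G, (P : Subgroup G).Normal) :
    ∃ K : Subgroup G, K.Normal ∧ Nat.card K = n := by
  classical
  have hGpos : 0 < Nat.card G := Nat.card_pos
  have hn0 : n ≠ 0 := by
    rintro rfl
    exact hGpos.ne' (Nat.eq_zero_of_zero_dvd hn)
  -- the key claim for finsets of primes dividing `n`
  have key : ∀ s : Finset ℕ, (∀ p ∈ s, p.Prime ∧ p ∣ n) →
      ∃ K : Subgroup G, K.Normal ∧
        Nat.card K = ∏ p ∈ s, p ^ (Nat.card G).factorization p := by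
    intro s
    induction s using Finset.induction_on with
    | empty =>
      intro _
      refine ⟨⊥, inferInstance, ?_⟩
      simp
    | insert p s hps ih =>
      intro hs
      obtain ⟨K, hKn, hKc⟩ := ih (fun q hq => hs q (Finset.mem_insert_of_mem hq))
      obtain ⟨hp, hpn⟩ := hs p (Finset.mem_insert_self p s)
      have : Fact p.Prime := ⟨hp⟩
      obtain ⟨P⟩ : Nonempty (Sylow p G) := inferInstance
      have hPn : (P : Subgroup G).Normal := h p hpn P
      have hPc : Nat.card (P : Subgroup G) = p ^ (Nat.card G).factorization p :=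
        P.card_eq_multiplicity
      have hcop' : (Nat.card K).Coprime (Nat.card (P : Subgroup G)) := by
        rw [hKc, hPc]
        apply Nat.Coprime.prod_left
        intro q hq
        have hqp : q ≠ p := fun e => hps (e ▸ hq)
        have hqprime : q.Prime := (hs q (Finset.mem_insert_of_mem hq)).1
        exact Nat.Coprime.pow _ _ ((Nat.coprime_primes hqprime hp).mpr hqp)
      refine ⟨K ⊔ (P : Subgroup G), inferInstance, ?_⟩
      rw [card_sup_of_coprime_normal K (P : Subgroup G) hcop', Finset.prod_insert hps, hKc, hPc,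
        mul_comm]
  obtain ⟨K, hKn, hKc⟩ := key n.primeFactors (fun p hp =>
    ⟨Nat.prime_of_mem_primeFactors hp, Nat.dvd_of_mem_primeFactors hp⟩)
  refine ⟨K, hKn, ?_⟩
  rw [hKc]
  have hfac : ∀ p ∈ n.primeFactors, (Nat.card G).factorization p = n.factorization p := by
    intro p hp
    have hpp : p.Prime := Nat.prime_of_mem_primeFactors hp
    have hpn : p ∣ n := Nat.dvd_of_mem_primeFactors hp
    obtain ⟨m, hm⟩ := hn
    have hm0 : m ≠ 0 := by
      rintro rfl
      rw [mul_zero] at hm
      exact hGpos.ne' hm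
    have hdiv : Nat.card G / n = m := by
      rw [hm]; exact Nat.mul_div_cancel_left m (Nat.pos_of_ne_zero hn0)
    rw [hdiv] at hcop
    have hpm : ¬ p ∣ m := by
      intro hpm
      have : p ∣ Nat.gcd n m := Nat.dvd_gcd hpn hpm
      rw [hcop] at this
      exact hpp.one_lt.ne' (Nat.dvd_one.mp this)
    rw [hm, Nat.factorization_mul hn0 hm0]
    simp [Nat.factorization_eq_zero_of_not_dvd hpm]
  rw [Finset.prod_congr rfl (fun p hp => by rw [hfac p hp])]
  exact Nat.prod_factorization_pow_eq_self hn0

end Cfsg.Agent.Lib.Helper89.S3999
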