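import Mathlib
import Cfsg.Prelude.Def_Solvable

set_option autoImplicit false

namespace Cfsg.Agent.Lib.Helper89.S3999

/-- [G-SYLOW] if the number of `p`-elements equals the order of a Sylow `p`-subgroup, it is normal. -/
theorem sylow_normal_of_card_pelements {G : Type*} [Group G] [Finite G] (p : ℕ) [Fact p.Prime]
    (h : Nat.card {g : G // ∃ k : ℕ, orderOf g = p ^ k} = p ^ (Nat.card G).factorization p)
    (P : Sylow p G) : (P : Subgroup G).Normal := by
  classical
  -- the set of p-elements
  set S : Set G := {g : G | ∃ k : ℕ, orderOf g = p ^ k} with hS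
  have hPS : ((P : Subgroup G) : Set G) ⊆ S := by
    intro g hg
    obtain ⟨k, hk⟩ := (IsPGroup.iff_orderOf.mp P.isPGroup') ⟨g, hg⟩
    refine ⟨k, ?_⟩
    rw [← hk]
    exact (Subgroup.orderOf_mk g hg).symm
  have hcardP : Nat.card (P : Subgroup G) = p ^ (Nat.card G).factorization p :=
    P.card_eq_multiplicity
  have hfin : S.Finite := Set.toFinite S
  have hEq : ((P : Subgroup G) : Set G) = S := by
    apply Set.eq_of_subset_of_ncard_le hPS _ hfin
    have h1 : S.ncard = Nat.card S := (Nat.card_coe_set_eq S).symm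
    have h2 : ((P : Subgroup G) : Set G).ncard = Nat.card (P : Subgroup G) :=
      (Nat.card_coe_set_eq _).symm
    rw [h1, h2, hcardP]
    exact le_of_eq h
  refine ⟨fun n hn g => ?_⟩
  have hn' : n ∈ S := hPS hn
  have : g * n * g⁻¹ ∈ S := by
    obtain ⟨k, hk⟩ := hn'
    refine ⟨k, ?_⟩
    rw [← hk]
    exact MulEquiv.orderOf_eq (MulAut.conj g) n
  rw [← hEq] at this
  exact this

end Cfsg.Agent.Lib.Helper89.S3999
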