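import Mathlib
import Cfsg.Agent.Lib.Helper43.SPMD.Defs

/-!
# SPMD-[W-SCHUR] (helper89, for helper43's project SPMD / S2347)

An operator on `Fn n F` commuting with all Weyl operators is a scalar.
-/

set_option autoImplicit false

namespace Cfsg.Agent.Lib.Helper43.SPMD

open Matrix Module Cfsg.Agent.Lib.Helper13 Cfsg.Agent.Lib.Helper43.SUMD

namespace H89W

variable {n : ℕ} {F : Type*}

/-- the vector with position part `p` and momentum part `r` -/
def mkV (p r : Fin n → F) : Vec n F := Sum.elim p r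

theorem pp_mkV (p r : Fin n → F) : pp (mkV p r) = p := rfl

theorem rr_mkV (p r : Fin n → F) : rr (mkV p r) = r := rfl

theorem mkV_pp_rr (v : Vec n F) : mkV (pp v) (rr v) = v := by
  funext i
  cases i <;> rfl

variable [Field F]

/-- the Weyl operator of a pure momentum vector is a multiplication operator -/
theorem weyl_mom (ψ : AddChar F ℂ) (r : Fin n → F) (f : Fn n F) (x : Fin n → F) :
    weyl ψ (mkV 0 r) f x = ψ (r ⬝ᵥ x) * f x := by
  rw [weyl_apply, pp_mkV, rr_mkV, zero_dotProduct, mul_zero, add_zero, add_zero]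

/-- the Weyl operator of a pure position vector is a translation -/
theorem weyl_pos (ψ : AddChar F ℂ) (p : Fin n → F) (f : Fn n F) (x : Fin n → F) :
    weyl ψ (mkV p 0) f x = f (x + p) := by
  rw [weyl_apply, pp_mkV, rr_mkV, zero_dotProduct, dotProduct_zero, mul_zero, add_zero,
    AddChar.map_zero_eq_one, one_mul]

theorem exists_ne_one_of_ne_one (ψ : AddChar F ℂ) (hψ : ψ ≠ 1) : ∃ a : F, ψ a ≠ 1 := by
  by_contra hcon
  push Not at hcon
  exact hψ (DFunLike.ext _ _ (fun a => by rw [hcon a, AddChar.one_apply]))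

end H89W

open H89W

/-- **[W-SCHUR]** an operator commuting with all Weyl operators is a scalar -/
theorem schur {n : ℕ} {F : Type*} [Field F] [Fintype F] (ψ : AddChar F ℂ) (hψ : ψ ≠ 1)
    (M : Module.End ℂ (Fn n F))
    (hM : ∀ v : Vec n F, M * weyl ψ v = weyl ψ v * M) : ∃ k : ℂ, M = k • 1 := by
  classical
  obtain ⟨a, ha⟩ := exists_ne_one_of_ne_one ψ hψ
  -- Step 1: `M δ_y` is supported at `y`
  have hoff : ∀ y x : Fin n → F, x ≠ y → M (Pi.single y 1) x = 0 := by
    intro y x hxy
    obtain ⟨i, hi⟩ : ∃ i, y i - x i ≠ 0 := by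
      by_contra hcon
      push Not at hcon
      exact hxy (funext fun i => (sub_eq_zero.mp (hcon i)).symm)
    set r : Fin n → F := Pi.single i (a / (y i - x i)) with hr
    have hry : r ⬝ᵥ y = r ⬝ᵥ x + a := by
      rw [hr, single_dotProduct, single_dotProduct]
      field_simp
      ring
    have hw : weyl ψ (mkV 0 r) (Pi.single y 1) = ψ (r ⬝ᵥ y) • (Pi.single y 1 : Fn n F) := by
      funext z
      rw [weyl_mom, Pi.smul_apply, smul_eq_mul]
      by_cases hz : z = y
      · subst hz; rfl
      · rw [Pi.single_eq_of_ne hz, mul_zero, mul_zero]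
    have h1 := congrArg (fun T : Module.End ℂ (Fn n F) => T (Pi.single y 1) x) (hM (mkV 0 r))
    simp only [Module.End.mul_apply] at h1
    rw [hw, map_smul, weyl_mom, Pi.smul_apply, smul_eq_mul, hry, AddChar.map_add_eq_mul] at h1
    have h2 : ψ (r ⬝ᵥ x) * ((ψ a - 1) * M (Pi.single y 1) x) = 0 := by
      linear_combination h1
    have h3 : ψ (r ⬝ᵥ x) ≠ 0 := (AddChar.val_isUnit ψ (r ⬝ᵥ x)).ne_zero
    rcases mul_eq_zero.mp h2 with h | h
    · exact absurd h h3
    · rcases mul_eq_zero.mp h with h' | h'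
      · exact absurd (sub_eq_zero.mp h') ha
      · exact h'
  -- Step 2: `M δ_y = m y • δ_y`
  have hdiag : ∀ y : Fin n → F, M (Pi.single y 1) = (M (Pi.single y 1) y) • (Pi.single y 1 : Fn n F) := by
    intro y
    funext x
    rw [Pi.smul_apply, smul_eq_mul]
    by_cases hx : x = y
    · subst hx; rw [Pi.single_eq_same, mul_one]
    · rw [hoff y x hx, Pi.single_eq_of_ne hx, mul_zero]
  -- Step 3: `m` is constant
  have hconst : ∀ y : Fin n → F, M (Pi.single y 1) y = M (Pi.single 0 1) 0 := by
    intro y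
    have hw : weyl ψ (mkV y 0) (Pi.single y 1) = (Pi.single 0 1 : Fn n F) := by
      funext z
      rw [weyl_pos]
      by_cases hz : z = 0
      · subst hz; rw [zero_add, Pi.single_eq_same, Pi.single_eq_same]
      · rw [Pi.single_eq_of_ne hz, Pi.single_eq_of_ne]
        intro h
        exact hz (by simpa using h)
    have h1 := congrArg (fun T : Module.End ℂ (Fn n F) => T (Pi.single y 1) 0) (hM (mkV y 0))
    simp only [Module.End.mul_apply] at h1
    rw [hw, weyl_pos, zero_add] at h1
    exact h1.symm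
  refine ⟨M (Pi.single 0 1) 0, ?_⟩
  apply LinearMap.pi_ext
  intro y c
  have hc : (Pi.single y c : Fn n F) = c • (Pi.single y 1 : Fn n F) := by
    funext z
    rw [Pi.smul_apply, smul_eq_mul]
    by_cases hz : z = y
    · subst hz; rw [Pi.single_eq_same, Pi.single_eq_same, mul_one]
    · rw [Pi.single_eq_of_ne hz, Pi.single_eq_of_ne hz, mul_zero]
  rw [hc, map_smul, map_smul, hdiag y, hconst y, LinearMap.smul_apply, Module.End.one_apply]

end Cfsg.Agent.Lib.Helper43.SPMD
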