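import Mathlib
import Cfsg.Agent.Lib.Helper43.SPMD.Defs
import Cfsg.Agent.Lib.Helper89.SpmdWSchur

/-!
# SPMD-[W-PAR] (helper89, for helper43's project SPMD / S2347)

The parity operator: `P W(v) = W(-v) P`, invertible intertwiners commute with `P`,
and `dim oddSp = (q^n - 1)/2`.
-/

set_option autoImplicit false

namespace Cfsg.Agent.Lib.Helper43.SPMD

open Matrix Module Cfsg.Agent.Lib.Helper13 Cfsg.Agent.Lib.Helper43.SUMD

namespace H89W

variable {n : ℕ} {F : Type*} [Field F]

theorem pp_neg (v : Vec n F) : pp (-v) = -pp v := rfl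

theorem rr_neg (v : Vec n F) : rr (-v) = -rr v := rfl

theorem parity_mul_parity : parity n F * parity n F = 1 := by
  apply LinearMap.ext
  intro f
  funext x
  rw [Module.End.mul_apply, parity_apply, parity_apply, neg_neg, Module.End.one_apply]

theorem eq_zero_of_neg_eq_self (h2 : (2 : F) ≠ 0) (y : Fin n → F) (hy : -y = y) : y = 0 := by
  funext i
  have h := congrFun hy i
  rw [Pi.neg_apply] at h
  have h' : (2 : F) * y i = 0 := by linear_combination -h
  rcases mul_eq_zero.mp h' with h'' | h''
  · exact absurd h'' h2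
  · exact h''

theorem trace_parity [Fintype F] (h2 : (2 : F) ≠ 0) :
    LinearMap.trace ℂ (Fn n F) (parity n F) = 1 := by
  classical
  rw [LinearMap.trace_eq_matrix_trace ℂ (Pi.basisFun ℂ (Fin n → F)), Matrix.trace]
  rw [Finset.sum_eq_single (0 : Fin n → F)]
  · rw [Matrix.diag_apply, LinearMap.toMatrix_apply, Pi.basisFun_repr, Pi.basisFun_apply,
      parity_apply, neg_zero, Pi.single_eq_same]
  · intro y _ hy
    rw [Matrix.diag_apply, LinearMap.toMatrix_apply, Pi.basisFun_repr, Pi.basisFun_apply,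
      parity_apply, Pi.single_eq_of_ne]
    intro h
    exact hy (eq_zero_of_neg_eq_self h2 y h)
  · intro h
    exact absurd (Finset.mem_univ _) h

theorem two_ne_zero_of_odd [Fintype F] (hodd : Odd (Fintype.card F)) : (2 : F) ≠ 0 := by
  intro h
  have hchar : ringChar F = 2 := by
    have hdvd : ringChar F ∣ 2 := by
      have := (ringChar.spec F 2).mp (by exact_mod_cast h)
      exact this
    have hp : (ringChar F).Prime := CharP.char_is_prime F (ringChar F)
    exact (Nat.prime_dvd_prime_iff_eq hp Nat.prime_two).mp hdvd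
  have := FiniteField.even_card_iff_char_two.mp hchar
  rcases hodd with ⟨m, hm⟩
  omega

end H89W

open H89W

section W
variable {n : ℕ} {F : Type*} [Field F] [Fintype F]

/-- **[W-PAR]** -/
theorem parity_weyl (ψ : AddChar F ℂ) (v : Vec n F) :
    parity n F * weyl ψ v = weyl ψ (-v) * parity n F := by
  apply LinearMap.ext
  intro f
  funext x
  rw [Module.End.mul_apply, Module.End.mul_apply, parity_apply, weyl_apply, weyl_apply,
    parity_apply, pp_neg, rr_neg]
  congr 2
  · rw [neg_dotProduct, dotProduct_neg, neg_dotProduct, dotProduct_neg, neg_neg]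
  · rw [neg_add, neg_neg]

/-- **[W-PAR]** invertible intertwiners commute with the parity operator -/
theorem intertwiner_comm_parity (h2 : (2 : F) ≠ 0) (ψ : AddChar F ℂ) (hψ : ψ ≠ 1) (g : SpG n F)
    (M : (Module.End ℂ (Fn n F))ˣ) (hM : Intertwines ψ g (M : Module.End ℂ (Fn n F))) :
    (M : Module.End ℂ (Fn n F)) * parity n F = parity n F * M := by
  set P : Module.End ℂ (Fn n F) := parity n F with hP
  set Mi : Module.End ℂ (Fn n F) := ((M⁻¹ : (Module.End ℂ (Fn n F))ˣ) : Module.End ℂ (Fn n F)) with hMi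
  have hMMi : (M : Module.End ℂ (Fn n F)) * Mi = 1 := by rw [hMi, Units.mul_inv]
  have hMiM : Mi * (M : Module.End ℂ (Fn n F)) = 1 := by rw [hMi, Units.inv_mul]
  have hPP : P * P = 1 := parity_mul_parity
  -- `Mi W(g v) = W(v) Mi`
  have hMi' : ∀ v : Vec n F, Mi * weyl ψ (sm g *ᵥ v) = weyl ψ v * Mi := by
    intro v
    have h := hM v
    calc Mi * weyl ψ (sm g *ᵥ v) = Mi * (weyl ψ (sm g *ᵥ v) * (M : Module.End ℂ (Fn n F))) * Mi := by
          rw [mul_assoc, mul_assoc, hMMi, mul_one]
      _ = Mi * ((M : Module.End ℂ (Fn n F)) * weyl ψ v) * Mi := by rw [h]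
      _ = weyl ψ v * Mi := by rw [← mul_assoc, hMiM, one_mul]
  set N : Module.End ℂ (Fn n F) := (M : Module.End ℂ (Fn n F)) * P * Mi * P with hN
  have hcomm : ∀ w : Vec n F, N * weyl ψ w = weyl ψ w * N := by
    intro w
    set v : Vec n F := sm g⁻¹ *ᵥ (-w) with hv
    have hgv : sm g *ᵥ v = -w := by
      rw [hv, mulVec_mulVec, sm_mul_inv, one_mulVec]
    have hgnv : sm g *ᵥ (-v) = w := by
      rw [mulVec_neg, hgv, neg_neg]
    have e1 : P * weyl ψ w = weyl ψ (-w) * P := parity_weyl ψ w
    have e2 : Mi * weyl ψ (-w) = weyl ψ v * Mi := by rw [← hgv]; exact hMi' v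
    have e3 : P * weyl ψ v = weyl ψ (-v) * P := parity_weyl ψ v
    have e4 : (M : Module.End ℂ (Fn n F)) * weyl ψ (-v) = weyl ψ w * M := by
      have := hM (-v)
      rw [hgnv] at this
      exact this
    calc N * weyl ψ w = (M : Module.End ℂ (Fn n F)) * P * Mi * (P * weyl ψ w) := by
          rw [hN]; simp only [mul_assoc]
      _ = (M : Module.End ℂ (Fn n F)) * P * (Mi * weyl ψ (-w)) * P := by
          rw [e1]; simp only [mul_assoc]
      _ = (M : Module.End ℂ (Fn n F)) * (P * weyl ψ v) * Mi * P := by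
          rw [e2]; simp only [mul_assoc]
      _ = ((M : Module.End ℂ (Fn n F)) * weyl ψ (-v)) * P * Mi * P := by
          rw [e3]; simp only [mul_assoc]
      _ = weyl ψ w * N := by
          rw [e4, hN]; simp only [mul_assoc]
  obtain ⟨k, hk⟩ := schur ψ hψ N hcomm
  -- `M P Mi = k P`
  have h1 : (M : Module.End ℂ (Fn n F)) * P * Mi = k • P := by
    calc (M : Module.End ℂ (Fn n F)) * P * Mi = N * P := by
          rw [hN, mul_assoc _ P P, hPP, mul_one]
      _ = k • P := by rw [hk, smul_mul_assoc, one_mul]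
  have htr : LinearMap.trace ℂ (Fn n F) ((M : Module.End ℂ (Fn n F)) * P * Mi) =
      LinearMap.trace ℂ (Fn n F) P := by
    rw [hMi]
    exact LinearMap.trace_conj ℂ P M
  rw [h1, map_smul, hP, trace_parity h2, smul_eq_mul, mul_one] at htr
  have h3 : (M : Module.End ℂ (Fn n F)) * P = (M : Module.End ℂ (Fn n F)) * P * Mi * M := by
    rw [mul_assoc _ Mi, hMiM, mul_one]
  rw [h3, h1, htr, one_smul]

/-- **[W-PAR]** the dimension of the space of odd functions -/
theorem finrank_oddSp {q : ℕ} (hq : Fintype.card F = q) (hodd : Odd q) :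
    finrank ℂ (oddSp n F) = (q ^ n - 1) / 2 := by
  classical
  have h2 : (2 : F) ≠ 0 := two_ne_zero_of_odd (hq ▸ hodd)
  set e : Module.End ℂ (Fn n F) := (2⁻¹ : ℂ) • (1 - parity n F) with he
  have hproj : LinearMap.IsProj (oddSp n F) e := by
    constructor
    · intro f
      rw [mem_oddSp]
      intro x
      simp only [he, LinearMap.smul_apply, LinearMap.sub_apply, Module.End.one_apply, Pi.smul_apply,
        Pi.sub_apply, parity_apply, neg_neg, smul_eq_mul]
      ring
    · intro f hf
      rw [mem_oddSp] at hf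
      funext x
      simp only [he, LinearMap.smul_apply, LinearMap.sub_apply, Module.End.one_apply, Pi.smul_apply,
        Pi.sub_apply, parity_apply, smul_eq_mul, hf x]
      ring
  have htr := hproj.trace
  have hcard : finrank ℂ (Fn n F) = q ^ n := by
    rw [Module.finrank_fintype_fun_eq_card, Fintype.card_fun, Fintype.card_fin, hq]
  rw [he, map_smul, map_sub, LinearMap.trace_one, trace_parity h2, hcard, smul_eq_mul] at htr
  obtain ⟨m, hm⟩ := hodd.pow (n := n)
  have hm' : (q ^ n - 1) / 2 = m := by omega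
  rw [hm']
  have : ((finrank ℂ (oddSp n F) : ℕ) : ℂ) = (m : ℂ) := by
    rw [← htr, hm]
    push_cast
    ring
  exact_mod_cast this

end W

end Cfsg.Agent.Lib.Helper43.SPMD
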