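/-
helper89: project STEINBERG phase 3 (helper60), module ST3-[SCCERT]: every root `s` of the seven tabulated data has a
coweight `λ` with `⟨s, λ⟩ = 1` (Bezout on the column of the Cartan table), except the four long roots of `B2`, which have
a certificate `TopCert`.
-/
import Cfsg.Agent.Lib.Helper89.St3Sep

set_option autoImplicit false

namespace Cfsg.Agent.Lib.Helper89.St3

open Cfsg.Lie Cfsg.Agent.Lib.Helper35.St Cfsg.Agent.Lib.Helper60.St3 Cfsg.Agent.Lib.Helper18

variable {D : ChevalleyDatum}

/-- Table check at one root: two entries of the column of the Cartan table generate the unit ideal. -/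
def scOK1 (T : FastDatum) (s : ℕ) : Bool :=
  (List.range T.rank).any fun i => (List.range T.rank).any fun j =>
    [(-2 : ℤ), -1, 0, 1, 2].any fun c => [(-2 : ℤ), -1, 0, 1, 2].any fun c' =>
      decide (c * T.cartan i s + c' * T.cartan j s = 1)

/-- Table check at all roots outside the list `exc`. -/
def scOK (T : FastDatum) (exc : List ℕ) : Bool :=
  (List.range T.nroots).all fun s => exc.contains s || scOK1 T s

theorem sc_of_ok (C : ChevData.{0} D) (exc : List ℕ) (h : scOK C.T exc = true) (s : ℕ) (hs : s < D.nroots)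
    (hne : s ∉ exc) : ∃ m : ℕ → ℤ, pair D m s = 1 := by
  unfold scOK at h
  rw [List.all_eq_true] at h
  have hn := C.nroots_eq
  have hrk := C.rank_eq
  have h1 := h s (List.mem_range.2 (hn ▸ hs))
  rw [Bool.or_eq_true, List.contains_iff_mem] at h1
  rcases h1 with h1 | h1
  · exact (hne h1).elim
  · unfold scOK1 at h1
    rw [List.any_eq_true] at h1
    obtain ⟨i, hi, h2⟩ := h1
    rw [List.any_eq_true] at h2
    obtain ⟨j, hj, h3⟩ := h2
    rw [List.any_eq_true] at h3
    obtain ⟨c, -, h4⟩ := h3
    rw [List.any_eq_true] at h4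
    obtain ⟨c', -, h5⟩ := h4
    rw [decide_eq_true_eq] at h5
    have hi' : i < D.rank := hrk ▸ List.mem_range.1 hi
    have hj' : j < D.rank := hrk ▸ List.mem_range.1 hj
    refine ⟨fun k => (if k = i then c else 0) + (if k = j then c' else 0), ?_⟩
    rw [pair_add, pair_single D i hi', pair_single D j hj', C.T.cartan_eq D C.hag i hi' s hs,
      C.T.cartan_eq D C.hag j hj' s hs]
    exact h5

instance decComPair (D : ChevalleyDatum) (a b : ℕ) : Decidable (ComPair D a b) := by
  unfold ComPair
  infer_instance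

theorem topCert_B2_4 : TopCert chevB2 4 :=
  ⟨0, 6, [(2, -1, 1, 1)], [], 1, 2, by decide⟩

theorem topCert_B2_7 : TopCert chevB2 7 :=
  ⟨4, 5, [(6, 1, 1, 1)], [], -1, 2, by decide⟩

theorem topCert_B2_3 : TopCert chevB2 3 :=
  ⟨7, 1, [(5, 1, 1, 1)], [], 1, 2, by decide⟩

theorem topCert_B2_0 : TopCert chevB2 0 :=
  ⟨3, 2, [(1, -1, 1, 1)], [], -1, 2, by decide⟩

set_option maxRecDepth 1000000 in
theorem scOK_G2 : scOK fastG2 [] = true := by decide +kernel

set_option maxRecDepth 1000000 in
theorem scOK_B2 : scOK fastB2 [0, 3, 4, 7] = true := by decide +kernel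

set_option maxRecDepth 1000000 in
theorem scOK_D4 : scOK fastD4 [] = true := by decide +kernel

set_option maxRecDepth 1000000 in
theorem scOK_F4 : scOK fastF4 [] = true := by decide +kernel

set_option maxRecDepth 1000000 in
theorem scOK_E6 : scOK fastE6 [] = true := by decide +kernel

set_option maxRecDepth 1000000 in
theorem scOK_E7 : scOK fastE7 [] = true := by decide +kernel

set_option maxRecDepth 1000000 in
theorem scOK_E8 : scOK fastE8 [] = true := by decide +kernel

/-- **ST3-[SCCERT]**. -/
theorem scCert_of_mem (hD : D ∈ [chevG2, chevB2, chevD4, chevF4, chevE6, chevE7, chevE8]) : SCCert D := by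
  simp only [List.mem_cons, List.not_mem_nil, or_false] at hD
  rcases hD with rfl | rfl | rfl | rfl | rfl | rfl | rfl
  · exact fun s hs => Or.inl (sc_of_ok chevData_G2.{0} [] scOK_G2 s hs (List.not_mem_nil))
  · intro s hs
    by_cases h : s ∈ [0, 3, 4, 7]
    · right
      simp only [List.mem_cons, List.not_mem_nil, or_false] at h
      rcases h with rfl | rfl | rfl | rfl
      · exact topCert_B2_0
      · exact topCert_B2_3
      · exact topCert_B2_4
      · exact topCert_B2_7
    · exact Or.inl (sc_of_ok chevData_B2.{0} [0, 3, 4, 7] scOK_B2 s hs h)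
  · exact fun s hs => Or.inl (sc_of_ok chevData_D4.{0} [] scOK_D4 s hs (List.not_mem_nil))
  · exact fun s hs => Or.inl (sc_of_ok chevData_F4.{0} [] scOK_F4 s hs (List.not_mem_nil))
  · exact fun s hs => Or.inl (sc_of_ok chevData_E6.{0} [] scOK_E6 s hs (List.not_mem_nil))
  · exact fun s hs => Or.inl (sc_of_ok chevData_E7.{0} [] scOK_E7 s hs (List.not_mem_nil))
  · exact fun s hs => Or.inl (sc_of_ok chevData_E8.{0} [] scOK_E8 s hs (List.not_mem_nil))

end Cfsg.Agent.Lib.Helper89.St3
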