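import Cfsg.Agent.Lib.Helper69.Aut.StrDefs
import Cfsg.Agent.Lib.Helper36.AutO.RingAutCard
import Cfsg.Agent.S1080
import Cfsg.Agent.Lib.Helper18.TorusHom
import Cfsg.Agent.Lib.Helper18.NConj

/-!
# project STR (helper69's S2159), module [FCYC]: the field automorphisms of a Chevalley group over
a finite field lie in a cyclic group (helper89, hedge for helper69)
-/

set_option autoImplicit false

namespace Cfsg.Agent.Lib.Helper89.Aut

open Cfsg Cfsg.Lie Cfsg.Agent.Lib.Helper18 Cfsg.Agent.Lib.Helper91.ChevGen Cfsg.Agent.Lib.Helper69.Aut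

universe u

variable {F : Type u} [Field F] {D : ChevalleyDatum}

/-- the ring automorphisms of a finite field form a cyclic group -/
theorem ringAut_isCyclic [Finite F] : IsCyclic (RingAut F) := by
  classical
  have : Fintype F := Fintype.ofFinite F
  obtain ⟨n, hp, hn⟩ := FiniteField.card F (ringChar F)
  have : Fact (ringChar F).Prime := ⟨hp⟩
  obtain ⟨e⟩ := Cfsg.Agent.Lib.Helper36.AutO.ringAut_equiv_zmod (F := F) (p := ringChar F)
    (f := (n : ℕ)) n.pos hn
  have : NeZero (n : ℕ) := ⟨n.pos.ne'⟩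
  exact isCyclic_of_surjective e.symm.toMonoidHom e.symm.surjective

/-- two automorphisms acting in the same way on all root elements are equal -/
theorem aut_ext_root (hD : D ∈ [chevG2, chevB2, chevD4, chevF4, chevE6, chevE7, chevE8])
    (α β : ↥(D.group F) ≃* ↥(D.group F))
    (h : ∀ (r : ℕ) (t : F), r < D.nroots → α (xS hD r t) = β (xS hD r t)) : α = β := by
  have hsl : ∀ i : ℕ, i < D.rank → D.simple i < D.nroots := fun i hi => simple_lt' D hD i hi
  have key : α.toMonoidHom = β.toMonoidHom := by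
    apply hom_ext_fund hD
    intro y i t hi hy
    show α y = β y
    rcases hy with hy | hy
    · rw [eq_xS hD y _ t hy]
      exact h _ t (hsl i hi)
    · rw [eq_xS hD y _ t hy]
      exact h _ t (neg_lt_nroots D hD _ (hsl i hi))
  apply MulEquiv.ext
  intro y
  exact congrArg (fun ψ : ↥(D.group F) →* ↥(D.group F) => ψ y) key

theorem exists_field_gen [Finite F] (hD : D ∈ [chevG2, chevB2, chevD4, chevF4, chevE6, chevE7, chevE8]) :
    ∃ φ₀ : MulAut ↥(D.group F), ∀ φ : MulAut ↥(D.group F), D.IsFieldAut φ →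
      φ ∈ Subgroup.zpowers φ₀ := by
  classical
  -- the field automorphism of the group attached to a field automorphism
  have hex : ∀ τ : RingAut F, ∃ α : MulAut ↥(D.group F),
      ∀ (r : ℕ) (t : F), r < D.nroots → α (xS hD r t) = xS hD r (τ t) := by
    intro τ
    obtain ⟨α, hα⟩ := Cfsg.Agent.S1080.result D hD τ
    refine ⟨α, fun r t hr => ?_⟩
    apply eq_xS hD
    exact hα _ r t hr rfl
  choose ι hι using hex
  have hmul : ∀ τ τ' : RingAut F, ι (τ * τ') = ι τ * ι τ' := by
    intro τ τ'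
    apply aut_ext_root hD
    intro r t hr
    show ι (τ * τ') (xS hD r t) = ι τ (ι τ' (xS hD r t))
    rw [hι _ r t hr, hι _ r t hr, hι _ r _ hr]
    rfl
  obtain ⟨J, hJ⟩ : ∃ J : RingAut F →* MulAut ↥(D.group F), ∀ τ, J τ = ι τ :=
    ⟨MonoidHom.mk' ι hmul, fun _ => rfl⟩
  obtain ⟨σ₀, hσ₀⟩ := (ringAut_isCyclic (F := F)).exists_generator
  refine ⟨J σ₀, ?_⟩
  intro φ hφ
  obtain ⟨σ, hσ⟩ := hφ
  have hφJ : φ = J σ := by
    apply aut_ext_root hD
    intro r t hr
    rw [hJ, hι _ r t hr]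
    apply eq_xS hD
    exact hσ _ r t hr rfl
  obtain ⟨k, hk⟩ := Subgroup.mem_zpowers_iff.mp (hσ₀ σ)
  rw [hφJ, ← hk, map_zpow]
  exact Subgroup.zpow_mem_zpowers _ k

end Cfsg.Agent.Lib.Helper89.Aut
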