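/-
helper89: project STR (helper69, S2159), module STR-[RANGE] (hedge): the range of a homomorphism from the automorphism
group of a Chevalley group of type G2, B2, D4, F4, E6, E7, E8 to the permutations of the nodes that reads off the
permutation of a root map and lands in the symmetries of the diagram has order 1, 2 or 6, and is not commutative
in the last case (type D4).
-/
import Cfsg.Agent.Lib.Helper69.Aut.StrDefs
import Cfsg.Agent.Lib.Helper91.OutPiE6
import Cfsg.Agent.Lib.Helper91.OutPiE7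
import Cfsg.Agent.Lib.Helper91.OutPiE8
import Cfsg.Agent.S1081

set_option autoImplicit false

namespace Cfsg.Agent.Lib.Helper89.Aut

open Cfsg Cfsg.Lie Cfsg.Agent.Lib.Helper18 Cfsg.Agent.Lib.Helper91.ChevGen Cfsg.Agent.Lib.Helper69.Aut

universe u

variable {F : Type u} [Field F] {D : ChevalleyDatum}

/-- A subgroup of a finite group all of whose elements are `1` or `σ` has order 1 or 2. -/
theorem card_one_or_two {α : Type*} [Group α] [Finite α] (H : Subgroup α) (σ : α)
    (h : ∀ π ∈ H, π = 1 ∨ π = σ) : Nat.card ↥H = 1 ∨ Nat.card ↥H = 2 := by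
  have h1 : 0 < Nat.card ↥H := Nat.card_pos
  have h2 : Nat.card ↥H ≤ 2 := by
    have hsub : (H : Set α) ⊆ {1, σ} := fun π hπ => by
      rcases h π hπ with e | e <;> simp [e]
    calc Nat.card ↥H = (H : Set α).ncard := (Nat.card_coe_set_eq _)
      _ ≤ ({1, σ} : Set α).ncard := Set.ncard_le_ncard hsub (Set.toFinite _)
      _ ≤ ({σ} : Set α).ncard + 1 := Set.ncard_insert_le _ _
      _ = 2 := by rw [Set.ncard_singleton]
  omega

/-- The swap of the two nodes of `G2`. -/
theorem g2_perm_cases' : ∀ π : Equiv.Perm (Fin chevG2.rank),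
    π = 1 ∨ π = Equiv.swap ⟨0, by decide⟩ ⟨1, by decide⟩ := by
  decide

set_option maxRecDepth 100000 in
theorem f4_perm_cases' : ∀ π : Equiv.Perm (Fin chevF4.rank), chevF4.IsDiagramSymmetry π →
    π = 1 ∨ π = Fin.revPerm := by
  unfold ChevalleyDatum.IsDiagramSymmetry
  decide

/-- The swap of the two nodes of `B2`. -/
theorem b2_perm_cases : ∀ π : Equiv.Perm (Fin chevB2.rank),
    π = 1 ∨ π = Equiv.swap ⟨0, by decide⟩ ⟨1, by decide⟩ := by
  decide

/-- The triality permutation of the nodes of `D4`. -/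
def d4Tri : Equiv.Perm (Fin chevD4.rank) :=
  Equiv.swap ⟨0, by decide⟩ ⟨2, by decide⟩ * Equiv.swap ⟨2, by decide⟩ ⟨3, by decide⟩

theorem d4Tri_tab : ∀ i : Fin chevD4.rank, ((d4Tri i : Fin chevD4.rank) : ℕ) = [2, 1, 3, 0].getD i.val 0 := by
  decide

/-- A transposition of two outer nodes of `D4`. -/
def d4Swap : Equiv.Perm (Fin chevD4.rank) := Equiv.swap ⟨0, by decide⟩ ⟨2, by decide⟩

theorem d4Swap_tab : ∀ i : Fin chevD4.rank, ((d4Swap i : Fin chevD4.rank) : ℕ) = [2, 1, 0, 3].getD i.val 0 := by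
  decide

theorem d4_not_comm : d4Tri * d4Swap ≠ d4Swap * d4Tri := by decide

theorem d4Tri_order : orderOf d4Tri = 3 :=
  orderOf_eq_prime (by decide) (by decide)

theorem d4Swap_order : orderOf d4Swap = 2 :=
  orderOf_eq_prime (by decide) (by decide)

instance decIsDiagramSymmetry (D : ChevalleyDatum) : DecidablePred D.IsDiagramSymmetry := by
  intro π
  unfold ChevalleyDatum.IsDiagramSymmetry
  infer_instance

set_option maxRecDepth 100000 in
theorem d4_symm_card :
    (Finset.univ.filter (fun π : Equiv.Perm (Fin chevD4.rank) => chevD4.IsDiagramSymmetry π)).card = 6 := by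
  decide

theorem simplesOK_D4_2103 : Cfsg.Agent.S1081.simplesOK chevD4 graphData_D4_2103 := by decide +kernel

/-- An automorphism acting as the graph automorphism along the list `l` has a root map along a permutation with
that table. -/
theorem rootPerm_of_graph (hD : D ∈ [chevG2, chevB2, chevD4, chevF4, chevE6, chevE7, chevE8])
    (l : List ℕ) (π : Equiv.Perm (Fin D.rank)) (hπ : ∀ i : Fin D.rank, ((π i : Fin D.rank) : ℕ) = l.getD i.val 0)
    (α : ↥(D.group F) ≃* ↥(D.group F))
    (hα : ∀ (x : ↥(D.group F)) (i : ℕ) (t : F), i < D.rank →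
      (((x : GL D.Idx F) : Matrix D.Idx D.Idx F) = D.x F (D.simple i) t →
        ((α x : GL D.Idx F) : Matrix D.Idx D.Idx F) = D.x F (D.simple (l.getD i 0)) t) ∧
      (((x : GL D.Idx F) : Matrix D.Idx D.Idx F) = D.x F (D.neg (D.simple i)) t →
        ((α x : GL D.Idx F) : Matrix D.Idx D.Idx F) = D.x F (D.neg (D.simple (l.getD i 0))) t)) :
    RootPerm hD α π := by
  refine ⟨fun _ t => t, fun _ t => t, fun i t => ?_, fun i t => ?_⟩
  · have h1 := (hα (xS hD (D.simple i) t) i.val t i.2).1 (by rw [coe_xS, coe_xG])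
    exact eq_xS hD _ _ _ (by rw [h1, hπ i])
  · have h2 := (hα (xS hD (D.neg (D.simple i)) t) i.val t i.2).2 (by rw [coe_xS, coe_xG])
    exact eq_xS hD _ _ _ (by rw [h2, hπ i])

theorem card_range_outPerm [Finite F]
    (hD : D ∈ [chevG2, chevB2, chevD4, chevF4, chevE6, chevE7, chevE8])
    (P : MulAut ↥(D.group F) →* Equiv.Perm (Fin D.rank))
    (h1 : ∀ θ π, RootPerm hD θ π → P θ = π) (h2 : ∀ θ, D.IsDiagramSymmetry (P θ)) :
    Nat.card ↥P.range = 1 ∨ Nat.card ↥P.range = 2 ∨
      (Nat.card ↥P.range = 6 ∧ ∃ a b, P a * P b ≠ P b * P a) := by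
  have small : ∀ σ : Equiv.Perm (Fin D.rank), (∀ π, D.IsDiagramSymmetry π → π = 1 ∨ π = σ) →
      Nat.card ↥P.range = 1 ∨ Nat.card ↥P.range = 2 ∨
        (Nat.card ↥P.range = 6 ∧ ∃ a b, P a * P b ≠ P b * P a) := by
    intro σ hσ
    have := card_one_or_two P.range σ (by
      rintro π ⟨θ, rfl⟩
      exact hσ _ (h2 θ))
    tauto
  have hD' := hD
  simp only [List.mem_cons, List.not_mem_nil, or_false] at hD'
  rcases hD' with rfl | rfl | rfl | rfl | rfl | rfl | rfl
  · exact small _ fun π _ => g2_perm_cases' π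
  · exact small _ fun π _ => b2_perm_cases π
  · -- D4
    right; right
    obtain ⟨α, hα⟩ := Cfsg.Agent.S1081.result (F := F) (chevD4, [2, 1, 3, 0]) (by simp)
    have r3 : RootPerm hD (α : MulAut ↥(chevD4.group F)) d4Tri :=
      rootPerm_of_graph hD [2, 1, 3, 0] d4Tri d4Tri_tab α hα
    obtain ⟨β, hβ⟩ := Cfsg.Agent.S1081.graph_aut_exists (F := F) hD chevData_D4.{u} graphData_D4_2103
      graphData_D4_2103_ok simplesOK_D4_2103
    have r2 : RootPerm hD (β : MulAut ↥(chevD4.group F)) d4Swap :=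
      rootPerm_of_graph hD [2, 1, 0, 3] d4Swap d4Swap_tab β hβ
    have e3 : P α = d4Tri := h1 _ _ r3
    have e2 : P β = d4Swap := h1 _ _ r2
    refine ⟨?_, α, β, by rw [e3, e2]; exact d4_not_comm⟩
    have hle : Nat.card ↥P.range ≤ 6 := by
      rw [← d4_symm_card]
      have hsub : (P.range : Set (Equiv.Perm (Fin chevD4.rank))) ⊆
          ((Finset.univ.filter (fun π : Equiv.Perm (Fin chevD4.rank) => chevD4.IsDiagramSymmetry π) :
            Finset _) : Set _) := by
        rintro π ⟨θ, rfl⟩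
        simp only [Finset.coe_filter, Finset.mem_univ, true_and, Set.mem_ofPred_eq]
        exact h2 θ
      calc Nat.card ↥P.range = (P.range : Set (Equiv.Perm (Fin chevD4.rank))).ncard :=
            (Nat.card_coe_set_eq _)
        _ ≤ _ := Set.ncard_le_ncard hsub (Set.toFinite _)
        _ = _ := Set.ncard_coe_finset _
    have d3 : 3 ∣ Nat.card ↥P.range := by
      have := Subgroup.orderOf_dvd_natCard P.range (x := d4Tri) ⟨α, e3⟩
      rwa [d4Tri_order] at this
    have d2 : 2 ∣ Nat.card ↥P.range := by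
      have := Subgroup.orderOf_dvd_natCard P.range (x := d4Swap) ⟨β, e2⟩
      rwa [d4Swap_order] at this
    have hpos : 0 < Nat.card ↥P.range := Nat.card_pos
    omega
  · exact small _ fun π hπ => f4_perm_cases' π hπ
  · exact small _ fun π hπ => Cfsg.Agent.Lib.Helper91.Aut.e6_symm_cases π hπ
  · exact small 1 fun π hπ => Or.inl (Cfsg.Agent.Lib.Helper91.Aut.e7_symm_eq_one π hπ)
  · exact small 1 fun π hπ => Or.inl (Cfsg.Agent.Lib.Helper91.Aut.e8_symm_eq_one π hπ)

end Cfsg.Agent.Lib.Helper89.Aut
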