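import Mathlib
import Cfsg.Agent.S5349
import Cfsg.Agent.Lib.Helper90.WidthOne
import Cfsg.Agent.Lib.Helper90.WClass
import Cfsg.Agent.Lib.Helper89.TTSylowGen

/-!
# A `3`-transposition normalizes a Sylow `3`-subgroup when `D_d = V_d` (S5356), seat helper89

`D` a class of `3`-transpositions of the finite group `G` such that commuting members of `D`
have the same commuting sets.  With `Q = O_2(G)`: the fibres of `D → G/Q` are the commuting
classes (S5349), so `G/Q = ⟨d⟩ O_3(G/Q)` (Z*-theorem via helper58/helper90), and `d` normalizes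
a Sylow `3`-subgroup of `G` (induction on `|G|`).

The Z*-theorem enters as the explicit hypothesis `ZAll`.
-/

set_option autoImplicit false
set_option linter.style.haveILetI false
set_option linter.unusedSectionVars false

namespace Cfsg.Agent.Lib.Helper89.TTSylow

open Cfsg Cfsg.Agent.Lib.Helper89.TTSylowGen

universe u

/-- commuting members of `D` commute with the same members of `D` -/
def PerpHyp {G : Type*} [Group G] (D : Set G) : Prop :=
  ∀ a ∈ D, ∀ b ∈ D, Commute a b → ∀ e ∈ D, (Commute a e ↔ Commute b e)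

/-- the Z*-theorem for all finite groups of a universe -/
def ZAll : Prop :=
  ∀ (K : Type u) [Group K] [Finite K], Cfsg.Agent.Lib.Helper58.ZStarProd.ZStarHyp K

/-- what we use about the normal `2`-subgroup `Q = O_2(G)` -/
structure QData {G : Type*} [Group G] (D : Set G) (Q : Subgroup G) : Prop where
  two : IsPGroup 2 Q
  fiber : ∀ a ∈ D, ∀ b ∈ D, (a⁻¹ * b ∈ Q ↔ Commute a b)
  conj : ∀ a ∈ D, ∀ b ∈ D, Commute a b → ∃ g ∈ Q, b = g * a * g⁻¹

section

variable {G : Type u} [Group G] [Finite G] {D : Set G}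

theorem qdata_pCore (hD : IsThreeTranspositionClass D) (hH : PerpHyp D)
    (hD2 : ∃ a ∈ D, ∃ b ∈ D, a ≠ b) : QData D (pCore 2 G) := by
  refine ⟨Cfsg.Agent.Lib.Helper90.pCore_isPGroup 2 G, ?_, ?_⟩
  · intro a ha b hb
    have h := (Cfsg.Agent.S5349.result hD hD2 ha).1
    constructor
    · intro hab
      have hb' : b ∈ {v : G | v ∈ D ∧ a⁻¹ * v ∈ pCore 2 G} := ⟨hb, hab⟩
      rw [← h] at hb'
      exact ((hb'.2 a ha).mpr (Commute.refl a)).symm
    · intro hab
      have hb' : b ∈ {v : G | v ∈ D ∧ ∀ e ∈ D, Commute v e ↔ Commute a e} :=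
        ⟨hb, fun e he => (hH a ha b hb hab e he).symm⟩
      rw [h] at hb'
      exact hb'.2
  · intro a ha b hb hab
    have h := (Cfsg.Agent.S5349.result hD hD2 ha).2
    have hb' : b ∈ {v : G | v ∈ D ∧ ∀ e ∈ D, Commute v e ↔ Commute a e} :=
      ⟨hb, fun e he => (hH a ha b hb hab e he).symm⟩
    rw [h] at hb'
    exact hb'

variable (Q : Subgroup G) [Q.Normal]

theorem quot_not_mem (hD : IsThreeTranspositionClass D) (hQ : QData D Q) {d e : G} (hd : d ∈ D)
    (he : e ∈ D) (hde : ¬ Commute d e) : ∀ a ∈ D, a ∉ Q := by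
  intro a ha haQ
  have hT := hD.1
  obtain ⟨g, hg⟩ := exists_conj_of_mem hD ha hd
  have hdQ : d ∈ Q := by rw [← hg]; exact Subgroup.Normal.conj_mem inferInstance a haQ g
  have h1 : e * d * e⁻¹ ∈ Q := Subgroup.Normal.conj_mem inferInstance d hdQ e
  have h2 : (d * e) ^ 2 ∈ Q := by
    have : (d * e) ^ 2 = d * (e * d * e⁻¹) := by
      rw [tt_inv hT he, pow_two]; simp only [mul_assoc]
    rw [this]; exact Q.mul_mem hdQ h1
  have h3 : ((d * e) ^ 2) ^ 3 = 1 := by
    rw [← pow_mul, mul_comm, pow_mul, tt_cube hT hd he hde, one_pow]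
  have h4 := eq_one_of_cube_of_mem_two_group hQ.two h2 h3
  exact hde (comm_of_sq (tt_sq hT hd) (tt_sq hT he) h4)

theorem quot_eq_iff (hQ : QData D Q) {a b : G} (ha : a ∈ D) (hb : b ∈ D) :
    QuotientGroup.mk' Q a = QuotientGroup.mk' Q b ↔ Commute a b := by
  rw [mk'_eq_iff]; exact hQ.fiber a ha b hb

theorem quot_width (hT : IsThreeTranspositionSet D) (hQ : QData D Q) {a b : G} (ha : a ∈ D)
    (hb : b ∈ D) (h : Commute (QuotientGroup.mk' Q a) (QuotientGroup.mk' Q b)) :
    QuotientGroup.mk' Q a = QuotientGroup.mk' Q b := by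
  rcases quot_commute_cases hT Q ha hb h with h1 | h1
  · exact h1
  · exact (quot_eq_iff Q hQ ha hb).mpr h1

theorem quot_top (hZ : ZAll.{u}) (hD : IsThreeTranspositionClass D) (hQ : QData D Q) {d e : G}
    (hd : d ∈ D) (he : e ∈ D) (hde : ¬ Commute d e) :
    Subgroup.zpowers (QuotientGroup.mk' Q d) ⊔ pCore 3 (G ⧸ Q) = ⊤ := by
  have hDb : IsThreeTranspositionClass (QuotientGroup.mk' Q '' D) :=
    quot_class hD Q (quot_not_mem Q hD hQ hd he hde)
  have hDg := Cfsg.Agent.Lib.Helper90.class_to_group hDb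
  have hdb : QuotientGroup.mk' Q d ∈ QuotientGroup.mk' Q '' D := ⟨d, hd, rfl⟩
  have hw : commutingWidth (QuotientGroup.mk' Q '' D) = 1 := by
    apply Cfsg.Agent.Lib.Helper90.width_one_of_not_commute hdb
    rintro _ ⟨a, ha, rfl⟩ _ ⟨b, hb, rfl⟩ hne hc
    exact hne (quot_width Q hD.1 hQ ha hb hc)
  exact (Cfsg.Agent.Lib.Helper90.width_one_iff (hZ _) hDg hdb).mp hw

theorem exists_y (hZ : ZAll.{u}) (hD : IsThreeTranspositionClass D) (hQ : QData D Q) {d e : G}
    (hd : d ∈ D) (he : e ∈ D) (hde : ¬ Commute d e) :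
    ∃ y : G, orderOf y = 3 ∧ (d * y * d⁻¹ = y ∨ d * y * d⁻¹ = y⁻¹) ∧
      (Subgroup.zpowers y ⊔ Q).Normal := by
  classical
  have hT := hD.1
  have hπs : Function.Surjective (QuotientGroup.mk' Q) := QuotientGroup.mk'_surjective Q
  have hdd : d * d = 1 := tt_sq hT hd
  have hdinv : d⁻¹ = d := tt_inv hT hd
  have hdd' : QuotientGroup.mk' Q d * QuotientGroup.mk' Q d = 1 := by
    rw [← map_mul, hdd, map_one]
  have hdinv' : (QuotientGroup.mk' Q d)⁻¹ = QuotientGroup.mk' Q d :=
    inv_eq_of_mul_eq_one_right hdd'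
  have htop := quot_top Q hZ hD hQ hd he hde
  haveI hPbn : (pCore 3 (G ⧸ Q)).Normal := Cfsg.Agent.Lib.Helper90.pCore_normal 3 _
  have hPb3 : IsPGroup 3 (pCore 3 (G ⧸ Q)) := Cfsg.Agent.Lib.Helper90.pCore_isPGroup 3 _
  have hne : pCore 3 (G ⧸ Q) ≠ ⊥ := by
    intro hbot
    rw [hbot, sup_bot_eq] at htop
    have hmem : QuotientGroup.mk' Q e ∈ Subgroup.zpowers (QuotientGroup.mk' Q d) := by
      rw [htop]; exact Subgroup.mem_top _
    obtain ⟨i, hi⟩ := Subgroup.mem_zpowers_iff.mp hmem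
    have hc : Commute (QuotientGroup.mk' Q d) (QuotientGroup.mk' Q e) := by
      rw [← hi]; exact (Commute.refl _).zpow_right i
    have := quot_width Q hT hQ hd he hc
    exact hde ((quot_eq_iff Q hQ hd he).mp this)
  obtain ⟨z, hzP, hzc, hzo, hzt⟩ :=
    exists_central_elt (pCore 3 (G ⧸ Q)) hPb3 hne (QuotientGroup.mk' Q d) hdd'
  have hz3 : z ^ 3 = 1 := by rw [← hzo]; exact pow_orderOf_eq_one z
  have hzne : z ≠ 1 := by intro h; rw [h, orderOf_one] at hzo; omega
  have key : ∃ y : G, orderOf y = 3 ∧ (d * y * d⁻¹ = y ∨ d * y * d⁻¹ = y⁻¹) ∧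
      QuotientGroup.mk' Q y ∈ pCore 3 (G ⧸ Q) ∧
      (∀ p ∈ pCore 3 (G ⧸ Q), p * QuotientGroup.mk' Q y = QuotientGroup.mk' Q y * p) := by
    obtain ⟨g, hg⟩ := hπs z
    rcases hzt with hzt | hzt
    · -- `z` is centralized by the image of `d`
      have haD : g * d * g⁻¹ ∈ D := class_conj_mem hD g hd
      have hπa : QuotientGroup.mk' Q (g * d * g⁻¹) = QuotientGroup.mk' Q d := by
        rw [map_mul, map_mul, map_inv, hg]
        have h1 : QuotientGroup.mk' Q d * z = z * QuotientGroup.mk' Q d := by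
          calc QuotientGroup.mk' Q d * z
              = (QuotientGroup.mk' Q d * z * (QuotientGroup.mk' Q d)⁻¹) * QuotientGroup.mk' Q d := by
                group
            _ = z * QuotientGroup.mk' Q d := by rw [hzt]
        rw [← h1, mul_inv_cancel_right]
      have hcda : Commute d (g * d * g⁻¹) := (quot_eq_iff Q hQ hd haD).mp hπa.symm
      obtain ⟨q, hqQ, hq⟩ := hQ.conj d hd _ haD hcda
      have hcd : (q⁻¹ * g) * d * (q⁻¹ * g)⁻¹ = d := by
        calc q⁻¹ * g * d * (q⁻¹ * g)⁻¹ = q⁻¹ * (g * d * g⁻¹) * q := by group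
          _ = q⁻¹ * (q * d * q⁻¹) * q := by rw [hq]
          _ = d := by group
      have hcomm : Commute d (q⁻¹ * g) := by
        have : (q⁻¹ * g) * d = d * (q⁻¹ * g) := mul_inv_eq_iff_eq_mul.mp hcd
        exact this.symm
      have hπc : QuotientGroup.mk' Q (q⁻¹ * g) = z := by
        rw [map_mul, map_inv, (mk'_eq_one_iff Q q).mpr hqQ, inv_one, one_mul, hg]
      obtain ⟨k, hk⟩ := IsPGroup.iff_card.mp hQ.two
      have hc3 : (q⁻¹ * g) ^ 3 ∈ Q := by rw [← mk'_eq_one_iff, map_pow, hπc, hz3]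
      have hy3 : ((q⁻¹ * g) ^ 2 ^ k) ^ 3 = 1 := by
        rw [← pow_mul, mul_comm, pow_mul]
        have h1 := pow_card_eq_one' (G := Q) (x := ⟨(q⁻¹ * g) ^ 3, hc3⟩)
        rw [hk] at h1
        have h2 := congrArg Subtype.val h1
        simpa using h2
      have hπy : QuotientGroup.mk' Q ((q⁻¹ * g) ^ 2 ^ k) = z ^ 2 ^ k := by rw [map_pow, hπc]
      have hπyne : z ^ 2 ^ k ≠ 1 := by
        intro h
        have h1 := orderOf_dvd_of_pow_eq_one h
        rw [hzo] at h1
        have := Nat.Prime.dvd_of_dvd_pow Nat.prime_three h1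
        omega
      refine ⟨(q⁻¹ * g) ^ 2 ^ k, orderOf_eq_prime hy3 ?_, Or.inl ?_, ?_, ?_⟩
      · intro h; apply hπyne; rw [← hπy, h, map_one]
      · exact mul_inv_eq_iff_eq_mul.mpr (hcomm.pow_right _).eq
      · rw [hπy]; exact Subgroup.pow_mem _ hzP _
      · intro p hp; rw [hπy]
        exact ((show Commute p z from hzc p hp).pow_right _).eq
    · -- `z` is inverted by the image of `d`
      have he'D : g * d * g⁻¹ ∈ D := class_conj_mem hD g hd
      have hπe' : QuotientGroup.mk' Q (g * d * g⁻¹) = z * QuotientGroup.mk' Q d * z⁻¹ := by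
        rw [map_mul, map_mul, map_inv, hg]
      have hπy : QuotientGroup.mk' Q (d * (g * d * g⁻¹)) = z⁻¹ * z⁻¹ := by
        rw [map_mul, hπe']
        calc QuotientGroup.mk' Q d * (z * QuotientGroup.mk' Q d * z⁻¹)
            = (QuotientGroup.mk' Q d * z * (QuotientGroup.mk' Q d)⁻¹) * z⁻¹ := by
              rw [hdinv']; simp only [mul_assoc]
          _ = z⁻¹ * z⁻¹ := by rw [hzt]
      have hπyne : QuotientGroup.mk' Q (d * (g * d * g⁻¹)) ≠ 1 := by
        rw [hπy]; intro h
        have h2 : z * z = 1 := by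
          have := congrArg (·⁻¹) h
          simpa using this
        apply hzne
        calc z = z ^ 3 * (z * z)⁻¹ := by group
          _ = 1 := by rw [hz3, h2]; simp
      have hnc : ¬ Commute d (g * d * g⁻¹) := by
        intro hc
        have h1 := (quot_eq_iff Q hQ hd he'D).mpr hc
        apply hπyne
        rw [map_mul, ← h1, hdd']
      have hy3 : (d * (g * d * g⁻¹)) ^ 3 = 1 := tt_cube hT hd he'D hnc
      have hyne : d * (g * d * g⁻¹) ≠ 1 := by intro h; apply hπyne; rw [h, map_one]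
      refine ⟨d * (g * d * g⁻¹), orderOf_eq_prime hy3 hyne, Or.inr ?_, ?_, ?_⟩
      · rw [mul_inv_rev, tt_inv hT he'D, hdinv]
        calc d * (d * (g * d * g⁻¹)) * d = (d * d) * (g * d * g⁻¹) * d := by simp only [mul_assoc]
          _ = (g * d * g⁻¹) * d := by rw [hdd, one_mul]
      · rw [hπy]; exact Subgroup.mul_mem _ (Subgroup.inv_mem _ hzP) (Subgroup.inv_mem _ hzP)
      · intro p hp
        rw [hπy]
        have h1 : p * z⁻¹ = z⁻¹ * p := by
          have := hzc p hp
          calc p * z⁻¹ = z⁻¹ * (z * p) * z⁻¹ := by group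
            _ = z⁻¹ * (p * z) * z⁻¹ := by rw [this]
            _ = z⁻¹ * p := by group
        calc p * (z⁻¹ * z⁻¹) = (p * z⁻¹) * z⁻¹ := (mul_assoc _ _ _).symm
          _ = (z⁻¹ * p) * z⁻¹ := by rw [h1]
          _ = z⁻¹ * (p * z⁻¹) := mul_assoc _ _ _
          _ = z⁻¹ * (z⁻¹ * p) := by rw [h1]
          _ = z⁻¹ * z⁻¹ * p := (mul_assoc _ _ _).symm
  obtain ⟨y, hyo, hyd, hyP, hyc⟩ := key
  refine ⟨y, hyo, hyd, ?_⟩
  have hconj : QuotientGroup.mk' Q d * QuotientGroup.mk' Q y * (QuotientGroup.mk' Q d)⁻¹ ∈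
      Subgroup.zpowers (QuotientGroup.mk' Q y) := by
    have h1 : QuotientGroup.mk' Q d * QuotientGroup.mk' Q y * (QuotientGroup.mk' Q d)⁻¹ =
        QuotientGroup.mk' Q (d * y * d⁻¹) := by rw [map_mul, map_mul, map_inv]
    rw [h1]
    rcases hyd with h | h
    · rw [h]; exact Subgroup.mem_zpowers _
    · rw [h, map_inv]; exact Subgroup.inv_mem _ (Subgroup.mem_zpowers _)
  have hZn : (Subgroup.zpowers (QuotientGroup.mk' Q y)).Normal := by
    rw [← Subgroup.normalizer_eq_top_iff, eq_top_iff, ← htop]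
    apply sup_le
    · rw [Subgroup.zpowers_le]
      apply invol_mem_normalizer hdd'
      intro k hk
      obtain ⟨i, rfl⟩ := Subgroup.mem_zpowers_iff.mp hk
      rw [← conj_zpow]
      exact Subgroup.zpow_mem _ hconj i
    · rw [Subgroup.le_normalizer_iff]
      intro p hp k hk
      obtain ⟨i, rfl⟩ := Subgroup.mem_zpowers_iff.mp hk
      have h1 : p * QuotientGroup.mk' Q y * p⁻¹ = QuotientGroup.mk' Q y := by
        rw [hyc p hp, mul_inv_cancel_right]
      rw [← conj_zpow, h1]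
      exact Subgroup.zpow_mem_zpowers _ _
  have h2 : Subgroup.zpowers y ⊔ Q =
      (Subgroup.zpowers (QuotientGroup.mk' Q y)).comap (QuotientGroup.mk' Q) := by
    rw [← MonoidHom.map_zpowers, Subgroup.comap_map_eq, QuotientGroup.ker_mk']
  rw [h2]
  exact hZn.comap _

theorem frattini_y (hQ2 : IsPGroup 2 Q) {y : G} (hy : orderOf y = 3)
    [hL : (Subgroup.zpowers y ⊔ Q).Normal] :
    Subgroup.normalizer (Subgroup.zpowers y : Set G) ⊔ Q = ⊤ := by
  haveI : Fact (Nat.Prime 3) := ⟨Nat.prime_three⟩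
  have hYL : Subgroup.zpowers y ≤ Subgroup.zpowers y ⊔ Q := le_sup_left
  have hQL : Q ≤ Subgroup.zpowers y ⊔ Q := le_sup_right
  have hY3 : IsPGroup 3 (Subgroup.zpowers y) := by
    apply IsPGroup.of_card (n := 1)
    rw [Nat.card_zpowers, hy, pow_one]
  have hYL3 : IsPGroup 3 ((Subgroup.zpowers y).subgroupOf (Subgroup.zpowers y ⊔ Q)) :=
    hY3.comap_subtype
  have hidx : ¬ 3 ∣ ((Subgroup.zpowers y).subgroupOf (Subgroup.zpowers y ⊔ Q)).index := by
    apply not_three_dvd_index_of_sup _ (Q.subgroupOf (Subgroup.zpowers y ⊔ Q)) hQ2.comap_subtype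
    rw [← Subgroup.subgroupOf_sup hYL hQL, Subgroup.subgroupOf_self]
  have h1 := Sylow.normalizer_sup_eq_top (hYL3.toSylow hidx)
  have h2 : ((hYL3.toSylow hidx : Sylow 3 _) : Subgroup (Subgroup.zpowers y ⊔ Q :)).map
      (Subgroup.zpowers y ⊔ Q).subtype = Subgroup.zpowers y := by
    rw [IsPGroup.toSylow_coe, Subgroup.subgroupOf_map_subtype, inf_of_le_left hYL]
  rw [h2] at h1
  rw [eq_top_iff, ← h1, ← sup_assoc]
  apply sup_le_sup_right
  exact sup_le le_rfl Subgroup.le_normalizer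

end


section induction

variable {G : Type u} [Group G] [Finite G] {D : Set G}

/-- conclusion of the induction: a Sylow `3`-subgroup invariant under `d` -/
def Concl {G : Type*} [Group G] (d : G) : Prop :=
  ∃ P : Subgroup G, IsPGroup 3 P ∧ ¬ 3 ∣ P.index ∧ ∀ x ∈ P, d * x * d⁻¹ ∈ P

theorem conj_commute_iff {G : Type*} [Group G] (g a b : G) :
    Commute (g * a * g⁻¹) (g * b * g⁻¹) ↔ Commute a b := by
  constructor
  · intro h
    have h' : g * (a * b) * g⁻¹ = g * (b * a) * g⁻¹ := by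
      calc g * (a * b) * g⁻¹ = (g * a * g⁻¹) * (g * b * g⁻¹) := by group
        _ = (g * b * g⁻¹) * (g * a * g⁻¹) := h.eq
        _ = g * (b * a) * g⁻¹ := by group
    exact mul_left_cancel (mul_right_cancel h')
  · intro h
    have h0 : a * b = b * a := h.eq
    show (g * a * g⁻¹) * (g * b * g⁻¹) = (g * b * g⁻¹) * (g * a * g⁻¹)
    calc (g * a * g⁻¹) * (g * b * g⁻¹) = g * (a * b) * g⁻¹ := by group
      _ = g * (b * a) * g⁻¹ := by rw [h0]
      _ = (g * b * g⁻¹) * (g * a * g⁻¹) := by group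

theorem commute_coe_iff {G : Type*} [Group G] {X : Subgroup G} (a b : X) :
    Commute a b ↔ Commute (a : G) (b : G) := by
  constructor
  · intro h
    have h1 := congrArg Subtype.val h.eq
    simp only [Subgroup.coe_mul] at h1
    exact h1
  · intro h
    have h1 : (a : G) * (b : G) = (b : G) * (a : G) := h.eq
    have h2 : a * b = b * a := Subtype.ext (by simpa using h1)
    exact h2

theorem perpHyp_quot (hD : IsThreeTranspositionClass D) (hH : PerpHyp D) (N : Subgroup G)
    [N.Normal] : PerpHyp (QuotientGroup.mk' N '' D) := by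
  have hT := hD.1
  have P1 : ∀ a ∈ D, ∀ b ∈ D, ∀ e ∈ D,
      Commute (QuotientGroup.mk' N a) (QuotientGroup.mk' N b) →
      Commute (QuotientGroup.mk' N a) (QuotientGroup.mk' N e) →
      Commute (QuotientGroup.mk' N b) (QuotientGroup.mk' N e) := by
    intro a ha b hb e he hab hae
    rcases quot_commute_cases hT N ha hb hab with h | h
    · rw [← h]; exact hae
    · rcases quot_commute_cases hT N ha he hae with h' | h'
      · rw [← h']; exact hab.symm
      · have := (hH a ha b hb h e he).mp h'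
        exact this.map (QuotientGroup.mk' N)
  rintro _ ⟨a, ha, rfl⟩ _ ⟨b, hb, rfl⟩ hab _ ⟨e, he, rfl⟩
  exact ⟨P1 a ha b hb e he hab, P1 b hb a ha e he hab.symm⟩

theorem concl_of_quot (N : Subgroup G) [N.Normal] (hN : IsPGroup 3 N) {d : G}
    (h : Concl (QuotientGroup.mk' N d)) : Concl d := by
  obtain ⟨Pt, hp, hidx, hinv⟩ := h
  refine ⟨Pt.comap (QuotientGroup.mk' N), ?_, ?_, ?_⟩
  · apply hp.comap_of_ker_isPGroup
    rw [QuotientGroup.ker_mk']; exact hN
  · rw [Subgroup.index_comap_of_surjective _ (QuotientGroup.mk'_surjective N)]; exact hidx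
  · intro x hx
    rw [Subgroup.mem_comap] at hx ⊢
    rw [map_mul, map_mul, map_inv]
    exact hinv _ hx

theorem concl_of_sub (X Q : Subgroup G) [Q.Normal] (hQ2 : IsPGroup 2 Q) (hXQ : X ⊔ Q = ⊤) {d : G}
    (hdX : d ∈ X) (h : Concl (⟨d, hdX⟩ : X)) : Concl d := by
  obtain ⟨PX, hp, hidx, hinv⟩ := h
  refine ⟨PX.map X.subtype, hp.map _, ?_, ?_⟩
  · rw [Subgroup.index_map_subtype]
    intro h3
    rcases (Nat.Prime.dvd_mul Nat.prime_three).mp h3 with h | h
    · exact hidx h
    · exact not_three_dvd_index_of_sup X Q hQ2 hXQ h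
  · rintro _ ⟨x, hx, rfl⟩
    refine ⟨⟨d, hdX⟩ * x * ⟨d, hdX⟩⁻¹, hinv x hx, ?_⟩
    simp

theorem exists_min_sub (hD : IsThreeTranspositionClass D) (hH : PerpHyp D) (Q : Subgroup G)
    [Q.Normal] (H : Subgroup G) {d : G} (hd : d ∈ D) (hdH : d ∈ H) (hHQ : H ⊔ Q = ⊤) :
    ∃ X : Subgroup G, X ≤ H ∧ X ⊔ Q = ⊤ ∧ ∃ hdX : d ∈ X,
      IsThreeTranspositionClass (conjugatesOf (⟨d, hdX⟩ : X)) ∧
      PerpHyp (conjugatesOf (⟨d, hdX⟩ : X)) := by
  classical
  have hT := hD.1
  have hS : ({X : Subgroup G | X ≤ H ∧ d ∈ X ∧ X ⊔ Q = ⊤} : Set (Subgroup G)).Nonempty :=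
    ⟨H, le_rfl, hdH, hHQ⟩
  obtain ⟨X, ⟨hXH, hdX, hXQ⟩, hmin⟩ := (wellFounded_lt (α := Subgroup G)).has_min _ hS
  refine ⟨X, hXH, hXQ, hdX, ?_, ?_⟩
  · have hsub : ∀ x ∈ conjugatesOf (⟨d, hdX⟩ : X), (x : G) ∈ D := by
      intro x hx
      obtain ⟨c, hc⟩ := isConj_iff.mp hx
      have : (x : G) = (c : G) * d * (c : G)⁻¹ := by rw [← hc]; simp
      rw [this]; exact class_conj_mem hD _ hd
    refine ⟨⟨?_, ?_⟩, ⟨⟨d, hdX⟩, mem_conjugatesOf_self, rfl⟩, ?_⟩
    · intro x hx
      rw [← Subgroup.orderOf_coe]; exact hT.1 _ (hsub x hx)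
    · intro x hx y hy
      rcases hT.2 _ (hsub x hx) _ (hsub y hy) with h | h
      · left; apply Subtype.ext; simpa using h
      · right; apply Subtype.ext; simpa using h
    · -- generation, from minimality
      have hX'X : (Subgroup.closure (conjugatesOf (⟨d, hdX⟩ : X))).map X.subtype ≤ X :=
        Subgroup.map_subtype_le _
      have hdX' : d ∈ (Subgroup.closure (conjugatesOf (⟨d, hdX⟩ : X))).map X.subtype :=
        ⟨⟨d, hdX⟩, Subgroup.subset_closure mem_conjugatesOf_self, rfl⟩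
      have hX'Q : (Subgroup.closure (conjugatesOf (⟨d, hdX⟩ : X))).map X.subtype ⊔ Q = ⊤ := by
        have hmap : ((Subgroup.closure (conjugatesOf (⟨d, hdX⟩ : X))).map X.subtype).map
            (QuotientGroup.mk' Q) = ⊤ := by
          rw [eq_top_iff]
          have hgen : Subgroup.closure (QuotientGroup.mk' Q '' D) = ⊤ := by
            rw [← MonoidHom.map_closure, hD.2.2]
            exact Subgroup.map_top_of_surjective _ (QuotientGroup.mk'_surjective Q)
          rw [← hgen, Subgroup.closure_le]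
          rintro _ ⟨a, ha, rfl⟩
          obtain ⟨g, hg⟩ := exists_conj_of_mem hD hd ha
          have hgtop : g ∈ X ⊔ Q := by rw [hXQ]; exact Subgroup.mem_top g
          obtain ⟨x, hx, q, hq, hxq⟩ := Subgroup.mem_sup_of_normal_right.mp hgtop
          have h1 : QuotientGroup.mk' Q a = QuotientGroup.mk' Q (x * d * x⁻¹) := by
            rw [← hg, ← hxq]
            simp only [map_mul, map_inv, (mk'_eq_one_iff Q q).mpr hq, mul_one]
          rw [SetLike.mem_coe, h1]
          refine Subgroup.mem_map_of_mem _ ?_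
          refine ⟨⟨x, hx⟩ * ⟨d, hdX⟩ * ⟨x, hx⟩⁻¹,
            Subgroup.subset_closure (isConj_iff.mpr ⟨⟨x, hx⟩, rfl⟩), ?_⟩
          simp
        have h2 := Subgroup.comap_map_eq (QuotientGroup.mk' Q)
          ((Subgroup.closure (conjugatesOf (⟨d, hdX⟩ : X))).map X.subtype)
        rw [hmap, Subgroup.comap_top, QuotientGroup.ker_mk'] at h2
        exact h2.symm
      have hXX' : (Subgroup.closure (conjugatesOf (⟨d, hdX⟩ : X))).map X.subtype = X := by
        by_contra hne
        exact hmin _ ⟨hX'X.trans hXH, hdX', hX'Q⟩ (lt_of_le_of_ne hX'X hne)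
      rw [eq_top_iff]
      intro x _
      have hx : (x : G) ∈ (Subgroup.closure (conjugatesOf (⟨d, hdX⟩ : X))).map X.subtype := by
        rw [hXX']; exact x.2
      obtain ⟨x', hx', hxx'⟩ := hx
      have : x' = x := Subtype.ext hxx'
      rw [← this]; exact hx'
  · have hsub : ∀ x ∈ conjugatesOf (⟨d, hdX⟩ : X), (x : G) ∈ D := by
      intro x hx
      obtain ⟨c, hc⟩ := isConj_iff.mp hx
      have : (x : G) = (c : G) * d * (c : G)⁻¹ := by rw [← hc]; simp
      rw [this]; exact class_conj_mem hD _ hd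
    intro a ha b hb hab e he
    rw [commute_coe_iff, commute_coe_iff]
    exact hH _ (hsub a ha) _ (hsub b hb) ((commute_coe_iff a b).mp hab) _ (hsub e he)

theorem main_induction (hZ : ZAll.{u}) : ∀ (n : ℕ) (G : Type u) [Group G] [Finite G],
    Nat.card G = n → ∀ (D : Set G), IsThreeTranspositionClass D → PerpHyp D →
      ∀ d ∈ D, Concl d := by
  intro n
  induction n using Nat.strong_induction_on with
  | _ n ih =>
  intro G _ _ hn D hD hH d hd
  have hT := hD.1
  by_cases hcen : ∀ e ∈ D, Commute d e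
  · haveI : Fact (Nat.Prime 3) := ⟨Nat.prime_three⟩
    obtain ⟨P⟩ : Nonempty (Sylow 3 G) := inferInstance
    refine ⟨P, P.2, P.not_dvd_index, ?_⟩
    have hle : Subgroup.closure D ≤ Subgroup.centralizer {d} := by
      rw [Subgroup.closure_le]
      intro e he
      rw [SetLike.mem_coe, Subgroup.mem_centralizer_iff]
      intro h hh
      rw [Set.mem_singleton_iff] at hh
      rw [hh]; exact (hcen e he).eq
    rw [hD.2.2] at hle
    intro x hx
    have h1 := Subgroup.mem_centralizer_iff.mp (hle (Subgroup.mem_top x)) d rfl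
    rw [h1, mul_inv_cancel_right]; exact hx
  · push Not at hcen
    obtain ⟨e, he, hde⟩ := hcen
    have hD2 : ∃ a ∈ D, ∃ b ∈ D, a ≠ b := ⟨d, hd, e, he, fun h => hde (h ▸ Commute.refl d)⟩
    haveI : (pCore 2 G).Normal := Cfsg.Agent.Lib.Helper90.pCore_normal 2 G
    have hQ := qdata_pCore hD hH hD2
    obtain ⟨y, hyo, hyd, hyn⟩ := exists_y (pCore 2 G) hZ hD hQ hd he hde
    haveI := hyn
    have hfr := frattini_y (pCore 2 G) hQ.two hyo
    have hdd := tt_sq hT hd
    have hdN : d ∈ Subgroup.normalizer (Subgroup.zpowers y : Set G) := by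
      apply invol_mem_normalizer hdd
      intro k hk
      obtain ⟨i, rfl⟩ := Subgroup.mem_zpowers_iff.mp hk
      rw [← conj_zpow]
      apply Subgroup.zpow_mem
      rcases hyd with h | h
      · rw [h]; exact Subgroup.mem_zpowers _
      · rw [h]; exact Subgroup.inv_mem _ (Subgroup.mem_zpowers _)
    by_cases htop : Subgroup.normalizer (Subgroup.zpowers y : Set G) = ⊤
    · haveI hYn : (Subgroup.zpowers y).Normal := Subgroup.normalizer_eq_top_iff.mp htop
      have hY3 : IsPGroup 3 (Subgroup.zpowers y) := by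
        apply IsPGroup.of_card (n := 1); rw [Nat.card_zpowers, hyo, pow_one]
      apply concl_of_quot (Subgroup.zpowers y) hY3
      have hDY : ∀ a ∈ D, a ∉ Subgroup.zpowers y := by
        intro a ha haY
        have h3 : a ^ 3 = 1 := by
          obtain ⟨i, rfl⟩ := Subgroup.mem_zpowers_iff.mp haY
          rw [← zpow_natCast, ← zpow_mul, mul_comm, zpow_mul, zpow_natCast, ← hyo,
            pow_orderOf_eq_one, one_zpow]
        have h2 := tt_sq hT ha
        apply tt_ne_one hT ha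
        calc a = a ^ 3 * (a * a)⁻¹ := by group
          _ = 1 := by rw [h3, h2]; simp
      have hcard : Nat.card (G ⧸ Subgroup.zpowers y) < n := by
        have h1 := Subgroup.card_eq_card_quotient_mul_card_subgroup (Subgroup.zpowers y)
        rw [Nat.card_zpowers, hyo, hn] at h1
        have : 0 < Nat.card (G ⧸ Subgroup.zpowers y) := Nat.card_pos
        omega
      exact ih _ hcard (G ⧸ Subgroup.zpowers y) rfl _ (quot_class hD _ hDY)
        (perpHyp_quot hD hH _) _ ⟨d, hd, rfl⟩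
    · obtain ⟨X, hXH, hXQ, hdX, hDX, hHX⟩ := exists_min_sub hD hH (pCore 2 G) _ hd hdN hfr
      apply concl_of_sub X (pCore 2 G) hQ.two hXQ hdX
      have hcard : Nat.card X < n := by
        rw [← hn]
        have hle := Subgroup.card_le_card_group X
        rcases hle.lt_or_eq with h | h
        · exact h
        · exfalso
          have := Subgroup.eq_top_of_card_eq X h
          apply htop
          rw [eq_top_iff, ← this]; exact hXH
      exact ih _ hcard X rfl _ hDX hHX _ mem_conjugatesOf_self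

theorem perpHyp_of_eq (hD : IsThreeTranspositionClass D) {d : G} (hd : d ∈ D)
    (hV : {y : G | y ∈ D ∧ Commute d y} =
      {v : G | v ∈ D ∧ ∀ e ∈ D, Commute v e ↔ Commute d e}) : PerpHyp D := by
  intro a ha b hb hab e he
  obtain ⟨g, hg⟩ := exists_conj_of_mem hD ha hd
  have hb' : g * b * g⁻¹ ∈ D := class_conj_mem hD g hb
  have he' : g * e * g⁻¹ ∈ D := class_conj_mem hD g he
  have hcb : Commute d (g * b * g⁻¹) := by rw [← hg]; exact (conj_commute_iff g a b).mpr hab
  have hmem : g * b * g⁻¹ ∈ {y : G | y ∈ D ∧ Commute d y} := ⟨hb', hcb⟩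
  rw [hV] at hmem
  have h1 := hmem.2 (g * e * g⁻¹) he'
  rw [← hg, conj_commute_iff, conj_commute_iff] at h1
  exact h1.symm

/-- the shape of S5356, from the Z*-theorem -/
theorem sylow_three_of_perp (hZ : ZAll.{u}) (hD : IsThreeTranspositionClass D)
    (hD2 : ∃ a ∈ D, ∃ b ∈ D, a ≠ b) {d : G} (hd : d ∈ D)
    (hV : {y : G | y ∈ D ∧ Commute d y} =
      {v : G | v ∈ D ∧ ∀ e ∈ D, Commute v e ↔ Commute d e}) :
    ∃ P : Sylow 3 G, d ∈ Subgroup.normalizer (P : Set G) ∧
      Subgroup.zpowers d ⊔ (P : Subgroup G) ⊔ Cfsg.pCore 2 G = ⊤ := by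
  haveI : Fact (Nat.Prime 3) := ⟨Nat.prime_three⟩
  have hT := hD.1
  have hH := perpHyp_of_eq hD hd hV
  obtain ⟨P0, hp, hidx, hinv⟩ := main_induction hZ _ G rfl D hD hH d hd
  have hex : ∃ e ∈ D, ¬ Commute d e := by
    by_contra hcon
    push Not at hcon
    obtain ⟨a, ha, b, hb, hab⟩ := hD2
    have hle : Subgroup.closure D ≤ Subgroup.centralizer {d} := by
      rw [Subgroup.closure_le]
      intro e he
      rw [SetLike.mem_coe, Subgroup.mem_centralizer_iff]
      intro h hh
      rw [Set.mem_singleton_iff] at hh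
      rw [hh]; exact (hcon e he).eq
    rw [hD.2.2] at hle
    have hcenter : ∀ x : G, x * d * x⁻¹ = d := by
      intro x
      have h1 := Subgroup.mem_centralizer_iff.mp (hle (Subgroup.mem_top x)) d rfl
      rw [← h1, mul_inv_cancel_right]
    obtain ⟨g1, h1⟩ := exists_conj_of_mem hD hd ha
    obtain ⟨g2, h2⟩ := exists_conj_of_mem hD hd hb
    apply hab; rw [← h1, ← h2, hcenter, hcenter]
  obtain ⟨e, he, hde⟩ := hex
  haveI : (pCore 2 G).Normal := Cfsg.Agent.Lib.Helper90.pCore_normal 2 G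
  have hQ := qdata_pCore hD hH hD2
  have htop := quot_top (pCore 2 G) hZ hD hQ hd he hde
  refine ⟨hp.toSylow hidx, ?_, ?_⟩
  · apply invol_mem_normalizer (tt_sq hT hd)
    intro k hk
    exact hinv k hk
  · have hπs := QuotientGroup.mk'_surjective (pCore 2 G)
    have hmap : (Subgroup.zpowers d ⊔ ((hp.toSylow hidx : Sylow 3 G) : Subgroup G) ⊔
        pCore 2 G).map (QuotientGroup.mk' (pCore 2 G)) = ⊤ := by
      rw [eq_top_iff, ← htop]
      apply sup_le
      · rw [Subgroup.zpowers_le]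
        exact Subgroup.mem_map_of_mem _
          ((le_sup_left.trans le_sup_left : Subgroup.zpowers d ≤ _) (Subgroup.mem_zpowers d))
      · have h1 : pCore 3 (G ⧸ pCore 2 G) ≤
            (((hp.toSylow hidx).mapSurjective hπs : Sylow 3 _) : Subgroup _) :=
          Cfsg.Agent.Lib.Helper90.pCore_le_sylow 3 _
        rw [Sylow.coe_mapSurjective] at h1
        exact h1.trans (Subgroup.map_mono (le_sup_right.trans le_sup_left))
    have h2 := Subgroup.comap_map_eq (QuotientGroup.mk' (pCore 2 G))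
      (Subgroup.zpowers d ⊔ ((hp.toSylow hidx : Sylow 3 G) : Subgroup G) ⊔ pCore 2 G)
    rw [hmap, Subgroup.comap_top, QuotientGroup.ker_mk'] at h2
    rw [eq_top_iff, h2]
    exact sup_le le_rfl le_sup_right

end induction

end Cfsg.Agent.Lib.Helper89.TTSylow
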