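import Cfsg.Agent.Lib.Helper89.TransvCentES
import Cfsg.Agent.Lib.Helper97.Cores

/-!
# `O_2` of the centralizer of a transvection in `SL(5, 2)` (helper89)

`SL(3, 2)` has no non-trivial normal `2`-subgroup, hence `O_2` of the centralizer is `Qm`.
-/

set_option autoImplicit false

namespace Cfsg.Agent.Lib.Helper89.TransvCentStruct

open Matrix Cfsg.Agent.Lib.Helper89.TransvCent

/-- a Singer cycle of `SL(3, 2)` -/
def singerM : M3 := !![0, 0, 1; 1, 0, 1; 0, 1, 0]

theorem singerM_det : singerM.det = 1 := by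
  rw [Matrix.det_fin_three]; decide

/-- the Singer cycle as an element of `SL(3, 2)` -/
def singer : Matrix.SpecialLinearGroup (Fin 3) (ZMod 2) := ⟨singerM, singerM_det⟩

/-- the iterates of the Singer cycle on a vector -/
def iter (w : V3) : ℕ → V3
  | 0 => w
  | n + 1 => singerM *ᵥ iter w n

theorem singer_orbit : ∀ w v : V3, w ≠ 0 → v ≠ 0 → ∃ i : Fin 7, iter w i = v := by decide

theorem iter_mem {W : Set V3} (hW : ∀ w ∈ W, singerM *ᵥ w ∈ W) {w : V3} (hw : w ∈ W) (n : ℕ) :
    iter w n ∈ W := by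
  induction n with
  | zero => exact hw
  | succ n ih => exact hW _ ih

/-- `SL(3, 2)` has no non-trivial normal `2`-subgroup -/
theorem O2_SL3 (N : Subgroup (Matrix.SpecialLinearGroup (Fin 3) (ZMod 2))) (hN : N.Normal)
    (h2 : IsPGroup 2 N) : N = ⊥ := by
  have : Fact (Nat.Prime 2) := ⟨Nat.prime_two⟩
  have hcard : 2 ∣ Nat.card V3 := by
    rw [Nat.card_fun, Nat.card_zmod, Nat.card_fin]; norm_num
  have h0 : (0 : V3) ∈ MulAction.fixedPoints ↥N V3 := by
    intro n
    exact smul_zero n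
  obtain ⟨w, hw, hw0⟩ := h2.exists_fixed_point_of_prime_dvd_card_of_fixed_point V3 hcard h0
  -- the fixed points are invariant under the whole group
  have hinv : ∀ (g : Matrix.SpecialLinearGroup (Fin 3) (ZMod 2)),
      ∀ x ∈ MulAction.fixedPoints ↥N V3, g • x ∈ MulAction.fixedPoints ↥N V3 := by
    intro g x hx n
    have h1 : g⁻¹ * (n : Matrix.SpecialLinearGroup (Fin 3) (ZMod 2)) * g ∈ N := by
      have := hN.conj_mem n n.2 g⁻¹
      rwa [inv_inv] at this
    have h2 := hx ⟨_, h1⟩
    have h3 : (g⁻¹ * (n : Matrix.SpecialLinearGroup (Fin 3) (ZMod 2)) * g) • x = x := h2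
    show (n : Matrix.SpecialLinearGroup (Fin 3) (ZMod 2)) • g • x = g • x
    calc (n : Matrix.SpecialLinearGroup (Fin 3) (ZMod 2)) • g • x
        = g • ((g⁻¹ * (n : Matrix.SpecialLinearGroup (Fin 3) (ZMod 2)) * g) • x) := by
          rw [← mul_smul, ← mul_smul]
          congr 1
          group
      _ = g • x := by rw [h3]
  have hsing : ∀ x ∈ MulAction.fixedPoints ↥N V3, singerM *ᵥ x ∈ MulAction.fixedPoints ↥N V3 :=
    fun x hx => hinv singer x hx
  have hall : ∀ v : V3, v ∈ MulAction.fixedPoints ↥N V3 := by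
    intro v
    by_cases hv : v = 0
    · rw [hv]; exact h0
    · obtain ⟨i, hi⟩ := singer_orbit w v (fun h => hw0 h.symm) hv
      rw [← hi]
      exact iter_mem hsing hw _
  rw [Subgroup.eq_bot_iff_forall]
  intro n hn
  apply Subtype.ext
  rw [Matrix.SpecialLinearGroup.coe_one]
  apply Matrix.mulVec_injective
  funext v
  rw [Matrix.one_mulVec]
  exact hall v ⟨n, hn⟩

section

variable {s : Matrix.SpecialLinearGroup (Fin 5) (ZMod 2)}
  (hs : (s : Matrix (Fin 5) (Fin 5) (ZMod 2)) = Matrix.transvection 0 1 1)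

include hs

/-- `O_2` of the centralizer of the transvection is `Qm` -/
theorem pCore_eq_Qm : Cfsg.pCore 2 ↥(Cent s) = Qm hs := by
  apply le_antisymm
  · have h1 : (Cfsg.pCore 2 ↥(Cent s)).map (blockSL hs) = ⊥ := by
      apply O2_SL3
      · exact Subgroup.Normal.map (Cfsg.Agent.Lib.Helper97.pCore_normal 2) _
          (blockSL_surjective hs)
      · exact (Cfsg.Agent.Lib.Helper97.isPGroup_pCore 2 _).map _
    exact (Subgroup.map_eq_bot_iff _).mp h1
  · exact Cfsg.Agent.Lib.Helper97.le_pCore_of_normal (Qm_normal hs) (isPGroup_Qm hs)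

end

end Cfsg.Agent.Lib.Helper89.TransvCentStruct
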