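import Cfsg.Agent.Lib.Helper89.TransvCentStruct

/-!
# The unipotent radical of the centralizer of a transvection in `SL(5, 2)` is extraspecial (helper89)

Elementwise facts about `Qm`: commutators and squares lie in `{1, s}`, and an element of the
centralizer commuting with all of `Qm` is `1` or `s`.
-/

set_option autoImplicit false

namespace Cfsg.Agent.Lib.Helper89.TransvCentStruct

open Matrix Cfsg.Agent.Lib.Helper89.TransvCent

theorem zmod2_cases : ∀ a : ZMod 2, a = 0 ∨ a = 1 := by decide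

section

variable {s : Matrix.SpecialLinearGroup (Fin 5) (ZMod 2)}
  (hs : (s : Matrix (Fin 5) (Fin 5) (ZMod 2)) = Matrix.transvection 0 1 1)

/-- `s` as an element of its centralizer -/
def sC : ↥(Cent s) := ⟨s, Subgroup.mem_centralizer_iff.mpr (by
  intro h hh
  rw [Set.mem_singleton_iff] at hh
  rw [hh])⟩

theorem sC_comm (g : ↥(Cent s)) : g * sC = sC * g := by
  apply Subtype.ext
  have := g.2
  rw [Subgroup.mem_centralizer_iff] at this
  exact (this s rfl).symm

theorem transvection_eq_gm :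
    (Matrix.transvection 0 1 1 : Matrix (Fin 5) (Fin 5) (ZMod 2)) = gm 1 0 0 1 := by
  ext i j
  fin_cases i <;> fin_cases j <;> simp [gm, Matrix.transvection]

include hs

theorem mat_sC : mat (sC (s := s)) = gm 1 0 0 1 := by
  show (s : Matrix (Fin 5) (Fin 5) (ZMod 2)) = _
  rw [hs, transvection_eq_gm]

theorem sC_mem : sC ∈ Qm hs := (mem_Qm hs _).mpr (blockHom_of_mat hs (mat_sC hs))

theorem sC_ne_one : (sC : ↥(Cent s)) ≠ 1 := by
  intro h
  have h1 := congrArg mat h
  rw [mat_sC hs, mat_one, ← gm_one] at h1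
  exact one_ne_zero (gm_inj h1).1

omit hs in
theorem eq_of_mat_eq_gm {g h : ↥(Cent s)} {x : ZMod 2} {u v : V3} {B : M3}
    (hg : mat g = gm x u v B) (hh : mat h = gm x u v B) : g = h :=
  mat_injective (hg.trans hh.symm)

theorem mat_mul_Qm {g h : ↥(Cent s)} (hg : g ∈ Qm hs) (hh : h ∈ Qm hs) :
    mat (g * h) = gm (px g + px h + pu g ⬝ᵥ pv h) (pu h + pu g) (pv g + pv h) 1 := by
  rw [mat_mul, mat_of_mem_Qm hs hg, mat_of_mem_Qm hs hh, gm_mul, Matrix.vecMul_one,
    Matrix.one_mulVec, mul_one]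

theorem mat_sC_mul {g : ↥(Cent s)} (hg : g ∈ Qm hs) :
    mat (sC * g) = gm (1 + px g) (pu g) (pv g) 1 := by
  rw [mat_mul, mat_sC hs, mat_of_mem_Qm hs hg, gm_mul, Matrix.zero_vecMul, Matrix.one_mulVec,
    mul_one, zero_dotProduct, add_zero, add_zero, zero_add]

/-- commutators in `Qm` lie in `{1, s}` -/
theorem comm_Qm {a b : ↥(Cent s)} (ha : a ∈ Qm hs) (hb : b ∈ Qm hs) :
    a * b = b * a ∨ a * b = sC * (b * a) := by
  have h1 := mat_mul_Qm hs ha hb
  have h2 := mat_mul_Qm hs hb ha
  have hba : b * a ∈ Qm hs := (Qm hs).mul_mem hb ha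
  have h3 := mat_sC_mul hs hba
  obtain ⟨p1, p2, p3⟩ := params_of_mat hs h2
  rw [p1, p2, p3] at h3
  rcases zmod2_cases (pu a ⬝ᵥ pv b + pu b ⬝ᵥ pv a) with h | h
  · left
    apply eq_of_mat_eq_gm h1
    rw [h2]
    have e : px a + px b + pu a ⬝ᵥ pv b = px b + px a + pu b ⬝ᵥ pv a := by
      have : pu a ⬝ᵥ pv b = pu b ⬝ᵥ pv a := by
        have h' := congrArg (· + pu b ⬝ᵥ pv a) h
        simp only [add_assoc, CharTwo.add_self_eq_zero, add_zero, zero_add] at h'
        exact h'
      rw [this, add_comm (px a)]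
    rw [e, add_comm (pu b), add_comm (pv a)]
  · right
    apply eq_of_mat_eq_gm h1
    rw [h3]
    have e : px a + px b + pu a ⬝ᵥ pv b = 1 + (px b + px a + pu b ⬝ᵥ pv a) := by
      rw [← h]
      have : ∀ p q c d : ZMod 2, p + q + c = c + d + (q + p + d) := by decide
      exact this _ _ _ _
    rw [e, add_comm (pu b), add_comm (pv a)]

/-- squares in `Qm` lie in `{1, s}` -/
theorem sq_Qm {a : ↥(Cent s)} (ha : a ∈ Qm hs) : a * a = 1 ∨ a * a = sC := by
  have h1 := mat_mul_Qm hs ha ha
  rw [v3_add_self, v3_add_self, CharTwo.add_self_eq_zero, zero_add] at h1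
  rcases zmod2_cases (pu a ⬝ᵥ pv a) with h | h
  · left
    apply eq_of_mat_eq_gm h1
    rw [h, mat_one, gm_one]
  · right
    apply eq_of_mat_eq_gm h1
    rw [h, mat_sC hs]

/-- the unit vectors -/
def ek (k : Fin 3) : V3 := Pi.single k 1

/-- an element of the centralizer of `s` commuting with all of `Qm` is `1` or `s` -/
theorem cent_Qm {g : ↥(Cent s)} (hg : ∀ y ∈ Qm hs, y * g = g * y) : g = 1 ∨ g = sC := by
  have hm := mat_eq_gm hs g
  have hv : ∀ k, pv g k = 0 ∧ ∀ j, blockHom hs g k j = (1 : M3) k j := by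
    intro k
    have h1 := congrArg mat (hg _ (qel_mem hs 0 (ek k) 0))
    rw [mat_mul, mat_mul, mat_qel, hm, gm_mul, gm_mul] at h1
    obtain ⟨e1, e2, _, _⟩ := gm_inj h1
    constructor
    · unfold ek at e1
      rw [single_one_dotProduct, dotProduct_zero, add_zero, zero_add, add_zero] at e1
      have : px g + pv g k = px g + 0 := by rw [add_zero]; exact e1
      exact add_left_cancel this
    · intro j
      unfold ek at e2
      rw [single_one_vecMul, Matrix.vecMul_one, add_comm] at e2
      have e3 := add_right_cancel e2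
      have e4 := congrFun e3 j
      rw [Matrix.row_apply] at e4
      rw [e4, Matrix.one_apply, Pi.single_apply]
      by_cases hjk : j = k
      · rw [if_pos hjk, if_pos hjk.symm]
      · rw [if_neg hjk, if_neg (fun h => hjk h.symm)]
  have hu : ∀ k, pu g k = 0 := by
    intro k
    have h1 := congrArg mat (hg _ (qel_mem hs 0 0 (ek k)))
    rw [mat_mul, mat_mul, mat_qel, hm, gm_mul, gm_mul] at h1
    obtain ⟨e1, _, _, _⟩ := gm_inj h1
    unfold ek at e1
    rw [dotProduct_single_one, zero_dotProduct, add_zero, zero_add, add_zero] at e1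
    have : px g + pu g k = px g + 0 := by rw [add_zero]; exact e1.symm
    exact add_left_cancel this
  have hB : blockHom hs g = 1 := by
    ext k j
    exact (hv k).2 j
  have hu0 : pu g = 0 := funext hu
  have hv0 : pv g = 0 := funext fun k => (hv k).1
  rw [hB, hu0, hv0] at hm
  rcases zmod2_cases (px g) with h | h
  · left
    apply mat_injective
    rw [hm, h, mat_one, gm_one]
  · right
    apply mat_injective
    rw [hm, h, mat_sC hs]

/-- `Qm` is not abelian -/
theorem nonabelian_Qm : ∃ a ∈ Qm hs, ∃ b ∈ Qm hs, a * b ≠ b * a := by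
  refine ⟨_, qel_mem hs 0 (ek 0) 0, _, qel_mem hs 0 0 (ek 0), ?_⟩
  intro h
  have h1 := congrArg mat h
  rw [mat_mul, mat_mul, mat_qel, mat_qel, gm_mul, gm_mul] at h1
  have e1 := (gm_inj h1).1
  unfold ek at e1
  rw [single_one_dotProduct, zero_dotProduct, add_zero, add_zero, zero_add] at e1
  rw [Pi.single_eq_same] at e1
  exact one_ne_zero e1

end

end Cfsg.Agent.Lib.Helper89.TransvCentStruct
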