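import Mathlib

/-!
# The centralizer of a transvection in `SL(n + 2, 2)` (helper89)

Block form of the elements, the normal subgroup `Qm` of order `2 ^ (2 n + 1)` (kernel of the action
on the lower right block) and the complement `Km` isomorphic to `SL(n, 2)`.
-/

set_option autoImplicit false

namespace Cfsg.Agent.Lib.Helper89.TransvCentGen

open Matrix

variable {n : ℕ}

abbrev Vn (n : ℕ) : Type := Fin n → ZMod 2
abbrev Mn (n : ℕ) : Type := Matrix (Fin n) (Fin n) (ZMod 2)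
abbrev SLn (n : ℕ) : Type := Matrix.SpecialLinearGroup (Fin n) (ZMod 2)

theorem zmod2_eq_one_of_ne_zero : ∀ a : ZMod 2, a ≠ 0 → a = 1 := by decide

theorem zmod2_cases : ∀ a : ZMod 2, a = 0 ∨ a = 1 := by decide

theorem zmod2_cancel : ∀ a b : ZMod 2, a + (a + b) + b = 0 := by decide

theorem vn_add_self (u : Vn n) : u + u = 0 := by
  funext i
  exact CharTwo.add_self_eq_zero (u i)

theorem fin_cases3 (i : Fin (n + 2)) :
    i = 0 ∨ i = Fin.succ 0 ∨ ∃ k : Fin n, i = k.succ.succ := by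
  obtain rfl | ⟨i, rfl⟩ := Fin.eq_zero_or_eq_succ i
  · left; rfl
  · obtain rfl | ⟨k, rfl⟩ := Fin.eq_zero_or_eq_succ i
    · right; left; rfl
    · right; right; exact ⟨k, rfl⟩

theorem sum3 (f : Fin (n + 2) → ZMod 2) :
    ∑ l, f l = f 0 + f (Fin.succ 0) + ∑ k : Fin n, f k.succ.succ := by
  rw [Fin.sum_univ_succ, Fin.sum_univ_succ]
  exact (add_assoc _ _ _).symm

/-- the general element of the centralizer in block form -/
def gm (x : ZMod 2) (u v : Vn n) (B : Mn n) : Matrix (Fin (n + 2)) (Fin (n + 2)) (ZMod 2) :=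
  Matrix.of fun i j =>
    Fin.cases (motive := fun _ => ZMod 2)
      (Fin.cases (motive := fun _ => ZMod 2) 1 (Fin.cases (motive := fun _ => ZMod 2) x u) j)
      (Fin.cases (motive := fun _ => ZMod 2)
        (Fin.cases (motive := fun _ => ZMod 2) 0
          (Fin.cases (motive := fun _ => ZMod 2) 1 (fun _ => 0)) j)
        (fun k => Fin.cases (motive := fun _ => ZMod 2) 0
          (Fin.cases (motive := fun _ => ZMod 2) (v k) (B k)) j)) i

section entries

variable (x : ZMod 2) (u v : Vn n) (B : Mn n)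

theorem gm_00 : gm x u v B 0 0 = 1 := rfl
theorem gm_01 : gm x u v B 0 (Fin.succ 0) = x := rfl
theorem gm_0k (k : Fin n) : gm x u v B 0 k.succ.succ = u k := rfl
theorem gm_10 : gm x u v B (Fin.succ 0) 0 = 0 := rfl
theorem gm_11 : gm x u v B (Fin.succ 0) (Fin.succ 0) = 1 := rfl
theorem gm_1k (k : Fin n) : gm x u v B (Fin.succ 0) k.succ.succ = 0 := rfl
theorem gm_k0 (k : Fin n) : gm x u v B k.succ.succ 0 = 0 := rfl
theorem gm_k1 (k : Fin n) : gm x u v B k.succ.succ (Fin.succ 0) = v k := rfl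
theorem gm_kl (k l : Fin n) : gm x u v B k.succ.succ l.succ.succ = B k l := rfl

end entries

theorem gm_mul (x x' : ZMod 2) (u u' v v' : Vn n) (B B' : Mn n) :
    gm x u v B * gm x' u' v' B' =
      gm (x + x' + u ⬝ᵥ v') (u' + Matrix.vecMul u B') (v + B.mulVec v') (B * B') := by
  ext i j
  rw [Matrix.mul_apply, sum3]
  rcases fin_cases3 i with rfl | rfl | ⟨k, rfl⟩ <;>
  rcases fin_cases3 j with rfl | rfl | ⟨l, rfl⟩ <;>
    simp only [gm_00, gm_01, gm_0k, gm_10, gm_11, gm_1k, gm_k0, gm_k1, gm_kl, mul_zero, zero_mul,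
      mul_one, one_mul, add_zero, zero_add, Finset.sum_const_zero, Pi.add_apply, Matrix.vecMul,
      Matrix.mulVec, dotProduct, Matrix.mul_apply]
  rw [add_comm x' x]

theorem succ0_ne_zero : (Fin.succ 0 : Fin (n + 2)) ≠ 0 := Fin.succ_ne_zero _

theorem succ2_ne_zero (k : Fin n) : (k.succ.succ : Fin (n + 2)) ≠ 0 := Fin.succ_ne_zero _

theorem succ2_ne_succ0 (k : Fin n) : (k.succ.succ : Fin (n + 2)) ≠ Fin.succ 0 := by
  intro h
  exact Fin.succ_ne_zero k (Fin.succ_injective _ h)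

theorem succ2_inj {k l : Fin n} : (k.succ.succ : Fin (n + 2)) = l.succ.succ ↔ k = l :=
  ⟨fun h => Fin.succ_injective _ (Fin.succ_injective _ h), fun h => by rw [h]⟩

theorem gm_one : gm (n := n) 0 0 0 1 = 1 := by
  ext i j
  rcases fin_cases3 i with rfl | rfl | ⟨k, rfl⟩ <;>
  rcases fin_cases3 j with rfl | rfl | ⟨l, rfl⟩
  · rw [gm_00, Matrix.one_apply_eq]
  · rw [gm_01, Matrix.one_apply_ne succ0_ne_zero.symm]
  · rw [gm_0k, Matrix.one_apply_ne (succ2_ne_zero l).symm]; rfl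
  · rw [gm_10, Matrix.one_apply_ne succ0_ne_zero]
  · rw [gm_11, Matrix.one_apply_eq]
  · rw [gm_1k, Matrix.one_apply_ne (succ2_ne_succ0 l).symm]
  · rw [gm_k0, Matrix.one_apply_ne (succ2_ne_zero k)]
  · rw [gm_k1, Matrix.one_apply_ne (succ2_ne_succ0 k)]; rfl
  · rw [gm_kl, Matrix.one_apply, Matrix.one_apply]
    by_cases h : k = l
    · rw [if_pos h, if_pos (succ2_inj.mpr h)]
    · rw [if_neg h, if_neg (fun h' => h (succ2_inj.mp h'))]

theorem gm_comm (x : ZMod 2) (u v : Vn n) (B : Mn n) :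
    gm x u v B * Matrix.single 0 (Fin.succ 0) 1 = Matrix.single 0 (Fin.succ 0) 1 * gm x u v B := by
  ext i j
  by_cases hj : j = Fin.succ 0
  · subst hj
    rw [Matrix.mul_single_apply_same, mul_one]
    by_cases hi : i = 0
    · subst hi
      rw [Matrix.single_mul_apply_same, one_mul, gm_00, gm_11]
    · rw [Matrix.single_mul_apply_of_ne (h := hi)]
      rcases fin_cases3 i with rfl | rfl | ⟨k, rfl⟩
      · exact absurd rfl hi
      · rw [gm_10]
      · rw [gm_k0]
  · rw [Matrix.mul_single_apply_of_ne (hbj := hj)]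
    by_cases hi : i = 0
    · subst hi
      rw [Matrix.single_mul_apply_same, one_mul]
      rcases fin_cases3 j with rfl | rfl | ⟨k, rfl⟩
      · rw [gm_10]
      · exact absurd rfl hj
      · rw [gm_1k]
    · rw [Matrix.single_mul_apply_of_ne (h := hi)]

theorem gm_inj {x x' : ZMod 2} {u u' v v' : Vn n} {B B' : Mn n}
    (h : gm x u v B = gm x' u' v' B') : x = x' ∧ u = u' ∧ v = v' ∧ B = B' := by
  have e : ∀ i j : Fin (n + 2), gm x u v B i j = gm x' u' v' B' i j := fun i j => by rw [h]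
  refine ⟨e 0 (Fin.succ 0), ?_, ?_, ?_⟩
  · funext k
    exact e 0 k.succ.succ
  · funext k
    exact e k.succ.succ (Fin.succ 0)
  · ext k l
    exact e k.succ.succ l.succ.succ

theorem det_eq_one_of_mul_eq_one {m : ℕ} {A A' : Matrix (Fin m) (Fin m) (ZMod 2)}
    (h : A * A' = 1) : A.det = 1 := by
  apply zmod2_eq_one_of_ne_zero
  intro h0
  have := congrArg Matrix.det h
  rw [Matrix.det_mul, h0, zero_mul, Matrix.det_one] at this
  exact zero_ne_one this

theorem gm_unip_mul (x : ZMod 2) (u v : Vn n) :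
    gm x u v 1 * gm (x + u ⬝ᵥ v) u v 1 = 1 := by
  rw [gm_mul, Matrix.vecMul_one, Matrix.one_mulVec, vn_add_self, vn_add_self, mul_one,
    zmod2_cancel, gm_one]

theorem gm_block_mul (B B' : Mn n) :
    gm 0 0 0 B * gm 0 0 0 B' = gm 0 0 0 (B * B') := by
  rw [gm_mul, Matrix.zero_vecMul, Matrix.mulVec_zero, zero_dotProduct]
  simp only [add_zero]

/-! ### The centralizer -/

/-- the centralizer of `z` -/
abbrev Cent (z : SLn (n + 2)) : Subgroup (SLn (n + 2)) :=
  Subgroup.centralizer ({z} : Set (SLn (n + 2)))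

/-- the underlying matrix -/
def mat {z : SLn (n + 2)} (g : ↥(Cent z)) : Matrix (Fin (n + 2)) (Fin (n + 2)) (ZMod 2) := g.1.1

theorem mat_mul {z : SLn (n + 2)} (g h : ↥(Cent z)) : mat (g * h) = mat g * mat h := rfl

theorem mat_one {z : SLn (n + 2)} : mat (1 : ↥(Cent z)) = 1 := rfl

theorem mat_injective {z : SLn (n + 2)} : Function.Injective (mat : ↥(Cent z) → _) := by
  intro g h hgh
  exact Subtype.ext (Subtype.ext hgh)

/-- the `(0, 1)` entry -/
def px {z : SLn (n + 2)} (g : ↥(Cent z)) : ZMod 2 := mat g 0 (Fin.succ 0)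

/-- the rest of the first row -/
def pu {z : SLn (n + 2)} (g : ↥(Cent z)) : Vn n := fun k => mat g 0 k.succ.succ

/-- the rest of the second column -/
def pv {z : SLn (n + 2)} (g : ↥(Cent z)) : Vn n := fun k => mat g k.succ.succ (Fin.succ 0)

/-- the lower right block -/
def blk {z : SLn (n + 2)} (g : ↥(Cent z)) : Mn n :=
  Matrix.of fun k l => mat g k.succ.succ l.succ.succ

section

variable {z : SLn (n + 2)}
  (hz : (z : Matrix (Fin (n + 2)) (Fin (n + 2)) (ZMod 2)) = Matrix.transvection 0 (Fin.succ 0) 1)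

include hz

theorem comm_iff (g : SLn (n + 2)) :
    g ∈ Cent z ↔
      (g : Matrix (Fin (n + 2)) (Fin (n + 2)) (ZMod 2)) * Matrix.single 0 (Fin.succ 0) 1 =
        Matrix.single 0 (Fin.succ 0) 1 * (g : Matrix (Fin (n + 2)) (Fin (n + 2)) (ZMod 2)) := by
  rw [Subgroup.mem_centralizer_iff]
  simp only [Set.mem_singleton_iff, forall_eq]
  have key : (z * g = g * z) ↔ ((z * g : SLn (n + 2)) :
      Matrix (Fin (n + 2)) (Fin (n + 2)) (ZMod 2)) = ((g * z : SLn (n + 2)) :
      Matrix (Fin (n + 2)) (Fin (n + 2)) (ZMod 2)) := Subtype.ext_iff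
  rw [key]
  simp only [Matrix.SpecialLinearGroup.coe_mul, hz, Matrix.transvection, mul_add, add_mul,
    mul_one, one_mul]
  constructor
  · intro h; exact (add_left_cancel h).symm
  · intro h; rw [h]

theorem cent_entries {g : SLn (n + 2)} (hg : g ∈ Cent z) :
    (∀ i : Fin (n + 2), i ≠ 0 → (g : Matrix (Fin (n + 2)) (Fin (n + 2)) (ZMod 2)) i 0 = 0) ∧
      (∀ j : Fin (n + 2), j ≠ Fin.succ 0 →
        (g : Matrix (Fin (n + 2)) (Fin (n + 2)) (ZMod 2)) (Fin.succ 0) j = 0) ∧
      (g : Matrix (Fin (n + 2)) (Fin (n + 2)) (ZMod 2)) 0 0 = 1 ∧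
      (g : Matrix (Fin (n + 2)) (Fin (n + 2)) (ZMod 2)) (Fin.succ 0) (Fin.succ 0) = 1 := by
  have h := (comm_iff hz g).mp hg
  have e : ∀ i j : Fin (n + 2),
      ((g : Matrix (Fin (n + 2)) (Fin (n + 2)) (ZMod 2)) *
        (Matrix.single 0 (Fin.succ 0) 1 : Matrix (Fin (n + 2)) (Fin (n + 2)) (ZMod 2))) i j =
      ((Matrix.single 0 (Fin.succ 0) 1 : Matrix (Fin (n + 2)) (Fin (n + 2)) (ZMod 2)) *
        (g : Matrix (Fin (n + 2)) (Fin (n + 2)) (ZMod 2))) i j := fun i j => by rw [h]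
  have h1 : ∀ i : Fin (n + 2), i ≠ 0 →
      (g : Matrix (Fin (n + 2)) (Fin (n + 2)) (ZMod 2)) i 0 = 0 := by
    intro i hi
    have := e i (Fin.succ 0)
    rw [Matrix.mul_single_apply_same, mul_one, Matrix.single_mul_apply_of_ne (h := hi)] at this
    exact this
  have h2 : ∀ j : Fin (n + 2), j ≠ Fin.succ 0 →
      (g : Matrix (Fin (n + 2)) (Fin (n + 2)) (ZMod 2)) (Fin.succ 0) j = 0 := by
    intro j hj
    have := e 0 j
    rw [Matrix.mul_single_apply_of_ne (hbj := hj), Matrix.single_mul_apply_same, one_mul] at this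
    exact this.symm
  have h3 : (g : Matrix (Fin (n + 2)) (Fin (n + 2)) (ZMod 2)) 0 0 =
      (g : Matrix (Fin (n + 2)) (Fin (n + 2)) (ZMod 2)) (Fin.succ 0) (Fin.succ 0) := by
    have := e 0 (Fin.succ 0)
    rw [Matrix.mul_single_apply_same, mul_one, Matrix.single_mul_apply_same, one_mul] at this
    exact this
  have h4 : (g : Matrix (Fin (n + 2)) (Fin (n + 2)) (ZMod 2)) (Fin.succ 0) (Fin.succ 0) = 1 := by
    apply zmod2_eq_one_of_ne_zero
    intro h0
    have hdet : (g : Matrix (Fin (n + 2)) (Fin (n + 2)) (ZMod 2)).det = 0 := by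
      apply Matrix.det_eq_zero_of_row_eq_zero (Fin.succ 0)
      intro j
      by_cases hj : j = Fin.succ 0
      · rw [hj]; exact h0
      · exact h2 j hj
    rw [g.2] at hdet
    exact one_ne_zero hdet
  exact ⟨h1, h2, h3.trans h4, h4⟩

theorem mat_eq_gm (g : ↥(Cent z)) : mat g = gm (px g) (pu g) (pv g) (blk g) := by
  obtain ⟨g1, g2, g3, g4⟩ := cent_entries hz g.2
  ext i j
  rcases fin_cases3 i with rfl | rfl | ⟨k, rfl⟩ <;>
  rcases fin_cases3 j with rfl | rfl | ⟨l, rfl⟩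
  · rw [gm_00]; exact g3
  · rw [gm_01]; rfl
  · rw [gm_0k]; rfl
  · rw [gm_10]; exact g1 _ succ0_ne_zero
  · rw [gm_11]; exact g4
  · rw [gm_1k]; exact g2 _ (succ2_ne_succ0 l)
  · rw [gm_k0]; exact g1 _ (succ2_ne_zero k)
  · rw [gm_k1]; rfl
  · rw [gm_kl]; rfl

/-- the element of the centralizer with given block form -/
def mkC (x : ZMod 2) (u v : Vn n) (B : Mn n) (hdet : (gm x u v B).det = 1) : ↥(Cent z) :=
  ⟨⟨gm x u v B, hdet⟩, (comm_iff hz _).mpr (gm_comm x u v B)⟩

omit hz in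
theorem mat_mkC
    (hz : (z : Matrix (Fin (n + 2)) (Fin (n + 2)) (ZMod 2)) = Matrix.transvection 0 (Fin.succ 0) 1)
    (x : ZMod 2) (u v : Vn n) (B : Mn n) (hdet : (gm x u v B).det = 1) :
    mat (mkC hz x u v B hdet) = gm x u v B := rfl

/-- the unipotent element with parameters `x u v` -/
def qel (x : ZMod 2) (u v : Vn n) : ↥(Cent z) :=
  mkC hz x u v 1 (det_eq_one_of_mul_eq_one (gm_unip_mul x u v))

theorem mat_qel (x : ZMod 2) (u v : Vn n) : mat (qel hz x u v) = gm x u v 1 := rfl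

theorem blk_of_mat {g : ↥(Cent z)} {x : ZMod 2} {u v : Vn n} {B : Mn n}
    (h : mat g = gm x u v B) : blk g = B := by
  have h2 := mat_eq_gm hz g
  rw [h] at h2
  exact (gm_inj h2).2.2.2.symm

theorem params_of_mat {g : ↥(Cent z)} {x : ZMod 2} {u v : Vn n} {B : Mn n}
    (h : mat g = gm x u v B) : px g = x ∧ pu g = u ∧ pv g = v := by
  have h2 := mat_eq_gm hz g
  rw [h] at h2
  obtain ⟨a, b, c, _⟩ := gm_inj h2
  exact ⟨a.symm, b.symm, c.symm⟩

theorem blk_mul (g h : ↥(Cent z)) : blk (g * h) = blk g * blk h := by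
  apply blk_of_mat hz
  rw [mat_mul, mat_eq_gm hz g, mat_eq_gm hz h, gm_mul]

theorem blk_one : blk (1 : ↥(Cent z)) = 1 := by
  apply blk_of_mat hz (x := 0) (u := 0) (v := 0)
  rw [mat_one, gm_one]

theorem det_blk (g : ↥(Cent z)) : (blk g).det = 1 := by
  apply det_eq_one_of_mul_eq_one (A' := blk g⁻¹)
  rw [← blk_mul hz, mul_inv_cancel, blk_one hz]

/-- the lower right block as a homomorphism to `SL(n, 2)` -/
def blockSL : ↥(Cent z) →* SLn n where
  toFun g := ⟨blk g, det_blk hz g⟩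
  map_one' := Subtype.ext (blk_one hz)
  map_mul' g h := Subtype.ext (blk_mul hz g h)

theorem blockSL_coe (g : ↥(Cent z)) : ((blockSL hz g : SLn n) : Mn n) = blk g := rfl

/-- the block diagonal embedding of `SL(n, 2)` -/
def kelHom : SLn n →* ↥(Cent z) where
  toFun B := mkC hz 0 0 0 B.1 (det_eq_one_of_mul_eq_one (A' := gm 0 0 0 (B⁻¹).1) (by
    rw [gm_block_mul, ← Matrix.SpecialLinearGroup.coe_mul, mul_inv_cancel,
      Matrix.SpecialLinearGroup.coe_one, gm_one]))
  map_one' := by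
    apply mat_injective
    rw [mat_mkC, mat_one, Matrix.SpecialLinearGroup.coe_one, gm_one]
  map_mul' B B' := by
    apply mat_injective
    rw [mat_mul, mat_mkC, mat_mkC, mat_mkC, gm_block_mul, Matrix.SpecialLinearGroup.coe_mul]

theorem mat_kelHom (B : SLn n) : mat (kelHom hz B) = gm 0 0 0 B.1 := rfl

theorem blockSL_kelHom (B : SLn n) : blockSL hz (kelHom hz B) = B :=
  Subtype.ext (blk_of_mat hz (mat_kelHom hz B))

theorem kelHom_injective : Function.Injective (kelHom hz) :=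
  Function.LeftInverse.injective (blockSL_kelHom hz)

theorem blockSL_surjective : Function.Surjective (blockSL hz) :=
  Function.RightInverse.surjective (blockSL_kelHom hz)

/-- the kernel of the action on the block: the unipotent radical -/
def Qm : Subgroup ↥(Cent z) := (blockSL hz).ker

/-- the block diagonal complement -/
def Km : Subgroup ↥(Cent z) := (kelHom hz).range

theorem Qm_normal : (Qm hz).Normal := MonoidHom.normal_ker _

theorem mem_Qm (g : ↥(Cent z)) : g ∈ Qm hz ↔ blk g = 1 := by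
  unfold Qm
  rw [MonoidHom.mem_ker]
  constructor
  · intro h
    have := congrArg (fun t : SLn n => (t : Mn n)) h
    exact this
  · intro h
    exact Subtype.ext h

theorem mat_of_mem_Qm {g : ↥(Cent z)} (hg : g ∈ Qm hz) : mat g = gm (px g) (pu g) (pv g) 1 := by
  rw [← (mem_Qm hz g).mp hg]
  exact mat_eq_gm hz g

theorem qel_mem (x : ZMod 2) (u v : Vn n) : qel hz x u v ∈ Qm hz :=
  (mem_Qm hz _).mpr (blk_of_mat hz (mat_qel hz x u v))

theorem eq_qel {g : ↥(Cent z)} (hg : g ∈ Qm hz) : g = qel hz (px g) (pu g) (pv g) := by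
  apply mat_injective
  rw [mat_of_mem_Qm hz hg, mat_qel]

theorem Qm_inf_Km : Qm hz ⊓ Km hz = ⊥ := by
  rw [eq_bot_iff]
  rintro g ⟨hgQ, ⟨B, rfl⟩⟩
  have h1 : blockSL hz (kelHom hz B) = 1 := hgQ
  rw [blockSL_kelHom] at h1
  rw [Subgroup.mem_bot, h1, map_one]

theorem Qm_sup_Km : Qm hz ⊔ Km hz = ⊤ := by
  rw [eq_top_iff]
  intro g _
  have h1 : g * (kelHom hz (blockSL hz g))⁻¹ ∈ Qm hz := by
    show blockSL hz _ = 1
    rw [map_mul, map_inv, blockSL_kelHom, mul_inv_cancel]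
  have h2 : kelHom hz (blockSL hz g) ∈ Km hz := ⟨_, rfl⟩
  have e : g = g * (kelHom hz (blockSL hz g))⁻¹ * kelHom hz (blockSL hz g) := by group
  rw [e]
  exact Subgroup.mul_mem_sup h1 h2

/-- the complement is isomorphic to `SL(n, 2)` -/
noncomputable def KmEquiv : ↥(Km hz) ≃* SLn n :=
  (MonoidHom.ofInjective (kelHom_injective hz)).symm

/-! ### The order of `Qm` -/

theorem card_Qm : Nat.card ↥(Qm hz) = 2 ^ (2 * n + 1) := by
  let f : ↥(Qm hz) → ZMod 2 × Vn n × Vn n := fun g => (px g.1, pu g.1, pv g.1)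
  have hf : Function.Bijective f := by
    constructor
    · intro g h hgh
      have h1 : px g.1 = px h.1 := congrArg Prod.fst hgh
      have h2 : pu g.1 = pu h.1 := congrArg (fun t => t.2.1) hgh
      have h3 : pv g.1 = pv h.1 := congrArg (fun t => t.2.2) hgh
      apply Subtype.ext
      rw [eq_qel hz g.2, eq_qel hz h.2, h1, h2, h3]
    · rintro ⟨x, u, v⟩
      refine ⟨⟨qel hz x u v, qel_mem hz x u v⟩, ?_⟩
      obtain ⟨a, b, c⟩ := params_of_mat hz (mat_qel hz x u v)
      show (px (qel hz x u v), pu (qel hz x u v), pv (qel hz x u v)) = (x, u, v)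
      rw [a, b, c]
  rw [Nat.card_congr (Equiv.ofBijective f hf), Nat.card_prod, Nat.card_prod, Nat.card_fun,
    Nat.card_zmod, Nat.card_fin]
  ring

theorem isPGroup_Qm : IsPGroup 2 ↥(Qm hz) := IsPGroup.of_card (card_Qm hz)

end

end Cfsg.Agent.Lib.Helper89.TransvCentGen
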