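import Cfsg.Agent.Lib.Helper89.TransvCentGen
import Cfsg.Agent.Lib.Helper97.Cores

/-!
# The unipotent radical of the centralizer of a transvection in `SL(n + 2, 2)` (helper89)

Elementwise facts about `Qm` (commutators and squares in `{1, z}`, self-centralizing), the
elementary abelian subgroup `Rm`, `O_2(SL(n, 2)) = 1` and `O_2` of the centralizer.
-/

set_option autoImplicit false

namespace Cfsg.Agent.Lib.Helper89.TransvCentGen

open Matrix

variable {n : ℕ}

section

variable {z : SLn (n + 2)}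
  (hz : (z : Matrix (Fin (n + 2)) (Fin (n + 2)) (ZMod 2)) = Matrix.transvection 0 (Fin.succ 0) 1)

/-- `z` as an element of its centralizer -/
def sC : ↥(Cent z) := ⟨z, Subgroup.mem_centralizer_iff.mpr (by
  intro h hh
  rw [Set.mem_singleton_iff] at hh
  rw [hh])⟩

theorem sC_comm (g : ↥(Cent z)) : g * sC = sC * g := by
  apply Subtype.ext
  have := g.2
  rw [Subgroup.mem_centralizer_iff] at this
  exact (this z rfl).symm

theorem transvection_eq_gm :
    (Matrix.transvection 0 (Fin.succ 0) 1 : Matrix (Fin (n + 2)) (Fin (n + 2)) (ZMod 2)) =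
      gm 1 0 0 1 := by
  have h1 : (gm 1 0 0 1 : Matrix (Fin (n + 2)) (Fin (n + 2)) (ZMod 2)) =
      gm 0 0 0 1 + Matrix.single 0 (Fin.succ 0) 1 := by
    ext i j
    rw [Matrix.add_apply, Matrix.single_apply]
    rcases fin_cases3 i with rfl | rfl | ⟨k, rfl⟩ <;>
    rcases fin_cases3 j with rfl | rfl | ⟨l, rfl⟩
    · rw [gm_00, gm_00, if_neg (fun h => succ0_ne_zero h.2), add_zero]
    · rw [gm_01, gm_01, if_pos ⟨rfl, rfl⟩, zero_add]
    · rw [gm_0k, gm_0k, if_neg (fun h => succ2_ne_succ0 l h.2.symm), add_zero]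
    · rw [gm_10, gm_10, if_neg (fun h => succ0_ne_zero h.1.symm), add_zero]
    · rw [gm_11, gm_11, if_neg (fun h => succ0_ne_zero h.1.symm), add_zero]
    · rw [gm_1k, gm_1k, if_neg (fun h => succ0_ne_zero h.1.symm), add_zero]
    · rw [gm_k0, gm_k0, if_neg (fun h => succ2_ne_zero k h.1.symm), add_zero]
    · rw [gm_k1, gm_k1, if_neg (fun h => succ2_ne_zero k h.1.symm), add_zero]
    · rw [gm_kl, gm_kl, if_neg (fun h => succ2_ne_zero k h.1.symm), add_zero]
  rw [h1, gm_one, Matrix.transvection]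

include hz

theorem mat_sC : mat (sC (z := z)) = gm 1 0 0 1 := by
  show (z : Matrix (Fin (n + 2)) (Fin (n + 2)) (ZMod 2)) = _
  rw [hz, transvection_eq_gm]

theorem sC_mem : sC ∈ Qm hz := (mem_Qm hz _).mpr (blk_of_mat hz (mat_sC hz))

theorem sC_ne_one : (sC : ↥(Cent z)) ≠ 1 := by
  intro h
  have h1 := congrArg mat h
  rw [mat_sC hz, mat_one, ← gm_one] at h1
  exact one_ne_zero (gm_inj h1).1

omit hz in
theorem eq_of_mat_eq_gm {g h : ↥(Cent z)} {x : ZMod 2} {u v : Vn n} {B : Mn n}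
    (hg : mat g = gm x u v B) (hh : mat h = gm x u v B) : g = h :=
  mat_injective (hg.trans hh.symm)

theorem mat_mul_Qm {g h : ↥(Cent z)} (hg : g ∈ Qm hz) (hh : h ∈ Qm hz) :
    mat (g * h) = gm (px g + px h + pu g ⬝ᵥ pv h) (pu h + pu g) (pv g + pv h) 1 := by
  rw [mat_mul, mat_of_mem_Qm hz hg, mat_of_mem_Qm hz hh, gm_mul, Matrix.vecMul_one,
    Matrix.one_mulVec, mul_one]

theorem mat_sC_mul {g : ↥(Cent z)} (hg : g ∈ Qm hz) :
    mat (sC * g) = gm (1 + px g) (pu g) (pv g) 1 := by
  rw [mat_mul, mat_sC hz, mat_of_mem_Qm hz hg, gm_mul, Matrix.zero_vecMul, Matrix.one_mulVec,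
    mul_one, zero_dotProduct, add_zero, add_zero, zero_add]

/-- commutators in `Qm` lie in `{1, z}` -/
theorem comm_Qm {a b : ↥(Cent z)} (ha : a ∈ Qm hz) (hb : b ∈ Qm hz) :
    a * b = b * a ∨ a * b = sC * (b * a) := by
  have h1 := mat_mul_Qm hz ha hb
  have h2 := mat_mul_Qm hz hb ha
  have hba : b * a ∈ Qm hz := (Qm hz).mul_mem hb ha
  have h3 := mat_sC_mul hz hba
  obtain ⟨p1, p2, p3⟩ := params_of_mat hz h2
  rw [p1, p2, p3] at h3
  rcases zmod2_cases (pu a ⬝ᵥ pv b + pu b ⬝ᵥ pv a) with h | h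
  · left
    apply eq_of_mat_eq_gm h1
    rw [h2]
    have e : px a + px b + pu a ⬝ᵥ pv b = px b + px a + pu b ⬝ᵥ pv a := by
      have : pu a ⬝ᵥ pv b = pu b ⬝ᵥ pv a := by
        have h' := congrArg (· + pu b ⬝ᵥ pv a) h
        simp only [add_assoc, CharTwo.add_self_eq_zero, add_zero, zero_add] at h'
        exact h'
      rw [this, add_comm (px a)]
    rw [e, add_comm (pu b), add_comm (pv a)]
  · right
    apply eq_of_mat_eq_gm h1
    rw [h3]
    have e : px a + px b + pu a ⬝ᵥ pv b = 1 + (px b + px a + pu b ⬝ᵥ pv a) := by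
      rw [← h]
      have : ∀ p q c d : ZMod 2, p + q + c = c + d + (q + p + d) := by decide
      exact this _ _ _ _
    rw [e, add_comm (pu b), add_comm (pv a)]

/-- squares in `Qm` lie in `{1, z}` -/
theorem sq_Qm {a : ↥(Cent z)} (ha : a ∈ Qm hz) : a * a = 1 ∨ a * a = sC := by
  have h1 := mat_mul_Qm hz ha ha
  rw [vn_add_self, vn_add_self, CharTwo.add_self_eq_zero, zero_add] at h1
  rcases zmod2_cases (pu a ⬝ᵥ pv a) with h | h
  · left
    apply eq_of_mat_eq_gm h1
    rw [h, mat_one, gm_one]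
  · right
    apply eq_of_mat_eq_gm h1
    rw [h, mat_sC hz]

/-- the unit vectors -/
def ek (k : Fin n) : Vn n := Pi.single k 1

/-- an element of the centralizer of `z` commuting with all of `Qm` is `1` or `z` -/
theorem cent_Qm {g : ↥(Cent z)} (hg : ∀ y ∈ Qm hz, y * g = g * y) : g = 1 ∨ g = sC := by
  have hm := mat_eq_gm hz g
  have hv : ∀ k, pv g k = 0 ∧ ∀ j, blk g k j = (1 : Mn n) k j := by
    intro k
    have h1 := congrArg mat (hg _ (qel_mem hz 0 (ek k) 0))
    rw [mat_mul, mat_mul, mat_qel, hm, gm_mul, gm_mul] at h1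
    obtain ⟨e1, e2, _, _⟩ := gm_inj h1
    constructor
    · unfold ek at e1
      rw [single_one_dotProduct, dotProduct_zero, add_zero, zero_add, add_zero] at e1
      have : px g + pv g k = px g + 0 := by rw [add_zero]; exact e1
      exact add_left_cancel this
    · intro j
      unfold ek at e2
      rw [single_one_vecMul, Matrix.vecMul_one, add_comm] at e2
      have e3 := add_right_cancel e2
      have e4 := congrFun e3 j
      rw [Matrix.row_apply] at e4
      rw [e4, Matrix.one_apply, Pi.single_apply]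
      by_cases hjk : j = k
      · rw [if_pos hjk, if_pos hjk.symm]
      · rw [if_neg hjk, if_neg (fun h => hjk h.symm)]
  have hu : ∀ k, pu g k = 0 := by
    intro k
    have h1 := congrArg mat (hg _ (qel_mem hz 0 0 (ek k)))
    rw [mat_mul, mat_mul, mat_qel, hm, gm_mul, gm_mul] at h1
    obtain ⟨e1, _, _, _⟩ := gm_inj h1
    unfold ek at e1
    rw [dotProduct_single_one, zero_dotProduct, add_zero, zero_add, add_zero] at e1
    have : px g + pu g k = px g + 0 := by rw [add_zero]; exact e1.symm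
    exact add_left_cancel this
  have hB : blk g = 1 := by
    ext k j
    exact (hv k).2 j
  have hu0 : pu g = 0 := funext hu
  have hv0 : pv g = 0 := funext fun k => (hv k).1
  rw [hB, hu0, hv0] at hm
  rcases zmod2_cases (px g) with h | h
  · left
    apply mat_injective
    rw [hm, h, mat_one, gm_one]
  · right
    apply mat_injective
    rw [hm, h, mat_sC hz]

/-- `Qm` is not abelian -/
theorem nonabelian_Qm (k : Fin n) : ∃ a ∈ Qm hz, ∃ b ∈ Qm hz, a * b ≠ b * a := by
  refine ⟨_, qel_mem hz 0 (ek k) 0, _, qel_mem hz 0 0 (ek k), ?_⟩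
  intro h
  have h1 := congrArg mat h
  rw [mat_mul, mat_mul, mat_qel, mat_qel, gm_mul, gm_mul] at h1
  have e1 := (gm_inj h1).1
  unfold ek at e1
  rw [single_one_dotProduct, zero_dotProduct, add_zero, add_zero, zero_add] at e1
  rw [Pi.single_eq_same] at e1
  exact one_ne_zero e1

/-! ### The elementary abelian subgroup `Rm` -/

/-- the elements of `Qm` with trivial second column -/
def Rm : Subgroup ↥(Cent z) where
  carrier := {g | g ∈ Qm hz ∧ pv g = 0}
  one_mem' := by
    refine ⟨(Qm hz).one_mem, ?_⟩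
    have := params_of_mat hz (g := (1 : ↥(Cent z))) (x := 0) (u := 0) (v := 0) (B := 1)
      (by rw [mat_one, gm_one])
    exact this.2.2
  mul_mem' := by
    rintro a b ⟨ha, hav⟩ ⟨hb, hbv⟩
    refine ⟨(Qm hz).mul_mem ha hb, ?_⟩
    have := (params_of_mat hz (mat_mul_Qm hz ha hb)).2.2
    rw [this, hav, hbv, add_zero]
  inv_mem' := by
    rintro a ⟨ha, hav⟩
    have h1 := mat_mul_Qm hz ha ha
    rw [hav, dotProduct_zero, vn_add_self, vn_add_self, CharTwo.add_self_eq_zero, add_zero] at h1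
    have h2 : a * a = 1 := by
      apply mat_injective
      rw [h1, mat_one, gm_one]
    have h3 : a⁻¹ = a := inv_eq_of_mul_eq_one_left h2
    rw [h3]
    exact ⟨ha, hav⟩

theorem mem_Rm (g : ↥(Cent z)) : g ∈ Rm hz ↔ g ∈ Qm hz ∧ pv g = 0 := Iff.rfl

theorem Rm_le : Rm hz ≤ Qm hz := fun _ hg => hg.1

theorem Rm_sq {a : ↥(Cent z)} (ha : a ∈ Rm hz) : a * a = 1 := by
  have h1 := mat_mul_Qm hz ha.1 ha.1
  rw [ha.2, dotProduct_zero, vn_add_self, vn_add_self, CharTwo.add_self_eq_zero, add_zero] at h1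
  apply mat_injective
  rw [h1, mat_one, gm_one]

theorem Rm_comm {a b : ↥(Cent z)} (ha : a ∈ Rm hz) (hb : b ∈ Rm hz) : a * b = b * a := by
  have h1 := mat_mul_Qm hz ha.1 hb.1
  have h2 := mat_mul_Qm hz hb.1 ha.1
  apply eq_of_mat_eq_gm h1
  rw [h2, ha.2, hb.2, dotProduct_zero, dotProduct_zero, add_comm (px b), add_comm (pu a)]

theorem card_Rm : Nat.card ↥(Rm hz) = 2 ^ (n + 1) := by
  let f : ↥(Rm hz) → ZMod 2 × Vn n := fun g => (px g.1, pu g.1)
  have hf : Function.Bijective f := by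
    constructor
    · intro g h hgh
      have h1 : px g.1 = px h.1 := congrArg Prod.fst hgh
      have h2 : pu g.1 = pu h.1 := congrArg Prod.snd hgh
      apply Subtype.ext
      rw [eq_qel hz g.2.1, eq_qel hz h.2.1, h1, h2, g.2.2, h.2.2]
    · rintro ⟨x, u⟩
      obtain ⟨a, b, c⟩ := params_of_mat hz (mat_qel hz x u 0)
      refine ⟨⟨qel hz x u 0, qel_mem hz x u 0, c⟩, ?_⟩
      show (px (qel hz x u 0), pu (qel hz x u 0)) = (x, u)
      rw [a, b]
  rw [Nat.card_congr (Equiv.ofBijective f hf), Nat.card_prod, Nat.card_fun,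
    Nat.card_zmod, Nat.card_fin]
  ring

end

/-! ### `O_2(SL(n, 2)) = 1` -/

/-- `SL(n, 2)` has no non-trivial normal `2`-subgroup -/
theorem O2_SLn (N : Subgroup (SLn n)) (hN : N.Normal) (h2 : IsPGroup 2 N) : N = ⊥ := by
  have : Fact (Nat.Prime 2) := ⟨Nat.prime_two⟩
  rcases Nat.eq_zero_or_pos n with hn | hn
  · subst hn
    rw [Subgroup.eq_bot_iff_forall]
    intro g _
    apply Subtype.ext
    ext i j
    exact i.elim0
  have hcard : 2 ∣ Nat.card (Vn n) := by
    rw [Nat.card_fun, Nat.card_zmod, Nat.card_fin]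
    exact dvd_pow_self 2 (Nat.pos_iff_ne_zero.mp hn)
  have h0 : (0 : Vn n) ∈ MulAction.fixedPoints ↥N (Vn n) := by
    intro m
    exact smul_zero m
  obtain ⟨w, hw, hw0⟩ := h2.exists_fixed_point_of_prime_dvd_card_of_fixed_point (Vn n) hcard h0
  -- the fixed points are invariant under the whole group
  have hinv : ∀ (g : SLn n), ∀ x ∈ MulAction.fixedPoints ↥N (Vn n),
      g • x ∈ MulAction.fixedPoints ↥N (Vn n) := by
    intro g x hx m
    have h1 : g⁻¹ * (m : SLn n) * g ∈ N := by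
      have := hN.conj_mem m m.2 g⁻¹
      rwa [inv_inv] at this
    have h3 : (g⁻¹ * (m : SLn n) * g) • x = x := hx ⟨_, h1⟩
    show (m : SLn n) • g • x = g • x
    calc (m : SLn n) • g • x = g • ((g⁻¹ * (m : SLn n) * g) • x) := by
          rw [← mul_smul, ← mul_smul]
          congr 1
          group
      _ = g • x := by rw [h3]
  -- transitivity on non-zero vectors
  have htrans : ∀ v : Vn n, v ≠ 0 → ∃ g : SLn n, g • w = v := by
    intro v hv
    have hw0' : w ≠ 0 := fun h => hw0 h.symm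
    have hpre : MulAction.IsPretransitive (SLn n) (Projectivization (ZMod 2) (Vn n)) :=
      MulAction.isPretransitive_of_is_two_pretransitive
    obtain ⟨g, hg⟩ := hpre.exists_smul_eq (Projectivization.mk (ZMod 2) w hw0')
      (Projectivization.mk (ZMod 2) v hv)
    refine ⟨g, ?_⟩
    rw [Projectivization.smul_mk, Projectivization.mk_eq_mk_iff] at hg
    obtain ⟨a, ha⟩ := hg
    have ha1 : (a : ZMod 2) = 1 := zmod2_eq_one_of_ne_zero _ a.ne_zero
    rw [Units.smul_def, ha1, one_smul] at ha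
    exact ha.symm
  have hall : ∀ v : Vn n, v ∈ MulAction.fixedPoints ↥N (Vn n) := by
    intro v
    by_cases hv : v = 0
    · rw [hv]; exact h0
    · obtain ⟨g, hg⟩ := htrans v hv
      rw [← hg]
      exact hinv g w hw
  rw [Subgroup.eq_bot_iff_forall]
  intro m hm
  apply Subtype.ext
  rw [Matrix.SpecialLinearGroup.coe_one]
  apply Matrix.mulVec_injective
  funext v
  rw [Matrix.one_mulVec]
  exact hall v ⟨m, hm⟩

section

variable {z : SLn (n + 2)}
  (hz : (z : Matrix (Fin (n + 2)) (Fin (n + 2)) (ZMod 2)) = Matrix.transvection 0 (Fin.succ 0) 1)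

include hz

/-- `O_2` of the centralizer of the transvection is `Qm` -/
theorem pCore_eq_Qm : Cfsg.pCore 2 ↥(Cent z) = Qm hz := by
  apply le_antisymm
  · have h1 : (Cfsg.pCore 2 ↥(Cent z)).map (blockSL hz) = ⊥ := by
      apply O2_SLn
      · exact Subgroup.Normal.map (Cfsg.Agent.Lib.Helper97.pCore_normal 2) _
          (blockSL_surjective hz)
      · exact (Cfsg.Agent.Lib.Helper97.isPGroup_pCore 2 _).map _
    exact (Subgroup.map_eq_bot_iff _).mp h1
  · exact Cfsg.Agent.Lib.Helper97.le_pCore_of_normal (Qm_normal hz) (isPGroup_Qm hz)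

end

end Cfsg.Agent.Lib.Helper89.TransvCentGen
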