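import Cfsg.Agent.Lib.Helper89.TransvCentGenES
import Cfsg.Agent.Lib.Helper90.ESCriterion
import Cfsg.Agent.Lib.Helper90.Large21

/-!
# Groups with an involution centralizer isomorphic to that of a transvection of `SL(n + 2, 2)`

If `C_G(z)` is isomorphic to the centralizer of a transvection in `SL(n + 2, 2)` (`n ≥ 1`), then
`Q = O_2(C_G(z))` is extraspecial of order `2 ^ (2 n + 1)`, complemented in `C_G(z)` by a copy of
`SL(n, 2)`; and `Q` is large as soon as some involution `b ≠ z` of `Q` has `z ∈ O_2(C_G(b))`.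
(helper89)
-/

set_option autoImplicit false

namespace Cfsg.Agent.Lib.Helper89.TransvCentGen

open Matrix

variable {n : ℕ}

/-- conjugating the image of a normal subgroup of a subgroup -/
theorem conj_mem_map_subtype {G : Type*} [Group G] {C : Subgroup G} (N : Subgroup ↥C)
    (hN : N.Normal) {x : G} (hx : x ∈ C) {h : G} (hh : h ∈ N.map C.subtype) :
    x * h * x⁻¹ ∈ N.map C.subtype := by
  obtain ⟨y, hy, rfl⟩ := hh
  exact ⟨⟨x, hx⟩ * y * ⟨x, hx⟩⁻¹, hN.conj_mem y hy _, rfl⟩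

/-- centralizers of conjugate elements are isomorphic -/
def conjCentEquiv {G : Type*} [Group G] (k a : G) :
    ↥(Subgroup.centralizer ({a} : Set G)) ≃* ↥(Subgroup.centralizer ({k * a * k⁻¹} : Set G)) where
  toFun x := ⟨k * x * k⁻¹, by
    have hx : (x : G) * a = a * x := Subgroup.mem_centralizer_singleton_iff.mp x.2
    rw [Subgroup.mem_centralizer_singleton_iff]
    calc k * x * k⁻¹ * (k * a * k⁻¹) = k * (x * a) * k⁻¹ := by group
      _ = k * (a * x) * k⁻¹ := by rw [hx]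
      _ = k * a * k⁻¹ * (k * x * k⁻¹) := by group⟩
  invFun y := ⟨k⁻¹ * y * k, by
    have hy : (y : G) * (k * a * k⁻¹) = k * a * k⁻¹ * y :=
      Subgroup.mem_centralizer_singleton_iff.mp y.2
    rw [Subgroup.mem_centralizer_singleton_iff]
    calc k⁻¹ * y * k * a = k⁻¹ * (y * (k * a * k⁻¹)) * k := by group
      _ = k⁻¹ * (k * a * k⁻¹ * y) * k := by rw [hy]
      _ = a * (k⁻¹ * y * k) := by group⟩
  left_inv x := by
    apply Subtype.ext
    show k⁻¹ * (k * x * k⁻¹) * k = x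
    group
  right_inv y := by
    apply Subtype.ext
    show k * (k⁻¹ * y * k) * k⁻¹ = y
    group
  map_mul' x y := by
    apply Subtype.ext
    show k * (x * y) * k⁻¹ = k * x * k⁻¹ * (k * y * k⁻¹)
    group

/-- `O_2` of the centralizer is carried to `O_2` of the centralizer of the conjugate -/
theorem conj_mem_pCoreOf {G : Type*} [Group G] (k a q : G)
    (hq : q ∈ (Cfsg.pCore 2 ↥(Subgroup.centralizer ({a} : Set G))).map
      (Subgroup.centralizer ({a} : Set G)).subtype) :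
    k * q * k⁻¹ ∈ (Cfsg.pCore 2 ↥(Subgroup.centralizer ({k * a * k⁻¹} : Set G))).map
      (Subgroup.centralizer ({k * a * k⁻¹} : Set G)).subtype := by
  obtain ⟨q', hq', rfl⟩ := hq
  refine ⟨conjCentEquiv k a q', ?_, rfl⟩
  rw [← Cfsg.Agent.Lib.Helper97.pCore_map_equiv (conjCentEquiv k a) 2]
  exact Subgroup.mem_map_of_mem _ hq'

theorem main_abstract {G : Type*} [Group G] [Finite G] {z0 : SLn (n + 2)}
    (hz0 : (z0 : Matrix (Fin (n + 2)) (Fin (n + 2)) (ZMod 2)) =
      Matrix.transvection 0 (Fin.succ 0) 1) (k0 : Fin n) (z : G)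
    (Φ : ↥(Subgroup.centralizer ({z} : Set G)) ≃* ↥(Cent z0)) (hz1 : z ≠ 1)
    (Q : Subgroup G)
    (hQ : Q = (Cfsg.pCore 2 ↥(Subgroup.centralizer ({z} : Set G))).map
      (Subgroup.centralizer ({z} : Set G)).subtype)
    (hzQ : z ∈ Q) (b : G) (hbQ : b ∈ Q) (hb : orderOf b = 2) (hbz : b ≠ z)
    (hzb : z ∈ (Cfsg.pCore 2 ↥(Subgroup.centralizer ({b} : Set G))).map
      (Subgroup.centralizer ({b} : Set G)).subtype) :
    Cfsg.IsExtraspecial 2 ↥Q ∧ Nat.card ↥Q = 2 ^ (2 * n + 1) ∧ Cfsg.IsLargeExtraspecial Q ∧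
      ∃ K : Subgroup G, K ≤ Subgroup.centralizer ({z} : Set G) ∧ Q ⊓ K = ⊥ ∧
        Q ⊔ K = Subgroup.centralizer ({z} : Set G) ∧
        Nonempty (↥K ≃* Matrix.SpecialLinearGroup (Fin n) (ZMod 2)) := by
  set C := Subgroup.centralizer ({z} : Set G) with hC
  let f : ↥(Cent z0) →* G := C.subtype.comp Φ.symm.toMonoidHom
  have hf : Function.Injective f := by
    intro x y hxy
    exact Φ.symm.injective (Subtype.ext hxy)
  have hfC : ∀ x, f x ∈ C := fun x => (Φ.symm x).2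
  have hfsurj : ∀ x ∈ C, ∃ y, f y = x := by
    intro x hx
    refine ⟨Φ ⟨x, hx⟩, ?_⟩
    show ((Φ.symm (Φ ⟨x, hx⟩) : ↥C) : G) = x
    rw [MulEquiv.symm_apply_apply]
  have hQf : Q = (Qm hz0).map f := by
    rw [hQ, ← Cfsg.Agent.Lib.Helper97.pCore_map_equiv Φ.symm 2, pCore_eq_Qm hz0, Subgroup.map_map]
  have hQC : Q ≤ C := by
    rw [hQ]; exact Subgroup.map_subtype_le _
  have hmemQ : ∀ y, y ∈ Qm hz0 → f y ∈ Q := by
    intro y hy
    rw [hQf]; exact Subgroup.mem_map_of_mem f hy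
  have hexQ : ∀ x ∈ Q, ∃ y ∈ Qm hz0, f y = x := by
    intro x hx
    rw [hQf] at hx
    exact hx
  have hcardQ : Nat.card ↥Q = 2 ^ (2 * n + 1) := by
    rw [hQf, Subgroup.card_map_of_injective hf, card_Qm hz0]
  have hQ2 : IsPGroup 2 ↥Q := IsPGroup.of_card hcardQ
  set z' : G := f sC with hz'
  have hz'Q : z' ∈ Q := hmemQ _ (sC_mem hz0)
  have hz'1 : z' ≠ 1 := by
    intro h
    apply sC_ne_one hz0
    apply hf
    rw [map_one]; exact h
  have hz'c : ∀ y ∈ Q, y * z' = z' * y := by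
    intro y hy
    obtain ⟨y0, _, rfl⟩ := hexQ y hy
    rw [hz', ← map_mul, ← map_mul, sC_comm]
  -- an element of `C` commuting with all of `Q` is `1` or `z'`
  have hcentC : ∀ x ∈ C, (∀ y ∈ Q, y * x = x * y) → x = 1 ∨ x = z' := by
    intro x hx hcomm
    obtain ⟨x0, rfl⟩ := hfsurj x hx
    have h0 : ∀ y ∈ Qm hz0, y * x0 = x0 * y := by
      intro y hy
      apply hf
      rw [map_mul, map_mul]
      exact hcomm _ (hmemQ y hy)
    rcases cent_Qm hz0 h0 with h | h
    · left; rw [h, map_one]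
    · right; rw [h]
  have hcent : ∀ x ∈ Q, (∀ y ∈ Q, y * x = x * y) → x = 1 ∨ x = z' :=
    fun x hx => hcentC x (hQC hx)
  have hcomm : ∀ a ∈ Q, ∀ b ∈ Q, a * b * a⁻¹ * b⁻¹ = 1 ∨ a * b * a⁻¹ * b⁻¹ = z' := by
    intro a ha b hb
    obtain ⟨a0, ha0, rfl⟩ := hexQ a ha
    obtain ⟨b0, hb0, rfl⟩ := hexQ b hb
    rcases comm_Qm hz0 ha0 hb0 with h | h
    · left
      have h1 : f a0 * f b0 = f b0 * f a0 := by rw [← map_mul, ← map_mul, h]
      calc f a0 * f b0 * (f a0)⁻¹ * (f b0)⁻¹ = f b0 * f a0 * (f a0)⁻¹ * (f b0)⁻¹ := by rw [h1]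
        _ = 1 := by group
    · right
      have h1 : f a0 * f b0 = z' * (f b0 * f a0) := by
        rw [hz', ← map_mul, ← map_mul, ← map_mul, h]
      calc f a0 * f b0 * (f a0)⁻¹ * (f b0)⁻¹ = z' * (f b0 * f a0) * (f a0)⁻¹ * (f b0)⁻¹ := by
            rw [h1]
        _ = z' := by group
  have hsq : ∀ a ∈ Q, a * a = 1 ∨ a * a = z' := by
    intro a ha
    obtain ⟨a0, ha0, rfl⟩ := hexQ a ha
    rcases sq_Qm hz0 ha0 with h | h
    · left; rw [← map_mul, h, map_one]
    · right; rw [← map_mul, h]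
  have hna : ∃ a ∈ Q, ∃ b ∈ Q, a * b ≠ b * a := by
    obtain ⟨a0, ha0, b0, hb0, hab⟩ := nonabelian_Qm hz0 k0
    refine ⟨f a0, hmemQ _ ha0, f b0, hmemQ _ hb0, ?_⟩
    intro h
    apply hab
    apply hf
    rw [map_mul, map_mul]; exact h
  have hES : Cfsg.IsExtraspecial 2 ↥Q :=
    Cfsg.Agent.Lib.Helper90.isExtraspecial_two_subgroup Q z' hz'Q hz'1 hQ2 hz'c hcent hcomm hsq hna
  -- the centre of `Q`
  have hzc : ∀ q ∈ Q, q * z = z * q := fun q hq =>
    Subgroup.mem_centralizer_singleton_iff.mp (hQC hq)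
  have hzZ : z ∈ (Subgroup.center ↥Q).map Q.subtype :=
    (Cfsg.Agent.Lib.Helper90.mem_center_map_iff Q z).mpr ⟨hzQ, hzc⟩
  have hZall : ∀ x ∈ (Subgroup.center ↥Q).map Q.subtype, x = 1 ∨ x = z' := by
    intro x hx
    obtain ⟨hxQ, hxc⟩ := (Cfsg.Agent.Lib.Helper90.mem_center_map_iff Q x).mp hx
    exact hcent x hxQ hxc
  have hzz' : z = z' := by
    rcases hZall z hzZ with h | h
    · exact absurd h hz1
    · exact h
  have hL2 : Subgroup.centralizer (Q : Set G) = (Subgroup.center ↥Q).map Q.subtype := by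
    ext x
    constructor
    · intro hx
      rw [Subgroup.mem_centralizer_iff] at hx
      have hxC : x ∈ C := by
        rw [hC, Subgroup.mem_centralizer_singleton_iff]
        exact (hx z hzQ).symm
      have hxc : ∀ y ∈ Q, y * x = x * y := fun y hy => hx y hy
      rw [Cfsg.Agent.Lib.Helper90.mem_center_map_iff]
      refine ⟨?_, hxc⟩
      rcases hcentC x hxC hxc with h | h
      · rw [h]; exact Q.one_mem
      · rw [h]; exact hz'Q
    · intro hx
      obtain ⟨_, hxc⟩ := (Cfsg.Agent.Lib.Helper90.mem_center_map_iff Q x).mp hx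
      rw [Subgroup.mem_centralizer_iff]
      exact fun y hy => hxc y hy
  have hL3 : Subgroup.centralizer (((Subgroup.center ↥Q).map Q.subtype : Subgroup G) : Set G) ≤
      Subgroup.normalizer (Q : Set G) := by
    rw [Subgroup.le_normalizer_iff]
    intro x hx q hq
    rw [Subgroup.mem_centralizer_iff] at hx
    have hxC : x ∈ C := by
      rw [hC, Subgroup.mem_centralizer_singleton_iff]
      exact (hx z hzZ).symm
    rw [hQ] at hq ⊢
    exact conj_mem_map_subtype _ (Cfsg.Agent.Lib.Helper97.pCore_normal 2) hxC hq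
  have hbZ : b ∉ (Subgroup.center ↥Q).map Q.subtype := by
    intro h
    rcases hZall b h with h1 | h1
    · rw [h1, orderOf_one] at hb
      exact absurd hb (by norm_num)
    · exact hbz (h1.trans hzz'.symm)
  have hZ : (Subgroup.center ↥Q).map Q.subtype ≤
      (Cfsg.pCore 2 ↥(Subgroup.centralizer ({b} : Set G))).map
        (Subgroup.centralizer ({b} : Set G)).subtype := by
    intro x hx
    rcases hZall x hx with h | h
    · rw [h]; exact Subgroup.one_mem _
    · rw [h, ← hzz']; exact hzb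
  have hLarge : Cfsg.IsLargeExtraspecial Q :=
    Cfsg.Agent.Lib.Helper90.isLargeExtraspecial_of_involution Q hES hL2 hL3 b hbQ hbZ hb hZ
  refine ⟨hES, hcardQ, hLarge, (Km hz0).map f, ?_, ?_, ?_, ?_⟩
  · rintro _ ⟨y, _, rfl⟩
    exact hfC y
  · rw [hQf, ← Subgroup.map_inf _ _ f hf, Qm_inf_Km, Subgroup.map_bot]
  · rw [hQf, ← Subgroup.map_sup, Qm_sup_Km]
    ext x
    constructor
    · rintro ⟨y, _, rfl⟩
      exact hfC y
    · intro hx
      obtain ⟨y, rfl⟩ := hfsurj x hx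
      exact ⟨y, Subgroup.mem_top _, rfl⟩
  · exact ⟨((Km hz0).equivMapOfInjective f hf).symm.trans (KmEquiv hz0)⟩

end Cfsg.Agent.Lib.Helper89.TransvCentGen
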