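import Cfsg.Agent.Lib.Helper89.TransvCent

/-!
# Structure of the centralizer of a transvection in `SL(5, 2)` (helper89)

Block form of the elements, the normal subgroup `Qm` of order `2 ^ 7` (kernel of the action on the
lower right block), the complement `Km` isomorphic to `SL(3, 2)`, and elementwise facts showing
that `Qm` is extraspecial and self-centralizing.
-/

set_option autoImplicit false

namespace Cfsg.Agent.Lib.Helper89.TransvCentStruct

open Matrix Cfsg.Agent.Lib.Helper89.TransvCent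

abbrev V3 : Type := Fin 3 → ZMod 2
abbrev M3 : Type := Matrix (Fin 3) (Fin 3) (ZMod 2)

/-- the general element of the centralizer in block form -/
def gm (x : ZMod 2) (u v : V3) (B : M3) : Matrix (Fin 5) (Fin 5) (ZMod 2) :=
  !![1, x, u 0, u 1, u 2;
     0, 1, 0, 0, 0;
     0, v 0, B 0 0, B 0 1, B 0 2;
     0, v 1, B 1 0, B 1 1, B 1 2;
     0, v 2, B 2 0, B 2 1, B 2 2]

theorem gm_mul (x x' : ZMod 2) (u u' v v' : V3) (B B' : M3) :
    gm x u v B * gm x' u' v' B' =
      gm (x + x' + u ⬝ᵥ v') (u' + Matrix.vecMul u B') (v + B.mulVec v') (B * B') := by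
  ext i j
  fin_cases i <;> fin_cases j <;>
    simp [gm, Matrix.mul_apply, Fin.sum_univ_five, Fin.sum_univ_three, Matrix.vecMul,
      Matrix.mulVec, dotProduct] <;> ring

theorem gm_one : gm 0 0 0 1 = 1 := by
  ext i j
  fin_cases i <;> fin_cases j <;> simp [gm]

theorem gm_comm (x : ZMod 2) (u v : V3) (B : M3) :
    gm x u v B * Matrix.single 0 1 1 = Matrix.single 0 1 1 * gm x u v B := by
  ext i j
  fin_cases i <;> fin_cases j <;>
    simp [gm, Matrix.mul_apply, Matrix.single_apply]

theorem gm_inj {x x' : ZMod 2} {u u' v v' : V3} {B B' : M3}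
    (h : gm x u v B = gm x' u' v' B') : x = x' ∧ u = u' ∧ v = v' ∧ B = B' := by
  have e : ∀ i j : Fin 5, gm x u v B i j = gm x' u' v' B' i j := fun i j => by rw [h]
  refine ⟨e 0 1, ?_, ?_, ?_⟩
  · funext k
    fin_cases k
    · exact e 0 2
    · exact e 0 3
    · exact e 0 4
  · funext k
    fin_cases k
    · exact e 2 1
    · exact e 3 1
    · exact e 4 1
  · ext a b
    fin_cases a <;> fin_cases b
    · exact e 2 2
    · exact e 2 3
    · exact e 2 4
    · exact e 3 2
    · exact e 3 3
    · exact e 3 4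
    · exact e 4 2
    · exact e 4 3
    · exact e 4 4

theorem det_eq_one_of_mul_eq_one {A A' : Matrix (Fin 5) (Fin 5) (ZMod 2)} (h : A * A' = 1) :
    A.det = 1 := by
  apply zmod2_eq_one_of_ne_zero
  intro h0
  have := congrArg Matrix.det h
  rw [Matrix.det_mul, h0, zero_mul, Matrix.det_one] at this
  exact zero_ne_one this

theorem det3_eq_one_of_mul_eq_one {A A' : M3} (h : A * A' = 1) : A.det = 1 := by
  apply zmod2_eq_one_of_ne_zero
  intro h0
  have := congrArg Matrix.det h
  rw [Matrix.det_mul, h0, zero_mul, Matrix.det_one] at this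
  exact zero_ne_one this

theorem zmod2_cancel : ∀ a b : ZMod 2, a + (a + b) + b = 0 := by decide

theorem v3_add_self (u : V3) : u + u = 0 := by
  funext i
  exact CharTwo.add_self_eq_zero (u i)

theorem gm_unip_mul (x : ZMod 2) (u v : V3) :
    gm x u v 1 * gm (x + u ⬝ᵥ v) u v 1 = 1 := by
  rw [gm_mul, Matrix.vecMul_one, Matrix.one_mulVec, v3_add_self, v3_add_self, mul_one,
    zmod2_cancel, gm_one]

theorem gm_block_mul (B B' : M3) :
    gm 0 0 0 B * gm 0 0 0 B' = gm 0 0 0 (B * B') := by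
  rw [gm_mul, Matrix.zero_vecMul, Matrix.mulVec_zero, zero_dotProduct]
  simp only [add_zero]

section

variable {s : Matrix.SpecialLinearGroup (Fin 5) (ZMod 2)}
  (hs : (s : Matrix (Fin 5) (Fin 5) (ZMod 2)) = Matrix.transvection 0 1 1)

/-- the `(0, 1)` entry -/
def px (g : ↥(Cent s)) : ZMod 2 := mat g 0 1

/-- the rest of the first row -/
def pu (g : ↥(Cent s)) : V3 := fun k => mat g 0 (kk k)

/-- the rest of the second column -/
def pv (g : ↥(Cent s)) : V3 := fun k => mat g (kk k) 1

include hs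

theorem mat_eq_gm (g : ↥(Cent s)) : mat g = gm (px g) (pu g) (pv g) (blockHom hs g) := by
  obtain ⟨g1, g2, g3, g4⟩ := mat_entries hs g
  have h10 := g1 1 (by decide)
  have h20 := g1 2 (by decide)
  have h30 := g1 3 (by decide)
  have h40 := g1 4 (by decide)
  have h12 := g2 2 (by decide)
  have h13 := g2 3 (by decide)
  have h14 := g2 4 (by decide)
  ext i j
  fin_cases i <;> fin_cases j <;>
    simp [gm, px, pu, pv, blockHom, kk, g3, g4, h10, h20, h30, h40, h12, h13, h14]

/-- the element of the centralizer with given block form, given an inverse -/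
def mkC (x : ZMod 2) (u v : V3) (B : M3) (hdet : (gm x u v B).det = 1) : ↥(Cent s) :=
  ⟨⟨gm x u v B, hdet⟩, (comm_iff hs _).mpr (gm_comm x u v B)⟩

omit hs in
theorem mat_mkC (hs : (s : Matrix (Fin 5) (Fin 5) (ZMod 2)) = Matrix.transvection 0 1 1)
    (x : ZMod 2) (u v : V3) (B : M3) (hdet : (gm x u v B).det = 1) :
    mat (mkC hs x u v B hdet) = gm x u v B := rfl

/-- the unipotent element with parameters `x u v` -/
def qel (x : ZMod 2) (u v : V3) : ↥(Cent s) :=
  mkC hs x u v 1 (det_eq_one_of_mul_eq_one (gm_unip_mul x u v))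

theorem mat_qel (x : ZMod 2) (u v : V3) : mat (qel hs x u v) = gm x u v 1 := rfl

theorem det_block (g : ↥(Cent s)) : (blockHom hs g).det = 1 := by
  apply det3_eq_one_of_mul_eq_one (A' := blockHom hs g⁻¹)
  rw [← map_mul, mul_inv_cancel, map_one]

/-- the lower right block as a homomorphism to `SL(3, 2)` -/
def blockSL : ↥(Cent s) →* Matrix.SpecialLinearGroup (Fin 3) (ZMod 2) where
  toFun g := ⟨blockHom hs g, det_block hs g⟩
  map_one' := Subtype.ext (map_one (blockHom hs))
  map_mul' g h := Subtype.ext (map_mul (blockHom hs) g h)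

theorem blockSL_coe (g : ↥(Cent s)) :
    ((blockSL hs g : Matrix.SpecialLinearGroup (Fin 3) (ZMod 2)) : M3) = blockHom hs g := rfl

/-- the block diagonal embedding of `SL(3, 2)` -/
def kelHom : Matrix.SpecialLinearGroup (Fin 3) (ZMod 2) →* ↥(Cent s) where
  toFun B := mkC hs 0 0 0 B.1 (det_eq_one_of_mul_eq_one (A' := gm 0 0 0 (B⁻¹).1) (by
    rw [gm_block_mul, ← Matrix.SpecialLinearGroup.coe_mul, mul_inv_cancel,
      Matrix.SpecialLinearGroup.coe_one, gm_one]))
  map_one' := by
    apply mat_injective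
    rw [mat_mkC, mat_one, Matrix.SpecialLinearGroup.coe_one, gm_one]
  map_mul' B B' := by
    apply mat_injective
    rw [mat_mul, mat_mkC, mat_mkC, mat_mkC, gm_block_mul, Matrix.SpecialLinearGroup.coe_mul]

theorem mat_kelHom (B : Matrix.SpecialLinearGroup (Fin 3) (ZMod 2)) :
    mat (kelHom hs B) = gm 0 0 0 B.1 := rfl

theorem blockHom_of_mat {g : ↥(Cent s)} {x : ZMod 2} {u v : V3} {B : M3}
    (h : mat g = gm x u v B) : blockHom hs g = B := by
  have h2 := mat_eq_gm hs g
  rw [h] at h2
  exact (gm_inj h2).2.2.2.symm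

theorem blockSL_kelHom (B : Matrix.SpecialLinearGroup (Fin 3) (ZMod 2)) :
    blockSL hs (kelHom hs B) = B :=
  Subtype.ext (blockHom_of_mat hs (mat_kelHom hs B))

theorem kelHom_injective : Function.Injective (kelHom hs) :=
  Function.LeftInverse.injective (blockSL_kelHom hs)

theorem blockSL_surjective : Function.Surjective (blockSL hs) :=
  Function.RightInverse.surjective (blockSL_kelHom hs)

/-- the kernel of the action on the block: the unipotent radical -/
def Qm : Subgroup ↥(Cent s) := (blockSL hs).ker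

/-- the block diagonal complement -/
def Km : Subgroup ↥(Cent s) := (kelHom hs).range

theorem Qm_normal : (Qm hs).Normal := MonoidHom.normal_ker _

theorem mem_Qm (g : ↥(Cent s)) : g ∈ Qm hs ↔ blockHom hs g = 1 := by
  unfold Qm
  rw [MonoidHom.mem_ker]
  constructor
  · intro h
    have := congrArg (fun t : Matrix.SpecialLinearGroup (Fin 3) (ZMod 2) => (t : M3)) h
    exact this
  · intro h
    exact Subtype.ext h

theorem mat_of_mem_Qm {g : ↥(Cent s)} (hg : g ∈ Qm hs) : mat g = gm (px g) (pu g) (pv g) 1 := by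
  rw [← (mem_Qm hs g).mp hg]
  exact mat_eq_gm hs g

theorem qel_mem (x : ZMod 2) (u v : V3) : qel hs x u v ∈ Qm hs :=
  (mem_Qm hs _).mpr (blockHom_of_mat hs (mat_qel hs x u v))

theorem params_of_mat {g : ↥(Cent s)} {x : ZMod 2} {u v : V3} {B : M3}
    (h : mat g = gm x u v B) : px g = x ∧ pu g = u ∧ pv g = v := by
  have h2 := mat_eq_gm hs g
  rw [h] at h2
  obtain ⟨a, b, c, _⟩ := gm_inj h2
  exact ⟨a.symm, b.symm, c.symm⟩

theorem eq_qel {g : ↥(Cent s)} (hg : g ∈ Qm hs) : g = qel hs (px g) (pu g) (pv g) := by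
  apply mat_injective
  rw [mat_of_mem_Qm hs hg, mat_qel]

theorem Qm_inf_Km : Qm hs ⊓ Km hs = ⊥ := by
  rw [eq_bot_iff]
  rintro g ⟨hgQ, ⟨B, rfl⟩⟩
  have h1 : blockSL hs (kelHom hs B) = 1 := hgQ
  rw [blockSL_kelHom] at h1
  rw [Subgroup.mem_bot, h1, map_one]

theorem Qm_sup_Km : Qm hs ⊔ Km hs = ⊤ := by
  rw [eq_top_iff]
  intro g _
  have h1 : g * (kelHom hs (blockSL hs g))⁻¹ ∈ Qm hs := by
    show blockSL hs _ = 1
    rw [map_mul, map_inv, blockSL_kelHom, mul_inv_cancel]
  have h2 : kelHom hs (blockSL hs g) ∈ Km hs := ⟨_, rfl⟩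
  have e : g = g * (kelHom hs (blockSL hs g))⁻¹ * kelHom hs (blockSL hs g) := by group
  rw [e]
  exact Subgroup.mul_mem_sup h1 h2

/-- the complement is isomorphic to `SL(3, 2)` -/
noncomputable def KmEquiv : ↥(Km hs) ≃* Matrix.SpecialLinearGroup (Fin 3) (ZMod 2) :=
  (MonoidHom.ofInjective (kelHom_injective hs)).symm

/-! ### The order of `Qm` -/

theorem card_Qm : Nat.card ↥(Qm hs) = 2 ^ 7 := by
  let f : ↥(Qm hs) → ZMod 2 × V3 × V3 := fun g => (px g.1, pu g.1, pv g.1)
  have hf : Function.Bijective f := by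
    constructor
    · intro g h hgh
      have h1 : px g.1 = px h.1 := congrArg Prod.fst hgh
      have h2 : pu g.1 = pu h.1 := congrArg (fun t => t.2.1) hgh
      have h3 : pv g.1 = pv h.1 := congrArg (fun t => t.2.2) hgh
      apply Subtype.ext
      rw [eq_qel hs g.2, eq_qel hs h.2, h1, h2, h3]
    · rintro ⟨x, u, v⟩
      refine ⟨⟨qel hs x u v, qel_mem hs x u v⟩, ?_⟩
      obtain ⟨a, b, c⟩ := params_of_mat hs (mat_qel hs x u v)
      show (px (qel hs x u v), pu (qel hs x u v), pv (qel hs x u v)) = (x, u, v)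
      rw [a, b, c]
  rw [Nat.card_congr (Equiv.ofBijective f hf), Nat.card_prod, Nat.card_prod, Nat.card_fun,
    Nat.card_zmod, Nat.card_fin]
  norm_num

theorem isPGroup_Qm : IsPGroup 2 ↥(Qm hs) := IsPGroup.of_card (card_Qm hs)

end

end Cfsg.Agent.Lib.Helper89.TransvCentStruct
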